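import Mathlib
universe u
open Polynomial
namespace Groth.Agent.Lib.helper7

section core
variable {R L : Type*} [CommRing R] [CommRing L] [Algebra R L]

theorem H7_isIntegral_of_mul_mem (N : Submodule R L) (hfg : N.FG) (h1 : (1 : L) ∈ N) (z : L)
    (hz : ∀ n ∈ N, z * n ∈ N) : IsIntegral R z := by
  have _ : Module.Finite R N := Module.Finite.iff_fg.2 hfg
  let f : N →ₗ[R] N := (LinearMap.mulLeft R z).restrict hz
  obtain ⟨p, hpm, hp⟩ := LinearMap.exists_monic_and_aeval_eq_zero R f
  have hpow : ∀ (k : ℕ) (n : N), (((f ^ k) n : N) : L) = z ^ k * n := by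
    intro k
    induction k with
    | zero => intro n; simp
    | succ k ih =>
      intro n
      rw [pow_succ', Module.End.mul_apply]
      show z * ((f ^ k) n : L) = _
      rw [ih, pow_succ']; ring
  have key : ∀ (q : R[X]) (n : N), (((Polynomial.aeval f q) n : N) : L) = Polynomial.aeval z q * n := by
    intro q
    induction q using Polynomial.induction_on' with
    | add q1 q2 h1 h2 =>
      intro n
      rw [map_add, map_add, LinearMap.add_apply, Submodule.coe_add, h1, h2, add_mul]
    | monomial k r =>
      intro n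
      rw [Polynomial.aeval_monomial, Polynomial.aeval_monomial, Module.algebraMap_end_eq_smul_id,
        Module.End.mul_apply]
      simp only [LinearMap.smul_apply, LinearMap.id_coe, id_eq, Submodule.coe_smul]
      rw [hpow, Algebra.smul_def]; ring
  have h0 := key p ⟨1, h1⟩
  rw [hp, LinearMap.zero_apply, mul_one] at h0
  exact ⟨p, hpm, by rw [← Polynomial.aeval_def]; exact h0.symm⟩

variable (a b : L) (hab : a * b = 1)
include hab

theorem H7_mon_mem (i j : ℕ) :
    a ^ i * b ^ j = (if j ≤ i then a ^ (i - j) else b ^ (j - i)) := by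
  split_ifs with h
  · obtain ⟨k, rfl⟩ := Nat.exists_eq_add_of_le h
    rw [Nat.add_sub_cancel_left, pow_add, mul_comm (a ^ j), mul_assoc, ← mul_pow, hab, one_pow, mul_one]
  · push Not at h
    obtain ⟨k, rfl⟩ := Nat.exists_eq_add_of_le h.le
    rw [Nat.add_sub_cancel_left, pow_add, ← mul_assoc, ← mul_pow, hab, one_pow, one_mul]


theorem H7_adjoin_mul_mem_sup (p q : L) (hp : p ∈ Algebra.adjoin R {a}) (hq : q ∈ Algebra.adjoin R {b}) :
    p * q ∈ (Algebra.adjoin R {a}).toSubmodule ⊔ (Algebra.adjoin R {b}).toSubmodule := by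
  rw [Algebra.adjoin_singleton_eq_range_aeval] at hp hq
  obtain ⟨F, rfl⟩ := hp
  obtain ⟨G, rfl⟩ := hq
  show (Polynomial.aeval a F) * (Polynomial.aeval b G) ∈ _
  rw [Polynomial.aeval_eq_sum_range, Polynomial.aeval_eq_sum_range, Finset.sum_mul_sum]
  refine Submodule.sum_mem _ (fun i _ => Submodule.sum_mem _ (fun j _ => ?_))
  rw [smul_mul_smul_comm, H7_mon_mem a b hab]
  refine Submodule.smul_mem _ _ ?_
  have ha : a ∈ Algebra.adjoin R {a} := Algebra.subset_adjoin (Set.mem_singleton a)
  have hb : b ∈ Algebra.adjoin R {b} := Algebra.subset_adjoin (Set.mem_singleton b)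
  split_ifs with h
  · exact Submodule.mem_sup_left
      (show a ^ (i - j) ∈ Algebra.adjoin R {a} from Subalgebra.pow_mem _ ha _)
  · exact Submodule.mem_sup_right
      (show b ^ (j - i) ∈ Algebra.adjoin R {b} from Subalgebra.pow_mem _ hb _)

theorem H7_adjoin_pair_eq :
    (Algebra.adjoin R {a}).toSubmodule ⊔ (Algebra.adjoin R {b}).toSubmodule =
      (Algebra.adjoin R {a, b}).toSubmodule := by
  apply le_antisymm
  · apply sup_le
    · exact Subalgebra.toSubmodule.monotone (Algebra.adjoin_mono (by simp))
    · exact Subalgebra.toSubmodule.monotone (Algebra.adjoin_mono (by simp))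
  · set W := (Algebra.adjoin R {a}).toSubmodule ⊔ (Algebra.adjoin R {b}).toSubmodule with hW
    have hWmul : ∀ w1 ∈ W, ∀ w2 ∈ W, w1 * w2 ∈ W := by
      intro w1 h1 w2 h2
      obtain ⟨p1, hp1, q1, hq1, rfl⟩ := Submodule.mem_sup.1 h1
      obtain ⟨p2, hp2, q2, hq2, rfl⟩ := Submodule.mem_sup.1 h2
      have e : (p1 + q1) * (p2 + q2) = p1 * p2 + q1 * q2 + p1 * q2 + p2 * q1 := by ring
      rw [e]
      refine W.add_mem (W.add_mem (W.add_mem ?_ ?_) ?_) ?_
      · exact Submodule.mem_sup_left
          (show p1 * p2 ∈ Algebra.adjoin R {a} from Subalgebra.mul_mem _ hp1 hp2)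
      · exact Submodule.mem_sup_right
          (show q1 * q2 ∈ Algebra.adjoin R {b} from Subalgebra.mul_mem _ hq1 hq2)
      · exact H7_adjoin_mul_mem_sup a b hab p1 q2 hp1 hq2
      · exact H7_adjoin_mul_mem_sup a b hab p2 q1 hp2 hq1
    intro z hz
    have hz' : z ∈ Algebra.adjoin R {a, b} := hz
    induction hz' using Algebra.adjoin_induction with
    | mem x hx =>
      rcases hx with rfl | hx
      · exact Submodule.mem_sup_left
          (show x ∈ Algebra.adjoin R {x} from Algebra.subset_adjoin (Set.mem_singleton x))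
      · rw [Set.mem_singleton_iff] at hx
        subst hx
        exact Submodule.mem_sup_right
          (show x ∈ Algebra.adjoin R {x} from Algebra.subset_adjoin (Set.mem_singleton x))
    | algebraMap r =>
      exact Submodule.mem_sup_left
        (show algebraMap R L r ∈ Algebra.adjoin R {a} from Subalgebra.algebraMap_mem _ r)
    | add x y _ _ hx hy => exact W.add_mem (hx (by assumption)) (hy (by assumption))
    | mul x y _ _ hx hy => exact hWmul _ (hx (by assumption)) _ (hy (by assumption))

theorem H7_adjoin_inf_le {S : Type*} [CommRing S] [Algebra R S] [IsIntegrallyClosedIn R S]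
    (ψ : S →ₐ[R] L) (hψ : Function.Injective ψ) (hb : b ∈ Set.range ψ) :
    (Algebra.adjoin R {a}).toSubmodule ⊓ (Algebra.adjoin R {b}).toSubmodule ≤
      (⊥ : Subalgebra R L).toSubmodule := by
  classical
  rintro z ⟨hzP, hzQ⟩
  have hzP' : z ∈ Algebra.adjoin R {a} := hzP
  have hzQ' : z ∈ Algebra.adjoin R {b} := hzQ
  rw [Algebra.adjoin_singleton_eq_range_aeval] at hzP' hzQ'
  obtain ⟨F, hF⟩ := hzP'
  obtain ⟨G, hG⟩ := hzQ'
  have hF' : z = Polynomial.aeval a F := hF.symm
  have hG' : z = Polynomial.aeval b G := hG.symm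
  set m := F.natDegree with hm
  set n := G.natDegree with hn
  set gens : Set L := ((fun i => a ^ i) '' (Finset.range (m + 1) : Set ℕ)) ∪
      ((fun j => b ^ j) '' (Finset.range (n + 1) : Set ℕ)) with hgens
  set N : Submodule R L := Submodule.span R gens with hN
  have hfg : N.FG := Submodule.fg_span
    (((Finset.range (m + 1)).finite_toSet.image _).union ((Finset.range (n + 1)).finite_toSet.image _))
  have haN : ∀ i, i ≤ m → a ^ i ∈ N := fun i hi =>
    Submodule.subset_span (Or.inl ⟨i, by simpa [Nat.lt_succ_iff] using hi, rfl⟩)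
  have hbN : ∀ j, j ≤ n → b ^ j ∈ N := fun j hj =>
    Submodule.subset_span (Or.inr ⟨j, by simpa [Nat.lt_succ_iff] using hj, rfl⟩)
  have h1N : (1 : L) ∈ N := by simpa using haN 0 (Nat.zero_le _)
  have hmon : ∀ i j, i ≤ m → j ≤ n → a ^ i * b ^ j ∈ N := by
    intro i j hi hj
    rw [H7_mon_mem a b hab]
    split_ifs with h
    · exact haN _ (by omega)
    · exact hbN _ (by omega)
  have hzN : ∀ x ∈ N, z * x ∈ N := by
    intro x hx
    induction hx using Submodule.span_induction with
    | mem x hx =>
      rcases hx with ⟨i, hi, rfl⟩ | ⟨j, hj, rfl⟩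
      · have hi' : i ≤ m := by simpa [Nat.lt_succ_iff] using hi
        show z * a ^ i ∈ N
        rw [hG', Polynomial.aeval_eq_sum_range, Finset.sum_mul]
        refine Submodule.sum_mem _ (fun j hj => ?_)
        have hj' : j ≤ n := by simpa [Nat.lt_succ_iff] using hj
        rw [smul_mul_assoc, mul_comm]
        exact Submodule.smul_mem _ _ (hmon i j hi' hj')
      · have hj' : j ≤ n := by simpa [Nat.lt_succ_iff] using hj
        show z * b ^ j ∈ N
        rw [hF', Polynomial.aeval_eq_sum_range, Finset.sum_mul]
        refine Submodule.sum_mem _ (fun i hi => ?_)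
        have hi' : i ≤ m := by simpa [Nat.lt_succ_iff] using hi
        rw [smul_mul_assoc]
        exact Submodule.smul_mem _ _ (hmon i j hi' hj')
    | zero => rw [mul_zero]; exact N.zero_mem
    | add x y _ _ hx hy => rw [mul_add]; exact N.add_mem hx hy
    | smul r x _ hx => rw [mul_smul_comm]; exact N.smul_mem r hx
  have hzint : IsIntegral R z := H7_isIntegral_of_mul_mem N hfg h1N z hzN
  obtain ⟨w, rfl⟩ := hb
  have hzw : z = ψ (Polynomial.aeval w G) := by
    rw [hG', Polynomial.aeval_algHom_apply]
  rw [hzw, isIntegral_algHom_iff ψ hψ] at hzint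
  obtain ⟨r, hr⟩ := IsIntegrallyClosedIn.isIntegral_iff.1 hzint
  show z ∈ (⊥ : Subalgebra R L)
  rw [Algebra.mem_bot]
  exact ⟨r, by rw [hzw, ← hr, AlgHom.commutes]⟩

end core


theorem H7_away_map {R : Type*} [CommRing R] (t s : R) (ht : t ∈ nonZeroDivisors R)
    (L : Type*) [CommRing L] [Algebra R L] (v : L)
    (hv : algebraMap R L (t * s) * v = 1) (hinjL : Function.Injective (algebraMap R L)) :
    ∃ ψ : Localization.Away t →ₐ[R] L, Function.Injective ψ ∧
      algebraMap R L (s * s) * v ∈ Set.range ψ := by
  have htu : algebraMap R L t * (algebraMap R L s * v) = 1 := by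
    rw [← mul_assoc, ← map_mul]; exact hv
  have hunit : ∀ σ : Submonoid.powers t, IsUnit ((Algebra.ofId R L) (σ : R)) := by
    rintro ⟨_, k, rfl⟩
    show IsUnit (algebraMap R L (t ^ k))
    rw [map_pow]
    exact (IsUnit.of_mul_eq_one _ htu).pow k
  let ψ : Localization.Away t →ₐ[R] L := IsLocalization.liftAlgHom (M := Submonoid.powers t)
    (f := Algebra.ofId R L) hunit
  have hψalg : ∀ r : R, ψ (algebraMap R (Localization.Away t) r) = algebraMap R L r :=
    fun r => ψ.commutes r
  have hinjt : Function.Injective (algebraMap R (Localization.Away t)) :=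
    IsLocalization.injective (Localization.Away t) (Submonoid.powers_le.2 ht)
  refine ⟨ψ, ?_, ?_⟩
  · rw [injective_iff_map_eq_zero]
    intro w hw
    obtain ⟨u, σ, rfl⟩ := IsLocalization.exists_mk'_eq (Submonoid.powers t) w
    have h1 : ψ (IsLocalization.mk' (Localization.Away t) u σ) * algebraMap R L (σ : R) =
        algebraMap R L u := by
      rw [← hψalg (σ : R), ← map_mul, IsLocalization.mk'_spec, hψalg]
    rw [hw, zero_mul] at h1
    have hu0 : u = 0 := hinjL (by rw [← h1, map_zero])
    rw [hu0, IsLocalization.mk'_zero]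
  · refine ⟨algebraMap R (Localization.Away t) s * IsLocalization.Away.invSelf t, ?_⟩
    have h1 : algebraMap R L t * ψ (IsLocalization.Away.invSelf t) = 1 := by
      rw [← hψalg t, ← map_mul, IsLocalization.Away.mul_invSelf, map_one]
    have h2 : ψ (IsLocalization.Away.invSelf t) = algebraMap R L s * v := by
      calc ψ (IsLocalization.Away.invSelf t)
          = ψ (IsLocalization.Away.invSelf t) * (algebraMap R L t * (algebraMap R L s * v)) := by
            rw [htu, mul_one]
        _ = (algebraMap R L t * ψ (IsLocalization.Away.invSelf t)) * (algebraMap R L s * v) := by ring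
        _ = algebraMap R L s * v := by rw [h1, one_mul]
    rw [map_mul, hψalg, h2, map_mul]; ring

theorem H7_S9654 {R : Type u} [CommRing R] (x y : R) (hx : x ∈ nonZeroDivisors R) (hy : y ∈ nonZeroDivisors R)
    (hint : IsIntegrallyClosedIn R (Localization.Away x) ∨ IsIntegrallyClosedIn R (Localization.Away y)) :
    (Algebra.adjoin R {algebraMap R (Localization.Away (x * y)) (x * x) * IsLocalization.Away.invSelf (x * y)}).toSubmodule ⊓
        (Algebra.adjoin R {algebraMap R (Localization.Away (x * y)) (y * y) * IsLocalization.Away.invSelf (x * y)}).toSubmodule =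
        (⊥ : Subalgebra R (Localization.Away (x * y))).toSubmodule ∧
      (Algebra.adjoin R {algebraMap R (Localization.Away (x * y)) (x * x) * IsLocalization.Away.invSelf (x * y)}).toSubmodule ⊔
        (Algebra.adjoin R {algebraMap R (Localization.Away (x * y)) (y * y) * IsLocalization.Away.invSelf (x * y)}).toSubmodule =
        (Algebra.adjoin R {algebraMap R (Localization.Away (x * y)) (x * x) * IsLocalization.Away.invSelf (x * y), algebraMap R (Localization.Away (x * y)) (y * y) * IsLocalization.Away.invSelf (x * y)}).toSubmodule := by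
  set L := Localization.Away (x * y) with hL
  set v : L := IsLocalization.Away.invSelf (x * y) with hvdef
  set a : L := algebraMap R L (x * x) * v with ha
  set b : L := algebraMap R L (y * y) * v with hb
  have hv : algebraMap R L (x * y) * v = 1 := IsLocalization.Away.mul_invSelf (x * y)
  have hab : a * b = 1 := by
    calc a * b = (algebraMap R L (x * y) * v) * (algebraMap R L (x * y) * v) := by
          simp only [ha, hb, map_mul]; ring
      _ = 1 := by rw [hv, mul_one]
  have hinjL : Function.Injective (algebraMap R L) :=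
    IsLocalization.injective L (Submonoid.powers_le.2 (mul_mem hx hy))
  refine ⟨?_, H7_adjoin_pair_eq a b hab⟩
  apply le_antisymm
  · rcases hint with h | h
    · obtain ⟨ψ, hψ, hbr⟩ := H7_away_map x y hx L v hv hinjL
      exact H7_adjoin_inf_le a b hab ψ hψ hbr
    · obtain ⟨ψ, hψ, har⟩ := H7_away_map y x hy L v (by rw [mul_comm y x]; exact hv) hinjL
      rw [inf_comm]
      exact H7_adjoin_inf_le b a (by rw [mul_comm]; exact hab) ψ hψ har
  · exact le_inf (Subalgebra.toSubmodule.monotone bot_le) (Subalgebra.toSubmodule.monotone bot_le)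

end Groth.Agent.Lib.helper7
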