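import Mathlib

open Polynomial

namespace Groth.Agent.Lib.helper7

theorem H7_asc_diff (n : ℕ) :
    ascPochhammer ℚ (n + 1) - (ascPochhammer ℚ (n + 1)).comp (X - C 1) = C ((n : ℚ) + 1) * ascPochhammer ℚ n := by
  have h1 : (ascPochhammer ℚ (n + 1)).comp (X - C 1) = (X - C 1) * ascPochhammer ℚ n := by
    rw [ascPochhammer_succ_left, mul_comp, X_comp, comp_assoc]
    have : (X + 1 : ℚ[X]).comp (X - C 1) = X := by simp
    rw [this, comp_X]
  rw [h1, ascPochhammer_succ_right]
  simp only [map_add, map_one, map_natCast]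
  ring

theorem H7_antidiff : ∀ (n : ℕ) (Q : ℚ[X]), Q.natDegree < n →
    ∃ S : ℚ[X], S - S.comp (X - C 1) = Q ∧ S.natDegree ≤ Q.natDegree + 1 := by
  intro n
  induction n with
  | zero => intro Q hQ; omega
  | succ n ih =>
    intro Q hQ
    by_cases hQ0 : Q = 0
    · exact ⟨0, by simp [hQ0], by simp⟩
    · obtain ⟨d, hd⟩ : ∃ d, d = Q.natDegree := ⟨_, rfl⟩
      have hmon : (ascPochhammer ℚ d).Monic := monic_ascPochhammer ℚ d
      have hdeg : (ascPochhammer ℚ d).natDegree = d := ascPochhammer_natDegree ℚ d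
      have hlt : (Q - C Q.leadingCoeff * ascPochhammer ℚ d).degree < Q.degree := by
        apply degree_sub_lt_left
        · rw [degree_C_mul (leadingCoeff_ne_zero.2 hQ0), degree_eq_natDegree hQ0,
            degree_eq_natDegree hmon.ne_zero, hdeg, hd]
        · exact hQ0
        · rw [leadingCoeff_mul, leadingCoeff_C, hmon.leadingCoeff, mul_one]
      by_cases hQ'0 : Q - C Q.leadingCoeff * ascPochhammer ℚ d = 0
      · refine ⟨C (Q.leadingCoeff / ((d : ℚ) + 1)) * ascPochhammer ℚ (d + 1), ?_, ?_⟩
        · rw [mul_comp, C_comp, ← mul_sub, H7_asc_diff, ← mul_assoc, ← C_mul]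
          have : Q.leadingCoeff / ((d : ℚ) + 1) * ((d : ℚ) + 1) = Q.leadingCoeff := by
            field_simp
          rw [this]
          exact (sub_eq_zero.1 hQ'0).symm
        · refine le_trans (natDegree_C_mul_le _ _) ?_
          rw [ascPochhammer_natDegree ℚ, hd]
      · have hlt' : (Q - C Q.leadingCoeff * ascPochhammer ℚ d).natDegree < Q.natDegree :=
          natDegree_lt_natDegree hQ'0 hlt
        obtain ⟨S', hS', hS'd⟩ := ih (Q - C Q.leadingCoeff * ascPochhammer ℚ d) (by omega)
        refine ⟨S' + C (Q.leadingCoeff / ((d : ℚ) + 1)) * ascPochhammer ℚ (d + 1), ?_, ?_⟩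
        · rw [add_comp, mul_comp, C_comp]
          have h2 : C (Q.leadingCoeff / ((d : ℚ) + 1)) * ascPochhammer ℚ (d + 1) - C (Q.leadingCoeff / ((d : ℚ) + 1)) * (ascPochhammer ℚ (d + 1)).comp (X - C 1) = C Q.leadingCoeff * ascPochhammer ℚ d := by
            rw [← mul_sub, H7_asc_diff, ← mul_assoc, ← C_mul]
            have : Q.leadingCoeff / ((d : ℚ) + 1) * ((d : ℚ) + 1) = Q.leadingCoeff := by
              field_simp
            rw [this]
          linear_combination hS' + h2
        · refine le_trans (natDegree_add_le _ _) (max_le ?_ ?_)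
          · omega
          · refine le_trans (natDegree_C_mul_le _ _) ?_
            rw [ascPochhammer_natDegree ℚ, hd]

end Groth.Agent.Lib.helper7
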