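import Mathlib

universe u v
open TensorProduct

namespace Groth.Agent.Lib.helper7

/-- Nakayama for a nilpotent ideal (no finiteness). -/
theorem H7_nak_nilp {A : Type u} {M : Type v} [CommRing A] [AddCommGroup M] [Module A M] (I : Ideal A)
    (hI : IsNilpotent I) (N : Submodule A M) (h : N ⊔ I • (⊤ : Submodule A M) = ⊤) : N = ⊤ := by
  obtain ⟨n, hn⟩ := hI
  have key : ∀ k : ℕ, N ⊔ I ^ k • (⊤ : Submodule A M) = ⊤ := by
    intro k
    induction k with
    | zero => rw [pow_zero, Ideal.one_eq_top, Submodule.top_smul, sup_top_eq]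
    | succ k ih =>
      rw [eq_top_iff]
      calc (⊤ : Submodule A M) = N ⊔ I ^ k • (⊤ : Submodule A M) := ih.symm
        _ = N ⊔ I ^ k • (N ⊔ I • (⊤ : Submodule A M)) := by rw [h]
        _ = N ⊔ (I ^ k • N ⊔ I ^ k • (I • (⊤ : Submodule A M))) := by rw [Submodule.smul_sup]
        _ ≤ N ⊔ I ^ (k + 1) • (⊤ : Submodule A M) := by
          rw [← Submodule.mul_smul, ← pow_succ]
          exact sup_le le_sup_left (sup_le (le_trans Submodule.smul_le_right le_sup_left) le_sup_right)
  have := key n
  rw [hn, Submodule.zero_eq_bot, Submodule.bot_smul, sup_bot_eq] at this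
  exact this

/-- Over an Artinian local ring, a submodule surjecting onto `k ⊗ M` is everything. -/
theorem H7_map_mk_eq_top {A : Type u} {M : Type v} [CommRing A] [IsLocalRing A] [IsArtinianRing A]
    [AddCommGroup M] [Module A M] (N : Submodule A M)
    (h : ∀ x : M, ∃ n ∈ N, (1 : IsLocalRing.ResidueField A) ⊗ₜ[A] n = (1 : IsLocalRing.ResidueField A) ⊗ₜ[A] x) :
    N = ⊤ := by
  have hnil : IsNilpotent (IsLocalRing.maximalIdeal A) := by
    rw [← IsLocalRing.jacobson_eq_maximalIdeal (⊥ : Ideal A) bot_ne_top]
    exact IsArtinianRing.isNilpotent_jacobson_bot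
  apply H7_nak_nilp _ hnil
  rw [eq_top_iff]
  intro x _
  obtain ⟨n, hn, hnx⟩ := h x
  have h1 : x - n ∈ LinearMap.ker (TensorProduct.mk A (A ⧸ IsLocalRing.maximalIdeal A) M 1) := by
    rw [LinearMap.mem_ker, map_sub, sub_eq_zero]
    exact hnx.symm
  rw [LinearMap.ker_tensorProductMk] at h1
  have : x = n + (x - n) := by abel
  rw [this]
  exact Submodule.add_mem_sup hn h1

theorem H7_artloc_inj_surj (A : Type u) [CommRing A] [IsLocalRing A] [IsArtinianRing A] (P L : Type v) [AddCommGroup P] [Module A P] [AddCommGroup L] [Module A L] [Module.Flat A P] [Module.Flat A L] (h : P →ₗ[A] L) : (Function.Injective (h.lTensor (IsLocalRing.ResidueField A)) → Function.Injective h) ∧ (Function.Surjective (h.lTensor (IsLocalRing.ResidueField A)) → Function.Surjective h) := by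
  classical
  have hmks : ∀ (Q : Type v) [AddCommGroup Q] [Module A Q] (z : IsLocalRing.ResidueField A ⊗[A] Q),
      ∃ q : Q, (1 : IsLocalRing.ResidueField A) ⊗ₜ[A] q = z := by
    intro Q _ _ z
    obtain ⟨q, hq⟩ := TensorProduct.mk_surjective A Q (IsLocalRing.ResidueField A) Ideal.Quotient.mk_surjective z
    exact ⟨q, hq⟩
  constructor
  · intro hinj
    let b := Module.Basis.ofVectorSpace (IsLocalRing.ResidueField A) (IsLocalRing.ResidueField A ⊗[A] P)
    choose v hv using fun i => hmks P (b i)
    have hli : LinearIndependent A (h ∘ v) := by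
      apply Module.IsLocalRing.linearIndependent_of_flat
      have : (TensorProduct.mk A (IsLocalRing.ResidueField A) L 1) ∘ (h ∘ v) = (h.lTensor (IsLocalRing.ResidueField A)) ∘ b := by
        funext i
        simp only [Function.comp_apply, TensorProduct.mk_apply]
        rw [← hv i, LinearMap.lTensor_tmul]
      rw [this]
      have hbc : Function.Injective (h.baseChange (IsLocalRing.ResidueField A)) := by
        have : (h.baseChange (IsLocalRing.ResidueField A) : _ → _) = h.lTensor (IsLocalRing.ResidueField A) :=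
          LinearMap.baseChange_eq_ltensor h
        rw [this]; exact hinj
      exact b.linearIndependent.map' (h.baseChange (IsLocalRing.ResidueField A)) (LinearMap.ker_eq_bot.2 hbc)
    have hsp : Submodule.span A (Set.range v) = ⊤ := by
      apply H7_map_mk_eq_top
      intro x
      have hx : (1 : IsLocalRing.ResidueField A) ⊗ₜ[A] x ∈ Submodule.span (IsLocalRing.ResidueField A) (Set.range b) := by
        rw [b.span_eq]; trivial
      have gen : ∀ z ∈ Submodule.span (IsLocalRing.ResidueField A) (Set.range b),
          ∃ n ∈ Submodule.span A (Set.range v), (1 : IsLocalRing.ResidueField A) ⊗ₜ[A] n = z := by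
        intro z hz
        induction hz using Submodule.span_induction with
        | mem z hz =>
          obtain ⟨i, rfl⟩ := hz
          exact ⟨v i, Submodule.subset_span ⟨i, rfl⟩, hv i⟩
        | zero => exact ⟨0, Submodule.zero_mem _, by simp⟩
        | add y z _ _ hy hz =>
          obtain ⟨n1, hn1, rfl⟩ := hy
          obtain ⟨n2, hn2, rfl⟩ := hz
          exact ⟨n1 + n2, Submodule.add_mem _ hn1 hn2, by rw [TensorProduct.tmul_add]⟩
        | smul c y _ hy =>
          obtain ⟨n1, hn1, rfl⟩ := hy
          obtain ⟨a, rfl⟩ := Ideal.Quotient.mk_surjective c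
          refine ⟨a • n1, Submodule.smul_mem _ _ hn1, ?_⟩
          rw [TensorProduct.smul_tmul', ← TensorProduct.smul_tmul]
          congr 1
      exact gen _ hx
    rw [injective_iff_map_eq_zero]
    intro x hx
    have hxs : x ∈ Submodule.span A (Set.range v) := by rw [hsp]; trivial
    rw [Finsupp.mem_span_range_iff_exists_finsupp] at hxs
    obtain ⟨c, rfl⟩ := hxs
    rw [linearIndependent_iff] at hli
    have h0 : c = 0 := by
      apply hli
      rw [Finsupp.linearCombination_apply]
      rw [Finsupp.sum, map_sum] at hx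
      simpa [Finsupp.sum] using hx
    rw [h0]; simp
  · intro hsurj
    rw [← LinearMap.range_eq_top]
    apply H7_map_mk_eq_top
    intro y
    obtain ⟨z, hz⟩ := hsurj ((1 : IsLocalRing.ResidueField A) ⊗ₜ[A] y)
    obtain ⟨p, rfl⟩ := hmks P z
    refine ⟨h p, ⟨p, rfl⟩, ?_⟩
    rw [← hz, LinearMap.lTensor_tmul]

end Groth.Agent.Lib.helper7
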