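import Mathlib
import Groth.Agent.Lib.helper7.ArtLoc

universe u v
open TensorProduct

namespace Groth.Agent.Lib.helper7

theorem H7_mk_surj (A : Type u) [CommRing A] [IsLocalRing A] (Q : Type v) [AddCommGroup Q] [Module A Q]
    (z : IsLocalRing.ResidueField A ⊗[A] Q) : ∃ q : Q, (1 : IsLocalRing.ResidueField A) ⊗ₜ[A] q = z := by
  obtain ⟨q, hq⟩ := TensorProduct.mk_surjective A Q (IsLocalRing.ResidueField A) Ideal.Quotient.mk_surjective z
  exact ⟨q, hq⟩

/-- Lifts of a spanning family of `k ⊗ Q` span `Q` over an Artinian local ring. -/
theorem H7_span_lift (A : Type u) [CommRing A] [IsLocalRing A] [IsArtinianRing A] (Q : Type v)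
    [AddCommGroup Q] [Module A Q] {ι : Type*} (v : ι → Q)
    (h : Submodule.span (IsLocalRing.ResidueField A) (Set.range (fun i => (1 : IsLocalRing.ResidueField A) ⊗ₜ[A] v i)) = ⊤) :
    Submodule.span A (Set.range v) = ⊤ := by
  apply H7_map_mk_eq_top
  intro x
  have hx : (1 : IsLocalRing.ResidueField A) ⊗ₜ[A] x ∈ Submodule.span (IsLocalRing.ResidueField A) (Set.range (fun i => (1 : IsLocalRing.ResidueField A) ⊗ₜ[A] v i)) := by
    rw [h]; trivial
  have gen : ∀ z ∈ Submodule.span (IsLocalRing.ResidueField A) (Set.range (fun i => (1 : IsLocalRing.ResidueField A) ⊗ₜ[A] v i)),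
      ∃ n ∈ Submodule.span A (Set.range v), (1 : IsLocalRing.ResidueField A) ⊗ₜ[A] n = z := by
    intro z hz
    induction hz using Submodule.span_induction with
    | mem z hz =>
      obtain ⟨i, rfl⟩ := hz
      exact ⟨v i, Submodule.subset_span ⟨i, rfl⟩, rfl⟩
    | zero => exact ⟨0, Submodule.zero_mem _, by simp⟩
    | add y z _ _ hy hz =>
      obtain ⟨n1, hn1, rfl⟩ := hy
      obtain ⟨n2, hn2, rfl⟩ := hz
      exact ⟨n1 + n2, Submodule.add_mem _ hn1 hn2, by rw [TensorProduct.tmul_add]⟩
    | smul c y _ hy =>
      obtain ⟨n1, hn1, rfl⟩ := hy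
      obtain ⟨a, rfl⟩ := Ideal.Quotient.mk_surjective c
      refine ⟨a • n1, Submodule.smul_mem _ _ hn1, ?_⟩
      rw [TensorProduct.smul_tmul', ← TensorProduct.smul_tmul]
      congr 1
  exact gen _ hx

theorem H7_artloc_flat_quot (A : Type u) [CommRing A] [IsLocalRing A] [IsArtinianRing A] (M N P : Type v) [AddCommGroup M] [Module A M] [AddCommGroup N] [Module A N] [AddCommGroup P] [Module A P] [Module.Flat A N] (f : M →ₗ[A] N) (g : N →ₗ[A] P) (hf : Function.Injective f) (hg : Function.Surjective g) (hfg : Function.Exact f g) : (Function.Injective (f.lTensor (IsLocalRing.ResidueField A)) → Module.Flat A P) ∧ (Module.Flat A P → Module.Flat A M ∧ Function.Injective (f.lTensor (IsLocalRing.ResidueField A))) := by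
  classical
  constructor
  · intro hinj
    let bM := Module.Basis.ofVectorSpace (IsLocalRing.ResidueField A) (IsLocalRing.ResidueField A ⊗[A] M)
    let bP := Module.Basis.ofVectorSpace (IsLocalRing.ResidueField A) (IsLocalRing.ResidueField A ⊗[A] P)
    choose m hm using fun j => H7_mk_surj A M (bM j)
    choose w hw using fun i => H7_mk_surj A P (bP i)
    choose n hn using fun i => hg (w i)
    have hmspan : Submodule.span A (Set.range m) = ⊤ := by
      apply H7_span_lift
      have : (fun j => (1 : IsLocalRing.ResidueField A) ⊗ₜ[A] m j) = bM := funext hm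
      rw [this, bM.span_eq]
    have hwspan : Submodule.span A (Set.range w) = ⊤ := by
      apply H7_span_lift
      have : (fun i => (1 : IsLocalRing.ResidueField A) ⊗ₜ[A] w i) = bP := funext hw
      rw [this, bP.span_eq]
    have hbcf : Function.Injective (f.baseChange (IsLocalRing.ResidueField A)) := by
      have : (f.baseChange (IsLocalRing.ResidueField A) : _ → _) = f.lTensor (IsLocalRing.ResidueField A) :=
        LinearMap.baseChange_eq_ltensor f
      rw [this]; exact hinj
    have hgf0 : ∀ z, (g.baseChange (IsLocalRing.ResidueField A)) ((f.baseChange (IsLocalRing.ResidueField A)) z) = 0 := by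
      intro z
      induction z using TensorProduct.induction_on with
      | zero => simp
      | tmul a x =>
        rw [LinearMap.baseChange_tmul, LinearMap.baseChange_tmul, hfg.apply_apply_eq_zero, TensorProduct.tmul_zero]
      | add y z hy hz => rw [map_add, map_add, hy, hz, add_zero]
    have hu : LinearIndependent A (Sum.elim (f ∘ m) n) := by
      apply Module.IsLocalRing.linearIndependent_of_flat
      rw [linearIndependent_sum]
      have e1 : ((TensorProduct.mk A (IsLocalRing.ResidueField A) N 1) ∘ Sum.elim (f ∘ m) n) ∘ Sum.inl = (f.baseChange (IsLocalRing.ResidueField A)) ∘ bM := by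
        funext j
        simp only [Function.comp_apply, Sum.elim_inl, TensorProduct.mk_apply]
        rw [← hm j, LinearMap.baseChange_tmul]
      have e2 : (g.baseChange (IsLocalRing.ResidueField A)) ∘ (((TensorProduct.mk A (IsLocalRing.ResidueField A) N 1) ∘ Sum.elim (f ∘ m) n) ∘ Sum.inr) = bP := by
        funext i
        simp only [Function.comp_apply, Sum.elim_inr, TensorProduct.mk_apply]
        rw [LinearMap.baseChange_tmul, hn i, hw i]
      have hli2 : LinearIndependent (IsLocalRing.ResidueField A) (((TensorProduct.mk A (IsLocalRing.ResidueField A) N 1) ∘ Sum.elim (f ∘ m) n) ∘ Sum.inr) := by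
        apply LinearIndependent.of_comp (g.baseChange (IsLocalRing.ResidueField A))
        rw [e2]; exact bP.linearIndependent
      refine ⟨?_, hli2, ?_⟩
      · rw [e1]
        exact bM.linearIndependent.map' _ (LinearMap.ker_eq_bot.2 hbcf)
      · rw [Submodule.disjoint_def]
        intro x hx1 hx2
        have gen0 : ∀ y ∈ Submodule.span (IsLocalRing.ResidueField A) (Set.range ((f.baseChange (IsLocalRing.ResidueField A)) ∘ bM)),
            (g.baseChange (IsLocalRing.ResidueField A)) y = 0 := by
          intro y hy
          induction hy using Submodule.span_induction with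
          | mem z hz => obtain ⟨j, rfl⟩ := hz; exact hgf0 _
          | zero => simp
          | add y z _ _ hy hz => rw [map_add, hy, hz, add_zero]
          | smul c y _ hy => rw [map_smul, hy, smul_zero]
        have hx0 : (g.baseChange (IsLocalRing.ResidueField A)) x = 0 := by
          rw [e1] at hx1
          exact gen0 x hx1
        rw [Finsupp.mem_span_range_iff_exists_finsupp] at hx2
        obtain ⟨c, rfl⟩ := hx2
        rw [linearIndependent_iff] at hli2
        have hli2' := LinearIndependent.of_comp (g.baseChange (IsLocalRing.ResidueField A)) (by rw [e2]; exact bP.linearIndependent : LinearIndependent (IsLocalRing.ResidueField A) ((g.baseChange (IsLocalRing.ResidueField A)) ∘ (((TensorProduct.mk A (IsLocalRing.ResidueField A) N 1) ∘ Sum.elim (f ∘ m) n) ∘ Sum.inr)))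
        have hc0 : c = 0 := by
          have hbli := bP.linearIndependent
          rw [linearIndependent_iff] at hbli
          apply hbli
          rw [Finsupp.linearCombination_apply, ← e2]
          rw [Finsupp.sum, map_sum] at hx0
          simpa [Finsupp.sum] using hx0
        rw [hc0]; simp
    rw [linearIndependent_sum] at hu
    obtain ⟨-, hu2, hu3⟩ := hu
    have hu2' : LinearIndependent A n := hu2
    have hwli : LinearIndependent A w := by
      rw [linearIndependent_iff]
      intro l hl
      have h1 : g (Finsupp.linearCombination A n l) = 0 := by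
        rw [Finsupp.linearCombination_apply, Finsupp.sum, map_sum]
        rw [Finsupp.linearCombination_apply, Finsupp.sum] at hl
        rw [← hl]
        apply Finset.sum_congr rfl
        intro i _
        rw [map_smul, hn i]
      obtain ⟨x, hx⟩ := (hfg _).1 h1
      have h2 : Finsupp.linearCombination A n l ∈ Submodule.span A (Set.range (Sum.elim (f ∘ m) n ∘ Sum.inl)) := by
        rw [← hx]
        have : f x ∈ Submodule.map f (Submodule.span A (Set.range m)) := by
          rw [hmspan]; exact Submodule.mem_map_of_mem trivial
        rw [Submodule.map_span, ← Set.range_comp] at this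
        exact this
      have h3 : Finsupp.linearCombination A n l ∈ Submodule.span A (Set.range (Sum.elim (f ∘ m) n ∘ Sum.inr)) := by
        rw [Finsupp.mem_span_range_iff_exists_finsupp]
        exact ⟨l, rfl⟩
      have h4 := (Submodule.disjoint_def.1 hu3) _ h2 h3
      rw [linearIndependent_iff] at hu2'
      exact hu2' l h4
    have : Module.Free A P := Module.Free.of_basis (Module.Basis.mk hwli (le_of_eq hwspan.symm))
    infer_instance
  · intro hP
    constructor
    · rw [Module.Flat.iff_rTensor_injective']
      intro I
      have h1 : Function.Injective (f.lTensor I) :=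
        LinearMap.lTensor_injective_of_exact_of_flat g hg f hf hfg I
      have h2 : Function.Injective (I.subtype.rTensor N) :=
        Module.Flat.rTensor_preserves_injective_linearMap _ Subtype.val_injective
      have h3 : (I.subtype.rTensor N) ∘ₗ (f.lTensor I) = (f.lTensor A) ∘ₗ (I.subtype.rTensor M) := by
        apply TensorProduct.ext'
        intro a x
        simp
      have h4 : Function.Injective ((f.lTensor A) ∘ₗ (I.subtype.rTensor M)) := by
        rw [← h3]; exact h2.comp h1
      exact Function.Injective.of_comp h4
    · exact LinearMap.lTensor_injective_of_exact_of_flat g hg f hf hfg _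

end Groth.Agent.Lib.helper7
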