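import Mathlib
import Groth.Agent.Lib.helper7.ArtLoc2
universe u v
open TensorProduct

namespace Groth.Agent.Lib.helper7

theorem H7_artloc_complex (A : Type u) [CommRing A] [IsLocalRing A] [IsArtinianRing A] (P Q R M : Type v) [AddCommGroup P] [Module A P] [AddCommGroup Q] [Module A Q] [AddCommGroup R] [Module A R] [AddCommGroup M] [Module A M] [Module.Flat A P] [Module.Flat A Q] [Module.Flat A R] (f : P →ₗ[A] Q) (g : Q →ₗ[A] R) (h : R →ₗ[A] M) (hfg : g ∘ₗ f = 0) (hgh : Function.Exact g h) (hh : Function.Surjective h) (hred : Function.Exact (f.lTensor (IsLocalRing.ResidueField A)) (g.lTensor (IsLocalRing.ResidueField A))) : Module.Flat A M ∧ Function.Exact f g := by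
  classical
  -- Z = range g
  have hZex : Function.Exact (LinearMap.range g).subtype h := by
    intro r
    rw [hgh r]
    constructor
    · rintro ⟨q, rfl⟩; exact ⟨⟨g q, ⟨q, rfl⟩⟩, rfl⟩
    · rintro ⟨⟨_, ⟨q, rfl⟩⟩, rfl⟩; exact ⟨q, rfl⟩
  have hg'f : g.rangeRestrict ∘ₗ f = 0 := by
    apply LinearMap.ext; intro p
    apply Subtype.ext
    exact LinearMap.congr_fun hfg p
  have hιg' : (LinearMap.range g).subtype ∘ₗ g.rangeRestrict = g := by
    apply LinearMap.ext; intro q; rfl
  have hZinj : Function.Injective ((LinearMap.range g).subtype.lTensor (IsLocalRing.ResidueField A)) := by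
    rw [injective_iff_map_eq_zero]
    intro z hz
    obtain ⟨y, rfl⟩ := LinearMap.lTensor_surjective (IsLocalRing.ResidueField A) g.surjective_rangeRestrict z
    rw [← LinearMap.comp_apply, ← LinearMap.lTensor_comp, hιg'] at hz
    obtain ⟨x, rfl⟩ := (hred y).1 hz
    rw [← LinearMap.comp_apply, ← LinearMap.lTensor_comp, hg'f, LinearMap.lTensor_zero, LinearMap.zero_apply]
  have hZ := H7_artloc_flat_quot A (LinearMap.range g) R M (LinearMap.range g).subtype h
    (Submodule.subtype_injective _) hh hZex
  have hMflat : Module.Flat A M := hZ.1 hZinj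
  have hZflat : Module.Flat A (LinearMap.range g) := (hZ.2 hMflat).1
  refine ⟨hMflat, ?_⟩
  -- K = ker g
  have hKex : Function.Exact (LinearMap.ker g).subtype g.rangeRestrict := by
    intro q
    constructor
    · intro hq
      have : g q = 0 := congrArg Subtype.val hq
      exact ⟨⟨q, this⟩, rfl⟩
    · rintro ⟨⟨q', hq'⟩, rfl⟩
      apply Subtype.ext
      exact hq'
  have hK := H7_artloc_flat_quot A (LinearMap.ker g) Q (LinearMap.range g) (LinearMap.ker g).subtype g.rangeRestrict
    (Submodule.subtype_injective _) g.surjective_rangeRestrict hKex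
  obtain ⟨hKflat, hKinj⟩ := hK.2 hZflat
  have hfK : ∀ p, f p ∈ LinearMap.ker g := fun p => LinearMap.congr_fun hfg p
  have hιf' : (LinearMap.ker g).subtype ∘ₗ (f.codRestrict (LinearMap.ker g) hfK) = f := by
    apply LinearMap.ext; intro p; rfl
  have hgιK : g ∘ₗ (LinearMap.ker g).subtype = 0 := by
    apply LinearMap.ext; intro q; exact q.2
  have hf'surj : Function.Surjective (f.codRestrict (LinearMap.ker g) hfK) := by
    apply (H7_artloc_inj_surj A P (LinearMap.ker g) (f.codRestrict (LinearMap.ker g) hfK)).2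
    intro y
    have h0 : (g.lTensor (IsLocalRing.ResidueField A)) (((LinearMap.ker g).subtype.lTensor (IsLocalRing.ResidueField A)) y) = 0 := by
      rw [← LinearMap.comp_apply, ← LinearMap.lTensor_comp, hgιK, LinearMap.lTensor_zero, LinearMap.zero_apply]
    obtain ⟨x, hx⟩ := (hred _).1 h0
    refine ⟨x, ?_⟩
    apply hKinj
    rw [← LinearMap.comp_apply, ← LinearMap.lTensor_comp, hιf', hx]
  intro q
  constructor
  · intro hq
    obtain ⟨p, hp⟩ := hf'surj ⟨q, hq⟩
    exact ⟨p, congrArg Subtype.val hp⟩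
  · rintro ⟨p, rfl⟩
    exact LinearMap.congr_fun hfg p

end Groth.Agent.Lib.helper7
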