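import Mathlib
import Groth.Agent.Lib.helper7.ArtLoc3
set_option autoImplicit false
universe u v
open TensorProduct CategoryTheory

namespace Groth.Agent.Lib.helper7

theorem H7_artloc_surj' (A : Type u) [CommRing A] [IsLocalRing A] [IsArtinianRing A] (P L : Type v)
    [AddCommGroup P] [Module A P] [AddCommGroup L] [Module A L] (h : P →ₗ[A] L)
    (hsurj : Function.Surjective (h.lTensor (IsLocalRing.ResidueField A))) : Function.Surjective h := by
  rw [← LinearMap.range_eq_top]
  apply H7_map_mk_eq_top
  intro y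
  obtain ⟨z, hz⟩ := hsurj ((1 : IsLocalRing.ResidueField A) ⊗ₜ[A] y)
  obtain ⟨p, rfl⟩ := H7_mk_surj A P z
  refine ⟨h p, ⟨p, rfl⟩, ?_⟩
  rw [← hz, LinearMap.lTensor_tmul]

theorem H7_artloc_inj' (A : Type u) [CommRing A] [IsLocalRing A] [IsArtinianRing A] (P L : Type v)
    [AddCommGroup P] [Module A P] [AddCommGroup L] [Module A L] [Module.Flat A L] (h : P →ₗ[A] L)
    (hinj : Function.Injective (h.lTensor (IsLocalRing.ResidueField A))) : Function.Injective h := by
  classical
  let b := Module.Basis.ofVectorSpace (IsLocalRing.ResidueField A) (IsLocalRing.ResidueField A ⊗[A] P)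
  choose v hv using fun i => H7_mk_surj A P (b i)
  have hli : LinearIndependent A (h ∘ v) := by
    apply Module.IsLocalRing.linearIndependent_of_flat
    have : (TensorProduct.mk A (IsLocalRing.ResidueField A) L 1) ∘ (h ∘ v) = (h.lTensor (IsLocalRing.ResidueField A)) ∘ b := by
      funext i
      simp only [Function.comp_apply, TensorProduct.mk_apply]
      rw [← hv i, LinearMap.lTensor_tmul]
    rw [this]
    have hbc : Function.Injective (h.baseChange (IsLocalRing.ResidueField A)) := by
      have : (h.baseChange (IsLocalRing.ResidueField A) : _ → _) = h.lTensor (IsLocalRing.ResidueField A) :=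
        LinearMap.baseChange_eq_ltensor h
      rw [this]; exact hinj
    exact b.linearIndependent.map' (h.baseChange (IsLocalRing.ResidueField A)) (LinearMap.ker_eq_bot.2 hbc)
  have hsp : Submodule.span A (Set.range v) = ⊤ := by
    apply H7_span_lift
    have : (fun i => (1 : IsLocalRing.ResidueField A) ⊗ₜ[A] v i) = b := funext hv
    rw [this, b.span_eq]
  rw [injective_iff_map_eq_zero]
  intro x hx
  have hxs : x ∈ Submodule.span A (Set.range v) := by rw [hsp]; trivial
  rw [Finsupp.mem_span_range_iff_exists_finsupp] at hxs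
  obtain ⟨c, rfl⟩ := hxs
  rw [linearIndependent_iff] at hli
  have h0 : c = 0 := by
    apply hli
    rw [Finsupp.linearCombination_apply]
    rw [Finsupp.sum, map_sum] at hx
    simpa [Finsupp.sum] using hx
  rw [h0]; simp

/-- Cokernel flatness: only the last term needs to be flat. Also returns flatness of the range. -/
theorem H7_artloc_coker_flat (A : Type u) [CommRing A] [IsLocalRing A] [IsArtinianRing A] (P Q R M : Type v)
    [AddCommGroup P] [Module A P] [AddCommGroup Q] [Module A Q] [AddCommGroup R] [Module A R]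
    [AddCommGroup M] [Module A M] [Module.Flat A R] (f : P →ₗ[A] Q) (g : Q →ₗ[A] R) (h : R →ₗ[A] M)
    (hfg : g ∘ₗ f = 0) (hgh : Function.Exact g h) (hh : Function.Surjective h)
    (hred : Function.Exact (f.lTensor (IsLocalRing.ResidueField A)) (g.lTensor (IsLocalRing.ResidueField A))) :
    Module.Flat A M ∧ Module.Flat A (LinearMap.range g) := by
  classical
  have hZex : Function.Exact (LinearMap.range g).subtype h := by
    intro r
    rw [hgh r]
    constructor
    · rintro ⟨q, rfl⟩; exact ⟨⟨g q, ⟨q, rfl⟩⟩, rfl⟩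
    · rintro ⟨⟨_, ⟨q, rfl⟩⟩, rfl⟩; exact ⟨q, rfl⟩
  have hg'f : g.rangeRestrict ∘ₗ f = 0 := by
    apply LinearMap.ext; intro p
    apply Subtype.ext
    exact LinearMap.congr_fun hfg p
  have hιg' : (LinearMap.range g).subtype ∘ₗ g.rangeRestrict = g := by
    apply LinearMap.ext; intro q; rfl
  have hZinj : Function.Injective ((LinearMap.range g).subtype.lTensor (IsLocalRing.ResidueField A)) := by
    rw [injective_iff_map_eq_zero]
    intro z hz
    obtain ⟨y, rfl⟩ := LinearMap.lTensor_surjective (IsLocalRing.ResidueField A) g.surjective_rangeRestrict z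
    rw [← LinearMap.comp_apply, ← LinearMap.lTensor_comp, hιg'] at hz
    obtain ⟨x, rfl⟩ := (hred y).1 hz
    rw [← LinearMap.comp_apply, ← LinearMap.lTensor_comp, hg'f, LinearMap.lTensor_zero, LinearMap.zero_apply]
  have hZ := H7_artloc_flat_quot A (LinearMap.range g) R M (LinearMap.range g).subtype h
    (Submodule.subtype_injective _) hh hZex
  have hMflat : Module.Flat A M := hZ.1 hZinj
  exact ⟨hMflat, (hZ.2 hMflat).1⟩

/-- First term flat. -/
theorem H7_artloc_first_flat (A : Type u) [CommRing A] [IsLocalRing A] [IsArtinianRing A] (P Q R : Type v)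
    [AddCommGroup P] [Module A P] [AddCommGroup Q] [Module A Q] [AddCommGroup R] [Module A R]
    [Module.Flat A Q] [Module.Flat A R] (f : P →ₗ[A] Q) (g : Q →ₗ[A] R)
    (hfg : g ∘ₗ f = 0)
    (hinj : Function.Injective (f.lTensor (IsLocalRing.ResidueField A)))
    (hred : Function.Exact (f.lTensor (IsLocalRing.ResidueField A)) (g.lTensor (IsLocalRing.ResidueField A))) :
    Module.Flat A P := by
  classical
  obtain ⟨-, hZflat⟩ := H7_artloc_coker_flat A P Q R (R ⧸ LinearMap.range g) f g (LinearMap.range g).mkQ hfg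
    (LinearMap.exact_map_mkQ_range g) (Submodule.mkQ_surjective _) hred
  have hKex : Function.Exact (LinearMap.ker g).subtype g.rangeRestrict := by
    intro q
    constructor
    · intro hq
      have : g q = 0 := congrArg Subtype.val hq
      exact ⟨⟨q, this⟩, rfl⟩
    · rintro ⟨⟨q', hq'⟩, rfl⟩
      apply Subtype.ext
      exact hq'
  have hK := H7_artloc_flat_quot A (LinearMap.ker g) Q (LinearMap.range g) (LinearMap.ker g).subtype g.rangeRestrict
    (Submodule.subtype_injective _) g.surjective_rangeRestrict hKex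
  obtain ⟨hKflat, hKinj⟩ := hK.2 hZflat
  have hfK : ∀ p, f p ∈ LinearMap.ker g := fun p => LinearMap.congr_fun hfg p
  have hιf' : (LinearMap.ker g).subtype ∘ₗ (f.codRestrict (LinearMap.ker g) hfK) = f := by
    apply LinearMap.ext; intro p; rfl
  have hgιK : g ∘ₗ (LinearMap.ker g).subtype = 0 := by
    apply LinearMap.ext; intro q; exact q.2
  have hf'surj : Function.Surjective (f.codRestrict (LinearMap.ker g) hfK) := by
    apply H7_artloc_surj' A P (LinearMap.ker g) (f.codRestrict (LinearMap.ker g) hfK)
    intro y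
    have h0 : (g.lTensor (IsLocalRing.ResidueField A)) (((LinearMap.ker g).subtype.lTensor (IsLocalRing.ResidueField A)) y) = 0 := by
      rw [← LinearMap.comp_apply, ← LinearMap.lTensor_comp, hgιK, LinearMap.lTensor_zero, LinearMap.zero_apply]
    obtain ⟨x, hx⟩ := (hred _).1 h0
    refine ⟨x, ?_⟩
    apply hKinj
    rw [← LinearMap.comp_apply, ← LinearMap.lTensor_comp, hιf', hx]
  have hf'inj : Function.Injective (f.codRestrict (LinearMap.ker g) hfK) := by
    apply H7_artloc_inj' A P (LinearMap.ker g) (f.codRestrict (LinearMap.ker g) hfK)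
    intro x y hxy
    apply hinj
    have := congrArg ((LinearMap.ker g).subtype.lTensor (IsLocalRing.ResidueField A)) hxy
    rw [← LinearMap.comp_apply, ← LinearMap.comp_apply, ← LinearMap.lTensor_comp, hιf'] at this
    exact this
  exact Module.Flat.of_linearEquiv (LinearEquiv.ofBijective _ ⟨hf'inj, hf'surj⟩)

theorem H7_plumb_succ (A : Type u) [CommRing A] (k : Type u) [AddCommGroup k] [Module A k]
    (C : CochainComplex (ModuleCat.{u} A) ℕ) (j : ℕ)
    (h : (((MonoidalCategory.tensorLeft (ModuleCat.of A k)).mapHomologicalComplex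
      (ComplexShape.up ℕ)).obj C).ExactAt (j+1)) :
    Function.Exact ((C.d j (j+1)).hom.lTensor k) ((C.d (j+1) (j+2)).hom.lTensor k) := by
  rw [HomologicalComplex.exactAt_iff' _ j (j+1) (j+2) (by simp) (by simp)] at h
  rw [ShortComplex.ShortExact.moduleCat_exact_iff_function_exact] at h
  exact h

theorem H7_plumb_zero (A : Type u) [CommRing A] (k : Type u) [AddCommGroup k] [Module A k]
    (C : CochainComplex (ModuleCat.{u} A) ℕ)
    (h : (((MonoidalCategory.tensorLeft (ModuleCat.of A k)).mapHomologicalComplex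
      (ComplexShape.up ℕ)).obj C).ExactAt 0) :
    Function.Injective ((C.d 0 1).hom.lTensor k) := by
  rw [HomologicalComplex.exactAt_iff' _ 0 0 1 (by simp) (by simp)] at h
  rw [ShortComplex.ShortExact.moduleCat_exact_iff_function_exact] at h
  have h0 : ∀ x, ((C.d 0 1).hom.lTensor k) x = 0 → x = 0 := by
    intro x hx
    obtain ⟨y, hy⟩ := (h x).1 hx
    rw [← hy]
    have hd : (((MonoidalCategory.tensorLeft (ModuleCat.of A k)).mapHomologicalComplex
      (ComplexShape.up ℕ)).obj C).d 0 0 = 0 := HomologicalComplex.shape _ 0 0 (by simp)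
    show ((((MonoidalCategory.tensorLeft (ModuleCat.of A k)).mapHomologicalComplex
      (ComplexShape.up ℕ)).obj C).d 0 0).hom y = 0
    rw [hd]
    rfl
  exact (injective_iff_map_eq_zero _).2 h0

theorem H7_S15133
    (A : Type u) [CommRing A] [IsLocalRing A] [IsArtinianRing A] (n : ℕ) (hn : 0 < n)
    (C : CochainComplex (ModuleCat.{u} A) ℕ)
    (hflat : ∀ i, i ≤ n → Module.Flat A (C.X (i + 1)))
    (hred : ∀ j, j ≤ n →
      (((MonoidalCategory.tensorLeft (ModuleCat.of A (IsLocalRing.ResidueField A))).mapHomologicalComplex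
        (ComplexShape.up ℕ)).obj C).ExactAt j) :
    Module.Flat A (C.X 0) ∧ Module.Flat A (C.X (n + 1) ⧸ LinearMap.range (C.d n (n + 1)).hom) := by
  obtain ⟨m, rfl⟩ : ∃ m, n = m + 1 := ⟨n - 1, by omega⟩
  have comp0 : ∀ j : ℕ, (C.d (j+1) (j+2)).hom ∘ₗ (C.d j (j+1)).hom = 0 := by
    intro j
    have := C.d_comp_d j (j+1) (j+2)
    rw [← ModuleCat.hom_comp, this]
    rfl
  constructor
  · have := hflat 0 (by omega)
    have := hflat 1 (by omega)
    exact H7_artloc_first_flat A (C.X 0) (C.X 1) (C.X 2) (C.d 0 1).hom (C.d 1 2).hom (comp0 0)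
      (H7_plumb_zero A _ C (hred 0 (by omega))) (H7_plumb_succ A _ C 0 (hred 1 (by omega)))
  · have := hflat (m+1) (by omega)
    exact (H7_artloc_coker_flat A (C.X m) (C.X (m+1)) (C.X (m+1+1)) _ (C.d m (m+1)).hom (C.d (m+1) (m+1+1)).hom
      (LinearMap.range (C.d (m+1) (m+1+1)).hom).mkQ (comp0 m)
      (LinearMap.exact_map_mkQ_range _) (Submodule.mkQ_surjective _) (H7_plumb_succ A _ C m (hred (m+1) (by omega)))).1

end Groth.Agent.Lib.helper7
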