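import Mathlib
import Groth.Agent.Lib.helper7.ArtLoc
import Groth.Agent.Lib.helper7.ArtLoc2

namespace Groth.Agent.Lib.helper7
open TensorProduct Pointwise
universe u v w

theorem H7_artloc_nilp (A : Type u) [CommRing A] [IsLocalRing A] [IsArtinianRing A] :
    IsNilpotent (IsLocalRing.maximalIdeal A) := by
  rw [← IsLocalRing.jacobson_eq_maximalIdeal (⊥ : Ideal A) bot_ne_top]
  exact IsArtinianRing.isNilpotent_jacobson_bot

theorem H7_exists_socle (A : Type u) [CommRing A] [IsLocalRing A] [IsArtinianRing A] (I : Ideal A)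
    (hI : I ≠ ⊤) : ∃ s : A, s ∉ I ∧ ∀ a ∈ IsLocalRing.maximalIdeal A, a * s ∈ I := by
  classical
  obtain ⟨N, hN⟩ := H7_artloc_nilp A
  have hex : ∃ n, IsLocalRing.maximalIdeal A ^ n ≤ I := ⟨N, by rw [hN]; exact bot_le⟩
  set n := Nat.find hex with hn
  have hn1 : IsLocalRing.maximalIdeal A ^ n ≤ I := Nat.find_spec hex
  have hn0 : n ≠ 0 := by
    intro h0
    rw [h0, pow_zero, Ideal.one_eq_top, top_le_iff] at hn1
    exact hI hn1
  obtain ⟨k, hk⟩ := Nat.exists_eq_succ_of_ne_zero hn0
  have hk' : ¬ IsLocalRing.maximalIdeal A ^ k ≤ I := Nat.find_min hex (by rw [← hn, hk]; exact Nat.lt_succ_self k)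
  obtain ⟨s, hs, hsI⟩ := SetLike.not_le_iff_exists.1 hk'
  refine ⟨s, hsI, fun a ha => hn1 ?_⟩
  rw [hk, pow_succ']
  exact Ideal.mul_mem_mul ha hs

theorem H7_mem_smul_top_iff {A : Type u} [CommRing A] (I : Ideal A) {M : Type v} [AddCommGroup M]
    [Module A M] (x : M) :
    x ∈ I • (⊤ : Submodule A M) ↔ (1 : A ⧸ I) ⊗ₜ[A] x = 0 := by
  rw [← LinearMap.ker_tensorProductMk (R := A) (Q := M) (I := I), LinearMap.mem_ker]
  rfl

theorem H7_socle_inj (A : Type u) [CommRing A] [IsLocalRing A] [IsArtinianRing A] (I : Ideal A)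
    (M : Type v) [AddCommGroup M] [Module A M] [Module.Flat A M] (s : A) (hs : s ∉ I)
    (hms : ∀ a ∈ IsLocalRing.maximalIdeal A, a * s ∈ I) (x : M)
    (hx : s • x ∈ I • (⊤ : Submodule A M)) :
    x ∈ IsLocalRing.maximalIdeal A • (⊤ : Submodule A M) := by
  classical
  have hle : IsLocalRing.maximalIdeal A ≤
      LinearMap.ker ((Submodule.mkQ I) ∘ₗ (LinearMap.toSpanSingleton A A s)) := by
    intro a ha
    rw [LinearMap.mem_ker, LinearMap.comp_apply, LinearMap.toSpanSingleton_apply, smul_eq_mul,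
      Submodule.mkQ_apply, Submodule.Quotient.mk_eq_zero]
    exact hms a ha
  let φ : (A ⧸ IsLocalRing.maximalIdeal A) →ₗ[A] (A ⧸ I) :=
    Submodule.liftQ (IsLocalRing.maximalIdeal A)
      ((Submodule.mkQ I) ∘ₗ (LinearMap.toSpanSingleton A A s)) hle
  have hφinj : Function.Injective φ := by
    rw [← LinearMap.ker_eq_bot]
    apply Submodule.ker_liftQ_eq_bot
    intro a ha
    rw [LinearMap.mem_ker, LinearMap.comp_apply, LinearMap.toSpanSingleton_apply, smul_eq_mul,
      Submodule.mkQ_apply, Submodule.Quotient.mk_eq_zero] at ha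
    by_contra hnm
    have hu : IsUnit a := by
      by_contra hnu
      exact hnm ((IsLocalRing.mem_maximalIdeal a).2 hnu)
    obtain ⟨u, rfl⟩ := hu
    apply hs
    have : s = (↑u⁻¹ : A) * (↑u * s) := by rw [← mul_assoc, Units.inv_mul, one_mul]
    rw [this]
    exact I.mul_mem_left _ ha
  have hinj : Function.Injective (φ.rTensor M) :=
    Module.Flat.rTensor_preserves_injective_linearMap φ hφinj
  rw [H7_mem_smul_top_iff]
  apply hinj
  rw [map_zero, LinearMap.rTensor_tmul]
  have h1 : φ (1 : A ⧸ IsLocalRing.maximalIdeal A) = s • (1 : A ⧸ I) := by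
    show φ (Submodule.Quotient.mk (1 : A)) = _
    rw [Submodule.liftQ_apply, LinearMap.comp_apply, LinearMap.toSpanSingleton_apply, smul_eq_mul,
      one_mul, Submodule.mkQ_apply]
    show Submodule.Quotient.mk s = s • Submodule.Quotient.mk (1 : A)
    rw [← Submodule.Quotient.mk_smul, smul_eq_mul, mul_one]
  rw [h1, TensorProduct.smul_tmul]
  exact (H7_mem_smul_top_iff I _).1 hx

theorem H7_artloc_endo (A : Type u) [CommRing A] [IsLocalRing A] [IsArtinianRing A] (I : Ideal A)
    (hI : I ≠ ⊤) (M : Type v) [AddCommGroup M] [Module A M] [Module.Flat A M] (h : M →ₗ[A] M) :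
    ((∀ x, h x ∈ I • (⊤ : Submodule A M) → x ∈ I • (⊤ : Submodule A M)) ↔ Function.Injective h) ∧
    (Function.Injective h → Module.Flat A (M ⧸ LinearMap.range h)) := by
  classical
  -- Step A
  have stepA : ∀ J : Ideal A, J ≠ ⊤ →
      (∀ x, h x ∈ J • (⊤ : Submodule A M) → x ∈ J • (⊤ : Submodule A M)) →
      (∀ x, h x ∈ IsLocalRing.maximalIdeal A • (⊤ : Submodule A M) →
        x ∈ IsLocalRing.maximalIdeal A • (⊤ : Submodule A M)) := by
    intro J hJ hC x hx
    obtain ⟨s, hs, hms⟩ := H7_exists_socle A J hJ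
    apply H7_socle_inj A J M s hs hms
    apply hC
    rw [map_smul]
    refine Submodule.smul_induction_on hx ?_ ?_
    · intro a ha y _
      rw [smul_smul, mul_comm]
      exact Submodule.smul_mem_smul (hms a ha) trivial
    · intro y z hy hz
      rw [smul_add]
      exact Submodule.add_mem _ hy hz
  -- Step B
  have stepB : (∀ x, h x ∈ IsLocalRing.maximalIdeal A • (⊤ : Submodule A M) →
        x ∈ IsLocalRing.maximalIdeal A • (⊤ : Submodule A M)) →
      Function.Injective h ∧ Module.Flat A (M ⧸ LinearMap.range h) := by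
    intro hC
    have hk : Function.Injective (h.lTensor (IsLocalRing.ResidueField A)) := by
      rw [injective_iff_map_eq_zero]
      intro z hz
      obtain ⟨x, rfl⟩ := H7_mk_surj A M z
      rw [LinearMap.lTensor_tmul] at hz
      have h1 : h x ∈ IsLocalRing.maximalIdeal A • (⊤ : Submodule A M) :=
        (H7_mem_smul_top_iff _ _).2 hz
      exact (H7_mem_smul_top_iff _ _).1 (hC x h1)
    have hinj : Function.Injective h := (H7_artloc_inj_surj A M M h).1 hk
    refine ⟨hinj, ?_⟩
    exact (H7_artloc_flat_quot A M M (M ⧸ LinearMap.range h) h (LinearMap.range h).mkQ hinj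
      (Submodule.mkQ_surjective _) (LinearMap.exact_map_mkQ_range h)).1 hk
  -- Step C
  have stepC : Function.Injective h → Module.Flat A (M ⧸ LinearMap.range h) →
      ∀ J : Ideal A, (∀ x, h x ∈ J • (⊤ : Submodule A M) → x ∈ J • (⊤ : Submodule A M)) := by
    intro hinj hflat J x hx
    have h1 : Function.Injective (h.lTensor (A ⧸ J)) :=
      LinearMap.lTensor_injective_of_exact_of_flat (LinearMap.range h).mkQ
        (Submodule.mkQ_surjective _) h hinj (LinearMap.exact_map_mkQ_range h) (A ⧸ J)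
    rw [H7_mem_smul_top_iff] at hx ⊢
    apply h1
    rw [LinearMap.lTensor_tmul, hx, map_zero]
  have hbot : (∀ x, h x ∈ (⊥ : Ideal A) • (⊤ : Submodule A M) → x ∈ (⊥ : Ideal A) • (⊤ : Submodule A M)) ↔
      Function.Injective h := by
    rw [Submodule.bot_smul, injective_iff_map_eq_zero]
    simp only [Submodule.mem_bot]
  have hInj : Function.Injective h → Module.Flat A (M ⧸ LinearMap.range h) := fun hinj =>
    (stepB (stepA ⊥ bot_ne_top (hbot.2 hinj))).2
  refine ⟨⟨fun hC => (stepB (stepA I hI hC)).1, fun hinj => stepC hinj (hInj hinj) I⟩, hInj⟩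

theorem H7_quot_smulreg_iff {S : Type w} [CommRing S] {M : Type v} [AddCommGroup M] [Module S M]
    (N : Submodule S M) (r : S) :
    IsSMulRegular (M ⧸ N) r ↔ ∀ x, r • x ∈ N → x ∈ N := by
  constructor
  · intro hreg x hx
    have h1 : r • (Submodule.Quotient.mk x : M ⧸ N) = r • (0 : M ⧸ N) := by
      rw [← Submodule.Quotient.mk_smul, (Submodule.Quotient.mk_eq_zero N).2 hx, smul_zero]
    exact (Submodule.Quotient.mk_eq_zero N).1 (hreg h1)
  · intro hC a b hab
    obtain ⟨x, rfl⟩ := Submodule.Quotient.mk_surjective N a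
    obtain ⟨y, rfl⟩ := Submodule.Quotient.mk_surjective N b
    have h1 : r • (Submodule.Quotient.mk x : M ⧸ N) = r • (Submodule.Quotient.mk y : M ⧸ N) := hab
    rw [← Submodule.Quotient.mk_smul, ← Submodule.Quotient.mk_smul, Submodule.Quotient.eq,
      ← smul_sub] at h1
    exact (Submodule.Quotient.eq N).2 (hC _ h1)

theorem H7_map_smul_top_mem {A : Type u} [CommRing A] (I : Ideal A) {S : Type w} [CommRing S]
    [Algebra A S] {M : Type v} [AddCommGroup M] [Module A M] [Module S M] [IsScalarTower A S M]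
    (x : M) :
    x ∈ (I.map (algebraMap A S) • (⊤ : Submodule S M)) ↔ x ∈ I • (⊤ : Submodule A M) := by
  have := Ideal.smul_restrictScalars (R := A) (S := S) (M := M) I (⊤ : Submodule S M)
  rw [Submodule.restrictScalars_top] at this
  rw [← this, Submodule.restrictScalars_mem]

theorem H7_artloc_smulreg (A : Type u) [CommRing A] [IsLocalRing A] [IsArtinianRing A] (I : Ideal A)
    (hI : I ≠ ⊤) (S : Type w) [CommRing S] [Algebra A S] (M : Type v) [AddCommGroup M] [Module A M]
    [Module S M] [IsScalarTower A S M] [Module.Flat A M] (r : S) :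
    (IsSMulRegular M r ↔
      IsSMulRegular (M ⧸ (I.map (algebraMap A S) • (⊤ : Submodule S M))) r) ∧
    (IsSMulRegular M r → Module.Flat A (QuotSMulTop r M)) := by
  classical
  let h : M →ₗ[A] M := (LinearMap.lsmul S M r).restrictScalars A
  have hh : ∀ x, h x = r • x := fun x => rfl
  obtain ⟨h1, h2⟩ := H7_artloc_endo A I hI M h
  have hinj : Function.Injective h ↔ IsSMulRegular M r := Iff.rfl
  constructor
  · rw [H7_quot_smulreg_iff, ← hinj, ← h1]
    constructor
    · intro hC x hx
      rw [H7_map_smul_top_mem] at hx ⊢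
      exact hC x hx
    · intro hC x hx
      rw [← H7_map_smul_top_mem (S := S)] at hx ⊢
      exact hC x hx
  · intro hreg
    have hfl := h2 (hinj.2 hreg)
    have hrange : LinearMap.range h = (r • (⊤ : Submodule S M)).restrictScalars A := by
      ext x
      rw [LinearMap.mem_range, Submodule.restrictScalars_mem, Submodule.mem_smul_pointwise_iff_exists]
      constructor
      · rintro ⟨y, rfl⟩; exact ⟨y, trivial, rfl⟩
      · rintro ⟨y, _, rfl⟩; exact ⟨y, rfl⟩
    let e : (M ⧸ LinearMap.range h) ≃ₗ[A] QuotSMulTop r M :=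
      (Submodule.quotEquivOfEq _ _ hrange).trans
        (Submodule.Quotient.restrictScalarsEquiv A (r • (⊤ : Submodule S M)))
    exact Module.Flat.of_linearEquiv e.symm

open Submodule in
/-- `(M/rM)/J(M/rM) ≃ (M/JM)/r(M/JM)`. -/
noncomputable def H7_quotSwap {S : Type w} [CommRing S] (J : Ideal S) (M : Type v) [AddCommGroup M]
    [Module S M] (r : S) :
    (QuotSMulTop r M ⧸ (J • (⊤ : Submodule S (QuotSMulTop r M)))) ≃ₗ[S]
      QuotSMulTop r (M ⧸ (J • (⊤ : Submodule S M))) :=
  quotEquivOfEq _ _ (by rw [map_smul'', Submodule.map_top, range_mkQ]) ≪≫ₗ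
    quotientQuotientEquivQuotientSup (r • (⊤ : Submodule S M)) (J • (⊤ : Submodule S M)) ≪≫ₗ
    quotEquivOfEq _ _ (sup_comm _ _) ≪≫ₗ
    (quotientQuotientEquivQuotientSup (J • (⊤ : Submodule S M)) (r • (⊤ : Submodule S M))).symm ≪≫ₗ
    quotEquivOfEq _ _ (by rw [map_pointwise_smul, Submodule.map_top, range_mkQ])

open RingTheory.Sequence in
theorem H7_artloc_regseq (A : Type u) [CommRing A] [IsLocalRing A] [IsArtinianRing A] (I : Ideal A)
    (hI : I ≠ ⊤) (S : Type w) [CommRing S] [Algebra A S] (rs : List S) :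
    ∀ (M : Type v) [AddCommGroup M] [Module A M] [Module S M] [IsScalarTower A S M]
      [Module.Flat A M],
      (IsWeaklyRegular M rs ↔
        IsWeaklyRegular (M ⧸ (I.map (algebraMap A S) • (⊤ : Submodule S M))) rs) ∧
      (IsWeaklyRegular M rs →
        Module.Flat A (M ⧸ (Ideal.ofList rs • ⊤ : Submodule S M))) := by
  classical
  induction rs with
  | nil =>
    intro M _ _ _ _ _
    refine ⟨⟨fun _ => IsWeaklyRegular.nil _ _, fun _ => IsWeaklyRegular.nil _ _⟩, fun _ => ?_⟩
    have hbot : (Ideal.ofList ([] : List S) • ⊤ : Submodule S M) = ⊥ := by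
      rw [Ideal.ofList_nil, Submodule.bot_smul]
    let e : (M ⧸ (Ideal.ofList ([] : List S) • ⊤ : Submodule S M)) ≃ₗ[A] M :=
      (Submodule.quotEquivOfEqBot _ hbot).restrictScalars A
    exact Module.Flat.of_linearEquiv e
  | cons r rs ih =>
    intro M _ _ _ _ _
    obtain ⟨hreg_iff, hflat⟩ := H7_artloc_smulreg A I hI S M r
    let e := H7_quotSwap (I.map (algebraMap A S)) M r
    constructor
    · rw [isWeaklyRegular_cons_iff, isWeaklyRegular_cons_iff]
      constructor
      · rintro ⟨h1, h2⟩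
        have := hflat h1
        exact ⟨hreg_iff.1 h1, (e.isWeaklyRegular_congr rs).1 ((ih (QuotSMulTop r M)).1.1 h2)⟩
      · rintro ⟨h1, h2⟩
        have h1' := hreg_iff.2 h1
        have := hflat h1'
        exact ⟨h1', (ih (QuotSMulTop r M)).1.2 ((e.isWeaklyRegular_congr rs).2 h2)⟩
    · intro h
      obtain ⟨h1, h2⟩ := (isWeaklyRegular_cons_iff M r rs).1 h
      have := hflat h1
      have hfl := (ih (QuotSMulTop r M)).2 h2
      let e2 : (M ⧸ (Ideal.ofList (r :: rs) • ⊤ : Submodule S M)) ≃ₗ[A]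
          QuotSMulTop r M ⧸ (Ideal.ofList rs • ⊤ : Submodule S (QuotSMulTop r M)) :=
        (Submodule.quotOfListConsSMulTopEquivQuotSMulTopInner M r rs).restrictScalars A
      exact Module.Flat.of_linearEquiv e2

theorem H7_artloc_ideal_nilp (A : Type u) [CommRing A] [IsLocalRing A] [IsArtinianRing A] (I : Ideal A)
    (hI : I ≠ ⊤) : IsNilpotent I := by
  obtain ⟨N, hN⟩ := H7_artloc_nilp A
  refine ⟨N, ?_⟩
  rw [Ideal.zero_eq_bot, eq_bot_iff, ← Ideal.zero_eq_bot, ← hN]
  exact Ideal.pow_right_mono (IsLocalRing.le_maximalIdeal hI) N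

theorem H7_artloc_top_iff (A : Type u) [CommRing A] [IsLocalRing A] [IsArtinianRing A] (I : Ideal A)
    (hI : I ≠ ⊤) (S : Type w) [CommRing S] [Algebra A S] (M : Type v) [AddCommGroup M] [Module A M]
    [Module S M] [IsScalarTower A S M] (N : Submodule S M) :
    N.map (I.map (algebraMap A S) • (⊤ : Submodule S M)).mkQ = ⊤ ↔ N = ⊤ := by
  constructor
  · intro h
    rw [Submodule.map_mkQ_eq_top] at h
    have h2 : N.restrictScalars A ⊔ I • (⊤ : Submodule A M) = ⊤ := by
      rw [eq_top_iff]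
      intro x _
      have hx : x ∈ (I.map (algebraMap A S) • (⊤ : Submodule S M)) ⊔ N := by rw [h]; trivial
      obtain ⟨y, hy, z, hz, rfl⟩ := Submodule.mem_sup.1 hx
      rw [H7_map_smul_top_mem] at hy
      rw [add_comm]
      exact Submodule.add_mem_sup (Submodule.restrictScalars_mem A N z |>.2 hz) hy
    have h3 := H7_nak_nilp I (H7_artloc_ideal_nilp A I hI) (N.restrictScalars A) h2
    rw [eq_top_iff]
    intro x _
    have : x ∈ N.restrictScalars A := by rw [h3]; trivial
    exact this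
  · rintro rfl
    rw [Submodule.map_top, Submodule.range_mkQ]

open RingTheory.Sequence in
theorem H7_artloc_isRegular (A : Type u) [CommRing A] [IsLocalRing A] [IsArtinianRing A] (I : Ideal A)
    (hI : I ≠ ⊤) (S : Type w) [CommRing S] [Algebra A S] (rs : List S)
    (M : Type v) [AddCommGroup M] [Module A M] [Module S M] [IsScalarTower A S M]
    [Module.Flat A M] :
    IsRegular M rs ↔ IsRegular (M ⧸ (I.map (algebraMap A S) • (⊤ : Submodule S M))) rs := by
  rw [isRegular_iff, isRegular_iff, (H7_artloc_regseq A I hI S rs M).1]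
  refine and_congr Iff.rfl (not_congr ?_)
  have hmap : (Ideal.ofList rs • ⊤ : Submodule S (M ⧸ (I.map (algebraMap A S) • (⊤ : Submodule S M)))) =
      (Ideal.ofList rs • ⊤ : Submodule S M).map (I.map (algebraMap A S) • (⊤ : Submodule S M)).mkQ := by
    rw [Submodule.map_smul'', Submodule.map_top, Submodule.range_mkQ]
  rw [hmap, eq_comm, eq_comm (a := (⊤ : Submodule S (M ⧸ (I.map (algebraMap A S) • (⊤ : Submodule S M))))),
    H7_artloc_top_iff A I hI S M]

end Groth.Agent.Lib.helper7
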