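import Mathlib

set_option autoImplicit false

open TensorProduct

namespace Groth.Agent.Lib.helper7

/-- If `S ⊗[R] M` is a finite `S`-module, finitely many elements of `M` already generate it. -/
theorem H7_exists_finset_baseChange_eq_top (R S M : Type*) [CommRing R] [CommRing S] [Algebra R S]
    [AddCommGroup M] [Module R M] [Module.Finite S (S ⊗[R] M)] :
    ∃ F : Finset M, (Submodule.span R (F : Set M)).baseChange S = ⊤ := by
  classical
  have h1 : (⊤ : Submodule S (S ⊗[R] M)) = Submodule.span S (TensorProduct.mk R S M 1 '' Set.univ) := by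
    rw [← Submodule.baseChange_span, Submodule.span_univ, Submodule.baseChange_top]
  have hfg : (Submodule.span S (TensorProduct.mk R S M 1 '' Set.univ)).FG := by
    rw [← h1]
    exact Module.Finite.fg_top
  obtain ⟨s', hs's, hs'⟩ := (Submodule.fg_span_iff_fg_span_finset_subset _).mp hfg
  obtain ⟨F, -, hF⟩ := Finset.subset_set_image_iff.mp hs's
  refine ⟨F, ?_⟩
  rw [Submodule.baseChange_span, h1, hs', ← hF, Finset.coe_image]

/-- If a submodule `N` becomes everything after base change, the base change of the quotient
vanishes. -/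
theorem H7_subsingleton_baseChange_quotient (R S M : Type*) [CommRing R] [CommRing S] [Algebra R S]
    [AddCommGroup M] [Module R M] (N : Submodule R M) (hN : N.baseChange S = ⊤) :
    Subsingleton (S ⊗[R] (M ⧸ N)) := by
  refine ⟨fun x y => ?_⟩
  have key : ∀ z : S ⊗[R] (M ⧸ N), z = 0 := by
    intro z
    obtain ⟨w, rfl⟩ := LinearMap.lTensor_surjective S (Submodule.mkQ_surjective N) z
    have hw : w ∈ N.baseChange S := by rw [hN]; trivial
    obtain ⟨v, rfl⟩ := hw
    have : (LinearMap.lTensor S N.mkQ) ((N.subtype.baseChange S) v)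
        = (LinearMap.lTensor S (N.mkQ ∘ₗ N.subtype)) v := by
      rw [LinearMap.lTensor_comp]
      rfl
    rw [this]
    have h0 : N.mkQ ∘ₗ N.subtype = 0 := by
      ext n
      simp
    rw [h0, LinearMap.lTensor_zero]
    rfl
  rw [key x, key y]

end Groth.Agent.Lib.helper7
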