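import Mathlib
set_option autoImplicit false
universe u
open Polynomial

namespace Groth.Agent.Lib.helper7

theorem H7_choose_pp (p n k : ℕ) (hp : p.Prime) (hn : 1 ≤ n) (hk0 : k ≠ 0) (hk : k < p ^ n) :
    ∃ e : ℕ, p ^ e ∣ (p ^ n).choose k ∧ p ^ n ≤ e * (p ^ (n - 1) * (p - 1)) + k := by
  have h1 := Nat.Prime.emultiplicity_choose_prime_pow hp hk.le hk0
  have hv : p ^ multiplicity p k ∣ k := pow_multiplicity_dvd p k
  have hvle : p ^ multiplicity p k ≤ k := Nat.le_of_dvd (Nat.pos_of_ne_zero hk0) hv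
  have hvn : multiplicity p k < n := by
    by_contra hcon
    push Not at hcon
    have : p ^ n ≤ p ^ multiplicity p k := Nat.pow_le_pow_right hp.pos hcon
    omega
  refine ⟨n - multiplicity p k, pow_dvd_of_le_emultiplicity (le_of_eq h1.symm), ?_⟩
  obtain ⟨s, rfl⟩ : ∃ s, p = s + 2 := ⟨p - 2, by have := hp.two_le; omega⟩
  obtain ⟨m, rfl⟩ : ∃ m, n = m + 1 := ⟨n - 1, by omega⟩
  have e1 : m + 1 - 1 = m := by omega
  have e2 : s + 2 - 1 = s + 1 := by omega
  rw [e1, e2, pow_succ]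
  set v := multiplicity (s + 2) k with hvdef
  set q := (s + 2) ^ m with hq
  rcases Nat.lt_or_ge v m with hlt | hge
  · have he : 2 ≤ m + 1 - v := by omega
    have : 2 * (q * (s + 1)) ≤ (m + 1 - v) * (q * (s + 1)) := Nat.mul_le_mul_right _ he
    nlinarith
  · have hvm : v = m := by omega
    have he : m + 1 - v = 1 := by omega
    rw [he, one_mul]
    rw [hvm] at hvle
    nlinarith

theorem H7_key_dvd {A : Type u} [CommRing A] (p n : ℕ) (hp : p.Prime) (hn : 1 ≤ n) (a : A)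
    (ha : a ^ (p ^ (n - 1) * (p - 1)) ∣ (p : A)) (k : ℕ) (hk0 : k ≠ 0) (hk : k < p ^ n) :
    a ^ (p ^ n) ∣ ((p ^ n).choose k : A) * a ^ k := by
  obtain ⟨e, he1, he2⟩ := H7_choose_pp p n k hp hn hk0 hk
  have h1 : ((p : A)) ^ e ∣ ((p ^ n).choose k : A) := by
    have := Nat.cast_dvd_cast (α := A) he1
    rwa [Nat.cast_pow] at this
  have h2 : a ^ (e * (p ^ (n - 1) * (p - 1))) ∣ (p : A) ^ e := by
    rw [mul_comm e, pow_mul]
    exact pow_dvd_pow_of_dvd ha e
  have h3 : a ^ (e * (p ^ (n - 1) * (p - 1)) + k) ∣ ((p ^ n).choose k : A) * a ^ k := by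
    rw [pow_add]
    exact mul_dvd_mul (h2.trans h1) dvd_rfl
  exact (pow_dvd_pow a he2).trans h3

end Groth.Agent.Lib.helper7
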