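import Mathlib
import Groth.Agent.Lib.helper7.BinomLam
set_option autoImplicit false
universe u
open Polynomial

namespace Groth.Agent.Lib.helper7

/-- `(w+1)^N - 1 = w^N + ∑_{i<N-1} C(N,i+1) w^(i+1)`. -/
theorem H7_add_one_pow_sub_one {K : Type u} [CommRing K] (w : K) (N' : ℕ) :
    (w + 1) ^ (N' + 1) - 1 = w ^ (N' + 1) + ∑ i ∈ Finset.range N', (((N' + 1).choose (i + 1) : ℕ) : K) * w ^ (i + 1) := by
  rw [add_pow, Finset.sum_range_succ, Finset.sum_range_succ']
  simp only [one_pow, mul_one, Nat.choose_self, Nat.cast_one, pow_zero, Nat.choose_zero_right, Nat.sub_self]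
  have : ∀ i ∈ Finset.range N', w ^ (i + 1) * (((N' + 1).choose (i + 1) : ℕ) : K) =
      (((N' + 1).choose (i + 1) : ℕ) : K) * w ^ (i + 1) := fun i _ => mul_comm _ _
  rw [Finset.sum_congr rfl this]
  ring

theorem H7_S13158_mpr {A : Type u} [CommRing A] (p n : ℕ) (hp : p.Prime) (hn : 1 ≤ n) (a : A)
    (ha : a ^ (p ^ (n - 1) * (p - 1)) ∣ (p : A)) (x : A) (h : a ∣ x - 1) :
    a ^ p ^ n ∣ x ^ p ^ n - 1 := by
  obtain ⟨y, hy⟩ := h
  obtain ⟨N', hN'⟩ : ∃ N', p ^ n = N' + 1 := ⟨p ^ n - 1, by have := Nat.pow_pos (n := n) hp.pos; omega⟩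
  have hx : x = (x - 1) + 1 := by ring
  rw [hx, hN', H7_add_one_pow_sub_one]
  apply dvd_add
  · rw [hy, mul_pow]; exact dvd_mul_right _ _
  · apply Finset.dvd_sum
    intro i hi
    rw [Finset.mem_range] at hi
    rw [hy, mul_pow, ← mul_assoc, ← hN']
    apply Dvd.dvd.mul_right
    exact H7_key_dvd p n hp hn a ha (i + 1) (by omega) (by omega)

end Groth.Agent.Lib.helper7
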