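import Mathlib
import Groth.Agent.Lib.helper7.BinomLam2
set_option autoImplicit false
universe u
open Polynomial

namespace Groth.Agent.Lib.helper7

theorem H7_S13158_mp {A : Type u} [CommRing A] [IsDomain A] [IsIntegrallyClosed A]
    (K : Type u) [Field K] [Algebra A K] [IsFractionRing A K]
    (p n : ℕ) (hp : p.Prime) (hn : 1 ≤ n) (a : A) (ha0 : a ≠ 0)
    (ha : a ^ (p ^ (n - 1) * (p - 1)) ∣ (p : A)) (x : A) (h : a ^ p ^ n ∣ x ^ p ^ n - 1) :
    a ∣ x - 1 := by
  classical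
  obtain ⟨z, hz⟩ := h
  obtain ⟨N', hN'⟩ : ∃ N', p ^ n = N' + 1 := ⟨p ^ n - 1, by have := Nat.pow_pos (n := n) hp.pos; omega⟩
  rw [hN'] at hz
  have hc : ∀ i : ℕ, ∃ c : A, i < N' → (((N' + 1).choose (i + 1) : ℕ) : A) * a ^ (i + 1) = a ^ (N' + 1) * c := by
    intro i
    by_cases hi : i < N'
    · obtain ⟨c, hc⟩ := H7_key_dvd p n hp hn a ha (i + 1) (by omega) (by omega)
      rw [hN'] at hc
      exact ⟨c, fun _ => hc⟩
    · exact ⟨0, fun h => absurd h hi⟩
  choose c hc using hc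
  have hφ : Function.Injective (algebraMap A K) := IsFractionRing.injective A K
  have haK : algebraMap A K a ≠ 0 := fun h0 => ha0 (hφ (by rw [h0, map_zero]))
  obtain ⟨y, hw⟩ : ∃ y : K, algebraMap A K a * y = algebraMap A K x - 1 :=
    ⟨(algebraMap A K x - 1) / algebraMap A K a, by field_simp⟩
  obtain ⟨f, hf⟩ : ∃ f : Fin (N' + 1) → A, ∀ i, f i = if (i : ℕ) = 0 then -z else c ((i : ℕ) - 1) :=
    ⟨_, fun _ => rfl⟩
  have hP : (X ^ (N' + 1) + ∑ i : Fin (N' + 1), C (f i) * X ^ (i : ℕ) : A[X]).Monic :=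
    monic_X_pow_add (degree_sum_fin_lt f)
  have hev : aeval y (X ^ (N' + 1) + ∑ i : Fin (N' + 1), C (f i) * X ^ (i : ℕ) : A[X]) = 0 := by
    have h1 : aeval y (X ^ (N' + 1) + ∑ i : Fin (N' + 1), C (f i) * X ^ (i : ℕ) : A[X]) =
        y ^ (N' + 1) + ∑ i : Fin (N' + 1), algebraMap A K (f i) * y ^ (i : ℕ) := by
      simp only [map_add, map_pow, aeval_X, map_sum, map_mul, aeval_C]
    rw [h1]
    have h2 : algebraMap A K a ^ (N' + 1) *
        (y ^ (N' + 1) + ∑ i : Fin (N' + 1), algebraMap A K (f i) * y ^ (i : ℕ)) = 0 := by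
      simp only [hf]
      rw [Fin.sum_univ_eq_sum_range (fun i => algebraMap A K (if i = 0 then -z else c (i - 1)) * y ^ i) (N' + 1)]
      rw [Finset.sum_range_succ']
      simp only [Nat.succ_ne_zero, if_false, if_true, Nat.add_sub_cancel, pow_zero, mul_one]
      have e1 : algebraMap A K a ^ (N' + 1) * y ^ (N' + 1) = (algebraMap A K x - 1) ^ (N' + 1) := by
        rw [← mul_pow, hw]
      have e2 : ∀ i ∈ Finset.range N', algebraMap A K a ^ (N' + 1) * (algebraMap A K (c i) * y ^ (i + 1)) =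
          (((N' + 1).choose (i + 1) : ℕ) : K) * (algebraMap A K x - 1) ^ (i + 1) := by
        intro i hi
        rw [Finset.mem_range] at hi
        rw [← mul_assoc, ← map_pow, ← map_mul, ← hc i hi, map_mul, map_natCast, map_pow, mul_assoc,
          ← mul_pow, hw]
      have e3 : algebraMap A K a ^ (N' + 1) * algebraMap A K (-z) = -(algebraMap A K x ^ (N' + 1) - 1) := by
        rw [map_neg, mul_neg, ← map_pow, ← map_mul, ← hz, map_sub, map_pow, map_one]
      rw [mul_add, mul_add, Finset.mul_sum, e1, Finset.sum_congr rfl e2, e3]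
      have h3 := H7_add_one_pow_sub_one (algebraMap A K x - 1) N'
      rw [sub_add_cancel] at h3
      rw [← add_assoc, ← h3]
      ring
    exact (mul_eq_zero.1 h2).resolve_left (pow_ne_zero _ haK)
  have hint : IsIntegral A y := ⟨_, hP, by rw [← hev]; rfl⟩
  obtain ⟨y₀, hy₀⟩ := (IsIntegrallyClosed.isIntegral_iff (R := A) (K := K)).1 hint
  refine ⟨y₀, hφ ?_⟩
  rw [map_sub, map_one, map_mul, hy₀, hw]

end Groth.Agent.Lib.helper7
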