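import Mathlib
import Groth.Prelude.Def_W4c2arithlefschetzGraph

namespace H7Blow
open ArLef ArLef.BlowupGraph
variable {n : ℕ} (G : BlowupGraph n)

lemma ttN_eq (k m : ℕ) : G.ttN k m =
    if m < k then 0 else if m = k then 1 else ∑ p ∈ G.parN m, G.ttN k p := by
  rw [ttN]
  split_ifs
  · rfl
  · rfl
  · exact Finset.sum_attach (G.parN m) (fun p => G.ttN k p)

lemma tt_eq (k m : Fin n) : G.tt k m =
    if m < k then 0 else if m = k then 1 else ∑ p ∈ G.par m, G.tt k p := by
  unfold tt
  rw [ttN_eq]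
  have h1 : (m.1 < k.1) ↔ m < k := Iff.rfl
  have h2 : (m.1 = k.1) ↔ m = k := Fin.val_inj
  simp only [h1, h2]
  split_ifs
  · rfl
  · rfl
  · unfold parN
    rw [dif_pos m.2, Finset.sum_map]
    rfl

lemma tt_lt {k m : Fin n} (h : m < k) : G.tt k m = 0 := by rw [tt_eq, if_pos h]
lemma tt_self (k : Fin n) : G.tt k k = 1 := by rw [tt_eq, if_neg (lt_irrefl _), if_pos rfl]
lemma tt_gt {k m : Fin n} (h : k < m) : G.tt k m = ∑ p ∈ G.par m, G.tt k p := by
  rw [tt_eq, if_neg (not_lt.mpr h.le), if_neg (ne_of_gt h)]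


open Classical in
/-- adjacency at stage `s` -/
def adjS (s : ℕ) (p q : Fin n) : Prop :=
  (p ∈ G.par q ∧ ∀ m, q < m → m.1 < s → G.par m ≠ {p, q}) ∨
    (q ∈ G.par p ∧ ∀ m, p < m → m.1 < s → G.par m ≠ {q, p})

/-- self-intersection at stage `s` -/
def siS (s : ℕ) (p : Fin n) : ℚ :=
  -1 - ((Finset.univ.filter fun m : Fin n => m.1 < s ∧ p ∈ G.par m).card : ℚ)

open Classical in
/-- intersection matrix at stage `s` -/
noncomputable def matS (s : ℕ) (p q : Fin n) : ℚ :=
  if p = q then siS G s p else if adjS G s p q then 1 else 0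

lemma adjS_n (p q : Fin n) : adjS G n p q ↔ G.Adj p q := by
  unfold adjS Adj
  simp only [Fin.is_lt, forall_true_left]

lemma siS_n (p : Fin n) : siS G n p = (G.selfInt p : ℚ) := by
  unfold siS selfInt
  simp only [Fin.is_lt, true_and]
  push_cast
  ring

lemma matS_n (p q : Fin n) : matS G n p q = G.mat p q := by
  unfold matS mat
  by_cases h : p = q
  · rw [if_pos h, if_pos h, siS_n]
  · rw [if_neg h, if_neg h]
    by_cases h2 : G.Adj p q
    · rw [if_pos h2, if_pos ((adjS_n G p q).mpr h2)]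
    · rw [if_neg h2, if_neg (fun h3 => h2 ((adjS_n G p q).mp h3))]


section step
variable {s : ℕ} (hs : s < n)

lemma siS_succ (p : Fin n) :
    siS G (s + 1) p = siS G s p - (if p ∈ G.par ⟨s, hs⟩ then 1 else 0) := by
  unfold siS
  by_cases h : p ∈ G.par ⟨s, hs⟩
  · rw [if_pos h]
    have : (Finset.univ.filter fun m : Fin n => m.1 < s + 1 ∧ p ∈ G.par m) =
        insert ⟨s, hs⟩ (Finset.univ.filter fun m : Fin n => m.1 < s ∧ p ∈ G.par m) := by
      ext m
      simp only [Finset.mem_filter, Finset.mem_univ, true_and, Finset.mem_insert]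
      constructor
      · rintro ⟨h1, h2⟩
        by_cases h3 : m.1 = s
        · left; exact Fin.ext h3
        · right; exact ⟨by omega, h2⟩
      · rintro (rfl | ⟨h1, h2⟩)
        · exact ⟨Nat.lt_succ_self _, h⟩
        · exact ⟨by omega, h2⟩
    rw [this, Finset.card_insert_of_notMem (by simp)]
    push_cast
    ring
  · rw [if_neg h]
    have : (Finset.univ.filter fun m : Fin n => m.1 < s + 1 ∧ p ∈ G.par m) =
        (Finset.univ.filter fun m : Fin n => m.1 < s ∧ p ∈ G.par m) := by
      ext m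
      simp only [Finset.mem_filter, Finset.mem_univ, true_and]
      constructor
      · rintro ⟨h1, h2⟩
        refine ⟨?_, h2⟩
        by_contra h3
        have : m = ⟨s, hs⟩ := Fin.ext (show m.1 = s by omega)
        rw [this] at h2
        exact h h2
      · rintro ⟨h1, h2⟩
        exact ⟨by omega, h2⟩
    rw [this]
    ring


lemma adjS_succ {p q : Fin n} (hp : p.1 < s) (hq : q.1 < s) :
    adjS G (s + 1) p q ↔ adjS G s p q ∧ G.par ⟨s, hs⟩ ≠ {p, q} := by
  unfold adjS
  have key : ∀ a b : Fin n, b.1 < s →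
      ((∀ m : Fin n, b < m → m.1 < s + 1 → G.par m ≠ {a, b}) ↔
        (∀ m : Fin n, b < m → m.1 < s → G.par m ≠ {a, b}) ∧ G.par ⟨s, hs⟩ ≠ {a, b}) := by
    intro a b hb
    constructor
    · intro H
      exact ⟨fun m h1 h2 => H m h1 (by omega), H ⟨s, hs⟩ (by rw [Fin.lt_def]; exact hb) (Nat.lt_succ_self s)⟩
    · rintro ⟨H1, H2⟩ m h1 h2
      by_cases h3 : m.1 < s
      · exact H1 m h1 h3
      · have : m = ⟨s, hs⟩ := Fin.ext (show m.1 = s by omega)
        rw [this]; exact H2
  rw [key p q hq, key q p hp, Finset.pair_comm q p]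
  tauto

include hs in
lemma adjS_of_eq {p q : Fin n} (hpq : p ≠ q) (hC : G.par ⟨s, hs⟩ = {p, q}) : adjS G s p q := by
  have hp : p ∈ G.par ⟨s, hs⟩ := by rw [hC]; simp
  have hq : q ∈ G.par ⟨s, hs⟩ := by rw [hC]; simp
  unfold adjS
  rcases lt_or_gt_of_ne hpq with h | h
  · left
    obtain ⟨h1, h2⟩ := G.meet_of_two ⟨s, hs⟩ p q hp hq h
    exact ⟨h1, fun m hm hms => h2 m hm (by rw [Fin.lt_def]; exact hms)⟩
  · right
    obtain ⟨h1, h2⟩ := G.meet_of_two ⟨s, hs⟩ q p hq hp h
    exact ⟨h1, fun m hm hms => h2 m hm (by rw [Fin.lt_def]; exact hms)⟩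

lemma mem_and_mem_iff {p q : Fin n} (hpq : p ≠ q) :
    (p ∈ G.par ⟨s, hs⟩ ∧ q ∈ G.par ⟨s, hs⟩) ↔ G.par ⟨s, hs⟩ = {p, q} := by
  constructor
  · rintro ⟨hp, hq⟩
    symm
    apply Finset.eq_of_subset_of_card_le
    · intro x hx
      simp only [Finset.mem_insert, Finset.mem_singleton] at hx
      rcases hx with rfl | rfl
      · exact hp
      · exact hq
    · rw [Finset.card_pair hpq]
      exact G.card_le_two _
  · intro hC
    rw [hC]; simp

lemma matS_succ_lt {p q : Fin n} (hp : p.1 < s) (hq : q.1 < s) :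
    matS G (s + 1) p q = matS G s p q -
      (if p ∈ G.par ⟨s, hs⟩ ∧ q ∈ G.par ⟨s, hs⟩ then 1 else 0) := by
  unfold matS
  by_cases hpq : p = q
  · subst hpq
    rw [if_pos rfl, if_pos rfl, siS_succ G hs]
    simp only [and_self]
  · rw [if_neg hpq, if_neg hpq]
    by_cases hC : G.par ⟨s, hs⟩ = {p, q}
    · have h1 : adjS G s p q := adjS_of_eq G hs hpq hC
      have h2 : ¬ adjS G (s + 1) p q := by
        rw [adjS_succ G hs hp hq]
        exact fun h => h.2 hC
      rw [if_pos h1, if_neg h2, if_pos ((mem_and_mem_iff G hs hpq).mpr hC)]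
      ring
    · rw [if_neg (fun h => hC ((mem_and_mem_iff G hs hpq).mp h)), sub_zero]
      have : adjS G (s + 1) p q ↔ adjS G s p q := by
        rw [adjS_succ G hs hp hq]
        exact and_iff_left hC
      by_cases h1 : adjS G s p q
      · rw [if_pos h1, if_pos (this.mpr h1)]
      · rw [if_neg h1, if_neg (fun h => h1 (this.mp h))]


lemma adjS_succ_right {p : Fin n} (hp : p.1 < s) :
    adjS G (s + 1) p ⟨s, hs⟩ ↔ p ∈ G.par ⟨s, hs⟩ := by
  unfold adjS
  constructor
  · rintro (⟨h1, _⟩ | ⟨h1, _⟩)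
    · exact h1
    · have := G.par_lt p ⟨s, hs⟩ h1
      rw [Fin.lt_def] at this
      simp only at this
      omega
  · intro h
    left
    refine ⟨h, fun m h1 h2 => ?_⟩
    rw [Fin.lt_def] at h1
    simp only at h1
    omega

lemma adjS_succ_left {p : Fin n} (hp : p.1 < s) :
    adjS G (s + 1) ⟨s, hs⟩ p ↔ p ∈ G.par ⟨s, hs⟩ := by
  unfold adjS
  constructor
  · rintro (⟨h1, _⟩ | ⟨h1, _⟩)
    · have := G.par_lt p ⟨s, hs⟩ h1
      rw [Fin.lt_def] at this
      simp only at this
      omega
    · exact h1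
  · intro h
    right
    refine ⟨h, fun m h1 h2 => ?_⟩
    rw [Fin.lt_def] at h1
    simp only at h1
    omega

lemma matS_succ_right {p : Fin n} (hp : p.1 < s) :
    matS G (s + 1) p ⟨s, hs⟩ = if p ∈ G.par ⟨s, hs⟩ then 1 else 0 := by
  unfold matS
  have hne : p ≠ ⟨s, hs⟩ := by
    intro h; rw [h] at hp; simp only at hp; omega
  rw [if_neg hne]
  by_cases h : p ∈ G.par ⟨s, hs⟩
  · rw [if_pos h, if_pos ((adjS_succ_right G hs hp).mpr h)]
  · rw [if_neg h, if_neg (fun h' => h ((adjS_succ_right G hs hp).mp h'))]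

lemma matS_succ_left {p : Fin n} (hp : p.1 < s) :
    matS G (s + 1) ⟨s, hs⟩ p = if p ∈ G.par ⟨s, hs⟩ then 1 else 0 := by
  unfold matS
  have hne : (⟨s, hs⟩ : Fin n) ≠ p := by
    intro h; rw [← h] at hp; simp only at hp; omega
  rw [if_neg hne]
  by_cases h : p ∈ G.par ⟨s, hs⟩
  · rw [if_pos h, if_pos ((adjS_succ_left G hs hp).mpr h)]
  · rw [if_neg h, if_neg (fun h' => h ((adjS_succ_left G hs hp).mp h'))]

lemma matS_succ_self : matS G (s + 1) ⟨s, hs⟩ ⟨s, hs⟩ = -1 := by
  unfold matS siS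
  rw [if_pos rfl]
  have : (Finset.univ.filter fun m : Fin n => m.1 < s + 1 ∧ (⟨s, hs⟩ : Fin n) ∈ G.par m) = ∅ := by
    ext m
    simp only [Finset.mem_filter, Finset.mem_univ, true_and, Finset.notMem_empty, iff_false, not_and]
    intro h1 h2
    have := G.par_lt m ⟨s, hs⟩ h2
    rw [Fin.lt_def] at this
    simp only at this
    omega
  rw [this]
  simp

end step


lemma filter_succ {s : ℕ} (hs : s < n) :
    (Finset.univ.filter fun m : Fin n => m.1 < s + 1) =
      insert ⟨s, hs⟩ (Finset.univ.filter fun m : Fin n => m.1 < s) := by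
  ext m
  simp only [Finset.mem_filter, Finset.mem_univ, true_and, Finset.mem_insert]
  constructor
  · intro h
    by_cases h3 : m.1 = s
    · left; exact Fin.ext h3
    · right; omega
  · rintro (rfl | h)
    · exact Nat.lt_succ_self _
    · omega

lemma sum_indicator {s : ℕ} (hs : s < n) (f : Fin n → ℚ) :
    ∑ m' ∈ Finset.univ.filter (fun m : Fin n => m.1 < s),
      f m' * (if m' ∈ G.par ⟨s, hs⟩ then 1 else 0) = ∑ p ∈ G.par ⟨s, hs⟩, f p := by
  simp only [mul_ite, mul_one, mul_zero]
  rw [← Finset.sum_filter, Finset.filter_filter]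
  congr 1
  ext m
  simp only [Finset.mem_filter, Finset.mem_univ, true_and]
  constructor
  · exact fun h => h.2
  · intro h
    refine ⟨?_, h⟩
    have := G.par_lt ⟨s, hs⟩ m h
    rw [Fin.lt_def] at this
    exact this

theorem claim (s : ℕ) (hsn : s ≤ n) (k m : Fin n) (hk : k.1 < s) (hm : m.1 < s) :
    ∑ m' ∈ Finset.univ.filter (fun m' : Fin n => m'.1 < s), (G.tt k m' : ℚ) * matS G s m' m =
      (if k = m then -1 else 0) + (if m ∈ G.par k then 1 else 0) := by
  induction s generalizing k m with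
  | zero => omega
  | succ s ih =>
    have hs : s < n := by omega
    rw [filter_succ hs, Finset.sum_insert (by simp)]
    have hsumC : ∀ k : Fin n, k.1 < s → (G.tt k ⟨s, hs⟩ : ℚ) = ∑ p ∈ G.par ⟨s, hs⟩, (G.tt k p : ℚ) := by
      intro k hk
      rw [tt_gt G (show k < ⟨s, hs⟩ by rw [Fin.lt_def]; exact hk)]
      push_cast
      rfl
    have hzero : ∀ m' : Fin n, m'.1 < s → (G.tt ⟨s, hs⟩ m' : ℚ) = 0 := by
      intro m' hm'
      rw [tt_lt G (show m' < ⟨s, hs⟩ by rw [Fin.lt_def]; exact hm')]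
      simp
    by_cases hm' : m.1 < s
    · -- m < s
      have e1 : ∑ m' ∈ Finset.univ.filter (fun m' : Fin n => m'.1 < s), (G.tt k m' : ℚ) * matS G (s + 1) m' m =
          ∑ m' ∈ Finset.univ.filter (fun m' : Fin n => m'.1 < s), (G.tt k m' : ℚ) * matS G s m' m -
            (if m ∈ G.par ⟨s, hs⟩ then 1 else 0) * ∑ p ∈ G.par ⟨s, hs⟩, (G.tt k p : ℚ) := by
        rw [← sum_indicator G hs (fun p => (G.tt k p : ℚ)), Finset.mul_sum, ← Finset.sum_sub_distrib]
        apply Finset.sum_congr rfl
        intro m' hm''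
        simp only [Finset.mem_filter, Finset.mem_univ, true_and] at hm''
        rw [matS_succ_lt G hs hm'' hm']
        by_cases h1 : m ∈ G.par ⟨s, hs⟩ <;> by_cases h2 : m' ∈ G.par ⟨s, hs⟩ <;> (simp [h1, h2]; try ring)
      rw [e1, matS_succ_left G hs hm']
      by_cases hk' : k.1 < s
      · rw [ih (by omega) k m hk' hm', hsumC k hk']
        ring
      · have hkc : k = ⟨s, hs⟩ := Fin.ext (show k.1 = s by omega)
        subst hkc
        have e2 : ∑ m' ∈ Finset.univ.filter (fun m' : Fin n => m'.1 < s), (G.tt ⟨s, hs⟩ m' : ℚ) * matS G s m' m = 0 := by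
          apply Finset.sum_eq_zero
          intro m' hm''
          simp only [Finset.mem_filter, Finset.mem_univ, true_and] at hm''
          rw [hzero m' hm'', zero_mul]
        have e3 : ∑ p ∈ G.par ⟨s, hs⟩, (G.tt ⟨s, hs⟩ p : ℚ) = 0 := by
          apply Finset.sum_eq_zero
          intro p hp
          have := G.par_lt ⟨s, hs⟩ p hp
          exact hzero p (by rw [Fin.lt_def] at this; exact this)
        have hne : (⟨s, hs⟩ : Fin n) ≠ m := by
          intro h; rw [← h] at hm'; simp only at hm'; omega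
        rw [e2, e3, tt_self, if_neg hne]
        simp
    · -- m = c
      have hmc : m = ⟨s, hs⟩ := Fin.ext (show m.1 = s by omega)
      subst hmc
      have e1 : ∑ m' ∈ Finset.univ.filter (fun m' : Fin n => m'.1 < s), (G.tt k m' : ℚ) * matS G (s + 1) m' ⟨s, hs⟩ =
          ∑ p ∈ G.par ⟨s, hs⟩, (G.tt k p : ℚ) := by
        rw [← sum_indicator G hs (fun p => (G.tt k p : ℚ))]
        apply Finset.sum_congr rfl
        intro m' hm''
        simp only [Finset.mem_filter, Finset.mem_univ, true_and] at hm''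
        rw [matS_succ_right G hs hm'']
      rw [e1, matS_succ_self G hs]
      by_cases hk' : k.1 < s
      · have hne : k ≠ ⟨s, hs⟩ := by
          intro h; rw [h] at hk'; simp only at hk'; omega
        have hnp : (⟨s, hs⟩ : Fin n) ∉ G.par k := by
          intro h
          have := G.par_lt k _ h
          rw [Fin.lt_def] at this
          simp only at this
          omega
        rw [hsumC k hk', if_neg hne, if_neg hnp]
        ring
      · have hkc : k = ⟨s, hs⟩ := Fin.ext (show k.1 = s by omega)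
        subst hkc
        have e3 : ∑ p ∈ G.par ⟨s, hs⟩, (G.tt ⟨s, hs⟩ p : ℚ) = 0 := by
          apply Finset.sum_eq_zero
          intro p hp
          have := G.par_lt ⟨s, hs⟩ p hp
          exact hzero p (by rw [Fin.lt_def] at this; exact this)
        have hnp : (⟨s, hs⟩ : Fin n) ∉ G.par ⟨s, hs⟩ := fun h => lt_irrefl _ (G.par_lt _ _ h)
        rw [e3, tt_self, if_pos rfl, if_neg hnp]
        simp


/-- total transform matrix -/
def T : Matrix (Fin n) (Fin n) ℚ := fun k m => (G.tt k m : ℚ)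

/-- parent matrix -/
def P : Matrix (Fin n) (Fin n) ℚ := fun k m => if m ∈ G.par k then 1 else 0

lemma T_mul_mat : T G * G.mat = -1 + P G := by
  ext k m
  have := claim G n le_rfl k m k.2 m.2
  simp only [Fin.is_lt, Finset.filter_true] at this
  rw [Matrix.mul_apply, Matrix.add_apply, Matrix.neg_apply, Matrix.one_apply]
  simp only [matS_n] at this
  rw [show (∑ j, T G k j * G.mat j m) = ∑ m', (G.tt k m' : ℚ) * G.mat m' m from rfl, this]
  unfold P
  by_cases h : k = m <;> simp [h]

lemma P_mul_Tt : P G * (T G).transpose = (T G).transpose - 1 := by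
  ext k l
  rw [Matrix.mul_apply, Matrix.sub_apply, Matrix.one_apply, Matrix.transpose_apply]
  have e1 : ∑ j, P G k j * (T G).transpose j l = ∑ p ∈ G.par k, (G.tt l p : ℚ) := by
    unfold P T
    simp only [ite_mul, one_mul, zero_mul]
    rw [← Finset.sum_filter]
    congr 1
    ext m
    simp
  rw [e1]
  unfold T
  rcases lt_trichotomy k l with h | h | h
  · rw [tt_lt G h, if_neg (ne_of_lt h)]
    have : ∑ p ∈ G.par k, (G.tt l p : ℚ) = 0 := by
      apply Finset.sum_eq_zero
      intro p hp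
      rw [tt_lt G (lt_trans (G.par_lt k p hp) h)]
      simp
    rw [this]; simp
  · subst h
    rw [tt_self, if_pos rfl]
    have : ∑ p ∈ G.par k, (G.tt k p : ℚ) = 0 := by
      apply Finset.sum_eq_zero
      intro p hp
      rw [tt_lt G (G.par_lt k p hp)]
      simp
    rw [this]; simp
  · rw [tt_gt G h, if_neg (ne_of_gt h)]
    push_cast
    simp

lemma T_mat_Tt : T G * G.mat * (T G).transpose = -1 := by
  rw [T_mul_mat, Matrix.add_mul, P_mul_Tt, neg_one_mul]
  abel

/-- the inverse of the intersection matrix -/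
def N : Matrix (Fin n) (Fin n) ℚ := -((T G).transpose * T G)

lemma N_apply (i j : Fin n) : N G i j = -(G.mult i j : ℚ) := by
  simp only [N, Matrix.neg_apply, Matrix.mul_apply, Matrix.transpose_apply, T, mult]
  push_cast
  rfl

lemma N_symm (i j : Fin n) : N G i j = N G j i := by
  rw [N_apply, N_apply]
  unfold mult
  congr 2
  apply Finset.sum_congr rfl
  intro k _
  ring

lemma mat_mul_N : G.mat * N G = 1 := by
  have h1 : T G * (-(G.mat * (T G).transpose)) = 1 := by
    rw [Matrix.mul_neg, ← Matrix.mul_assoc, T_mat_Tt, neg_neg]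
  have h2 := _root_.mul_eq_one_comm.mp h1
  unfold N
  rw [Matrix.mul_neg, ← Matrix.mul_assoc, ← Matrix.neg_mul]
  exact h2

lemma N_mul_mat : N G * G.mat = 1 := _root_.mul_eq_one_comm.mp (mat_mul_N G)

end H7Blow


namespace H7Blow

lemma schur_id {n : ℕ} (M N : Matrix (Fin n) (Fin n) ℚ) (hMN : M * N = 1) (I : Finset (Fin n))
    (hI : IsUnit (M.submatrix (fun x : I => x.1) (fun x : I => x.1)).det) (a i : Fin n) (hi : i ∉ I) :
    ∑ j ∈ Finset.univ.filter (fun j => j ∉ I),
      (M a j - ∑ b : I, ∑ c : I, M a b.1 *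
        (M.submatrix (fun x : I => x.1) (fun x : I => x.1))⁻¹ b c * M c.1 j) * N j i
      = if a = i then 1 else 0 := by
  classical
  set MI := M.submatrix (fun x : I => x.1) (fun x : I => x.1) with hMI
  set W := MI⁻¹ with hW
  have hWM : W * MI = 1 := Matrix.nonsing_inv_mul MI hI
  have hsplit : ∀ (f : Fin n → ℚ), ∑ j, f j =
      ∑ j ∈ Finset.univ.filter (fun j => j ∉ I), f j + ∑ j : I, f j.1 := by
    intro f
    rw [← Finset.sum_filter_not_add_sum_filter Finset.univ (fun j => j ∈ I) f]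
    congr 1
    rw [Finset.sum_coe_sort I f]
    congr 1
    ext j
    simp
  have hrow : ∀ c : Fin n, ∑ j, M c j * N j i = if c = i then 1 else 0 := by
    intro c
    have := congrFun (congrFun hMN c) i
    rw [Matrix.mul_apply, Matrix.one_apply] at this
    exact this
  have hr : ∀ c : I, ∑ j ∈ Finset.univ.filter (fun j => j ∉ I), M c.1 j * N j i =
      -∑ j : I, MI c j * N j.1 i := by
    intro c
    have h1 := hrow c.1
    rw [hsplit, if_neg (fun h : c.1 = i => hi (h ▸ c.2))] at h1
    have : ∑ j : I, MI c j * N j.1 i = ∑ j : I, M c.1 j.1 * N j.1 i := rfl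
    rw [this]
    linarith
  have hWr : ∀ b : I, ∑ c : I, W b c * (∑ j ∈ Finset.univ.filter (fun j => j ∉ I), M c.1 j * N j i) =
      -N b.1 i := by
    intro b
    simp_rw [hr, mul_neg, Finset.sum_neg_distrib, Finset.mul_sum]
    rw [Finset.sum_comm]
    have : ∀ j : I, ∑ c : I, W b c * (MI c j * N j.1 i) = (W * MI) b j * N j.1 i := by
      intro j
      rw [Matrix.mul_apply, Finset.sum_mul]
      apply Finset.sum_congr rfl
      intro c _
      ring
    simp_rw [this, hWM, Matrix.one_apply]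
    simp
  have hsecond : ∑ j ∈ Finset.univ.filter (fun j => j ∉ I),
      (∑ b : I, ∑ c : I, M a b.1 * W b c * M c.1 j) * N j i = -∑ b : I, M a b.1 * N b.1 i := by
    have : ∀ j, (∑ b : I, ∑ c : I, M a b.1 * W b c * M c.1 j) * N j i =
        ∑ b : I, ∑ c : I, M a b.1 * (W b c * (M c.1 j * N j i)) := by
      intro j
      rw [Finset.sum_mul]
      apply Finset.sum_congr rfl
      intro b _
      rw [Finset.sum_mul]
      apply Finset.sum_congr rfl
      intro c _
      ring
    simp_rw [this]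
    rw [Finset.sum_comm]
    rw [← Finset.sum_neg_distrib]
    apply Finset.sum_congr rfl
    intro b _
    rw [Finset.sum_comm]
    simp_rw [← Finset.mul_sum]
    rw [hWr b]
    ring
  simp_rw [sub_mul]
  rw [Finset.sum_sub_distrib, hsecond, sub_neg_eq_add, ← hsplit (fun j => M a j * N j i), hrow]

end H7Blow

namespace H7Blow
open Matrix in
lemma isUnit_sub {n : ℕ} (M N T : Matrix (Fin n) (Fin n) ℚ) (hNM : N * M = 1)
    (hN : N = -(T.transpose * T)) (I : Finset (Fin n)) :
    IsUnit (M.submatrix (fun x : I => x.1) (fun x : I => x.1)).det := by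
  classical
  rw [← Matrix.isUnit_iff_isUnit_det, ← Matrix.mulVec_injective_iff_isUnit]
  have hlin : ∀ z : I → ℚ, (M.submatrix (fun x : I => x.1) (fun x : I => x.1)) *ᵥ z = 0 → z = 0 := by
    intro z hz
    let x : Fin n → ℚ := fun i => if h : i ∈ I then z ⟨i, h⟩ else 0
    have hx : ∀ j : I, x j.1 = z j := fun j => by simp [x, j.2]
    have hw : ∀ i ∈ I, (M *ᵥ x) i = 0 := by
      intro i hiI
      have := congrFun hz ⟨i, hiI⟩
      rw [Matrix.mulVec, dotProduct] at this ⊢
      simp only [Matrix.submatrix_apply, Pi.zero_apply] at this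
      rw [← this]
      rw [← Finset.sum_filter_not_add_sum_filter Finset.univ (fun j => j ∈ I)]
      have h0 : ∑ j ∈ Finset.univ.filter (fun j => ¬ j ∈ I), M i j * x j = 0 := by
        apply Finset.sum_eq_zero
        intro j hj
        simp only [Finset.mem_filter, Finset.mem_univ, true_and] at hj
        simp [x, hj]
      rw [h0, zero_add]
      have : Finset.univ.filter (fun j => j ∈ I) = I := by ext; simp
      rw [this, ← Finset.sum_coe_sort I]
      apply Finset.sum_congr rfl
      intro j _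
      rw [hx]
    have hdot : (M *ᵥ x) ⬝ᵥ x = 0 := by
      rw [dotProduct]
      apply Finset.sum_eq_zero
      intro i _
      by_cases hiI : i ∈ I
      · rw [hw i hiI, zero_mul]
      · simp [x, hiI]
    have hxN : x = N *ᵥ (M *ᵥ x) := by
      rw [Matrix.mulVec_mulVec, hNM, Matrix.one_mulVec]
    have hTw : (T *ᵥ (M *ᵥ x)) ⬝ᵥ (T *ᵥ (M *ᵥ x)) = 0 := by
      have h1 : (M *ᵥ x) ⬝ᵥ (N *ᵥ (M *ᵥ x)) = 0 := by rw [← hxN]; exact hdot
      rw [hN, Matrix.neg_mulVec, dotProduct_neg, neg_eq_zero, ← Matrix.mulVec_mulVec,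
        Matrix.dotProduct_mulVec, Matrix.vecMul_transpose] at h1
      exact h1
    have hTw0 : T *ᵥ (M *ᵥ x) = 0 := dotProduct_self_eq_zero.mp hTw
    have hx0 : x = 0 := by
      rw [hxN, hN, Matrix.neg_mulVec, ← Matrix.mulVec_mulVec, hTw0, Matrix.mulVec_zero, neg_zero]
    funext j
    rw [← hx j, hx0]
    rfl
  intro z1 z2 h
  have := hlin (z1 - z2) (by rw [Matrix.mulVec_sub, h, sub_self])
  exact sub_eq_zero.mp this

end H7Blow

namespace H7Blow
open ArLef ArLef.BlowupGraph

theorem lNum_eq {n : ℕ} (G : BlowupGraph n) (I : Finset (Fin n)) (σ : Equiv.Perm (Fin n)) :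
    G.lNum I σ = ArLef.BlowupGraph.rNum I σ := by
  classical
  unfold lNum rNum
  have hI := isUnit_sub G.mat (N G) (T G) (N_mul_mat G) rfl I
  have hinner : ∀ i ∈ Finset.univ.filter (fun i => i ∉ I),
      ∑ j ∈ Finset.univ.filter (fun j => j ∉ I), (G.mult i j : ℚ) * G.pairing I (σ i) j =
        -(if σ i = i then 1 else 0) := by
    intro i hi
    simp only [Finset.mem_filter, Finset.mem_univ, true_and] at hi
    have h := schur_id G.mat (N G) (mat_mul_N G) I hI (σ i) i hi
    rw [← h, ← Finset.sum_neg_distrib]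
    apply Finset.sum_congr rfl
    intro j _
    have e : (G.mult i j : ℚ) = -N G j i := by rw [N_symm, N_apply, neg_neg]
    rw [e]
    unfold pairing
    ring
  rw [Finset.sum_congr rfl hinner, Finset.sum_neg_distrib, Finset.sum_boole, Finset.filter_filter]
end H7Blow
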