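import Mathlib

universe u

namespace Groth.Agent.Lib.helper7

open Polynomial in
theorem H7_mat_pair {K : Type u} [Field K] (n : ℕ) (F G : Matrix (Fin n) (Fin n) K) (c : K) (hc : c ≠ 0)
    (h : F.transpose * G = c • (1 : Matrix (Fin n) (Fin n) K)) :
    F.det • G.charpolyRev = ((-1) ^ n * c ^ n) • (c⁻¹ • F).charpoly := by
  have h1 : (F.map C).transpose * (G.map (C : K →+* K[X])) = (C c) • (1 : Matrix (Fin n) (Fin n) K[X]) := by
    have : (F.map C).transpose * (G.map (C : K →+* K[X])) = (F.transpose * G).map (C : K →+* K[X]) := by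
      rw [Matrix.map_mul, Matrix.transpose_map]
    rw [this, h]
    ext i j
    simp [Matrix.one_apply, Matrix.smul_apply]
    split_ifs <;> simp
  have h2 : (F.map (C : K →+* K[X])).transpose * (1 - (X : K[X]) • G.map (C : K →+* K[X]))
      = ((C (-c) : K[X]) • Matrix.charmatrix (c⁻¹ • F)).transpose := by
    rw [Matrix.mul_sub, Matrix.mul_one, Matrix.mul_smul, h1]
    refine Matrix.ext (fun i j => ?_)
    simp only [Matrix.sub_apply, Matrix.transpose_apply, Matrix.map_apply, Matrix.smul_apply,
      Matrix.one_apply, Matrix.charmatrix_apply, Matrix.diagonal_apply, smul_eq_mul]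
    by_cases hij : i = j
    · subst hij
      simp only [if_true, map_neg, map_mul]
      have : (C c : K[X]) * C c⁻¹ = 1 := by rw [← C_mul, mul_inv_cancel₀ hc, C_1]
      linear_combination (-(C (F i i))) * this
    · have hji : ¬ j = i := fun h => hij h.symm
      simp only [if_neg hij, if_neg hji, map_neg, map_mul]
      have : (C c : K[X]) * C c⁻¹ = 1 := by rw [← C_mul, mul_inv_cancel₀ hc, C_1]
      linear_combination (-(C (F j i))) * this
  have h3 := congrArg Matrix.det h2
  rw [Matrix.det_mul, Matrix.det_transpose, Matrix.det_transpose, Matrix.det_smul] at h3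
  rw [Polynomial.smul_eq_C_mul, Polynomial.smul_eq_C_mul, Matrix.charpolyRev, Matrix.charpoly]
  have h4 : (F.map (C : K →+* K[X])).det = C F.det := by
    rw [← RingHom.mapMatrix_apply, ← RingHom.map_det]
  rw [h4] at h3
  rw [h3]
  simp only [Fintype.card_fin, map_neg, map_mul, map_pow, map_one]
  congr 1
  rw [neg_pow]

theorem H7_S13059 (K : Type u) [Field K] (V W : Type u)
    [AddCommGroup V] [Module K V] [FiniteDimensional K V] [AddCommGroup W] [Module K W]
    [FiniteDimensional K W] (B : V →ₗ[K] W →ₗ[K] K) [B.IsPerfPair] (f : V →ₗ[K] V) (g : W →ₗ[K] W)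
    (c : K) (hc : c ≠ 0) (hfg : ∀ (v : V) (w : W), B (f v) (g w) = c * B v w) :
    LinearMap.det f • (LinearMap.charpoly g).reverse =
      ((-1) ^ Module.finrank K W * c ^ Module.finrank K W) • (c⁻¹ • f).charpoly := by
  classical
  have hn : Module.finrank K V = Module.finrank K W := Module.finrank_of_isPerfPair B
  let b : Module.Basis (Fin (Module.finrank K V)) K V := Module.finBasis K V
  let b' : Module.Basis (Fin (Module.finrank K V)) K W := b.dualBasis.map B.flip.toPerfPair.symm
  have hbb' : ∀ i j, B (b j) (b' i) = if i = j then 1 else 0 := by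
    intro i j
    simp only [b', Module.Basis.map_apply]
    rw [LinearMap.apply_toPerfPair_flip]
    simp [Finsupp.single_apply, eq_comm]
  let F := LinearMap.toMatrix b b f
  let G := LinearMap.toMatrix b' b' g
  have hFG : F.transpose * G = c • (1 : Matrix _ _ K) := by
    refine Matrix.ext (fun j l => ?_)
    rw [Matrix.mul_apply]
    simp only [Matrix.transpose_apply]
    have h1 : f (b j) = ∑ i, F i j • b i := by
      have := b.sum_repr (f (b j))
      rw [← this]
      apply Finset.sum_congr rfl
      intro i _
      simp only [F, LinearMap.toMatrix_apply]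
    have h2 : g (b' l) = ∑ m, G m l • b' m := by
      have := b'.sum_repr (g (b' l))
      rw [← this]
      apply Finset.sum_congr rfl
      intro i _
      simp only [G, LinearMap.toMatrix_apply]
    have h3 := hfg (b j) (b' l)
    rw [h1, h2] at h3
    simp only [map_sum, LinearMap.sum_apply, map_smul, LinearMap.smul_apply, smul_eq_mul, hbb'] at h3
    simp only [mul_ite, mul_one, mul_zero, Finset.sum_ite_eq, Finset.mem_univ, if_true] at h3
    simp only [Matrix.smul_apply, Matrix.one_apply, smul_eq_mul]
    have h4 : (∑ x, F x j * G x l) = c * if l = j then 1 else 0 := by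
      rw [mul_ite, mul_one, mul_zero, ← h3]
      apply Finset.sum_congr rfl
      intro i _
      rw [mul_comm]
    rw [h4]
    by_cases hjl : j = l
    · subst hjl; simp
    · have : ¬ l = j := fun h => hjl h.symm
      simp [hjl, this]
  have key := H7_mat_pair (Module.finrank K V) F G c hc hFG
  have e1 : F.det = LinearMap.det f := LinearMap.det_toMatrix b f
  have e2 : G.charpolyRev = (LinearMap.charpoly g).reverse := by
    rw [← Matrix.reverse_charpoly, LinearMap.charpoly_toMatrix]
  have e3 : (c⁻¹ • F).charpoly = (c⁻¹ • f).charpoly := by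
    have : c⁻¹ • F = LinearMap.toMatrix b b (c⁻¹ • f) := by
      simp only [F, map_smul]
    rw [this, LinearMap.charpoly_toMatrix]
  rw [e1, e2, e3, hn] at key
  exact key

end Groth.Agent.Lib.helper7
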