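import Mathlib

universe u
open Polynomial

namespace Groth.Agent.Lib.helper7

theorem H7_S15835 (p : ℕ) [Fact p.Prime] (R : Type u) [CommRing R]
    [CharP R p] (n : ℕ) (hn : 0 < n) (M : Matrix (Fin n) (Fin n) R) (hM : M.charpoly = Polynomial.X ^ n)
    (a : R) :
    (M + Matrix.scalar (Fin n) a).charpoly = Polynomial.X ^ n ↔ a ^ (p ^ padicValNat p n) = 0 := by
  have hp : p.Prime := Fact.out
  set v := padicValNat p n with hv
  obtain ⟨m, hm⟩ : p ^ v ∣ n := pow_padicValNat_dvd
  have hm0 : 0 < m := by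
    rcases Nat.eq_zero_or_pos m with h | h
    · rw [h, mul_zero] at hm; omega
    · exact h
  have hpm : ¬ p ∣ m := by
    intro h
    have : p ^ (v + 1) ∣ n := by
      rw [pow_succ, hm]; exact Nat.mul_dvd_mul_left _ h
    exact pow_succ_padicValNat_not_dvd hn.ne' this
  have hq : 0 < p ^ v := pow_pos hp.pos v
  set b := a ^ p ^ v with hb
  have hchar : (M + Matrix.scalar (Fin n) a).charpoly = expand R (p ^ v) ((X - C b) ^ m) := by
    have h1 : M + Matrix.scalar (Fin n) a = M - Matrix.scalar (Fin n) (-a) := by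
      rw [map_neg, sub_neg_eq_add]
    rw [h1, Matrix.charpoly_sub_scalar, hM, X_pow_comp, C_neg, ← sub_eq_add_neg, hm, pow_mul,
      sub_pow_char_pow, map_pow, map_sub, expand_X, expand_C, hb, C_pow]
  have hmunit : IsUnit (m : R) := by
    have hcop : Nat.Coprime m p := (Nat.Coprime.symm ((Nat.Prime.coprime_iff_not_dvd hp).2 hpm))
    have h1 : IsUnit ((m : ZMod p)) := (ZMod.isUnit_iff_coprime m p).2 hcop
    have := h1.map (ZMod.castHom (dvd_refl p) R)
    simpa using this
  rw [hchar]
  constructor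
  · intro h
    obtain ⟨m', rfl⟩ : ∃ m', m = m' + 1 := ⟨m - 1, by omega⟩
    have h2 : (expand R (p ^ v) ((X - C b) ^ (m' + 1))).coeff (m' * p ^ v) =
        (X ^ n : R[X]).coeff (m' * p ^ v) := by rw [h]
    rw [coeff_expand_mul hq, sub_eq_add_neg, ← C_neg, coeff_X_add_C_pow, coeff_X_pow] at h2
    have hne : m' * p ^ v ≠ n := by
      rw [hm, mul_comm (p ^ v) (m' + 1)]
      intro h3
      have := Nat.eq_of_mul_eq_mul_right hq h3
      omega
    rw [if_neg hne, Nat.add_sub_cancel_left, pow_one, Nat.choose_succ_self_right] at h2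
    have h6 : b * ((m' + 1 : ℕ) : R) = 0 := by
      rw [neg_mul, neg_eq_zero] at h2
      exact h2
    exact (hmunit.mul_left_eq_zero).1 h6
  · intro h
    rw [h, C_0, sub_zero, map_pow, expand_X, ← pow_mul, ← hm]

end Groth.Agent.Lib.helper7
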