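import Mathlib

universe u

namespace Groth.Agent.Lib.helper7

theorem H7_sum_pow_all (K : Type u) [Field K] [Fintype K] (e : ℕ) :
    ∑ x : K, x ^ e = if 0 < e ∧ (Fintype.card K - 1) ∣ e then -1 else 0 := by
  classical
  by_cases he : e = 0
  · subst he
    simp
  · have he' : 0 < e := Nat.pos_of_ne_zero he
    let φ : Kˣ ↪ K := ⟨fun x ↦ x, Units.val_injective⟩
    have hmap : Finset.univ.map φ = Finset.univ \ {0} := by
      ext x
      simpa only [Finset.mem_map, Finset.mem_univ, Function.Embedding.coeFn_mk, true_and,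
        Finset.mem_sdiff, Finset.mem_singleton, φ] using! isUnit_iff_ne_zero
    have h1 : ∑ x : K, x ^ e = ∑ x ∈ Finset.univ \ {(0 : K)}, x ^ e := by
      rw [← Finset.sum_sdiff ({0} : Finset K).subset_univ, Finset.sum_singleton, zero_pow he,
        add_zero]
    have h2 : ∑ x ∈ Finset.univ \ {(0 : K)}, x ^ e = ∑ x : Kˣ, (x ^ e : K) := by
      simp [φ, ← hmap, Finset.univ.sum_map φ]
    rw [h1, h2, FiniteField.sum_pow_units K e]
    simp [he']

theorem H7_sum_eval_monomials (K : Type u) [Field K] [Fintype K] {σ : Type} [Fintype σ] [DecidableEq σ]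
    (F : MvPolynomial σ K) :
    ∑ a : σ → K, MvPolynomial.eval a F =
      ∑ d ∈ F.support, F.coeff d * ∏ i, (∑ x : K, x ^ d i) := by
  have h1 : ∀ a : σ → K, MvPolynomial.eval a F = ∑ d ∈ F.support, F.coeff d * ∏ i, a i ^ d i :=
    fun a => MvPolynomial.eval_eq' a F
  rw [Finset.sum_congr rfl (fun a _ => h1 a), Finset.sum_comm]
  apply Finset.sum_congr rfl
  intro d _
  rw [← Finset.mul_sum]
  congr 1
  rw [Finset.prod_univ_sum, Fintype.piFinset_univ]

theorem H7_S13065 {k : Type u} [Field k] [Finite k] (p : ℕ)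
    [CharP k p] (n : ℕ) (f : MvPolynomial (Fin (n + 1)) k)
    (hf : f.IsHomogeneous (n + 1)) :
    p ∣ Nat.card {a : Fin (n + 1) → k // MvPolynomial.eval a f = 0} ↔
      MvPolynomial.coeff (Finsupp.equivFunOnFinite.symm fun _ : Fin (n + 1) => Nat.card k - 1)
        (f ^ (Nat.card k - 1)) = 0 := by
  classical
  have : Fintype k := Fintype.ofFinite k
  rw [Nat.card_eq_fintype_card (α := k)]
  set q := Fintype.card k with hq
  have hq1 : 1 < q := Fintype.one_lt_card
  set F := f ^ (q - 1) with hF
  set m0 : Fin (n + 1) →₀ ℕ := Finsupp.equivFunOnFinite.symm fun _ : Fin (n + 1) => q - 1 with hm0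
  have hFhom : F.IsHomogeneous ((n + 1) * (q - 1)) := hf.pow (q - 1)
  -- sum of evaluations of F
  have hsumF : ∑ a : Fin (n + 1) → k, MvPolynomial.eval a F = (-1) ^ (n + 1) * F.coeff m0 := by
    rw [H7_sum_eval_monomials]
    have hterm : ∀ d ∈ F.support, d ≠ m0 → F.coeff d * ∏ i, (∑ x : k, x ^ d i) = 0 := by
      intro d hd hne
      rw [MvPolynomial.mem_support_iff] at hd
      have hdeg : d.degree = (n + 1) * (q - 1) := by
        by_contra h
        exact hd (hFhom.coeff_eq_zero h)
      rw [Finsupp.degree_eq_sum] at hdeg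
      by_contra hnz
      have hprod : ∏ i, (∑ x : k, x ^ d i) ≠ 0 := right_ne_zero_of_mul hnz
      rw [Finset.prod_ne_zero_iff] at hprod
      have hdi : ∀ i, q - 1 ≤ d i := by
        intro i
        have := hprod i (Finset.mem_univ i)
        rw [H7_sum_pow_all] at this
        split_ifs at this with hc
        · exact Nat.le_of_dvd hc.1 hc.2
        · exact absurd rfl this
      have hall : ∀ i, d i = q - 1 := by
        by_contra hex
        push Not at hex
        obtain ⟨j, hj⟩ := hex
        have hlt : ∑ i : Fin (n + 1), (q - 1) < ∑ i, d i := by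
          apply Finset.sum_lt_sum (fun i _ => hdi i)
          exact ⟨j, Finset.mem_univ j, lt_of_le_of_ne (hdi j) (Ne.symm hj)⟩
        rw [Finset.sum_const, Finset.card_univ, Fintype.card_fin, smul_eq_mul] at hlt
        omega
      apply hne
      ext i
      rw [hm0, hall i]
      rfl
    have hm0val : ∀ i, m0 i = q - 1 := fun i => rfl
    by_cases hmem : m0 ∈ F.support
    · rw [Finset.sum_eq_single_of_mem m0 hmem (fun d hd hne => hterm d hd hne)]
      have : ∏ i : Fin (n + 1), (∑ x : k, x ^ m0 i) = (-1) ^ (n + 1) := by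
        have h3 : ∀ i : Fin (n + 1), (∑ x : k, x ^ m0 i) = -1 := by
          intro i
          rw [hm0val, H7_sum_pow_all, if_pos ⟨by omega, dvd_rfl⟩]
        rw [Finset.prod_congr rfl (fun i _ => h3 i), Finset.prod_const, Finset.card_univ,
          Fintype.card_fin]
      rw [this, mul_comm]
    · rw [MvPolynomial.notMem_support_iff.1 hmem, mul_zero]
      apply Finset.sum_eq_zero
      intro d hd
      apply hterm d hd
      rintro rfl
      exact hmem hd
  -- count
  have hcount : ((Nat.card {a : Fin (n + 1) → k // MvPolynomial.eval a f = 0} : ℕ) : k) =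
      -((-1) ^ (n + 1) * F.coeff m0) := by
    rw [Nat.card_eq_fintype_card, Fintype.card_subtype, ← hsumF]
    have h4 : ∀ a : Fin (n + 1) → k, (if MvPolynomial.eval a f = 0 then (1 : k) else 0) =
        1 - MvPolynomial.eval a F := by
      intro a
      rw [hF, map_pow]
      split_ifs with h
      · rw [h, zero_pow (by omega), sub_zero]
      · rw [FiniteField.pow_card_sub_one_eq_one _ h, sub_self]
    rw [Finset.card_filter, Nat.cast_sum]
    simp only [Nat.cast_ite, Nat.cast_one, Nat.cast_zero]
    rw [Finset.sum_congr rfl (fun a _ => h4 a), Finset.sum_sub_distrib, Finset.sum_const,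
      Finset.card_univ, Fintype.card_fun, Fintype.card_fin, nsmul_eq_mul, mul_one, Nat.cast_pow,
      FiniteField.cast_card_eq_zero, zero_pow (by omega), zero_sub]
  rw [← CharP.cast_eq_zero_iff k p, hcount, neg_eq_zero, mul_eq_zero]
  constructor
  · intro h
    rcases h with h | h
    · exact absurd h (pow_ne_zero _ (neg_ne_zero.2 one_ne_zero))
    · exact h
  · intro h
    exact Or.inr h

end Groth.Agent.Lib.helper7
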