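import Mathlib

universe u

namespace Groth.Agent.Lib.helper7

/-- s_e = 1 + p + ... + p^(e-1) -/
def H7_gs (p : ℕ) : ℕ → ℕ
  | 0 => 0
  | (e+1) => 1 + p * H7_gs p e

theorem H7_gs_mul (p : ℕ) (hp : 1 ≤ p) (e : ℕ) : (p - 1) * H7_gs p e = p ^ e - 1 := by
  induction e with
  | zero => simp [H7_gs]
  | succ e ih =>
    rw [H7_gs, mul_add, mul_one, mul_left_comm, ih]
    have h1 : 1 ≤ p ^ e := Nat.one_le_pow _ _ hp
    rw [Nat.mul_sub, mul_one, pow_succ, mul_comm (p ^ e) p]
    have h2 : p ≤ p * p ^ e := Nat.le_mul_of_pos_right p h1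
    omega

theorem H7_coeff_pow_char {k : Type u} [Field k] (p : ℕ) [Fact p.Prime] [CharP k p] {n : ℕ}
    (G : MvPolynomial (Fin (n + 1)) k) (hG : G.IsHomogeneous ((n + 1) * (p - 1))) (e : ℕ) :
    MvPolynomial.coeff (Finsupp.equivFunOnFinite.symm fun _ : Fin (n + 1) => p ^ e - 1)
        (G ^ H7_gs p e) =
      (MvPolynomial.coeff (Finsupp.equivFunOnFinite.symm fun _ : Fin (n + 1) => p - 1) G) ^ H7_gs p e := by
  classical
  have hp : p.Prime := Fact.out
  induction e with
  | zero =>
    simp only [H7_gs, pow_zero, Nat.sub_self]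
    have : (Finsupp.equivFunOnFinite.symm fun _ : Fin (n + 1) => 0) = (0 : Fin (n + 1) →₀ ℕ) := by
      ext i; rfl
    rw [this, MvPolynomial.coeff_one, if_pos rfl]
  | succ e ih =>
    set H := G ^ H7_gs p e with hH
    set c := MvPolynomial.coeff (Finsupp.equivFunOnFinite.symm fun _ : Fin (n + 1) => p - 1) G with hc
    have hexp : G ^ H7_gs p (e + 1) = G * H ^ p := by
      rw [H7_gs, pow_add, pow_one, mul_comm p, pow_mul]
    have hcoeffHp : ∀ m' : Fin (n + 1) →₀ ℕ, MvPolynomial.coeff m' (H ^ p) =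
        (MvPolynomial.coeff m' (MvPolynomial.expand p H)) ^ p := by
      intro m'
      rw [← MvPolynomial.map_frobenius_expand p, MvPolynomial.coeff_map]
      rfl
    rw [hexp, MvPolynomial.coeff_mul]
    set M : Fin (n + 1) →₀ ℕ := Finsupp.equivFunOnFinite.symm fun _ : Fin (n + 1) => p ^ (e + 1) - 1 with hM
    set m0 : Fin (n + 1) →₀ ℕ := Finsupp.equivFunOnFinite.symm fun _ : Fin (n + 1) => p - 1 with hm0
    set m1 : Fin (n + 1) →₀ ℕ := Finsupp.equivFunOnFinite.symm fun _ : Fin (n + 1) => p ^ e - 1 with hm1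
    have hpe : 1 ≤ p ^ e := Nat.one_le_pow _ _ hp.pos
    have hpe1 : p ^ (e + 1) = p * p ^ e := by rw [pow_succ, mul_comm]
    have hsum : m0 + p • m1 = M := by
      ext i
      show (p - 1) + p * (p ^ e - 1) = p ^ (e + 1) - 1
      rw [hpe1, Nat.mul_sub, mul_one]
      have h2 : p ≤ p * p ^ e := Nat.le_mul_of_pos_right p hpe
      have := hp.pos
      omega
    have hmem : (m0, p • m1) ∈ Finset.HasAntidiagonal.antidiagonal M := by
      rw [Finset.HasAntidiagonal.mem_antidiagonal]; exact hsum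
    rw [Finset.sum_eq_single_of_mem (m0, p • m1) hmem]
    · show MvPolynomial.coeff m0 G * MvPolynomial.coeff (p • m1) (H ^ p) = c ^ H7_gs p (e + 1)
      rw [hcoeffHp, MvPolynomial.coeff_expand_smul p hp.ne_zero, ih, H7_gs, pow_add, pow_one, ← pow_mul,
        mul_comm (H7_gs p e) p]
    · rintro ⟨m, m'⟩ hmm hne
      rw [Finset.HasAntidiagonal.mem_antidiagonal] at hmm
      simp only at hmm
      by_contra hnz
      have h1 : MvPolynomial.coeff m G ≠ 0 := left_ne_zero_of_mul hnz
      have h2 : MvPolynomial.coeff m' (H ^ p) ≠ 0 := right_ne_zero_of_mul hnz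
      have hdvd : ∀ i, p ∣ m' i := by
        intro i
        by_contra hi
        apply h2
        rw [hcoeffHp, MvPolynomial.coeff_expand_of_not_dvd (p := p) (φ := H) hi, zero_pow hp.ne_zero]
      have hdeg : m.degree = (n + 1) * (p - 1) := by
        by_contra h
        exact h1 (hG.coeff_eq_zero h)
      rw [Finsupp.degree_eq_sum] at hdeg
      have hMi : ∀ i, m i + m' i = p ^ (e + 1) - 1 := by
        intro i
        have := congrArg (fun g => g i) hmm
        exact this
      have hmi : ∀ i, p - 1 ≤ m i := by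
        intro i
        obtain ⟨t, ht⟩ := hdvd i
        have h3 := hMi i
        rw [ht, hpe1] at h3
        -- m i + p t = p * p^e - 1
        by_contra hlt
        push Not at hlt
        have h4 : p * t + (m i + 1) = p * p ^ e := by
          have h2 : p ≤ p * p ^ e := Nat.le_mul_of_pos_right p hpe
          omega
        have h5 : p ∣ m i + 1 := by
          have : p ∣ p * t + (m i + 1) := by rw [h4]; exact Dvd.intro _ rfl
          exact (Nat.dvd_add_right (Dvd.intro _ rfl)).1 this
        have := Nat.le_of_dvd (by omega) h5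
        omega
      have hall : ∀ i, m i = p - 1 := by
        by_contra hex
        push Not at hex
        obtain ⟨j, hj⟩ := hex
        have hlt : ∑ i : Fin (n + 1), (p - 1) < ∑ i, m i := by
          apply Finset.sum_lt_sum (fun i _ => hmi i)
          exact ⟨j, Finset.mem_univ j, lt_of_le_of_ne (hmi j) (Ne.symm hj)⟩
        rw [Finset.sum_const, Finset.card_univ, Fintype.card_fin, smul_eq_mul] at hlt
        omega
      apply hne
      have hm : m = m0 := by
        ext i
        rw [hall i]; rfl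
      have hm' : m' = p • m1 := by
        have h6 : m + m' = m + p • m1 := by rw [hmm, hm, hsum]
        exact add_left_cancel h6
      rw [hm, hm']

theorem H7_gs_pos (p e : ℕ) (he : 1 ≤ e) : 1 ≤ H7_gs p e := by
  obtain ⟨e', rfl⟩ : ∃ e', e = e' + 1 := ⟨e - 1, by omega⟩
  rw [H7_gs]; omega

theorem H7_S13066 {k : Type u} [Field k] [Finite k]
    (p : ℕ) [CharP k p] (n : ℕ) (f : MvPolynomial (Fin (n + 1)) k)
    (hf : f.IsHomogeneous (n + 1)) :
    MvPolynomial.coeff (Finsupp.equivFunOnFinite.symm fun _ : Fin (n + 1) => Nat.card k - 1)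
        (f ^ (Nat.card k - 1)) ≠ 0 ↔
      MvPolynomial.coeff (Finsupp.equivFunOnFinite.symm fun _ : Fin (n + 1) => p - 1)
        (f ^ (p - 1)) ≠ 0 := by
  have : Fintype k := Fintype.ofFinite k
  obtain ⟨e, hp, hq⟩ := FiniteField.card k p
  have : Fact p.Prime := ⟨hp⟩
  rw [Nat.card_eq_fintype_card, hq]
  have hG : (f ^ (p - 1)).IsHomogeneous ((n + 1) * (p - 1)) := hf.pow (p - 1)
  have key := H7_coeff_pow_char p (f ^ (p - 1)) hG (e : ℕ)
  rw [← pow_mul, H7_gs_mul p hp.pos] at key
  rw [key]
  exact pow_ne_zero_iff (by have := H7_gs_pos p e e.pos; omega)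

end Groth.Agent.Lib.helper7
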