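import Mathlib
set_option autoImplicit false
universe u
open scoped TensorProduct

namespace Groth.Agent.Lib.helper7

/-- Every element of `A ⊗[R] K` becomes `a ⊗ 1` after multiplication by a nonzero element of `R`. -/
theorem H7_clear_den (R : Type u) [CommRing R] [IsDomain R] (K : Type u) [Field K] [Algebra R K]
    [IsFractionRing R K] (A : Type u) [AddCommGroup A] [Module R A] (z : A ⊗[R] K) :
    ∃ r : R, r ≠ 0 ∧ ∃ a : A, r • z = a ⊗ₜ[R] (1 : K) := by
  induction z using TensorProduct.induction_on with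
  | zero => exact ⟨1, one_ne_zero, 0, by simp⟩
  | tmul a k =>
    obtain ⟨⟨x, s⟩, hs⟩ := IsLocalization.surj (nonZeroDivisors R) k
    refine ⟨s, nonZeroDivisors.ne_zero s.2, x • a, ?_⟩
    have h1 : (s : R) • k = algebraMap R K x := by
      rw [Algebra.smul_def, mul_comm]; exact hs
    rw [TensorProduct.smul_tmul', TensorProduct.smul_tmul, h1, TensorProduct.smul_tmul, Algebra.smul_def, mul_one]
  | add y z hy hz =>
    obtain ⟨r1, hr1, a1, h1⟩ := hy
    obtain ⟨r2, hr2, a2, h2⟩ := hz
    refine ⟨r1 * r2, mul_ne_zero hr1 hr2, r2 • a1 + r1 • a2, ?_⟩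
    have e1 : (r1 * r2) • y = r2 • (a1 ⊗ₜ[R] (1 : K)) := by rw [mul_comm, mul_smul, h1]
    have e2 : (r1 * r2) • z = r1 • (a2 ⊗ₜ[R] (1 : K)) := by rw [mul_smul, h2]
    rw [smul_add, e1, e2, TensorProduct.add_tmul, TensorProduct.smul_tmul', TensorProduct.smul_tmul']


theorem H7_tensor_frac_torsionFree (R : Type u) [CommRing R] [IsDomain R] (K : Type u) [Field K] [Algebra R K]
    [IsFractionRing R K] (A : Type u) [AddCommGroup A] [Module R A] (ρ : R) (hρ : ρ ≠ 0)
    (z : A ⊗[R] K) (hz : ρ • z = 0) : z = 0 := by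
  have hρK : algebraMap R K ρ ≠ 0 := fun h0 => hρ (IsFractionRing.injective R K (by rw [h0, map_zero]))
  have key : ∀ z : A ⊗[R] K,
      (LinearMap.lTensor A (LinearMap.mulLeft R ((algebraMap R K ρ)⁻¹))) (ρ • z) = z := by
    intro z
    induction z using TensorProduct.induction_on with
    | zero => simp
    | tmul a k =>
      rw [TensorProduct.smul_tmul', TensorProduct.smul_tmul, LinearMap.lTensor_tmul, LinearMap.mulLeft_apply,
        Algebra.smul_def, inv_mul_cancel_left₀ hρK]
    | add y z hy hz => rw [smul_add, map_add, hy, hz]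
  rw [← key z, hz, map_zero]

theorem H7_S13161 (R : Type u) [CommRing R] [IsDomain R]
    [IsDiscreteValuationRing R] (K : Type u) [Field K] [Algebra R K] [IsFractionRing R K]
    (A B : Type u) [CommRing A] [CommRing B] [Algebra R A] [Algebra R B] [Algebra A B] [IsScalarTower R A B]
    [Module.Finite A B] [Module.Flat R B]
    (hA : ∀ a : A, a ≠ 0 → ∃ f : A →ₗ[R] R, f a ≠ 0)
    (hBK : ∀ b : B, b ≠ 0 → ∃ g : B →ₗ[A] A ⊗[R] K, g b ≠ 0) :
    ∀ b : B, b ≠ 0 → ∃ h : B →ₗ[R] R, h b ≠ 0 := by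
  classical
  intro b hb
  obtain ⟨g, hg⟩ := hBK b hb
  let ι : A →ₗ[A] A ⊗[R] K :=
    { toFun := fun a => a ⊗ₜ[R] (1 : K)
      map_add' := fun x y => TensorProduct.add_tmul x y 1
      map_smul' := fun c x => by rw [RingHom.id_apply, TensorProduct.smul_tmul', smul_eq_mul] }
  have hι0 : ∀ a : A, ι a = 0 → a = 0 := by
    intro a ha
    by_contra hne
    obtain ⟨f, hf⟩ := hA a hne
    have h1 : (TensorProduct.lid R K) ((f.rTensor K) (a ⊗ₜ[R] (1 : K))) = 0 := by
      have : a ⊗ₜ[R] (1 : K) = 0 := ha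
      rw [this, map_zero, map_zero]
    rw [LinearMap.rTensor_tmul, TensorProduct.lid_tmul, Algebra.smul_def, mul_one] at h1
    exact hf (IsFractionRing.injective R K (by rw [h1, map_zero]))
  have hιinj : Function.Injective ι := (injective_iff_map_eq_zero ι).2 hι0
  obtain ⟨S, hS⟩ := (Module.Finite.fg_top : (⊤ : Submodule A B).FG)
  choose r hr a har using fun s : B => H7_clear_den R K A (g s)
  set ρ : R := ∏ s ∈ S, r s with hρdef
  have hρ : ρ ≠ 0 := Finset.prod_ne_zero_iff.2 (fun s _ => hr s)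
  let G : B →ₗ[A] A ⊗[R] K := (algebraMap R A ρ) • g
  have hG : ∀ x : B, G x = ρ • g x := by
    intro x
    show (algebraMap R A ρ) • g x = ρ • g x
    exact algebraMap_smul A ρ (g x)
  have hmem : ∀ x : B, G x ∈ LinearMap.range ι := by
    have h1 : (⊤ : Submodule A B) ≤ (LinearMap.range ι).comap G := by
      rw [← hS, Submodule.span_le]
      intro s hs
      rw [SetLike.mem_coe, Submodule.mem_comap, hG]
      have e : ρ = (∏ t ∈ S.erase s, r t) * r s := (Finset.prod_erase_mul S r (Finset.mem_coe.1 hs)).symm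
      rw [e, mul_smul, har s, TensorProduct.smul_tmul']
      exact ⟨_, rfl⟩
    intro x
    exact h1 (Submodule.mem_top)
  let g' : B →ₗ[A] A := (LinearEquiv.ofInjective ι hιinj).symm.toLinearMap ∘ₗ (G.codRestrict (LinearMap.range ι) hmem)
  have hg' : ι (g' b) = G b := by
    have h2 : (LinearEquiv.ofInjective ι hιinj) (g' b) = G.codRestrict (LinearMap.range ι) hmem b := by
      simp only [g', LinearMap.coe_comp, Function.comp_apply, LinearEquiv.coe_coe, LinearEquiv.apply_symm_apply]
    exact congrArg Subtype.val h2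
  have hg'b : g' b ≠ 0 := by
    intro h0
    rw [h0, map_zero, hG] at hg'
    exact hg (H7_tensor_frac_torsionFree R K A ρ hρ (g b) hg'.symm)
  obtain ⟨f, hf⟩ := hA (g' b) hg'b
  exact ⟨f ∘ₗ (g'.restrictScalars R), hf⟩

end Groth.Agent.Lib.helper7

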