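import Mathlib

set_option autoImplicit false
universe u

open Module

namespace Groth.Agent.Lib.helper7

theorem H7_exists_not_mem_two {k V : Type*} [Field k] [AddCommGroup V] [Module k V]
    (P Q : Submodule k V) (hP : P ≠ ⊤) (hQ : Q ≠ ⊤) : ∃ w, w ∉ P ∧ w ∉ Q := by
  have hex : ∀ S : Submodule k V, S ≠ ⊤ → ∃ w, w ∉ S := by
    intro S hS
    by_contra h
    push Not at h
    exact hS (eq_top_iff.2 fun x _ => h x)
  by_cases hPQ : P ≤ Q
  · obtain ⟨w, hw⟩ := hex Q hQ
    exact ⟨w, fun h => hw (hPQ h), hw⟩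
  by_cases hQP : Q ≤ P
  · obtain ⟨w, hw⟩ := hex P hP
    exact ⟨w, hw, fun h => hw (hQP h)⟩
  obtain ⟨p, hpP, hpQ⟩ := SetLike.not_le_iff_exists.1 hPQ
  obtain ⟨q, hqQ, hqP⟩ := SetLike.not_le_iff_exists.1 hQP
  refine ⟨p + q, fun h => hqP ?_, fun h => hpQ ?_⟩
  · have := P.sub_mem h hpP
    simpa using this
  · have := Q.sub_mem h hqQ
    simpa using this

theorem H7_common_compl {k V : Type*} [Field k] [AddCommGroup V] [Module k V]
    [FiniteDimensional k V] :
    ∀ (n : ℕ) (P Q : Submodule k V), finrank k P = finrank k Q →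
      finrank k P + n = finrank k V → ∃ V₂, IsCompl P V₂ ∧ IsCompl Q V₂ := by
  intro n
  induction n with
  | zero =>
    intro P Q hPQ hn
    have hP : P = ⊤ := Submodule.eq_top_of_finrank_eq (by omega)
    have hQ : Q = ⊤ := Submodule.eq_top_of_finrank_eq (by omega)
    exact ⟨⊥, hP ▸ isCompl_top_bot, hQ ▸ isCompl_top_bot⟩
  | succ n ih =>
    intro P Q hPQ hn
    have hP : P ≠ ⊤ := by
      rintro rfl
      rw [finrank_top] at hn; omega
    have hQ : Q ≠ ⊤ := by
      rintro rfl
      rw [finrank_top] at hPQ; omega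
    obtain ⟨w, hwP, hwQ⟩ := H7_exists_not_mem_two P Q hP hQ
    have hw0 : w ≠ 0 := by
      rintro rfl
      exact hwP P.zero_mem
    have key : ∀ S : Submodule k V, w ∉ S → finrank k ↥(S ⊔ k ∙ w) = finrank k S + 1 := by
      intro S hS
      have h1 := Submodule.finrank_sup_add_finrank_inf_eq S (k ∙ w)
      have h2 : S ⊓ (k ∙ w) = ⊥ := by
        rw [← disjoint_iff]
        exact (Submodule.disjoint_span_singleton' hw0).2 hS
      rw [h2, finrank_bot, finrank_span_singleton hw0] at h1
      omega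
    obtain ⟨V₂', hP', hQ'⟩ := ih (P ⊔ k ∙ w) (Q ⊔ k ∙ w)
      (by rw [key P hwP, key Q hwQ, hPQ]) (by rw [key P hwP]; omega)
    have hcompl : ∀ S : Submodule k V, w ∉ S → IsCompl (S ⊔ k ∙ w) V₂' →
        IsCompl S (V₂' ⊔ k ∙ w) := by
      intro S hS hc
      have hsup : S ⊔ (V₂' ⊔ k ∙ w) = ⊤ := by
        rw [sup_comm V₂', ← sup_assoc]
        exact hc.sup_eq_top
      have h1 := Submodule.finrank_add_eq_of_isCompl hc
      have h2 := Submodule.finrank_add_le_finrank_add_finrank V₂' (k ∙ w)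
      have h3 := Submodule.finrank_sup_add_finrank_inf_eq S (V₂' ⊔ k ∙ w)
      rw [hsup, finrank_top] at h3
      rw [key S hS] at h1
      rw [finrank_span_singleton hw0] at h2
      have h4 : finrank k ↥(S ⊓ (V₂' ⊔ k ∙ w)) = 0 := by omega
      have hinf : S ⊓ (V₂' ⊔ k ∙ w) = ⊥ := Submodule.finrank_eq_zero.1 h4
      exact ⟨disjoint_iff.2 hinf, codisjoint_iff.2 hsup⟩
    exact ⟨V₂' ⊔ k ∙ w, hcompl P hwP hP', hcompl Q hwQ hQ'⟩

theorem H7_S14478 (k V : Type u) [Field k] [AddCommGroup V] [Module k V]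
    [FiniteDimensional k V] (T : Submodule k (V × Module.Dual k V))
    (hT : Module.finrank k T = Module.finrank k V) :
    ∃ (V₂ : Submodule k V) (h : IsCompl (T.comap (LinearMap.inl k V (Module.Dual k V))) V₂),
      ∀ A₁ : T.comap (LinearMap.inl k V (Module.Dual k V)) →ₗ[k]
          Module.Dual k (T.comap (LinearMap.inl k V (Module.Dual k V))),
        Function.Injective A₁ →
          LinearMap.graph ((Submodule.projectionOnto _ V₂ h).dualMap ∘ₗ A₁ ∘ₗ
              Submodule.projectionOnto _ V₂ h) ⊓ T = ⊥ := by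
  set V₁ := T.comap (LinearMap.inl k V (Module.Dual k V)) with hV₁
  let g : T →ₗ[k] Module.Dual k V := (LinearMap.snd k V (Module.Dual k V)).comp T.subtype
  let U : Submodule k (Module.Dual k V) := LinearMap.range g
  let e : V₁ →ₗ[k] T := LinearMap.codRestrict T
    ((LinearMap.inl k V (Module.Dual k V)).comp V₁.subtype) (fun v => v.2)
  have he_apply : ∀ v : V₁, ((e v : T) : V × Module.Dual k V) = ((v : V), 0) := fun v => rfl
  have he_inj : Function.Injective e := by
    intro a b hab
    have := congrArg (fun t : T => (t : V × Module.Dual k V).1) hab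
    simp only [he_apply] at this
    exact Subtype.ext this
  have he_range : LinearMap.range e = LinearMap.ker g := by
    ext t
    constructor
    · rintro ⟨v, rfl⟩
      rw [LinearMap.mem_ker]
      show ((e v : T) : V × Module.Dual k V).2 = 0
      rw [he_apply]
    · intro ht
      rw [LinearMap.mem_ker] at ht
      have h2 : (t : V × Module.Dual k V).2 = 0 := ht
      have hmem : (t : V × Module.Dual k V).1 ∈ V₁ := by
        show LinearMap.inl k V (Module.Dual k V) (t : V × Module.Dual k V).1 ∈ T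
        have : LinearMap.inl k V (Module.Dual k V) (t : V × Module.Dual k V).1 = t := by
          ext <;> simp [h2]
        rw [this]; exact t.2
      refine ⟨⟨_, hmem⟩, ?_⟩
      apply Subtype.ext
      rw [he_apply]
      exact Prod.ext rfl h2.symm
  have hdimU : finrank k U + finrank k V₁ = finrank k V := by
    have := LinearMap.finrank_range_add_finrank_ker (K := k) (V := T) (V₂ := Module.Dual k V) g
    rw [← he_range, LinearMap.finrank_range_of_inj he_inj, hT] at this
    exact this
  have hco : finrank k U + finrank k U.dualCoannihilator = finrank k V :=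
    Subspace.finrank_add_finrank_dualCoannihilator_eq U
  obtain ⟨V₂, h1, h2⟩ := H7_common_compl (finrank k V - finrank k V₁) V₁ U.dualCoannihilator
    (by omega) (by omega)
  refine ⟨V₂, h1, ?_⟩
  intro A₁ hA₁
  rw [eq_bot_iff]
  rintro ⟨v, φ⟩ ⟨hgraph, hT'⟩
  rw [Submodule.mem_bot]
  have hφ : φ = ((Submodule.projectionOnto V₁ V₂ h1).dualMap ∘ₗ A₁ ∘ₗ
      Submodule.projectionOnto V₁ V₂ h1) v := hgraph
  have hφU : φ ∈ U := ⟨⟨(v, φ), hT'⟩, rfl⟩
  have hφ0 : φ = 0 := by
    ext w
    have hw : w ∈ U.dualCoannihilator ⊔ V₂ := by rw [h2.sup_eq_top]; trivial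
    obtain ⟨a, ha, b, hb, rfl⟩ := Submodule.mem_sup.1 hw
    rw [map_add]
    have h3 : φ a = 0 := (Submodule.mem_dualCoannihilator a).1 ha φ hφU
    have h4 : φ b = 0 := by
      rw [hφ]
      simp [LinearMap.dualMap_apply, (Submodule.projectionOnto_apply_eq_zero_iff h1).2 hb]
    simp [h3, h4]
  have hpv : Submodule.projectionOnto V₁ V₂ h1 v = 0 := by
    apply hA₁
    rw [map_zero]
    ext x
    obtain ⟨y, rfl⟩ := Submodule.projectionOnto_surjective h1 x
    have := congrArg (fun ψ : Module.Dual k V => ψ y) (hφ.symm.trans hφ0)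
    simpa [LinearMap.dualMap_apply] using this
  have hv2 : v ∈ V₂ := (Submodule.projectionOnto_apply_eq_zero_iff h1).1 hpv
  have hv1 : v ∈ V₁ := by
    show LinearMap.inl k V (Module.Dual k V) v ∈ T
    rw [hφ0] at hT'
    exact hT'
  have hv0 : v = 0 := by
    have : v ∈ V₁ ⊓ V₂ := ⟨hv1, hv2⟩
    rw [h1.inf_eq_bot] at this
    exact (Submodule.mem_bot k).1 this
  rw [hv0, hφ0]
  rfl

end Groth.Agent.Lib.helper7
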