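import Mathlib

set_option autoImplicit false

namespace Groth.Agent.Lib.helper7

/-- Powers of the companion matrix of `X² - 2cX + 1` with eigenvalues `ξ ≠ η = ξ⁻¹`. -/
theorem H7_companion_pow_eq_one_iff {K L : Type*} [Field K] [Field L] [Algebra K L] (c : K)
    (ξ η : L) (hξη : ξ * η = 1) (hc : algebraMap K L (2 * c) = ξ + η) (hne : ξ - η ≠ 0) (k : ℕ) :
    (!![0, -1; 1, 2 * c] : Matrix (Fin 2) (Fin 2) K) ^ k = 1 ↔ ξ ^ k = 1 := by
  have hc' : algebraMap K L 2 * algebraMap K L c = ξ + η := by rw [← map_mul]; exact hc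
  have hinj : Function.Injective (algebraMap K L) := (algebraMap K L).injective
  let s : ℕ → K × K := fun k => Nat.rec (0, 1) (fun _ q => (q.2, 2 * c * q.2 - q.1)) k
  have hs0 : s 0 = (0, 1) := rfl
  have hss : ∀ k, s (k + 1) = ((s k).2, 2 * c * (s k).2 - (s k).1) := fun k => rfl
  have hclaim2 : ∀ k, algebraMap K L (s k).1 * (ξ - η) = ξ ^ k - η ^ k ∧
      algebraMap K L (s k).2 * (ξ - η) = ξ ^ (k + 1) - η ^ (k + 1) := by
    intro k
    induction k with
    | zero => rw [hs0]; simp
    | succ k ih =>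
      obtain ⟨ih1, ih2⟩ := ih
      rw [hss]
      refine ⟨ih2, ?_⟩
      simp only [map_sub, map_mul]
      rw [hc']
      linear_combination (ξ + η) * ih2 - ih1 + (ξ ^ k - η ^ k) * hξη
  set M : Matrix (Fin 2) (Fin 2) K := !![0, -1; 1, 2 * c] with hM
  have hM2 : M * M = (2 * c) • M - 1 := by
    rw [hM]
    ext i j
    fin_cases i <;> fin_cases j <;> simp [Matrix.mul_apply, Fin.sum_univ_two] <;> ring
  have hclaim1 : ∀ k, M ^ k =
      (s k).1 • M + ((s k).2 - 2 * c * (s k).1) • (1 : Matrix (Fin 2) (Fin 2) K) := by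
    intro k
    induction k with
    | zero => rw [hs0]; simp
    | succ k ih =>
      rw [pow_succ, ih, hss, add_mul, smul_mul_assoc, smul_mul_assoc, hM2, one_mul]
      module
  have hηk : ∀ k, ξ ^ k * η ^ k = 1 := fun k => by rw [← mul_pow, hξη, one_pow]
  constructor
  · intro hMk
    have e01 := congrFun (congrFun hMk 0) 1
    have e00 := congrFun (congrFun hMk 0) 0
    rw [hclaim1 k] at e01 e00
    simp [hM] at e01 e00
    -- e01 : (s k).1 = 0 ; e00 : (s k).2 - 2 c (s k).1 = 1
    have hs1 : (s k).1 = 0 := e01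
    have hs2 : (s k).2 = 1 := by rw [hs1] at e00; simpa using e00
    have h1 := (hclaim2 k).1
    have h2 := (hclaim2 k).2
    rw [hs1, map_zero, zero_mul] at h1
    rw [hs2, map_one, one_mul] at h2
    have hξk : ξ ^ k = η ^ k := sub_eq_zero.mp h1.symm
    -- (ξ^k - 1)(ξ - η) = 0
    have h3 : (ξ ^ k - 1) * (ξ - η) = 0 := by
      rw [pow_succ, pow_succ, ← hξk] at h2
      linear_combination (-1 : L) * h2
    have := (mul_eq_zero.mp h3).resolve_right hne
    exact sub_eq_zero.mp this
  · intro hξk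
    have hηk' : η ^ k = 1 := by
      have := hηk k
      rw [hξk, one_mul] at this
      exact this
    have h1 := (hclaim2 k).1
    have h2 := (hclaim2 k).2
    rw [hξk, hηk', sub_self] at h1
    rw [pow_succ, pow_succ, hξk, hηk', one_mul, one_mul] at h2
    have hs1 : (s k).1 = 0 := by
      apply hinj
      rw [map_zero]
      exact (mul_eq_zero.mp h1).resolve_right hne
    have hs2 : (s k).2 = 1 := by
      apply hinj
      rw [map_one]
      have h4 : (algebraMap K L (s k).2 - 1) * (ξ - η) = 0 := by linear_combination h2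
      exact sub_eq_zero.mp ((mul_eq_zero.mp h4).resolve_right hne)
    rw [hclaim1 k, hs1, hs2]
    simp

end Groth.Agent.Lib.helper7
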