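import Mathlib
open IsLocalRing TensorProduct

namespace H7Cot
universe u
variable (k : Type u) [Field k] (A B : Type u) [CommRing A] [CommRing B] [IsLocalRing A] [IsLocalRing B]
  [Algebra k A] [Algebra k B] [Algebra A B] [IsScalarTower k A B]

section
variable {k B}
variable (hB : Function.Bijective (algebraMap k (ResidueField B)))

/-- retraction B → k -/
noncomputable def r : B →+* k :=
  (RingEquiv.ofBijective (algebraMap k (ResidueField B)) hB).symm.toRingHom.comp (residue B)

lemma r_spec (b : B) : algebraMap k (ResidueField B) (r hB b) = residue B b := by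
  unfold r
  simp only [RingEquiv.toRingHom_eq_coe, RingHom.coe_comp, RingHom.coe_coe, Function.comp_apply]
  exact (RingEquiv.ofBijective (algebraMap k (ResidueField B)) hB).apply_symm_apply _

lemma sub_mem (b : B) : b - algebraMap k B (r hB b) ∈ maximalIdeal B := by
  rw [← IsLocalRing.residue_eq_zero_iff, map_sub, sub_eq_zero, ← r_spec hB b]
  exact (IsScalarTower.algebraMap_apply k B (ResidueField B) _).symm

lemma r_algebraMap (c : k) : r hB (algebraMap k B c) = c := by
  apply hB.1
  rw [r_spec]
  exact (IsScalarTower.algebraMap_apply k B (ResidueField B) _).symm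

lemma r_of_mem (x : B) (hx : x ∈ maximalIdeal B) : r hB x = 0 := by
  apply hB.1
  rw [r_spec, map_zero]
  exact (IsLocalRing.residue_eq_zero_iff x).mpr hx

end

/-- the map `m_B → κ ⊗ Ω[B/A]` -/
noncomputable def f0 : maximalIdeal B →ₗ[k] (ResidueField B ⊗[B] Ω[B⁄A]) where
  toFun x := (1 : ResidueField B) ⊗ₜ[B] KaehlerDifferential.D A B (x : B)
  map_add' x y := by simp [tmul_add]
  map_smul' c x := by
    simp only [RingHom.id_apply]
    have h1 : ((c • x : maximalIdeal B) : B) = algebraMap k B c * (x : B) := by
      rw [Submodule.coe_smul_of_tower, Algebra.smul_def]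
    have h2 : KaehlerDifferential.D A B (algebraMap k B c) = 0 := by
      rw [IsScalarTower.algebraMap_apply k A B]
      exact (KaehlerDifferential.D A B).map_algebraMap _
    rw [h1, Derivation.leibniz, h2, smul_zero, add_zero, tmul_smul, smul_tmul', smul_tmul']
    congr 1
    rw [Algebra.smul_def, mul_one, Algebra.smul_def, mul_one]
    exact (IsScalarTower.algebraMap_apply k B (ResidueField B) _).symm


lemma f0_mul (x y : maximalIdeal B) : f0 k A B (x * y) = 0 := by
  change (1 : ResidueField B) ⊗ₜ[B] KaehlerDifferential.D A B ((x : B) * (y : B)) = 0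
  have hx : (x : B) • (1 : ResidueField B) = 0 := by
    rw [Algebra.smul_def, mul_one]
    exact (IsLocalRing.residue_eq_zero_iff _).mpr x.2
  have hy : (y : B) • (1 : ResidueField B) = 0 := by
    rw [Algebra.smul_def, mul_one]
    exact (IsLocalRing.residue_eq_zero_iff _).mpr y.2
  rw [Derivation.leibniz, tmul_add, tmul_smul, tmul_smul, smul_tmul', smul_tmul', hx, hy,
    zero_tmul, zero_tmul, add_zero]

noncomputable def phi : CotangentSpace B →ₗ[k] (ResidueField B ⊗[B] Ω[B⁄A]) :=
  Ideal.Cotangent.lift (f0 k A B) (f0_mul k A B)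

lemma phi_toCotangent (x : maximalIdeal B) :
    phi k A B ((maximalIdeal B).toCotangent x) = (1 : ResidueField B) ⊗ₜ[B] KaehlerDifferential.D A B (x : B) :=
  rfl

lemma range_le_ker (hle : maximalIdeal A ≤ Ideal.comap (IsScalarTower.toAlgHom k A B) (maximalIdeal B)) :
    LinearMap.range (Ideal.mapCotangent (maximalIdeal A) (maximalIdeal B) (IsScalarTower.toAlgHom k A B) hle)
      ≤ LinearMap.ker (phi k A B) := by
  rintro _ ⟨t, rfl⟩
  obtain ⟨a, rfl⟩ := Ideal.toCotangent_surjective _ t
  rw [LinearMap.mem_ker, Ideal.mapCotangent_toCotangent, phi_toCotangent]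
  simp only [IsScalarTower.coe_toAlgHom']
  rw [Derivation.map_algebraMap, tmul_zero]


lemma D_sub (hB : Function.Bijective (algebraMap k (ResidueField B))) (b : B) :
    KaehlerDifferential.D A B (b - algebraMap k B (r hB b)) = KaehlerDifferential.D A B b := by
  rw [map_sub, IsScalarTower.algebraMap_apply k A B, Derivation.map_algebraMap, sub_zero]

lemma tmul_mem_range (hB : Function.Bijective (algebraMap k (ResidueField B))) (ω : Ω[B⁄A]) :
    ∀ c : ResidueField B, c ⊗ₜ[B] ω ∈ LinearMap.range (phi k A B) := by
  have hω : ω ∈ Submodule.span B (Set.range (KaehlerDifferential.D A B)) := by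
    rw [KaehlerDifferential.span_range_derivation]; trivial
  induction hω using Submodule.span_induction with
  | mem x hx =>
    obtain ⟨b, rfl⟩ := hx
    intro c
    obtain ⟨c0, rfl⟩ := hB.2 c
    refine ⟨c0 • (maximalIdeal B).toCotangent ⟨b - algebraMap k B (r hB b), sub_mem hB b⟩, ?_⟩
    rw [map_smul, phi_toCotangent, D_sub, smul_tmul', Algebra.smul_def, mul_one]
  | zero => intro c; rw [tmul_zero]; exact zero_mem _
  | add x y _ _ hx hy => intro c; rw [tmul_add]; exact add_mem (hx c) (hy c)
  | smul b x _ hx =>
    intro c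
    rw [tmul_smul, smul_tmul']
    exact hx _

lemma phi_surjective (hB : Function.Bijective (algebraMap k (ResidueField B))) :
    Function.Surjective (phi k A B) := by
  intro m
  induction m using TensorProduct.induction_on with
  | zero => exact ⟨0, map_zero _⟩
  | tmul c ω => exact tmul_mem_range k A B hB ω c
  | add x y hx hy =>
    obtain ⟨x', rfl⟩ := hx
    obtain ⟨y', rfl⟩ := hy
    exact ⟨x' + y', map_add _ _ _⟩


section g
variable {k B}
variable (hB : Function.Bijective (algebraMap k (ResidueField B)))

noncomputable def g (b : B) : CotangentSpace B :=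
  (maximalIdeal B).toCotangent ⟨b - algebraMap k B (r hB b), sub_mem hB b⟩

lemma g_add (b b' : B) : g hB (b + b') = g hB b + g hB b' := by
  unfold g
  rw [← map_add]
  congr 1
  apply Subtype.ext
  simp only [map_add, Submodule.coe_add]
  ring

lemma ksmul_toCotangent (c : k) (x : maximalIdeal B) :
    c • (maximalIdeal B).toCotangent x = (maximalIdeal B).toCotangent (algebraMap k B c • x) := by
  rw [map_smul, algebraMap_smul]

lemma g_mul (b b' : B) : g hB (b * b') = r hB b • g hB b' + r hB b' • g hB b := by
  unfold g
  rw [ksmul_toCotangent, ksmul_toCotangent, ← map_add, Ideal.toCotangent_eq]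
  have : ((⟨b * b' - algebraMap k B (r hB (b * b')), sub_mem hB (b * b')⟩ : maximalIdeal B) : B) -
      ((algebraMap k B (r hB b) • (⟨b' - algebraMap k B (r hB b'), sub_mem hB b'⟩ : maximalIdeal B) +
        algebraMap k B (r hB b') • (⟨b - algebraMap k B (r hB b), sub_mem hB b⟩ : maximalIdeal B) : maximalIdeal B) : B)
      = (b - algebraMap k B (r hB b)) * (b' - algebraMap k B (r hB b')) := by
    simp only [Submodule.coe_add, Submodule.coe_smul, smul_eq_mul, map_mul]
    ring
  rw [this, pow_two]
  exact Ideal.mul_mem_mul (sub_mem hB b) (sub_mem hB b')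

lemma g_of_mem (x : B) (hx : x ∈ maximalIdeal B) : g hB x = (maximalIdeal B).toCotangent ⟨x, hx⟩ := by
  unfold g
  congr 1
  apply Subtype.ext
  simp only [r_of_mem hB x hx, map_zero, sub_zero]

lemma g_ksmul (c : k) (b : B) : g hB (c • b) = c • g hB b := by
  rw [Algebra.smul_def, g_mul, r_algebraMap]
  have : g hB (algebraMap k B c) = 0 := by
    unfold g
    rw [Ideal.toCotangent_eq_zero]
    simp only [r_algebraMap, sub_self, zero_mem]
  rw [this, smul_zero, add_zero]

end g


section der
variable {k A B}
variable (hB : Function.Bijective (algebraMap k (ResidueField B)))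
variable (hle : maximalIdeal A ≤ Ideal.comap (IsScalarTower.toAlgHom k A B) (maximalIdeal B))

include hle in
lemma g_algebraMap (a : A) : g hB (algebraMap A B a) ∈
    LinearMap.range (Ideal.mapCotangent (maximalIdeal A) (maximalIdeal B) (IsScalarTower.toAlgHom k A B) hle) := by
  have himg : algebraMap A B (a - algebraMap k A (r hB (algebraMap A B a))) =
      algebraMap A B a - algebraMap k B (r hB (algebraMap A B a)) := by
    rw [map_sub, ← IsScalarTower.algebraMap_apply k A B]
  have hmem : a - algebraMap k A (r hB (algebraMap A B a)) ∈ maximalIdeal A := by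
    by_contra hcon
    have hu : IsUnit (a - algebraMap k A (r hB (algebraMap A B a))) :=
      IsLocalRing.notMem_maximalIdeal.mp hcon
    have hu2 := hu.map (algebraMap A B)
    rw [himg] at hu2
    exact (IsLocalRing.mem_maximalIdeal _).mp (sub_mem hB (algebraMap A B a)) hu2
  refine ⟨(maximalIdeal A).toCotangent ⟨_, hmem⟩, ?_⟩
  rw [Ideal.mapCotangent_toCotangent]
  unfold g
  congr 1
  apply Subtype.ext
  exact himg

variable (lam : CotangentSpace B →ₗ[k] k)
  (hlam : ∀ t ∈ LinearMap.range (Ideal.mapCotangent (maximalIdeal A) (maximalIdeal B) (IsScalarTower.toAlgHom k A B) hle), lam t = 0)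

noncomputable def D0 (b : B) : ResidueField B := algebraMap k (ResidueField B) (lam (g hB b))

lemma D0_mul (b b' : B) : D0 hB lam (b * b') = b • D0 hB lam b' + b' • D0 hB lam b := by
  unfold D0
  rw [g_mul, map_add, map_smul, map_smul, smul_eq_mul, smul_eq_mul, map_add, map_mul, map_mul,
    r_spec, r_spec, Algebra.smul_def, Algebra.smul_def]
  rfl

include hlam in
lemma D0_algebraMap (a : A) : D0 hB lam (algebraMap A B a) = 0 := by
  unfold D0
  rw [hlam _ (g_algebraMap hB hle a), map_zero]

noncomputable def D0lin : B →ₗ[A] ResidueField B where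
  toFun := D0 hB lam
  map_add' b b' := by unfold D0; rw [g_add, map_add, map_add]
  map_smul' a b := by
    simp only [RingHom.id_apply]
    rw [Algebra.smul_def, D0_mul, D0_algebraMap hB hle lam hlam, smul_zero, add_zero,
      algebraMap_smul]

noncomputable def Dlam : Derivation A B (ResidueField B) :=
  Derivation.mk' (D0lin hB hle lam hlam) (fun b b' => D0_mul hB lam b b')

lemma Dlam_apply (b : B) : Dlam hB hle lam hlam b = algebraMap k (ResidueField B) (lam (g hB b)) := rfl

noncomputable def Phi : (ResidueField B ⊗[B] Ω[B⁄A]) →ₗ[ResidueField B] ResidueField B :=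
  LinearMap.liftBaseChange (ResidueField B) (Dlam hB hle lam hlam).liftKaehlerDifferential

lemma Phi_phi (t : CotangentSpace B) :
    Phi hB hle lam hlam (phi k A B t) = algebraMap k (ResidueField B) (lam t) := by
  obtain ⟨x, rfl⟩ := Ideal.toCotangent_surjective _ t
  rw [phi_toCotangent]
  unfold Phi
  rw [LinearMap.liftBaseChange_tmul, one_smul, Derivation.liftKaehlerDifferential_comp_D, Dlam_apply,
    g_of_mem hB x.1 x.2]

end der


section final
variable {k A B}
variable (hB : Function.Bijective (algebraMap k (ResidueField B)))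
variable (hle : maximalIdeal A ≤ Ideal.comap (IsScalarTower.toAlgHom k A B) (maximalIdeal B))

include hB in
lemma ker_phi : LinearMap.ker (phi k A B) =
    LinearMap.range (Ideal.mapCotangent (maximalIdeal A) (maximalIdeal B) (IsScalarTower.toAlgHom k A B) hle) := by
  apply le_antisymm _ (range_le_ker k A B hle)
  intro t ht
  by_contra hcon
  obtain ⟨lam, hlt, hlN⟩ := Submodule.exists_dual_map_eq_bot_of_notMem hcon inferInstance
  have hlam : ∀ t ∈ LinearMap.range (Ideal.mapCotangent (maximalIdeal A) (maximalIdeal B) (IsScalarTower.toAlgHom k A B) hle), lam t = 0 := by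
    intro u hu
    have : lam u ∈ Submodule.map lam (LinearMap.range (Ideal.mapCotangent (maximalIdeal A) (maximalIdeal B) (IsScalarTower.toAlgHom k A B) hle)) :=
      Submodule.mem_map_of_mem hu
    rw [hlN] at this
    exact (Submodule.mem_bot k).mp this
  have h1 := Phi_phi hB hle lam hlam t
  rw [LinearMap.mem_ker.mp ht, map_zero] at h1
  apply hlt
  apply hB.1
  rw [← h1, map_zero]

lemma towerInst : IsScalarTower k (ResidueField B) (CotangentSpace B) := by
  refine ⟨fun c x t => ?_⟩
  obtain ⟨b, rfl⟩ := IsLocalRing.residue_surjective x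
  have e1 : c • (residue B b) = residue B (c • b) := by
    rw [Algebra.smul_def, Algebra.smul_def, map_mul]
    rfl
  have e2 : ∀ b' : B, residue B b' • t = b' • t := fun b' => by
    rw [← algebraMap_smul (ResidueField B) b' t]
    rfl
  rw [e1, e2, e2, smul_assoc]


include hB in
lemma finrank_eq_of_bijective (M : Type*) [AddCommGroup M] [Module k M] [Module (ResidueField B) M]
    [IsScalarTower k (ResidueField B) M] :
    Module.finrank (ResidueField B) M = Module.finrank k M := by
  have h1 : Module.finrank k (ResidueField B) = 1 := by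
    rw [← (LinearEquiv.ofBijective (Algebra.linearMap k (ResidueField B)) hB).finrank_eq]
    exact Module.finrank_self k
  rw [← Module.finrank_mul_finrank k (ResidueField B) M, h1, one_mul]

include hB in
theorem main [IsNoetherianRing B] :
    Module.finrank (ResidueField B) (ResidueField B ⊗[B] Ω[B⁄A]) +
      Module.finrank k ↥(LinearMap.range (Ideal.mapCotangent (maximalIdeal A) (maximalIdeal B) (IsScalarTower.toAlgHom k A B) hle))
      = Module.finrank k (CotangentSpace B) := by
  have := towerInst (k := k) (B := B)
  have : Module.Finite k (ResidueField B) :=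
    Module.Finite.of_surjective (Algebra.linearMap k (ResidueField B)) hB.2
  have : Module.Finite k (CotangentSpace B) := Module.Finite.trans (ResidueField B) _
  have h2 := LinearMap.finrank_range_add_finrank_ker (phi k A B)
  rw [LinearMap.range_eq_top.mpr (phi_surjective k A B hB), finrank_top, ker_phi hB hle] at h2
  rw [finrank_eq_of_bijective hB (ResidueField B ⊗[B] Ω[B⁄A]), h2]

end final

end H7Cot
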