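import Mathlib

universe u
open Pointwise

namespace Groth.Agent.Lib.helper7

theorem H7_S5781 (A : Type u) [CommRing A] [IsLocalRing A]
    (a : A) (ha : a ∈ IsLocalRing.maximalIdeal A) (ha2 : a ∉ IsLocalRing.maximalIdeal A ^ 2) :
    ∃ (f : (↥(IsLocalRing.maximalIdeal A) ⧸ Submodule.span A {(⟨a, ha⟩ : ↥(IsLocalRing.maximalIdeal A))}) →ₗ[A]
          QuotSMulTop a ↥(IsLocalRing.maximalIdeal A))
      (g : QuotSMulTop a ↥(IsLocalRing.maximalIdeal A) →ₗ[A]
          (↥(IsLocalRing.maximalIdeal A) ⧸ Submodule.span A {(⟨a, ha⟩ : ↥(IsLocalRing.maximalIdeal A))})),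
      g.comp f = LinearMap.id := by
  classical
  set m := IsLocalRing.maximalIdeal A with hm
  set a' : ↥m := ⟨a, ha⟩ with ha'
  -- the functional
  have hne : (IsLocalRing.maximalIdeal A).toCotangent a' ≠ 0 := by
    intro h
    rw [Ideal.toCotangent_eq_zero] at h
    exact ha2 h
  obtain ⟨φ, hφ⟩ := Module.Projective.exists_dual_eq_one (IsLocalRing.ResidueField A)
    (V := IsLocalRing.CotangentSpace A) hne
  let π : ↥m →ₗ[A] IsLocalRing.ResidueField A :=
    (φ.restrictScalars A).comp (IsLocalRing.maximalIdeal A).toCotangent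
  have hπa : π a' = 1 := hφ
  -- θ : κ → m / a m
  let q : ↥m →ₗ[A] QuotSMulTop a ↥m := Submodule.mkQ _
  have hkill : IsLocalRing.maximalIdeal A ≤ LinearMap.ker (LinearMap.toSpanSingleton A (QuotSMulTop a ↥m) (q a')) := by
    intro r hr
    rw [LinearMap.mem_ker, LinearMap.toSpanSingleton_apply]
    show r • q a' = 0
    rw [← map_smul]
    show Submodule.Quotient.mk (r • a') = 0
    rw [Submodule.Quotient.mk_eq_zero]
    have : r • a' = a • (⟨r, hr⟩ : ↥m) := by
      ext
      simp [ha', mul_comm]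
    rw [this]
    exact Submodule.smul_mem_pointwise_smul _ _ _ Submodule.mem_top
  let θ : IsLocalRing.ResidueField A →ₗ[A] QuotSMulTop a ↥m :=
    Submodule.liftQ (IsLocalRing.maximalIdeal A) (LinearMap.toSpanSingleton A (QuotSMulTop a ↥m) (q a')) hkill
  have hθ : ∀ r : A, θ (IsLocalRing.residue A r) = r • q a' := by
    intro r
    show Submodule.liftQ _ _ _ (Submodule.Quotient.mk r) = _
    rw [Submodule.liftQ_apply, LinearMap.toSpanSingleton_apply]
  let f' : ↥m →ₗ[A] QuotSMulTop a ↥m := q - θ.comp π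
  have hf'a : Submodule.span A {a'} ≤ LinearMap.ker f' := by
    rw [Submodule.span_le]
    intro x hx
    rw [Set.mem_singleton_iff] at hx
    rw [hx, SetLike.mem_coe, LinearMap.mem_ker]
    show q a' - θ (π a') = 0
    rw [hπa]
    have := hθ 1
    rw [map_one, one_smul] at this
    rw [this, sub_self]
  have hg : (a • (⊤ : Submodule A ↥m)) ≤ Submodule.comap (LinearMap.id : ↥m →ₗ[A] ↥m) (Submodule.span A {a'}) := by
    intro y hy
    rw [Submodule.mem_smul_pointwise_iff_exists] at hy
    obtain ⟨z, -, rfl⟩ := hy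
    rw [Submodule.mem_comap, LinearMap.id_apply]
    have : a • z = (z : A) • a' := by
      ext
      simp [ha', mul_comm]
    rw [this]
    exact Submodule.smul_mem _ _ (Submodule.subset_span (Set.mem_singleton _))
  refine ⟨Submodule.liftQ _ f' hf'a, Submodule.mapQ _ _ LinearMap.id hg, ?_⟩
  apply Submodule.linearMap_qext
  ext y
  simp only [LinearMap.comp_apply, Submodule.mkQ_apply, Submodule.liftQ_apply, LinearMap.id_apply]
  show Submodule.mapQ _ _ LinearMap.id hg (q y - θ (π y)) = _
  rw [map_sub]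
  have h1 : Submodule.mapQ _ _ LinearMap.id hg (q y) = Submodule.Quotient.mk y := by
    show Submodule.mapQ _ _ LinearMap.id hg (Submodule.Quotient.mk y) = _
    rw [Submodule.mapQ_apply, LinearMap.id_apply]
  have h2 : Submodule.mapQ _ _ LinearMap.id hg (θ (π y)) = 0 := by
    obtain ⟨r, hr⟩ := IsLocalRing.residue_surjective (π y)
    rw [← hr, hθ, map_smul]
    have : Submodule.mapQ _ _ LinearMap.id hg (q a') = 0 := by
      show Submodule.mapQ _ _ LinearMap.id hg (Submodule.Quotient.mk a') = _
      rw [Submodule.mapQ_apply, LinearMap.id_apply, Submodule.Quotient.mk_eq_zero]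
      exact Submodule.subset_span (Set.mem_singleton _)
    rw [this, smul_zero]
  rw [h1, h2, sub_zero]

end Groth.Agent.Lib.helper7
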