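import Mathlib
universe u
namespace Groth.Agent.Lib.helper7
open IsLocalRing

theorem H7_S7777 (R A B : Type u) [CommRing R] [CommRing A] [CommRing B]
    [IsLocalRing R] [IsLocalRing A] [IsLocalRing B] [Algebra R A] [Algebra R B]
    [IsLocalHom (algebraMap R A)] [IsLocalHom (algebraMap R B)]
    (φ : A →ₐ[R] B) [IsLocalHom φ.toRingHom]
    (hres : ∀ b : B, ∃ a : A, φ a - b ∈ IsLocalRing.maximalIdeal B)
    (hcot : ∀ b ∈ IsLocalRing.maximalIdeal B, ∃ a ∈ IsLocalRing.maximalIdeal A,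
      φ a - b ∈ IsLocalRing.maximalIdeal B ^ 2 ⊔ (IsLocalRing.maximalIdeal R).map (algebraMap R B)) :
    ∀ b : ℕ → B, (∀ n, b (n + 1) - b n ∈ IsLocalRing.maximalIdeal B ^ (n + 1)) →
      ∃ a : ℕ → A, (∀ n, a (n + 1) - a n ∈ IsLocalRing.maximalIdeal A ^ (n + 1)) ∧
        ∀ n, φ (a n) - b n ∈ IsLocalRing.maximalIdeal B ^ (n + 1) := by
  classical
  -- φ maps mA into mB
  have hφm : ∀ a ∈ maximalIdeal A, φ a ∈ maximalIdeal B := by
    intro a ha
    rw [mem_maximalIdeal, mem_nonunits_iff] at ha ⊢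
    intro hu
    exact ha (IsLocalHom.map_nonunit (f := φ.toRingHom) a hu)
  have hRA : ∀ r ∈ maximalIdeal R, algebraMap R A r ∈ maximalIdeal A := by
    intro r hr
    rw [mem_maximalIdeal, mem_nonunits_iff] at hr ⊢
    intro hu
    exact hr (IsLocalHom.map_nonunit (f := algebraMap R A) r hu)
  have hRB : ∀ r ∈ maximalIdeal R, algebraMap R B r ∈ maximalIdeal B := by
    intro r hr
    rw [mem_maximalIdeal, mem_nonunits_iff] at hr ⊢
    intro hu
    exact hr (IsLocalHom.map_nonunit (f := algebraMap R B) r hu)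
  -- elements of m_R B
  have hmR : ∀ t ∈ (maximalIdeal R).map (algebraMap R B),
      t ∈ maximalIdeal B ∧ ∃ γ ∈ maximalIdeal A, φ γ - t ∈ maximalIdeal B ^ 2 := by
    intro t ht
    unfold Ideal.map at ht
    induction ht using Submodule.span_induction with
    | mem t ht =>
      obtain ⟨r, hr, rfl⟩ := ht
      refine ⟨hRB r hr, algebraMap R A r, hRA r hr, ?_⟩
      rw [AlgHom.commutes, sub_self]
      exact Ideal.zero_mem _
    | zero => exact ⟨Ideal.zero_mem _, 0, Ideal.zero_mem _, by simp⟩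
    | add x y _ _ hx hy =>
      obtain ⟨hx1, γ1, hγ1, h1⟩ := hx
      obtain ⟨hy1, γ2, hγ2, h2⟩ := hy
      refine ⟨Ideal.add_mem _ hx1 hy1, γ1 + γ2, Ideal.add_mem _ hγ1 hγ2, ?_⟩
      have : φ (γ1 + γ2) - (x + y) = (φ γ1 - x) + (φ γ2 - y) := by rw [map_add]; ring
      rw [this]; exact Ideal.add_mem _ h1 h2
    | smul c x _ hx =>
      obtain ⟨hx1, γ, hγ, h1⟩ := hx
      obtain ⟨ac, hac⟩ := hres c
      refine ⟨Ideal.mul_mem_left _ _ hx1, ac * γ, Ideal.mul_mem_left _ _ hγ, ?_⟩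
      have : φ (ac * γ) - c • x = (φ ac - c) * x + φ ac * (φ γ - x) := by
        rw [map_mul, smul_eq_mul]; ring
      rw [this]
      refine Ideal.add_mem _ ?_ (Ideal.mul_mem_left _ _ h1)
      rw [pow_two]
      exact Ideal.mul_mem_mul hac hx1
  have hcot' : ∀ x ∈ maximalIdeal B, ∃ α ∈ maximalIdeal A, φ α - x ∈ maximalIdeal B ^ 2 := by
    intro x hx
    obtain ⟨α, hα, h⟩ := hcot x hx
    obtain ⟨s, hs, t, ht, hst⟩ := Submodule.mem_sup.1 h
    obtain ⟨-, γ, hγ, hγt⟩ := hmR t ht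
    refine ⟨α - γ, Ideal.sub_mem _ hα hγ, ?_⟩
    have : φ (α - γ) - x = s - (φ γ - t) := by
      rw [map_sub]
      have : φ α - x = s + t := hst.symm
      linear_combination this
    rw [this]
    exact Ideal.sub_mem _ hs hγt
  have claim : ∀ n : ℕ, ∀ c ∈ maximalIdeal B ^ n, ∃ δ ∈ maximalIdeal A ^ n,
      φ δ - c ∈ maximalIdeal B ^ (n + 1) := by
    intro n
    induction n with
    | zero =>
      intro c _
      obtain ⟨a, ha⟩ := hres c
      exact ⟨a, by simp, by simpa using ha⟩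
    | succ n ih =>
      intro c hc
      rw [pow_succ] at hc
      refine Submodule.mul_induction_on hc ?_ ?_
      · intro y hy x hx
        obtain ⟨δy, hδy, h1⟩ := ih y hy
        obtain ⟨α, hα, h2⟩ := hcot' x hx
        refine ⟨δy * α, ?_, ?_⟩
        · rw [pow_succ]; exact Ideal.mul_mem_mul hδy hα
        · have : φ (δy * α) - y * x = (φ δy - y) * φ α + y * (φ α - x) := by
            rw [map_mul]; ring
          rw [this]
          refine Ideal.add_mem _ ?_ ?_
          · rw [pow_succ (maximalIdeal B) (n + 1)]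
            exact Ideal.mul_mem_mul h1 (hφm α hα)
          · rw [show n + 1 + 1 = n + 2 from rfl, pow_add]
            exact Ideal.mul_mem_mul hy h2
      · intro x y hx hy
        obtain ⟨δ1, hδ1, h1⟩ := hx
        obtain ⟨δ2, hδ2, h2⟩ := hy
        refine ⟨δ1 + δ2, Ideal.add_mem _ hδ1 hδ2, ?_⟩
        have : φ (δ1 + δ2) - (x + y) = (φ δ1 - x) + (φ δ2 - y) := by rw [map_add]; ring
        rw [this]; exact Ideal.add_mem _ h1 h2
  intro b hb
  have hstep : ∀ n (a : A), φ a - b n ∈ maximalIdeal B ^ (n + 1) →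
      ∃ δ ∈ maximalIdeal A ^ (n + 1), φ (a + δ) - b (n + 1) ∈ maximalIdeal B ^ (n + 2) := by
    intro n a ha
    have hc : b (n + 1) - φ a ∈ maximalIdeal B ^ (n + 1) := by
      have : b (n + 1) - φ a = (b (n + 1) - b n) - (φ a - b n) := by ring
      rw [this]; exact Ideal.sub_mem _ (hb n) ha
    obtain ⟨δ, hδ, h⟩ := claim (n + 1) _ hc
    refine ⟨δ, hδ, ?_⟩
    have : φ (a + δ) - b (n + 1) = φ δ - (b (n + 1) - φ a) := by rw [map_add]; ring
    rw [this]; exact h
  have h0 : ∃ a : A, φ a - b 0 ∈ maximalIdeal B ^ (0 + 1) := by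
    obtain ⟨a, ha⟩ := hres (b 0)
    exact ⟨a, by simpa using ha⟩
  let s : ∀ n, {a : A // φ a - b n ∈ maximalIdeal B ^ (n + 1)} := fun n =>
    Nat.rec (motive := fun n => {a : A // φ a - b n ∈ maximalIdeal B ^ (n + 1)})
      ⟨h0.choose, h0.choose_spec⟩
      (fun n prev => ⟨prev.1 + (hstep n prev.1 prev.2).choose,
        (hstep n prev.1 prev.2).choose_spec.2⟩) n
  refine ⟨fun n => (s n).1, ?_, fun n => (s n).2⟩
  intro n
  show (s (n + 1)).1 - (s n).1 ∈ maximalIdeal A ^ (n + 1)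
  have : (s (n + 1)).1 = (s n).1 + (hstep n (s n).1 (s n).2).choose := rfl
  rw [this, add_sub_cancel_left]
  exact (hstep n (s n).1 (s n).2).choose_spec.1

end Groth.Agent.Lib.helper7
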