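import Mathlib

set_option autoImplicit false
universe u

namespace Groth.Agent.Lib.helper7

theorem H7_S13879 {k : Type u} [Field k] (m n : ℕ) (f : (Fin 3 → PowerSeries k))
    (S : Submodule (PowerSeries k) (Fin 3 → PowerSeries k))
    (hS : S = Submodule.span (PowerSeries k) {(1 : (Fin 3 → PowerSeries k)), ((PowerSeries.X : PowerSeries k) ^ m) • f} ⊔
        Ideal.span {(PowerSeries.X : PowerSeries k) ^ n} • (⊤ : Submodule (PowerSeries k) (Fin 3 → PowerSeries k))) :
    (∀ x ∈ S, ∀ y ∈ S, x * y ∈ S) ↔ ((PowerSeries.X : PowerSeries k) ^ (2 * m)) • (f * f) ∈ S := by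
  set g : Fin 3 → PowerSeries k := ((PowerSeries.X : PowerSeries k) ^ m) • f with hg
  set T : Submodule (PowerSeries k) (Fin 3 → PowerSeries k) :=
    Ideal.span {(PowerSeries.X : PowerSeries k) ^ n} • (⊤ : Submodule (PowerSeries k) (Fin 3 → PowerSeries k)) with hT
  have hgg : g * g = ((PowerSeries.X : PowerSeries k) ^ (2 * m)) • (f * f) := by
    rw [hg, smul_mul_smul_comm, ← pow_add, two_mul]
  have h1S : (1 : Fin 3 → PowerSeries k) ∈ S := by
    rw [hS]; exact Submodule.mem_sup_left (Submodule.subset_span (by simp))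
  have hgS : g ∈ S := by
    rw [hS]; exact Submodule.mem_sup_left (Submodule.subset_span (by simp))
  have hTS : T ≤ S := by rw [hS]; exact le_sup_right
  have hTmul : ∀ (u : Fin 3 → PowerSeries k), ∀ v ∈ T, u * v ∈ T := by
    intro u v hv
    refine Submodule.smul_induction_on hv ?_ ?_
    · intro r hr s _
      rw [mul_smul_comm]
      exact Submodule.smul_mem_smul hr Submodule.mem_top
    · intro a b ha hb
      rw [mul_add]
      exact T.add_mem ha hb
  constructor
  · intro h
    rw [← hgg]
    exact h g hgS g hgS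
  · intro h x hx y hy
    rw [← hgg] at h
    rw [hS] at hx hy
    obtain ⟨x1, hx1, x2, hx2, rfl⟩ := Submodule.mem_sup.mp hx
    obtain ⟨y1, hy1, y2, hy2, rfl⟩ := Submodule.mem_sup.mp hy
    obtain ⟨a, b, rfl⟩ := Submodule.mem_span_pair.mp hx1
    obtain ⟨c, d, rfl⟩ := Submodule.mem_span_pair.mp hy1
    have e : (a • (1 : Fin 3 → PowerSeries k) + b • g + x2) * (c • 1 + d • g + y2) =
        ((a * c) • (1 : Fin 3 → PowerSeries k) + (a * d + b * c) • g + (b * d) • (g * g)) +
        ((a • 1 + b • g) * y2 + (c • 1 + d • g + y2) * x2) := by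
      simp only [add_mul, mul_add, smul_mul_smul_comm, mul_one, one_mul, add_smul, mul_comm x2]
      simp only [smul_mul_assoc, one_mul, mul_smul_comm, mul_one, smul_smul]
      have : (b * c) • g = (c * b) • g := by rw [mul_comm]
      rw [this]
      abel
    rw [e]
    refine S.add_mem (S.add_mem (S.add_mem ?_ ?_) ?_) (hTS (T.add_mem ?_ ?_))
    · exact S.smul_mem _ h1S
    · exact S.smul_mem _ hgS
    · exact S.smul_mem _ h
    · exact hTmul _ _ hy2
    · exact hTmul _ _ hx2

end Groth.Agent.Lib.helper7
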