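import Mathlib
import Groth.Agent.Lib.helper7.Crimp

set_option autoImplicit false
universe u

namespace Groth.Agent.Lib.helper7

open PowerSeries

theorem H7_crimp_quot {k : Type u} [Field k] (m n : ℕ) (hmn : m ≤ n) (f : Fin 3 → PowerSeries k)
    (i0 i1 i2 : Fin 3) (h02 : i0 ≠ i2) (h12 : i1 ≠ i2)
    (hall : ∀ i, i = i0 ∨ i = i1 ∨ i = i2) (u : (PowerSeries k)ˣ) (hu : (u : PowerSeries k) = f i0 - f i1)
    (S : Submodule (PowerSeries k) (Fin 3 → PowerSeries k))
    (hS : S = Submodule.span (PowerSeries k) {(1 : (Fin 3 → PowerSeries k)), ((PowerSeries.X : PowerSeries k) ^ m) • f} ⊔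
        Ideal.span {(PowerSeries.X : PowerSeries k) ^ n} • (⊤ : Submodule (PowerSeries k) (Fin 3 → PowerSeries k))) :
    Nonempty (((Fin 3 → PowerSeries k) ⧸ S) ≃ₗ[PowerSeries k]
      ((PowerSeries k ⧸ Ideal.span {(PowerSeries.X : PowerSeries k) ^ m}) × (PowerSeries k ⧸ Ideal.span {(PowerSeries.X : PowerSeries k) ^ n}))) := by
  classical
  set ui : PowerSeries k := ((u⁻¹ : (PowerSeries k)ˣ) : PowerSeries k) with hui
  have h1 : (u : PowerSeries k) * ui = 1 := by rw [hui, ← Units.val_mul, mul_inv_cancel, Units.val_one]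
  let P := fun i : Fin 3 => (LinearMap.proj i : (Fin 3 → PowerSeries k) →ₗ[PowerSeries k] PowerSeries k)
  let A : (Fin 3 → PowerSeries k) →ₗ[PowerSeries k] PowerSeries k := ui • (P i0 - P i1)
  let B : (Fin 3 → PowerSeries k) →ₗ[PowerSeries k] PowerSeries k :=
    ui • ((u : PowerSeries k) • (P i2 - P i0) - (f i2 - f i0) • (P i0 - P i1))
  have hA : ∀ v, A v = ui * (v i0 - v i1) := fun v => rfl
  have hB : ∀ v, B v = ui * ((u : PowerSeries k) * (v i2 - v i0) - (f i2 - f i0) * (v i0 - v i1)) :=
    fun v => rfl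
  let Θ : (Fin 3 → PowerSeries k) →ₗ[PowerSeries k]
      ((PowerSeries k ⧸ Ideal.span {(PowerSeries.X : PowerSeries k) ^ m}) × (PowerSeries k ⧸ Ideal.span {(PowerSeries.X : PowerSeries k) ^ n})) :=
    LinearMap.prod ((Submodule.mkQ (Ideal.span {(PowerSeries.X : PowerSeries k) ^ m})) ∘ₗ A)
      ((Submodule.mkQ (Ideal.span {(PowerSeries.X : PowerSeries k) ^ n})) ∘ₗ B)
  have hΘ : ∀ v, Θ v = 0 ↔ (A v ∈ Ideal.span {(PowerSeries.X : PowerSeries k) ^ m} ∧
      B v ∈ Ideal.span {(PowerSeries.X : PowerSeries k) ^ n}) := by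
    intro v
    change ((Submodule.Quotient.mk (A v), Submodule.Quotient.mk (B v)) :
      (PowerSeries k ⧸ Ideal.span {(PowerSeries.X : PowerSeries k) ^ m}) × (PowerSeries k ⧸ Ideal.span {(PowerSeries.X : PowerSeries k) ^ n})) = 0 ↔ _
    rw [Prod.mk_eq_zero, Submodule.Quotient.mk_eq_zero, Submodule.Quotient.mk_eq_zero]
  have hnm : Ideal.span {(PowerSeries.X : PowerSeries k) ^ n} ≤ Ideal.span {(PowerSeries.X : PowerSeries k) ^ m} := by
    rw [Ideal.span_singleton_le_span_singleton]
    exact pow_dvd_pow _ hmn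
  have hsurj : Function.Surjective Θ := by
    rintro ⟨a, c⟩
    obtain ⟨a, rfl⟩ := Submodule.Quotient.mk_surjective _ a
    obtain ⟨c, rfl⟩ := Submodule.Quotient.mk_surjective _ c
    refine ⟨a • f + c • Pi.single i2 1, ?_⟩
    change ((Submodule.Quotient.mk (A _), Submodule.Quotient.mk (B _)) : _ × _) = _
    have e1 : A (a • f + c • Pi.single i2 1) = a := by
      rw [hA]
      simp only [Pi.add_apply, Pi.smul_apply, smul_eq_mul, Pi.single_eq_of_ne h02, Pi.single_eq_of_ne h12]
      linear_combination a * h1 - (ui * a) * hu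
    have e2 : B (a • f + c • Pi.single i2 1) = c := by
      rw [hB]
      simp only [Pi.add_apply, Pi.smul_apply, smul_eq_mul, Pi.single_eq_of_ne h02, Pi.single_eq_of_ne h12,
        Pi.single_eq_same]
      linear_combination c * h1 + (ui * a * (f i2 - f i0)) * hu
    rw [e1, e2]
  have hker : LinearMap.ker Θ = S := by
    apply le_antisymm
    · intro v hv
      rw [LinearMap.mem_ker, hΘ] at hv
      obtain ⟨ha, hc⟩ := hv
      rw [Ideal.mem_span_singleton] at ha hc
      obtain ⟨a, ha⟩ := ha
      obtain ⟨c, hc⟩ := hc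
      have hv' : v = (v i0 - A v * f i0) • (1 : Fin 3 → PowerSeries k) + (A v) • f +
          (B v) • Pi.single i2 (1 : PowerSeries k) := by
        funext i
        simp only [Pi.add_apply, Pi.smul_apply, smul_eq_mul, Pi.one_apply, mul_one]
        rcases hall i with h | h | h
        · rw [h, Pi.single_eq_of_ne h02, mul_zero]; ring
        · rw [h, Pi.single_eq_of_ne h12, mul_zero, hA]
          linear_combination (v i0 - v i1) * h1 - ((v i0 - v i1) * ui) * hu
        · rw [h, Pi.single_eq_same, mul_one, hA, hB]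
          linear_combination (-(v i2 - v i0)) * h1
      rw [ha, hc] at hv'
      have e1 : ((PowerSeries.X : PowerSeries k) ^ m * a) • f = a • ((PowerSeries.X : PowerSeries k) ^ m • f) := by
        rw [smul_smul, mul_comm]
      have e2 : ((PowerSeries.X : PowerSeries k) ^ n * c) • (Pi.single i2 (1 : PowerSeries k) : Fin 3 → PowerSeries k) =
          (PowerSeries.X : PowerSeries k) ^ n • (c • Pi.single i2 (1 : PowerSeries k)) := mul_smul _ _ _
      rw [e1, e2] at hv'
      rw [hv', hS]
      refine Submodule.add_mem _ (Submodule.mem_sup_left ?_) (Submodule.mem_sup_right ?_)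
      · exact Submodule.add_mem _ (Submodule.smul_mem _ _ (Submodule.subset_span (by simp)))
          (Submodule.smul_mem _ _ (Submodule.subset_span (by simp)))
      · exact Submodule.smul_mem_smul (Ideal.mem_span_singleton_self _) Submodule.mem_top
    · rw [hS]
      refine sup_le (Submodule.span_le.mpr ?_) (Submodule.smul_le.mpr ?_)
      · rintro v (rfl | rfl)
        · rw [SetLike.mem_coe, LinearMap.mem_ker, hΘ, hA, hB]
          simp
        · rw [SetLike.mem_coe, LinearMap.mem_ker, hΘ, hA, hB]
          simp only [Pi.smul_apply, smul_eq_mul]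
          constructor
          · rw [Ideal.mem_span_singleton]
            refine ⟨1, ?_⟩
            linear_combination ((PowerSeries.X : PowerSeries k) ^ m) * h1 - (ui * (PowerSeries.X : PowerSeries k) ^ m) * hu
          · have : ui * ((u : PowerSeries k) * ((PowerSeries.X : PowerSeries k) ^ m * f i2 - (PowerSeries.X : PowerSeries k) ^ m * f i0) -
                (f i2 - f i0) * ((PowerSeries.X : PowerSeries k) ^ m * f i0 - (PowerSeries.X : PowerSeries k) ^ m * f i1)) = 0 := by
              rw [hu]; ring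
            rw [this]
            exact Submodule.zero_mem _
      · intro r hr w _
        rw [LinearMap.mem_ker, hΘ, map_smul, map_smul, smul_eq_mul, smul_eq_mul]
        exact ⟨hnm (Ideal.mul_mem_right _ _ hr), Ideal.mul_mem_right _ _ hr⟩
  exact ⟨(Submodule.quotEquivOfEq _ _ hker).symm ≪≫ₗ Θ.quotKerEquivOfSurjective hsurj⟩


theorem H7_S13886 {k : Type u} [Field k]
    (m n : ℕ) (hmn : m ≤ n) (hn : n ≤ 2 * m)
    (f : (Fin 3 → PowerSeries k)) (hf : f ∉ Submodule.span (PowerSeries k) {(1 : (Fin 3 → PowerSeries k))} ⊔ Ideal.span {(PowerSeries.X : PowerSeries k)} • (⊤ : Submodule (PowerSeries k) (Fin 3 → PowerSeries k)))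
    (S : Submodule (PowerSeries k) (Fin 3 → PowerSeries k))
    (hS : S = Submodule.span (PowerSeries k) {(1 : (Fin 3 → PowerSeries k)), ((PowerSeries.X : PowerSeries k) ^ m) • f} ⊔
        Ideal.span {(PowerSeries.X : PowerSeries k) ^ n} • (⊤ : Submodule (PowerSeries k) (Fin 3 → PowerSeries k))) :
    (∀ x ∈ S, ∀ y ∈ S, x * y ∈ S) ∧
    Nonempty (((Fin 3 → PowerSeries k) ⧸ S) ≃ₗ[PowerSeries k]
      ((PowerSeries k ⧸ Ideal.span {(PowerSeries.X : PowerSeries k) ^ m}) × (PowerSeries k ⧸ Ideal.span {(PowerSeries.X : PowerSeries k) ^ n}))) := by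
  classical
  constructor
  · apply (H7_S13879 m n f S hS).mpr
    have e : (PowerSeries.X : PowerSeries k) ^ (2 * m) = (PowerSeries.X : PowerSeries k) ^ n * (PowerSeries.X : PowerSeries k) ^ (2 * m - n) := by
      rw [← pow_add]; congr 1; omega
    rw [e, mul_smul, hS]
    exact Submodule.mem_sup_right
      (Submodule.smul_mem_smul (Ideal.mem_span_singleton_self _) Submodule.mem_top)
  · have hne : ¬ (constantCoeff (f 0) = constantCoeff (f 1) ∧ constantCoeff (f 1) = constantCoeff (f 2)) := by
      rintro ⟨h01, h12⟩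
      apply hf
      set c := constantCoeff (f 0) with hc
      have hdiv : ∀ i, (PowerSeries.X : PowerSeries k) ∣ f i - C c := by
        intro i
        rw [PowerSeries.X_dvd_iff, map_sub, constantCoeff_C, sub_eq_zero]
        fin_cases i
        · rfl
        · exact h01.symm
        · exact (h01.trans h12).symm
      choose w hw using hdiv
      have hfw : f = (C c : PowerSeries k) • (1 : Fin 3 → PowerSeries k) + (PowerSeries.X : PowerSeries k) • w := by
        funext i
        simp only [Pi.add_apply, Pi.smul_apply, smul_eq_mul, Pi.one_apply, mul_one, ← hw i]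
        ring
      rw [hfw]
      exact Submodule.add_mem _
        (Submodule.mem_sup_left (Submodule.smul_mem _ _ (Submodule.subset_span rfl)))
        (Submodule.mem_sup_right
          (Submodule.smul_mem_smul (Ideal.mem_span_singleton_self _) Submodule.mem_top))
    by_cases h01 : constantCoeff (f 0) = constantCoeff (f 1)
    · have h12 : constantCoeff (f 1) ≠ constantCoeff (f 2) := fun h => hne ⟨h01, h⟩
      have hunit : IsUnit (f 1 - f 2) := by
        rw [PowerSeries.isUnit_iff_constantCoeff, map_sub]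
        exact IsUnit.mk0 _ (sub_ne_zero.mpr h12)
      exact H7_crimp_quot m n hmn f 1 2 0 (by decide) (by decide)
        (fun i => by fin_cases i <;> simp) hunit.unit hunit.unit_spec S hS
    · have hunit : IsUnit (f 0 - f 1) := by
        rw [PowerSeries.isUnit_iff_constantCoeff, map_sub]
        exact IsUnit.mk0 _ (sub_ne_zero.mpr h01)
      exact H7_crimp_quot m n hmn f 0 1 2 (by decide) (by decide)
        (fun i => by fin_cases i <;> simp) hunit.unit hunit.unit_spec S hS

end Groth.Agent.Lib.helper7
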