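import Mathlib
universe u
open Polynomial
namespace Groth.Agent.Lib.helper7

theorem H7_S14091 (k B : Type u) [Field k] [IsAlgClosed k]
    [CommRing B] [IsLocalRing B] [Algebra k B] [Module.Finite k B]
    (hcurv : Module.finrank (IsLocalRing.ResidueField B) (IsLocalRing.CotangentSpace B) ≤ 1) :
    Nonempty (B ≃ₐ[k] (Polynomial k ⧸ Ideal.span {(X : Polynomial k) ^ Module.finrank k B})) := by
  classical
  have _ : IsArtinianRing B := IsArtinianRing.of_finite k B
  have _ : IsNoetherianRing B := inferInstance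
  set m := IsLocalRing.maximalIdeal B with hm
  -- maximal ideal principal
  obtain ⟨t, ht⟩ := ((IsLocalRing.finrank_cotangentSpace_le_one_iff (R := B)).1 hcurv).principal
  have ht' : m = Ideal.span {t} := ht
  have htm : t ∈ m := by rw [ht']; exact Ideal.mem_span_singleton_self t
  -- nilpotent
  obtain ⟨N, hN⟩ := IsArtinianRing.isNilpotent_jacobson_bot (R := B)
  rw [IsLocalRing.jacobson_eq_maximalIdeal ⊥ bot_ne_top] at hN
  have hmpow : ∀ n, m ^ n = Ideal.span {t ^ n} := by
    intro n; rw [ht', Ideal.span_singleton_pow]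
  -- residue field is k
  have hfinres : Module.Finite k (IsLocalRing.ResidueField B) :=
    Module.Finite.of_surjective (IsScalarTower.toAlgHom k B (IsLocalRing.ResidueField B)).toLinearMap
      (IsLocalRing.residue_surjective)
  have hsurjres : Function.Surjective (algebraMap k (IsLocalRing.ResidueField B)) :=
    IsAlgClosed.algebraMap_bijective_of_isIntegral.2
  have hdecomp : ∀ b : B, ∃ c : k, b - algebraMap k B c ∈ m := by
    intro b
    obtain ⟨c, hc⟩ := hsurjres (IsLocalRing.residue B b)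
    refine ⟨c, ?_⟩
    rw [← IsLocalRing.residue_eq_zero_iff, map_sub, ← hc,
      IsScalarTower.algebraMap_apply k B (IsLocalRing.ResidueField B)]
    exact sub_self _
  let φ : k[X] →ₐ[k] B := Polynomial.aeval t
  have happrox : ∀ n : ℕ, ∀ b : B, ∃ P : k[X], b - φ P ∈ m ^ n := by
    intro n
    induction n with
    | zero => intro b; exact ⟨0, by simp⟩
    | succ n ih =>
      intro b
      obtain ⟨P, hP⟩ := ih b
      rw [hmpow, Ideal.mem_span_singleton] at hP
      obtain ⟨u, hu⟩ := hP
      obtain ⟨c, hc⟩ := hdecomp u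
      refine ⟨P + C c * X ^ n, ?_⟩
      have : b - φ (P + C c * X ^ n) = t ^ n * (u - algebraMap k B c) := by
        simp only [φ, map_add, map_mul, Polynomial.aeval_C, map_pow, Polynomial.aeval_X]
        rw [mul_sub, ← hu]; ring
      rw [this, pow_succ]
      exact Ideal.mul_mem_mul (Ideal.pow_mem_pow htm n) hc
  have hφsurj : Function.Surjective φ := by
    intro b
    obtain ⟨P, hP⟩ := happrox N b
    rw [hN, Ideal.zero_eq_bot, Ideal.mem_bot, sub_eq_zero] at hP
    exact ⟨P, hP.symm⟩
  -- kernel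
  have htN : t ^ N = 0 := by
    have : t ^ N ∈ m ^ N := Ideal.pow_mem_pow htm N
    rwa [hN, Ideal.zero_eq_bot, Ideal.mem_bot] at this
  have hXN : (X : k[X]) ^ N ∈ RingHom.ker φ := by
    rw [RingHom.mem_ker]
    simp [φ, htN]
  obtain ⟨g, hg⟩ := (IsPrincipalIdealRing.principal (RingHom.ker (φ : k[X] →+* B))).principal
  have hgdvd : g ∣ (X : k[X]) ^ N := by
    have : (X : k[X]) ^ N ∈ Ideal.span {g} := by
      have h1 : RingHom.ker (φ : k[X] →+* B) = Ideal.span {g} := hg
      rw [← h1]; exact hXN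
    exact Ideal.mem_span_singleton.1 this
  obtain ⟨j, -, hj⟩ := (dvd_prime_pow Polynomial.prime_X N).1 hgdvd
  have hker : RingHom.ker (φ : k[X] →+* B) = Ideal.span {(X : k[X]) ^ j} := by
    have h1 : RingHom.ker (φ : k[X] →+* B) = Ideal.span {g} := hg
    rw [h1]
    exact Ideal.span_singleton_eq_span_singleton.2 hj
  let e1 : (k[X] ⧸ RingHom.ker (φ : k[X] →+* B)) ≃ₐ[k] B :=
    Ideal.quotientKerAlgEquivOfSurjective hφsurj
  let e2 : (k[X] ⧸ RingHom.ker (φ : k[X] →+* B)) ≃ₐ[k] (k[X] ⧸ Ideal.span {(X : k[X]) ^ j}) :=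
    Ideal.quotientEquivAlgOfEq k hker
  let e : B ≃ₐ[k] (k[X] ⧸ Ideal.span {(X : k[X]) ^ j}) := e1.symm.trans e2
  have hjn : j = Module.finrank k B := by
    have h1 := e.toLinearEquiv.finrank_eq
    rw [finrank_quotient_span_eq_natDegree, Polynomial.natDegree_X_pow] at h1
    exact h1.symm
  rw [← hjn]
  exact ⟨e⟩

end Groth.Agent.Lib.helper7
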