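import Mathlib
universe u
open Polynomial IsLocalRing
namespace Groth.Agent.Lib.helper7

theorem H7_curv_of_principal (k B : Type u) [Field k]
    [CommRing B] [IsLocalRing B] [Algebra k B] [Module.Finite k B]
    (hdecomp : ∀ b : B, ∃ c : k, b - algebraMap k B c ∈ maximalIdeal B)
    (t : B) (ht' : maximalIdeal B = Ideal.span {t}) :
    Nonempty (B ≃ₐ[k] (Polynomial k ⧸ Ideal.span {(X : Polynomial k) ^ Module.finrank k B})) := by
  classical
  have _ : IsArtinianRing B := IsArtinianRing.of_finite k B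
  set m := IsLocalRing.maximalIdeal B with hm
  have htm : t ∈ m := by rw [ht']; exact Ideal.mem_span_singleton_self t
  obtain ⟨N, hN⟩ := IsArtinianRing.isNilpotent_jacobson_bot (R := B)
  rw [IsLocalRing.jacobson_eq_maximalIdeal ⊥ bot_ne_top] at hN
  have hmpow : ∀ n, m ^ n = Ideal.span {t ^ n} := by
    intro n; rw [ht', Ideal.span_singleton_pow]
  let φ : k[X] →ₐ[k] B := Polynomial.aeval t
  have happrox : ∀ n : ℕ, ∀ b : B, ∃ P : k[X], b - φ P ∈ m ^ n := by
    intro n
    induction n with
    | zero => intro b; exact ⟨0, by simp⟩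
    | succ n ih =>
      intro b
      obtain ⟨P, hP⟩ := ih b
      rw [hmpow, Ideal.mem_span_singleton] at hP
      obtain ⟨u, hu⟩ := hP
      obtain ⟨c, hc⟩ := hdecomp u
      refine ⟨P + C c * X ^ n, ?_⟩
      have : b - φ (P + C c * X ^ n) = t ^ n * (u - algebraMap k B c) := by
        simp only [φ, map_add, map_mul, Polynomial.aeval_C, map_pow, Polynomial.aeval_X]
        rw [mul_sub, ← hu]; ring
      rw [this, pow_succ]
      exact Ideal.mul_mem_mul (Ideal.pow_mem_pow htm n) hc
  have hφsurj : Function.Surjective φ := by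
    intro b
    obtain ⟨P, hP⟩ := happrox N b
    rw [hN, Ideal.zero_eq_bot, Ideal.mem_bot, sub_eq_zero] at hP
    exact ⟨P, hP.symm⟩
  have htN : t ^ N = 0 := by
    have : t ^ N ∈ m ^ N := Ideal.pow_mem_pow htm N
    rwa [hN, Ideal.zero_eq_bot, Ideal.mem_bot] at this
  have hXN : (X : k[X]) ^ N ∈ RingHom.ker φ := by
    rw [RingHom.mem_ker]
    simp [φ, htN]
  obtain ⟨g, hg⟩ := (IsPrincipalIdealRing.principal (RingHom.ker (φ : k[X] →+* B))).principal
  have hgdvd : g ∣ (X : k[X]) ^ N := by
    have : (X : k[X]) ^ N ∈ Ideal.span {g} := by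
      have h1 : RingHom.ker (φ : k[X] →+* B) = Ideal.span {g} := hg
      rw [← h1]; exact hXN
    exact Ideal.mem_span_singleton.1 this
  obtain ⟨j, -, hj⟩ := (dvd_prime_pow Polynomial.prime_X N).1 hgdvd
  have hker : RingHom.ker (φ : k[X] →+* B) = Ideal.span {(X : k[X]) ^ j} := by
    have h1 : RingHom.ker (φ : k[X] →+* B) = Ideal.span {g} := hg
    rw [h1]
    exact Ideal.span_singleton_eq_span_singleton.2 hj
  let e1 : (k[X] ⧸ RingHom.ker (φ : k[X] →+* B)) ≃ₐ[k] B :=
    Ideal.quotientKerAlgEquivOfSurjective hφsurj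
  let e2 : (k[X] ⧸ RingHom.ker (φ : k[X] →+* B)) ≃ₐ[k] (k[X] ⧸ Ideal.span {(X : k[X]) ^ j}) :=
    Ideal.quotientEquivAlgOfEq k hker
  let e : B ≃ₐ[k] (k[X] ⧸ Ideal.span {(X : k[X]) ^ j}) := e1.symm.trans e2
  have hjn : j = Module.finrank k B := by
    have h1 := e.toLinearEquiv.finrank_eq
    rw [finrank_quotient_span_eq_natDegree, Polynomial.natDegree_X_pow] at h1
    exact h1.symm
  rw [← hjn]
  exact ⟨e⟩

theorem H7_S19453 (k : Type u) [Field k]
    (A : Type u) [CommRing A] [Algebra k A] [IsRegularLocalRing A] (hdim : ringKrullDim A = 2)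
    (hres : Function.Surjective (algebraMap k (IsLocalRing.ResidueField A)))
    (I : Ideal A) [Module.Finite k (A ⧸ I)] (n : ℕ) (hn : Module.finrank k (A ⧸ I) = n) (h1 : 1 ≤ n)
    (g : A) (hgI : g ∈ I) (hg : g ∉ IsLocalRing.maximalIdeal A ^ 2) :
    Nonempty ((A ⧸ I) ≃ₐ[k] (Polynomial k ⧸ Ideal.span {(Polynomial.X : Polynomial k) ^ n})) := by
  classical
  have hnt : Nontrivial (A ⧸ I) := by
    by_contra hcon
    rw [not_nontrivial_iff_subsingleton] at hcon
    have : Module.finrank k (A ⧸ I) = 0 := Module.finrank_zero_of_subsingleton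
    omega
  have hItop : I ≠ ⊤ := by
    intro h
    have : Subsingleton (A ⧸ I) := Ideal.Quotient.subsingleton_iff.2 h
    exact not_subsingleton (A ⧸ I) this
  have hIm : I ≤ maximalIdeal A := IsLocalRing.le_maximalIdeal hItop
  have _ : IsLocalRing (A ⧸ I) :=
    IsLocalRing.of_surjective' (Ideal.Quotient.mk I) Ideal.Quotient.mk_surjective
  have hgm : g ∈ maximalIdeal A := hIm hgI
  -- mk maps m_A into m_B, and reflects
  have hmk : ∀ a : A, Ideal.Quotient.mk I a ∈ maximalIdeal (A ⧸ I) ↔ a ∈ maximalIdeal A := by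
    intro a
    rw [mem_maximalIdeal, mem_maximalIdeal, mem_nonunits_iff, mem_nonunits_iff, not_iff_not]
    constructor
    · intro hu
      by_contra hna
      have ham : a ∈ maximalIdeal A := by rwa [mem_maximalIdeal, mem_nonunits_iff]
      obtain ⟨b, hb⟩ := hu.exists_right_inv
      obtain ⟨b', rfl⟩ := Ideal.Quotient.mk_surjective b
      rw [← map_mul, ← map_one (Ideal.Quotient.mk I), Ideal.Quotient.eq] at hb
      have h2 : a * b' - 1 ∈ maximalIdeal A := hIm hb
      have h3 : (1 : A) ∈ maximalIdeal A := by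
        have : (1 : A) = a * b' - (a * b' - 1) := by ring
        rw [this]
        exact Ideal.sub_mem _ (Ideal.mul_mem_right _ _ ham) h2
      exact (Ideal.ne_top_iff_one _).1 (maximalIdeal.isMaximal A).ne_top h3
    · intro hu; exact hu.map _
  -- residue condition
  have hdecomp : ∀ b : A ⧸ I, ∃ c : k, b - algebraMap k (A ⧸ I) c ∈ maximalIdeal (A ⧸ I) := by
    intro b
    obtain ⟨a, rfl⟩ := Ideal.Quotient.mk_surjective b
    obtain ⟨c, hc⟩ := hres (IsLocalRing.residue A a)
    refine ⟨c, ?_⟩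
    have h2 : a - algebraMap k A c ∈ maximalIdeal A := by
      rw [← IsLocalRing.residue_eq_zero_iff, map_sub, ← hc,
        IsScalarTower.algebraMap_apply k A (IsLocalRing.ResidueField A)]
      exact sub_self _
    have h3 : algebraMap k (A ⧸ I) c = Ideal.Quotient.mk I (algebraMap k A c) := rfl
    rw [h3, ← map_sub, hmk]
    exact h2
  -- cotangent space of A has dimension 2
  have hfr : Module.finrank (ResidueField A) (CotangentSpace A) = 2 := by
    have h1 := IsRegularLocalRing.spanFinrank_maximalIdeal (R := A)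
    rw [hdim] at h1
    have h2 : (maximalIdeal A).spanFinrank = 2 := by exact_mod_cast h1
    rw [← IsLocalRing.spanFinrank_maximalIdeal_eq_finrank_cotangentSpace, h2]
  set v : CotangentSpace A := (maximalIdeal A).toCotangent ⟨g, hgm⟩ with hv
  have hv0 : v ≠ 0 := by
    rw [hv, Ne, Ideal.toCotangent_eq_zero]
    exact hg
  obtain ⟨w, hw⟩ := exists_linearIndependent_pair_of_one_lt_finrank (R := ResidueField A)
    (by rw [hfr]; norm_num) hv0
  obtain ⟨h', rfl⟩ := (maximalIdeal A).toCotangent_surjective w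
  have hspan : Submodule.span (ResidueField A) (Set.range ![v, (maximalIdeal A).toCotangent h']) = ⊤ :=
    hw.span_eq_top_of_card_eq_finrank' (by rw [hfr]; rfl)
  have hspan2 : Submodule.span A ({⟨g, hgm⟩, h'} : Set (maximalIdeal A)) = ⊤ := by
    rw [← IsLocalRing.CotangentSpace.span_image_eq_top_iff, ← hspan]
    congr 1
    rw [Matrix.range_cons, Matrix.range_cons, Matrix.range_empty, Set.union_empty, Set.image_pair]
    rfl
  -- m_A = (g, h)
  have hmA : ∀ a ∈ maximalIdeal A, ∃ u w : A, a = u * g + w * (h' : A) := by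
    intro a ha
    have : (⟨a, ha⟩ : maximalIdeal A) ∈ Submodule.span A ({⟨g, hgm⟩, h'} : Set (maximalIdeal A)) := by
      rw [hspan2]; trivial
    rw [Submodule.mem_span_pair] at this
    obtain ⟨u, w, huw⟩ := this
    refine ⟨u, w, ?_⟩
    have := congrArg (fun z : maximalIdeal A => (z : A)) huw
    simpa [smul_eq_mul] using this.symm
  have hmB : maximalIdeal (A ⧸ I) = Ideal.span {Ideal.Quotient.mk I (h' : A)} := by
    apply le_antisymm
    · intro x hx
      obtain ⟨a, rfl⟩ := Ideal.Quotient.mk_surjective x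
      rw [hmk] at hx
      obtain ⟨u, w, rfl⟩ := hmA a hx
      rw [map_add, map_mul, map_mul, Ideal.Quotient.eq_zero_iff_mem.2 hgI, mul_zero, zero_add]
      exact Ideal.mul_mem_left _ _ (Ideal.mem_span_singleton_self _)
    · rw [Ideal.span_singleton_le_iff_mem, hmk]
      exact h'.2
  have := H7_curv_of_principal k (A ⧸ I) hdecomp _ hmB
  rwa [hn] at this

end Groth.Agent.Lib.helper7
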