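import Mathlib

universe u

namespace Groth.Agent.Lib.helper7

theorem H7_choose_modEq_one (p : ℕ) (hp : p.Prime) (q r : ℕ) (hr : r < p) :
    Nat.choose (p * q + r) (p * q) ≡ 1 [MOD p] := by
  have := Fact.mk hp
  have h := Choose.choose_modEq_choose_mod_mul_choose_div_nat (n := p * q + r) (k := p * q) (p := p)
  have h1 : (p * q + r) % p = r := by
    rw [Nat.mul_add_mod]; exact Nat.mod_eq_of_lt hr
  have h2 : (p * q + r) / p = q := by
    rw [Nat.mul_add_div hp.pos, Nat.div_eq_of_lt hr, add_zero]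
  have h3 : (p * q) % p = 0 := Nat.mul_mod_right p q
  have h4 : (p * q) / p = q := Nat.mul_div_cancel_left q hp.pos
  rw [h1, h2, h3, h4, Nat.choose_zero_right, Nat.choose_self, mul_one] at h
  exact h

theorem H7_uniformBell_modEq_one (p : ℕ) (hp : p.Prime) (q : ℕ) :
    Nat.uniformBell q p ≡ 1 [MOD p] := by
  induction q with
  | zero => rw [Nat.uniformBell_zero_left]
  | succ q ih =>
    rw [Nat.uniformBell_succ_left]
    have h1 : q * p + p - 1 = p * q + (p - 1) := by
      have := hp.pos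
      rw [mul_comm]
      omega
    have h2 : Nat.choose (p * q + (p - 1)) (p - 1) = Nat.choose (p * q + (p - 1)) (p * q) := by
      rw [← Nat.choose_symm_add]
    rw [h1, h2]
    have h3 := H7_choose_modEq_one p hp q (p - 1) (Nat.sub_lt hp.pos Nat.one_pos)
    have := h3.mul ih
    simpa using this

theorem H7_not_dvd_of_modEq_one (p : ℕ) (hp : p.Prime) (n : ℕ) (h : n ≡ 1 [MOD p]) : ¬ p ∣ n := by
  intro hd
  have h0 : n ≡ 0 [MOD p] := (Nat.modEq_zero_iff_dvd).2 hd
  have := h0.symm.trans h
  rw [Nat.ModEq, Nat.zero_mod, Nat.mod_eq_of_lt hp.one_lt] at this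
  exact zero_ne_one this


end Groth.Agent.Lib.helper7
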