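import Mathlib

set_option autoImplicit false

namespace Groth.Agent.Lib.helper7

/-- coset prime avoidance for pairwise incomparable primes -/
theorem H7_davis {A : Type*} [CommRing A] (s : Finset (Ideal A)) (hs : ∀ p ∈ s, p.IsPrime)
    (hinc : ∀ p ∈ s, ∀ q ∈ s, p ≤ q → p = q) (a : A) (I : Ideal A)
    (h : ∀ p ∈ s, ¬ (a ∈ p ∧ I ≤ p)) : ∃ i ∈ I, ∀ p ∈ s, a + i ∉ p := by
  classical
  set s₁ := s.filter (fun p => a ∈ p) with hs₁
  set s₂ := s.filter (fun p => a ∉ p) with hs₂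
  have hp₁ : ∀ p ∈ s₁, p.IsPrime := fun p hp => hs p (Finset.mem_filter.mp hp).1
  -- step 1
  have h1 : ∃ i₀ ∈ I, ∀ p ∈ s₁, i₀ ∉ p := by
    by_contra hcon
    push Not at hcon
    have hsub : (I : Set A) ⊆ ⋃ p ∈ (↑s₁ : Set (Ideal A)), (id p : Ideal A) := by
      intro x hx
      obtain ⟨p, hp, hxp⟩ := hcon x hx
      exact Set.mem_biUnion (show p ∈ (↑s₁ : Set (Ideal A)) from hp) hxp
    obtain ⟨p, hp, hIp⟩ := (Ideal.subset_union_prime (f := id) (⊤ : Ideal A) ⊤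
      (fun p hp _ _ => hp₁ p hp)).mp hsub
    have := Finset.mem_filter.mp hp
    exact h p this.1 ⟨this.2, hIp⟩
  -- step 2
  have h2 : ∃ y ∈ s₂.inf id, ∀ p ∈ s₁, y ∉ p := by
    by_contra hcon
    push Not at hcon
    have hsub : ((s₂.inf id : Ideal A) : Set A) ⊆ ⋃ p ∈ (↑s₁ : Set (Ideal A)), (id p : Ideal A) := by
      intro x hx
      obtain ⟨p, hp, hxp⟩ := hcon x hx
      exact Set.mem_biUnion (show p ∈ (↑s₁ : Set (Ideal A)) from hp) hxp
    obtain ⟨p, hp, hJp⟩ := (Ideal.subset_union_prime (f := id) (⊤ : Ideal A) ⊤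
      (fun p hp _ _ => hp₁ p hp)).mp hsub
    obtain ⟨q, hq, hqp⟩ := (Ideal.IsPrime.inf_le' (hp₁ p hp)).mp hJp
    have hp' := Finset.mem_filter.mp hp
    have hq' := Finset.mem_filter.mp hq
    have := hinc q hq'.1 p hp'.1 hqp
    rw [this] at hq'
    exact hq'.2 hp'.2
  obtain ⟨i₀, hi₀, hi₀'⟩ := h1
  obtain ⟨y, hy, hy'⟩ := h2
  refine ⟨y * i₀, I.mul_mem_left _ hi₀, ?_⟩
  intro p hp hmem
  by_cases hap : a ∈ p
  · have hp1 : p ∈ s₁ := Finset.mem_filter.mpr ⟨hp, hap⟩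
    have h3 : y * i₀ ∈ p := by
      have := p.sub_mem hmem hap
      rwa [add_sub_cancel_left] at this
    rcases (hs p hp).mem_or_mem h3 with h4 | h4
    · exact hy' p hp1 h4
    · exact hi₀' p hp1 h4
  · have hp2 : p ∈ s₂ := Finset.mem_filter.mpr ⟨hp, hap⟩
    have h3 : y ∈ p := by
      have : s₂.inf id ≤ id p := Finset.inf_le hp2
      exact this hy
    have h4 : y * i₀ ∈ p := p.mul_mem_right _ h3
    have := p.sub_mem hmem h4
    rw [add_sub_cancel_right] at this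
    exact hap this

end Groth.Agent.Lib.helper7
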