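import Mathlib
import Groth.Prelude.Def_DeRham

namespace Groth.Agent.Lib.helper7
universe u
open exteriorPower

theorem H7_dr_span (R A : Type u) [CommRing R] [CommRing A] [Algebra R A] (p : ℕ) :
    Submodule.span A {x : ↥(⋀[A]^p (Ω[A⁄R])) | ∃ b : Fin p → A,
      x = exteriorPower.ιMulti A p (fun i => KaehlerDifferential.D R A (b i))} = ⊤ := by
  classical
  letI : LinearOrder A := linearOrderOfSTO WellOrderingRel
  have h := exteriorPower.ιMulti_family_span_of_span A (n := p)
    (v := fun a : A => KaehlerDifferential.D R A a) (KaehlerDifferential.span_range_derivation R A)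
  rw [eq_top_iff, ← h]
  refine Submodule.span_mono ?_
  rintro _ ⟨s, rfl⟩
  exact ⟨_, rfl⟩

theorem H7_dr_induction {R A : Type u} [CommRing R] [CommRing A] [Algebra R A] {p : ℕ}
    {P : ↥(⋀[A]^p (Ω[A⁄R])) → Prop} (h0 : P 0) (hadd : ∀ x y, P x → P y → P (x + y))
    (hgen : ∀ (b₀ : A) (b : Fin p → A), P (DeRham.gen (KaehlerDifferential.D R A) p b₀ b))
    (x : ↥(⋀[A]^p (Ω[A⁄R]))) : P x := by
  have hx : x ∈ Submodule.span A {x : ↥(⋀[A]^p (Ω[A⁄R])) | ∃ b : Fin p → A,
      x = exteriorPower.ιMulti A p (fun i => KaehlerDifferential.D R A (b i))} := by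
    rw [H7_dr_span]; trivial
  have key : ∀ a : A, P (a • x) := by
    refine Submodule.span_induction (p := fun x _ => ∀ a : A, P (a • x)) ?_ ?_ ?_ ?_ hx
    · rintro _ ⟨b, rfl⟩ a
      exact hgen a b
    · intro a; rw [smul_zero]; exact h0
    · intro x y _ _ hx hy a
      rw [smul_add]; exact hadd _ _ (hx a) (hy a)
    · intro c x _ hx a
      rw [smul_smul]; exact hx _
  simpa using key 1

theorem H7_dr_cons {R A : Type u} [CommRing R] [CommRing A] [Algebra R A] (p : ℕ)
    (b₀ : A) (b : Fin p → A) :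
    exteriorPower.ιMulti A (p + 1) (Fin.cons (KaehlerDifferential.D R A b₀)
      (fun i => KaehlerDifferential.D R A (b i)) : Fin (p + 1) → Ω[A⁄R])
      = DeRham.gen (KaehlerDifferential.D R A) (p + 1) 1 (Fin.cons b₀ b) := by
  unfold DeRham.gen
  rw [one_smul]
  congr 1
  funext i
  refine Fin.cases ?_ (fun j => ?_) i
  · simp
  · simp

end Groth.Agent.Lib.helper7
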