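import Mathlib
set_option autoImplicit false
universe u
open TensorProduct

namespace Groth.Agent.Lib.helper7

theorem H7_clear_den_left (A : Type u) [CommRing A] [IsDomain A] (K : Type u) [Field K] [Algebra A K]
    [IsFractionRing A K] (M : Type u) [AddCommGroup M] [Module A M] (z : K ⊗[A] M) :
    ∃ s : A, s ≠ 0 ∧ ∃ m : M, s • z = (1 : K) ⊗ₜ[A] m := by
  induction z using TensorProduct.induction_on with
  | zero => exact ⟨1, one_ne_zero, 0, by simp⟩
  | tmul k m =>
    obtain ⟨⟨x, s⟩, hs⟩ := IsLocalization.surj (nonZeroDivisors A) k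
    refine ⟨s, nonZeroDivisors.ne_zero s.2, x • m, ?_⟩
    have h1 : (s : A) • k = algebraMap A K x := by
      rw [Algebra.smul_def, mul_comm]; exact hs
    rw [TensorProduct.smul_tmul', h1, TensorProduct.tmul_smul, TensorProduct.smul_tmul', Algebra.smul_def, mul_one]
  | add y z hy hz =>
    obtain ⟨r1, hr1, a1, h1⟩ := hy
    obtain ⟨r2, hr2, a2, h2⟩ := hz
    refine ⟨r1 * r2, mul_ne_zero hr1 hr2, r2 • a1 + r1 • a2, ?_⟩
    have e1 : (r1 * r2) • y = r2 • ((1 : K) ⊗ₜ[A] a1) := by rw [mul_comm, mul_smul, h1]
    have e2 : (r1 * r2) • z = r1 • ((1 : K) ⊗ₜ[A] a2) := by rw [mul_smul, h2]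
    rw [smul_add, e1, e2, TensorProduct.tmul_add, TensorProduct.tmul_smul, TensorProduct.tmul_smul]

theorem H7_S4640 {A K : Type u} [CommRing A] [IsDedekindDomain A] [Field K]
    [Algebra A K] [IsFractionRing A K] {M : Type u} [AddCommGroup M] [Module A M]
    (P' : Submodule K (K ⊗[A] M)) (Q : Submodule A M) :
    Q = LinearMap.ker ((P'.restrictScalars A).mkQ ∘ₗ TensorProduct.mk A K M 1) ↔
      (Module.Flat A (M ⧸ Q) ∧ LinearMap.ker (Q.mkQ.baseChange K) = P') := by
  classical
  have hinjK : Function.Injective (algebraMap A K) := IsFractionRing.injective A K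
  have hmemker : ∀ m : M, m ∈ LinearMap.ker ((P'.restrictScalars A).mkQ ∘ₗ TensorProduct.mk A K M 1) ↔
      (1 : K) ⊗ₜ[A] m ∈ P' := by
    intro m
    rw [LinearMap.mem_ker, LinearMap.comp_apply, Submodule.mkQ_apply, Submodule.Quotient.mk_eq_zero,
      Submodule.restrictScalars_mem, TensorProduct.mk_apply]
  have hsmul : ∀ (s : A) (z : K ⊗[A] M), s • z = (algebraMap A K s) • z := fun s z =>
    (algebraMap_smul K s z).symm
  constructor
  · intro hQ
    have hQmem : ∀ m : M, m ∈ Q ↔ (1 : K) ⊗ₜ[A] m ∈ P' := fun m => by rw [← hmemker, ← hQ]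
    constructor
    · rw [IsDedekindDomain.flat_iff_torsion_eq_bot, eq_bot_iff]
      intro x hx
      obtain ⟨a, ha⟩ := (Submodule.mem_torsion_iff x).1 hx
      obtain ⟨m, rfl⟩ := Submodule.Quotient.mk_surjective Q x
      rw [Submodule.mem_bot, Submodule.Quotient.mk_eq_zero, hQmem]
      have h1 : (a : A) • m ∈ Q := by
        rw [← Submodule.Quotient.mk_eq_zero, Submodule.Quotient.mk_smul]
        exact ha
      rw [hQmem, TensorProduct.tmul_smul, hsmul] at h1
      have haK : algebraMap A K (a : A) ≠ 0 := fun h =>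
        nonZeroDivisors.ne_zero a.2 (hinjK (by rw [h, map_zero]))
      exact (P'.smul_mem_iff haK).1 h1
    · ext z
      constructor
      · intro hz
        have hex : Function.Exact (LinearMap.lTensor K Q.subtype) (LinearMap.lTensor K Q.mkQ) :=
          lTensor_exact K (LinearMap.exact_subtype_mkQ Q) (Submodule.mkQ_surjective Q)
        have hz' : (LinearMap.lTensor K Q.mkQ) z = 0 := by
          have := (LinearMap.mem_ker).1 hz
          rwa [LinearMap.baseChange_eq_ltensor] at this
        have hrange : ∀ w : K ⊗[A] Q, (LinearMap.lTensor K Q.subtype) w ∈ P' := by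
          intro w
          induction w using TensorProduct.induction_on with
          | zero => simp
          | tmul k q =>
            rw [LinearMap.lTensor_tmul]
            have : k ⊗ₜ[A] (Q.subtype q) = k • ((1 : K) ⊗ₜ[A] (q : M)) := by
              rw [TensorProduct.smul_tmul', smul_eq_mul, mul_one]; rfl
            rw [this]
            exact P'.smul_mem _ ((hQmem _).1 q.2)
          | add y z hy hz => rw [map_add]; exact P'.add_mem hy hz
        obtain ⟨w, rfl⟩ := (hex z).1 hz'
        exact hrange w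
      · intro hz
        obtain ⟨s, hs, m, hm⟩ := H7_clear_den_left A K M z
        have hsK : algebraMap A K s ≠ 0 := fun h => hs (hinjK (by rw [h, map_zero]))
        have hmQ : m ∈ Q := by
          rw [hQmem, ← hm, hsmul]
          exact P'.smul_mem _ hz
        rw [LinearMap.mem_ker]
        have h1 : (algebraMap A K s) • (Q.mkQ.baseChange K) z = 0 := by
          rw [← map_smul, ← hsmul, hm, LinearMap.baseChange_tmul, Submodule.mkQ_apply,
            (Submodule.Quotient.mk_eq_zero Q).2 hmQ, TensorProduct.tmul_zero]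
        exact (smul_eq_zero.1 h1).resolve_left hsK
  · rintro ⟨hflat, hker⟩
    ext m
    rw [hmemker, ← hker, LinearMap.mem_ker, LinearMap.baseChange_tmul, Submodule.mkQ_apply]
    constructor
    · intro hm
      rw [(Submodule.Quotient.mk_eq_zero Q).2 hm, TensorProduct.tmul_zero]
    · intro hm
      have hinj := Module.Flat.rTensor_preserves_injective_linearMap (M := M ⧸ Q)
        (Algebra.linearMap A K) hinjK
      have h1 : (LinearMap.rTensor (M ⧸ Q) (Algebra.linearMap A K)) ((1 : A) ⊗ₜ[A] (Submodule.Quotient.mk m : M ⧸ Q)) = 0 := by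
        rw [LinearMap.rTensor_tmul, Algebra.linearMap_apply, map_one]; exact hm
      have h2 : (1 : A) ⊗ₜ[A] (Submodule.Quotient.mk m : M ⧸ Q) = 0 := hinj (by rw [h1, map_zero])
      have h3 := congrArg (TensorProduct.lid A (M ⧸ Q)) h2
      rw [TensorProduct.lid_tmul, one_smul, map_zero] at h3
      exact (Submodule.Quotient.mk_eq_zero Q).1 h3

end Groth.Agent.Lib.helper7
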