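import Mathlib

set_option autoImplicit false
universe u

namespace Groth.Agent.Lib.helper7

theorem H7_S12715 {Λ : Type u} {k : Type u} [CommRing Λ] [Field k] [Algebra Λ k]
    [IsNoetherianRing Λ] [Module.Finite Λ k]
    (S : Type u) [CommRing S] [Algebra Λ S] [IsNoetherianRing S]
    [Algebra S k] [IsScalarTower Λ S k]
    (hres : Function.Surjective (algebraMap S k)) :
    Module.Finite k (Derivation Λ S k) := by
  classical
  obtain ⟨p, c, hc⟩ := Module.Finite.exists_fin (R := Λ) (M := k)
  choose s hs using fun i => hres (c i)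
  set I : Ideal S := RingHom.ker (algebraMap S k) with hI
  obtain ⟨q, x, hx⟩ := (Submodule.fg_iff_exists_fin_generating_family (N := I)).mp
    ((isNoetherianRing_iff_ideal_fg S).mp inferInstance I)
  have hxI : ∀ j, x j ∈ I := fun j => by rw [← hx]; exact Submodule.subset_span ⟨j, rfl⟩
  have hIk : ∀ a ∈ I, ∀ v : k, a • v = 0 := by
    intro a ha v
    rw [Algebra.smul_def, (RingHom.mem_ker).mp ha, zero_mul]
  -- step 3
  have h3 : ∀ t : S, ∃ l : Fin p → Λ, t - ∑ i, l i • s i ∈ I := by
    intro t
    have ht : algebraMap S k t ∈ Submodule.span Λ (Set.range c) := by rw [hc]; trivial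
    obtain ⟨l, hl⟩ := (Submodule.mem_span_range_iff_exists_fun Λ).mp ht
    refine ⟨l, ?_⟩
    rw [hI, RingHom.mem_ker, map_sub, ← hl, map_sum, sub_eq_zero]
    refine Finset.sum_congr rfl fun i _ => ?_
    rw [Algebra.smul_def, Algebra.smul_def, map_mul, hs i, ← IsScalarTower.algebraMap_apply]
  -- the evaluation map
  let Φ : Derivation Λ S k →ₗ[k] ((Fin p → k) × (Fin p × Fin q → k)) :=
    { toFun := fun D => (fun i => D (s i), fun ij => D (s ij.1 * x ij.2))
      map_add' := fun D₁ D₂ => rfl
      map_smul' := fun a D => rfl }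
  have hinj : Function.Injective Φ := by
    rw [← LinearMap.ker_eq_bot, LinearMap.ker_eq_bot']
    intro D hD
    have hD1 : ∀ i, D (s i) = 0 := fun i => congrFun (congrArg Prod.fst hD) i
    have hD2 : ∀ i j, D (s i * x j) = 0 := fun i j => congrFun (congrArg Prod.snd hD) (i, j)
    -- D kills I * I
    have hsq : ∀ t ∈ I * I, D t = 0 := by
      intro t ht
      refine Submodule.mul_induction_on ht ?_ ?_
      · intro a ha b hb
        rw [Derivation.leibniz, hIk a ha, hIk b hb, add_zero]
      · intro a b ha hb
        rw [map_add, ha, hb, add_zero]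
    have hDI : ∀ t ∈ I, D t = 0 := by
      intro t ht
      rw [← hx] at ht
      obtain ⟨u, hu⟩ := (Submodule.mem_span_range_iff_exists_fun S).mp ht
      choose l hl using fun j => h3 (u j)
      have ht2 : t = ∑ j, ∑ i, l j i • (s i * x j) + ∑ j, (u j - ∑ i, l j i • s i) * x j := by
        rw [← hu, ← Finset.sum_add_distrib]
        refine Finset.sum_congr rfl fun j _ => ?_
        rw [sub_mul, Finset.sum_mul, smul_eq_mul]
        have : ∑ i, l j i • (s i * x j) = ∑ i, l j i • s i * x j :=
          Finset.sum_congr rfl fun i _ => (smul_mul_assoc _ _ _).symm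
        rw [this]
        ring
      rw [ht2, map_add, map_sum]
      have h1 : ∀ j, D (∑ i, l j i • (s i * x j)) = 0 := by
        intro j
        rw [map_sum]
        exact Finset.sum_eq_zero fun i _ => by rw [Derivation.map_smul, hD2, smul_zero]
      rw [Finset.sum_eq_zero (fun j _ => h1 j), zero_add, map_sum]
      exact Finset.sum_eq_zero fun j _ => hsq _ (Ideal.mul_mem_mul (hl j) (hxI j))
    apply Derivation.ext
    intro t
    obtain ⟨l, hl⟩ := h3 t
    have : t = ∑ i, l i • s i + (t - ∑ i, l i • s i) := by ring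
    rw [this, map_add, hDI _ hl, map_sum, add_zero]
    exact Finset.sum_eq_zero fun i _ => by rw [Derivation.map_smul, hD1, smul_zero]
  exact Module.Finite.of_injective Φ hinj

end Groth.Agent.Lib.helper7
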