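import Mathlib

universe u

namespace Groth.Agent.Lib.helper7

theorem H7_det_mem_pow_of_cols {R : Type u} [CommRing R] (I : Ideal R) {n : ℕ}
    (X : Matrix (Fin n) (Fin n) R) (Z : Finset (Fin n)) (hZ : ∀ i ∈ Z, ∀ j, X j i ∈ I) :
    X.det ∈ I ^ Z.card := by
  classical
  rw [Matrix.det_apply']
  apply Ideal.sum_mem
  intro σ _
  apply Ideal.mul_mem_left
  rw [← Finset.prod_mul_prod_compl Z]
  apply Ideal.mul_mem_right
  have := Ideal.prod_mem_prod (s := Z) (I := fun _ => I) (x := fun i => X (σ i) i)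
    (fun i hi => hZ i hi (σ i))
  rwa [Finset.prod_const] at this

theorem H7_S18127 {R : Type u} [CommRing R] [IsLocalRing R]
    {n : ℕ} (M : Matrix (Fin n) (Fin n) R) (r : ℕ)
    (hr : (M.map (IsLocalRing.residue R)).rank ≤ r) :
    M.det ∈ IsLocalRing.maximalIdeal R ^ (n - r) := by
  classical
  set Mb := M.map (IsLocalRing.residue R) with hMb
  obtain ⟨L, L', D, hM⟩ := Matrix.Pivot.exists_list_transvec_mul_diagonal_mul_list_transvec Mb
  set Pb := (L.map Matrix.TransvectionStruct.toMatrix).prod with hPbdef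
  set Qb := (L'.map Matrix.TransvectionStruct.toMatrix).prod with hQbdef
  have hPb : Pb.det = 1 := Matrix.TransvectionStruct.det_toMatrix_prod L
  have hQb : Qb.det = 1 := Matrix.TransvectionStruct.det_toMatrix_prod L'
  have hlift : ∀ N : Matrix (Fin n) (Fin n) (IsLocalRing.ResidueField R),
      ∃ N' : Matrix (Fin n) (Fin n) R, N'.map (IsLocalRing.residue R) = N := by
    intro N
    refine ⟨fun i j => Classical.choose (IsLocalRing.residue_surjective (N i j)), ?_⟩
    ext i j
    exact Classical.choose_spec (IsLocalRing.residue_surjective (N i j))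
  obtain ⟨P, hP⟩ := hlift Pb
  obtain ⟨Q, hQ⟩ := hlift Qb
  have hunit : ∀ N : Matrix (Fin n) (Fin n) R, (N.map (IsLocalRing.residue R)).det = 1 →
      IsUnit N.det := by
    intro N hN
    have h1 : IsLocalRing.residue R N.det = 1 := by
      rw [RingHom.map_det]; exact hN
    rw [← IsLocalRing.residue_ne_zero_iff_isUnit, h1]
    exact one_ne_zero
  have hPu : IsUnit P.det := hunit P (by rw [hP, hPb])
  have hQu : IsUnit Q.det := hunit Q (by rw [hQ, hQb])
  set X := P⁻¹ * M * Q⁻¹ with hX
  have hPXQ : P * X * Q = M := by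
    rw [hX]
    calc P * (P⁻¹ * M * Q⁻¹) * Q = (P * P⁻¹) * M * (Q⁻¹ * Q) := by
          simp only [Matrix.mul_assoc]
      _ = M := by rw [Matrix.mul_nonsing_inv P hPu, Matrix.nonsing_inv_mul Q hQu, Matrix.one_mul,
          Matrix.mul_one]
  set Xb := X.map (IsLocalRing.residue R) with hXb
  have h2 : Pb * Xb * Qb = Pb * Matrix.diagonal D * Qb := by
    rw [← hM, hMb, ← hPXQ, Matrix.map_mul, Matrix.map_mul, hP, hQ]
  have hPbu : IsUnit Pb.det := by rw [hPb]; exact isUnit_one
  have hQbu : IsUnit Qb.det := by rw [hQb]; exact isUnit_one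
  have h3 : Xb = Matrix.diagonal D := by
    have e : ∀ Y : Matrix (Fin n) (Fin n) (IsLocalRing.ResidueField R),
        Pb⁻¹ * (Pb * Y * Qb) * Qb⁻¹ = Y := by
      intro Y
      calc Pb⁻¹ * (Pb * Y * Qb) * Qb⁻¹ = (Pb⁻¹ * Pb) * Y * (Qb * Qb⁻¹) := by
            simp only [Matrix.mul_assoc]
        _ = Y := by rw [Matrix.nonsing_inv_mul Pb hPbu, Matrix.mul_nonsing_inv Qb hQbu,
            Matrix.one_mul, Matrix.mul_one]
    rw [← e Xb, h2, e]
  set Z : Finset (Fin n) := Finset.univ.filter (fun i => D i = 0) with hZdef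
  have hZ : ∀ i ∈ Z, ∀ j, X j i ∈ IsLocalRing.maximalIdeal R := by
    intro i hi j
    rw [hZdef, Finset.mem_filter] at hi
    rw [← IsLocalRing.residue_eq_zero_iff]
    have : Xb j i = 0 := by
      rw [h3, Matrix.diagonal_apply]
      split_ifs with hji
      · rw [hji]; exact hi.2
      · rfl
    exact this
  have hdetX := H7_det_mem_pow_of_cols (IsLocalRing.maximalIdeal R) X Z hZ
  have hrank : Mb.rank = Fintype.card {i // D i ≠ 0} := by
    rw [hM, Matrix.rank_mul_eq_left_of_isUnit_det Qb _ hQbu,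
      Matrix.rank_mul_eq_right_of_isUnit_det Pb _ hPbu, Matrix.rank_diagonal]
  have hcard : n - r ≤ Z.card := by
    have h4 : Fintype.card {i // D i ≠ 0} = (Finset.univ.filter (fun i => ¬ D i = 0)).card :=
      Fintype.card_subtype _
    have h5 : Z.card + (Finset.univ.filter (fun i => ¬ D i = 0)).card = n := by
      have := Finset.card_filter_add_card_filter_not (s := (Finset.univ : Finset (Fin n)))
        (fun i => D i = 0)
      rw [Finset.card_univ, Fintype.card_fin] at this
      exact this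
    have h6 : Fintype.card {i // D i ≠ 0} ≤ r := hrank ▸ hr
    omega
  have hdet : M.det = P.det * X.det * Q.det := by
    rw [← hPXQ, Matrix.det_mul, Matrix.det_mul]
  rw [hdet]
  apply Ideal.mul_mem_right
  apply Ideal.mul_mem_left
  exact Ideal.pow_le_pow_right hcard hdetX

end Groth.Agent.Lib.helper7
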