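import Mathlib
open IsLocalRing

universe u

namespace Groth.Agent.Lib.helper7

theorem H7_dim_le_add_fibre {A B : Type u} [CommRing A] [CommRing B] [IsLocalRing A] [IsLocalRing B]
    [IsNoetherianRing A] [IsNoetherianRing B] (φ : A →+* B) [IsLocalHom φ] :
    ringKrullDim B ≤ ringKrullDim A + ringKrullDim (B ⧸ (maximalIdeal A).map φ) := by
  classical
  obtain ⟨s, hs, hcard⟩ := Ideal.exists_finset_card_eq_height_of_isNoetherianRing (maximalIdeal A)
  have hsm : Ideal.span (s : Set A) ≤ maximalIdeal A := hs.1.2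
  let t : Finset B := s.image φ
  have htm : (t : Set B) ⊆ Ring.jacobson B := by
    intro b hb
    simp only [t, Finset.coe_image, Set.mem_image, Finset.mem_coe] at hb
    obtain ⟨a, ha, rfl⟩ := hb
    rw [IsLocalRing.ringJacobson_eq_maximalIdeal]
    exact map_nonunit φ a (hsm (Ideal.subset_span ha))
  have h1 := ringKrullDim_le_ringKrullDim_quotient_add_card t htm
  have hzero : PrimeSpectrum.zeroLocus ((Ideal.span (t : Set B) : Ideal B) : Set B) =
      PrimeSpectrum.zeroLocus (((maximalIdeal A).map φ : Ideal B) : Set B) := by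
    ext q
    simp only [PrimeSpectrum.mem_zeroLocus, SetLike.coe_subset_coe]
    constructor
    · intro hq
      have hP : Ideal.span (s : Set A) ≤ q.asIdeal.comap φ := by
        rw [Ideal.span_le]
        intro a ha
        exact hq (Ideal.subset_span (Finset.mem_coe.2 (Finset.mem_image_of_mem φ ha)))
      have hPprime : (q.asIdeal.comap φ).IsPrime := Ideal.comap_isPrime φ q.asIdeal
      have hle : q.asIdeal.comap φ ≤ maximalIdeal A := IsLocalRing.le_maximalIdeal hPprime.ne_top
      have := hs.2 ⟨hPprime, hP⟩ hle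
      exact Ideal.map_le_iff_le_comap.2 this
    · intro hq
      rw [Ideal.span_le]
      intro b hb
      simp only [t, Finset.coe_image, Set.mem_image, Finset.mem_coe] at hb
      obtain ⟨a, ha, rfl⟩ := hb
      exact hq (Ideal.mem_map_of_mem φ (hsm (Ideal.subset_span ha)))
  have h2 : ringKrullDim (B ⧸ Ideal.span (t : Set B)) = ringKrullDim (B ⧸ (maximalIdeal A).map φ) := by
    rw [ringKrullDim_quotient, ringKrullDim_quotient, hzero]
  have h3 : ringKrullDim A = (s.card : WithBot ℕ∞) := by
    rw [← IsLocalRing.maximalIdeal_height_eq_ringKrullDim, ← hcard]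
    rfl
  rw [h2] at h1
  rw [h3, add_comm]
  refine le_trans h1 ?_
  gcongr
  exact_mod_cast Finset.card_image_le

theorem H7_S5771 (A B : Type u) [CommRing A] [CommRing B] [IsLocalRing A] [IsLocalRing B]
    [IsNoetherianRing A] [IsNoetherianRing B] [Algebra A B] [IsLocalHom (algebraMap A B)]
    (hdef : ringKrullDim (B ⧸ (IsLocalRing.maximalIdeal A).map (algebraMap A B)) = 0) :
    ringKrullDim B ≤ ringKrullDim A ∧
      (IsDomain A → ringKrullDim A = ringKrullDim B → Function.Injective (algebraMap A B)) := by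
  have h1 := H7_dim_le_add_fibre (algebraMap A B)
  rw [hdef, add_zero] at h1
  refine ⟨h1, ?_⟩
  intro hdom heq
  rw [injective_iff_map_eq_zero]
  intro a ha
  by_contra hne
  set K : Ideal A := RingHom.ker (algebraMap A B) with hK
  have hKtop : K ≠ ⊤ := RingHom.ker_ne_top _
  have hKm : K ≤ maximalIdeal A := IsLocalRing.le_maximalIdeal hKtop
  have : Nontrivial (A ⧸ K) := Ideal.Quotient.nontrivial_iff.mpr hKtop
  have hloc : IsLocalRing (A ⧸ K) :=
    IsLocalRing.of_surjective' (Ideal.Quotient.mk K) Ideal.Quotient.mk_surjective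
  let φ' : A ⧸ K →+* B := Ideal.Quotient.lift K (algebraMap A B) (fun a ha => ha)
  have hφ' : ∀ a, φ' (Ideal.Quotient.mk K a) = algebraMap A B a := fun a => Ideal.Quotient.lift_mk _ _ _
  have hlocal : IsLocalHom φ' := by
    constructor
    intro x hx
    obtain ⟨a, rfl⟩ := Ideal.Quotient.mk_surjective x
    rw [hφ'] at hx
    exact (isUnit_of_map_unit (algebraMap A B) a hx).map _
  have h2 := H7_dim_le_add_fibre φ'
  have hlh := IsLocalHom.of_surjective (Ideal.Quotient.mk K) Ideal.Quotient.mk_surjective
  have hmax : maximalIdeal (A ⧸ K) = (maximalIdeal A).map (Ideal.Quotient.mk K) := by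
    ext x
    obtain ⟨x, rfl⟩ := Ideal.Quotient.mk_surjective x
    simp [sup_eq_left.mpr hKm]
  have hfib : (maximalIdeal (A ⧸ K)).map φ' = (maximalIdeal A).map (algebraMap A B) := by
    rw [hmax, Ideal.map_map]
    congr 1
  rw [hfib, hdef, add_zero] at h2
  have hnzd : a ∈ nonZeroDivisors A := mem_nonZeroDivisors_of_ne_zero hne
  have h3 := ringKrullDim_succ_le_of_surjective (Ideal.Quotient.mk K)
    Ideal.Quotient.mk_surjective hnzd (Ideal.Quotient.eq_zero_iff_mem.2 ha)
  have h4 : ringKrullDim B + 1 ≤ ringKrullDim B := by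
    calc ringKrullDim B + 1 ≤ ringKrullDim (A ⧸ K) + 1 := by gcongr
      _ ≤ ringKrullDim A := h3
      _ = ringKrullDim B := heq
  have h5 : ringKrullDim B = ((maximalIdeal B).height : WithBot ℕ∞) :=
    IsLocalRing.maximalIdeal_height_eq_ringKrullDim.symm
  have h6 : (maximalIdeal B).height ≠ ⊤ := Ideal.height_ne_top Ideal.IsPrime.ne_top'
  rw [h5] at h4
  have h7 : (maximalIdeal B).height + 1 ≤ (maximalIdeal B).height := by exact_mod_cast h4
  generalize (maximalIdeal B).height = h at h6 h7
  cases h with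
  | top => exact h6 rfl
  | coe n =>
    have : n + 1 ≤ n := by exact_mod_cast h7
    omega

end Groth.Agent.Lib.helper7
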