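import Mathlib

set_option autoImplicit false

namespace Groth.Agent.Lib.helper7

open Polynomial

section

variable (K : Type*) [Field K] (A : Type*) [DivisionRing A] [Algebra K A]

/-- The `K`-algebra map `K[X]/(minpoly y) → A`, `X ↦ y`, for a possibly noncommutative `A`. -/
noncomputable def H7_phi (y : A) : AdjoinRoot (minpoly K y) →ₐ[K] A :=
  Ideal.Quotient.liftₐ (Ideal.span {minpoly K y}) (aeval y) (by
    intro a ha
    rw [Ideal.mem_span_singleton] at ha
    obtain ⟨c, rfl⟩ := ha
    rw [map_mul, minpoly.aeval, zero_mul])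

theorem H7_phi_mk (y : A) (g : K[X]) : H7_phi K A y (AdjoinRoot.mk _ g) = aeval y g := rfl

theorem H7_phi_root (y : A) : H7_phi K A y (AdjoinRoot.root _) = y := by
  have := H7_phi_mk K A y X
  rw [aeval_X] at this
  exact this

variable [FiniteDimensional K A]

theorem H7_minpoly_natDegree_dvd (y : A) :
    (minpoly K y).natDegree ∣ Module.finrank K A := by
  have hint : IsIntegral K y := Algebra.IsIntegral.isIntegral y
  have : Fact (Irreducible (minpoly K y)) := ⟨minpoly.irreducible hint⟩
  let φ := H7_phi K A y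
  let _ : Module (AdjoinRoot (minpoly K y)) A := Module.compHom A φ.toRingHom
  have : IsScalarTower K (AdjoinRoot (minpoly K y)) A := by
    refine ⟨fun k f a => ?_⟩
    show φ (k • f) * a = k • (φ f * a)
    rw [map_smul, smul_mul_assoc]
  have h1 := Module.finrank_mul_finrank K (AdjoinRoot (minpoly K y)) A
  have h2 : Module.finrank K (AdjoinRoot (minpoly K y)) = (minpoly K y).natDegree := by
    rw [(AdjoinRoot.powerBasis (minpoly.ne_zero hint)).finrank, AdjoinRoot.powerBasis_dim]
  rw [h2] at h1
  exact Dvd.intro _ h1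

theorem H7_phi_injective (y : A) : Function.Injective (H7_phi K A y) := by
  have hint : IsIntegral K y := Algebra.IsIntegral.isIntegral y
  have : Fact (Irreducible (minpoly K y)) := ⟨minpoly.irreducible hint⟩
  exact (H7_phi K A y).toRingHom.injective

theorem H7_comm_of_natDegree_eq (y : A)
    (h : (minpoly K y).natDegree = Module.finrank K A) : ∀ a b : A, a * b = b * a := by
  have hint : IsIntegral K y := Algebra.IsIntegral.isIntegral y
  have : Fact (Irreducible (minpoly K y)) := ⟨minpoly.irreducible hint⟩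
  let φ := H7_phi K A y
  have hinj : Function.Injective φ.toLinearMap := H7_phi_injective K A y
  have h2 : Module.finrank K (AdjoinRoot (minpoly K y)) = (minpoly K y).natDegree := by
    rw [(AdjoinRoot.powerBasis (minpoly.ne_zero hint)).finrank, AdjoinRoot.powerBasis_dim]
  have h3 : Module.finrank K (LinearMap.range φ.toLinearMap) = Module.finrank K A := by
    rw [LinearMap.finrank_range_of_inj hinj, h2, h]
  have h4 : LinearMap.range φ.toLinearMap = ⊤ := Submodule.eq_top_of_finrank_eq h3
  intro a b
  have ha : a ∈ LinearMap.range φ.toLinearMap := by rw [h4]; trivial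
  have hb : b ∈ LinearMap.range φ.toLinearMap := by rw [h4]; trivial
  obtain ⟨α, rfl⟩ := ha
  obtain ⟨β, rfl⟩ := hb
  show φ α * φ β = φ β * φ α
  rw [← map_mul, ← map_mul, mul_comm]

theorem H7_natDegree_minpoly_of_prime_sq (p : ℕ) (hp : p.Prime)
    (hA : Module.finrank K A = p ^ 2) (hnc : ∃ a b : A, a * b ≠ b * a) (y : A) :
    (minpoly K y).natDegree = 1 ∨ (minpoly K y).natDegree = p := by
  have hd := H7_minpoly_natDegree_dvd K A y
  rw [hA] at hd
  obtain ⟨i, hi, hdi⟩ := (Nat.dvd_prime_pow hp).mp hd
  interval_cases i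
  · left; simpa using hdi
  · right; simpa using hdi
  · exfalso
    obtain ⟨a, b, hab⟩ := hnc
    exact hab (H7_comm_of_natDegree_eq K A y (by rw [hdi, hA]) a b)

/-- Conjugation by a nonzero element as a `K`-algebra map. -/
noncomputable def H7_conj (v : A) (hv : v ≠ 0) : A →ₐ[K] A where
  toFun x := v * x * v⁻¹
  map_one' := by rw [mul_one, mul_inv_cancel₀ hv]
  map_mul' x y := by
    calc v * (x * y) * v⁻¹ = v * x * (v⁻¹ * v) * y * v⁻¹ := by
          rw [inv_mul_cancel₀ hv]; simp [mul_assoc]
      _ = v * x * v⁻¹ * (v * y * v⁻¹) := by simp [mul_assoc]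
  map_zero' := by simp
  map_add' x y := by rw [mul_add, add_mul]
  commutes' r := by
    rw [← Algebra.commutes r v, mul_assoc, mul_inv_cancel₀ hv, mul_one]

theorem H7_conj_apply (v : A) (hv : v ≠ 0) (x : A) : H7_conj K A v hv x = v * x * v⁻¹ := rfl

theorem H7_conj_aeval (v : A) (hv : v ≠ 0) (y : A) (g : K[X]) :
    aeval (v * y * v⁻¹) g = v * aeval y g * v⁻¹ :=
  Polynomial.aeval_algHom_apply (H7_conj K A v hv) y g

end

section transfer

universe u v

/-- Transport a Galois extension of `K` embedded in `A` to the universe of `A`. -/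
theorem H7_transfer_galois (K : Type u) [Field K] (A : Type v) [DivisionRing A] [Algebra K A]
    (p : ℕ) (F : Type u) [Field F] [Algebra K F] [IsGalois K F]
    (hfin : Module.finrank K F = p) (φ : F →ₐ[K] A) :
    ∃ (L : Type v) (_ : Field L) (_ : Algebra K L), IsGalois K L ∧ Module.finrank K L = p ∧
      Nonempty (L →ₐ[K] A) := by
  have hinj : Function.Injective φ := φ.toRingHom.injective
  let e₀ : ↥(Set.range ⇑φ) ≃ F := (Equiv.ofInjective φ hinj).symm
  let iF : Field ↥(Set.range ⇑φ) := e₀.field
  let iA : Algebra K ↥(Set.range ⇑φ) := e₀.algebra K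
  let e : ↥(Set.range ⇑φ) ≃ₐ[K] F := e₀.algEquiv K
  refine ⟨↥(Set.range ⇑φ), iF, iA, ?_, ?_, ⟨φ.comp e.toAlgHom⟩⟩
  · exact IsGalois.of_algEquiv e.symm
  · rw [e.toLinearEquiv.finrank_eq]; exact hfin

end transfer

end Groth.Agent.Lib.helper7
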