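import Mathlib
import Groth.Agent.Lib.helper7.DivAlg

set_option autoImplicit false

namespace Groth.Agent.Lib.helper7

open Polynomial

/-- An element `x ∉ K` with `x ^ p ∈ K` (characteristic `p`) is not separable over `K`. -/
theorem H7_not_isSeparable_of_pow (K : Type*) [Field K] (A : Type*) [DivisionRing A] [Algebra K A]
    [FiniteDimensional K A] (p : ℕ) [Fact p.Prime] [CharP K p] (x : A)
    (hx : x ^ p ∈ (algebraMap K A).range) (hxK : x ∉ (algebraMap K A).range) :
    ¬ IsSeparable K x := by
  intro hsep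
  have hp : p.Prime := Fact.out
  have hint : IsIntegral K x := Algebra.IsIntegral.isIntegral x
  obtain ⟨b, hb⟩ := hx
  set μ := minpoly K x with hμ
  have hdvd : μ ∣ X ^ p - C b := minpoly.dvd K x (by simp [hb])
  have hchar : CharP (AlgebraicClosure K) p :=
    charP_of_injective_algebraMap (algebraMap K (AlgebraicClosure K)).injective p
  obtain ⟨β, hβ⟩ := IsAlgClosed.exists_pow_nat_eq (algebraMap K (AlgebraicClosure K) b) hp.pos
  have h1 : (X ^ p - C b : K[X]).map (algebraMap K (AlgebraicClosure K)) = (X - C β) ^ p := by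
    rw [sub_pow_char, ← C_pow, hβ]; simp
  have h2 : μ.map (algebraMap K (AlgebraicClosure K)) ∣ (X - C β) ^ p := by
    rw [← h1]; exact Polynomial.map_dvd _ hdvd
  obtain ⟨i, hi, hassoc⟩ := (dvd_prime_pow (prime_X_sub_C β) p).mp h2
  have hsq : Squarefree (μ.map (algebraMap K (AlgebraicClosure K))) :=
    (Separable.map hsep).squarefree
  have hi1 : i ≤ 1 := by
    by_contra hcon
    push Not at hcon
    have hd : (X - C β) * (X - C β) ∣ μ.map (algebraMap K (AlgebraicClosure K)) := by
      obtain ⟨j, rfl⟩ := Nat.exists_eq_add_of_le hcon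
      refine Dvd.dvd.trans ?_ hassoc.symm.dvd
      exact ⟨(X - C β) ^ j, by ring⟩
    exact not_isUnit_X_sub_C β (hsq _ hd)
  have hdeg : μ.natDegree ≤ 1 := by
    have h3 : μ.map (algebraMap K (AlgebraicClosure K)) ∣ (X - C β) ^ i := hassoc.dvd
    have h4 := natDegree_le_of_dvd h3 (pow_ne_zero _ (X_sub_C_ne_zero β))
    rw [natDegree_pow, natDegree_X_sub_C, mul_one, natDegree_map] at h4
    exact le_trans h4 hi1
  have hpos : 0 < μ.natDegree := minpoly.natDegree_pos hint
  have h1' : μ.natDegree = 1 := by omega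
  exact hxK (minpoly.natDegree_eq_one_iff.mp h1')

/-- An endomorphism with `T ^ p = T`, `T ≠ 0` in characteristic `p` has a nonzero eigenvalue. -/
theorem H7_eigen (K : Type*) [Field K] (p : ℕ) [Fact p.Prime] [CharP K p] (V : Type*)
    [AddCommGroup V] [Module K V] [FiniteDimensional K V] (T : Module.End K V)
    (hT : T ^ p = T) (hT0 : T ≠ 0) : ∃ c : K, c ≠ 0 ∧ ∃ x : V, x ≠ 0 ∧ T x = c • x := by
  have hp1 : 1 < p := (Fact.out : p.Prime).one_lt
  set q : K[X] := X ^ p - X with hq
  have hq0 : q ≠ 0 := FiniteField.X_pow_card_sub_X_ne_zero K hp1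
  have hqT : aeval T q = 0 := by simp [hq, hT]
  have hint : IsIntegral K T := Algebra.IsIntegral.isIntegral T
  have hnt : Nontrivial (Module.End K V) := ⟨⟨T, 0, hT0⟩⟩
  set μ := minpoly K T with hμ
  have hμq : μ ∣ q := minpoly.dvd K T hqT
  have hqsplit : q.Splits := by
    have : q = (X ^ p - X : (ZMod p)[X]).map (ZMod.castHom (dvd_refl p) K) := by simp [hq]
    rw [this]
    exact (GaloisField.splits_zmod_X_pow_sub_X p).map _
  have hqsep : q.Separable := by
    rw [separable_def]
    have hd : derivative q = -1 := by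
      simp [hq, derivative_X_pow]
    rw [hd]
    exact ⟨0, -1, by ring⟩
  have hμsplit : μ.Splits := Splits.of_dvd hqsplit hq0 hμq
  have hμsep : μ.Separable := hqsep.of_dvd hμq
  have hμmonic : μ.Monic := minpoly.monic hint
  have hμdeg : 0 < μ.natDegree := minpoly.natDegree_pos hint
  have hex : ∃ c ∈ μ.roots, c ≠ 0 := by
    by_contra hcon
    push Not at hcon
    have hnd := nodup_roots hμsep
    have hle : μ.roots ≤ {0} := by
      rw [Multiset.le_iff_subset hnd]
      intro c hc
      simp [hcon c hc]
    have hcard : Multiset.card μ.roots = μ.natDegree := hμsplit.natDegree_eq_card_roots.symm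
    have hroots : μ.roots = {0} := by
      apply Multiset.eq_of_le_of_card_le hle
      rw [hcard, Multiset.card_singleton]
      omega
    have hμX : μ = X := by
      have := hμsplit.eq_prod_roots_of_monic hμmonic
      rw [hroots] at this
      simpa using this
    have : aeval T μ = 0 := minpoly.aeval K T
    rw [hμX, aeval_X] at this
    exact hT0 this
  obtain ⟨c, hc, hc0⟩ := hex
  have hroot : μ.IsRoot c := (mem_roots hμmonic.ne_zero).mp hc
  obtain ⟨x, hx⟩ := (Module.End.hasEigenvalue_of_isRoot hroot).exists_hasEigenvector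
  exact ⟨c, hc0, x, hx.2, hx.apply_eq_smul⟩

end Groth.Agent.Lib.helper7
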