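import Mathlib

set_option autoImplicit false

namespace Groth.Agent.Lib.helper7

open Polynomial

/-- Artin–Schreier generator of a Galois extension of degree `p` in characteristic `p`. -/
theorem H7_exists_AS (K L : Type*) [Field K] [Field L] [Algebra K L] [IsGalois K L] (p : ℕ)
    [Fact p.Prime] [CharP K p] (hL : Module.finrank K L = p) :
    ∃ (σ : L ≃ₐ[K] L) (θ : L), σ θ = θ + 1 ∧ ∃ a : K, θ ^ p - θ = algebraMap K L a := by
  classical
  have hp : p.Prime := Fact.out
  have hfd : FiniteDimensional K L := Module.finite_of_finrank_pos (by rw [hL]; exact hp.pos)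
  have hcard : Nat.card (L ≃ₐ[K] L) = p := by rw [IsGalois.card_aut_eq_finrank, hL]
  have hcharL : CharP L p := charP_of_injective_algebraMap (algebraMap K L).injective p
  have hex1 : ∃ σ : L ≃ₐ[K] L, σ ≠ 1 := by
    have : Nontrivial (L ≃ₐ[K] L) :=
      (Finite.one_lt_card_iff_nontrivial).mp (by rw [hcard]; exact hp.one_lt)
    exact exists_ne 1
  obtain ⟨σ, hσ⟩ := hex1
  have hgen : ∀ τ : L ≃ₐ[K] L, τ ∈ Subgroup.zpowers σ := by
    intro τ
    rw [zpowers_eq_top_of_prime_card hcard hσ]
    trivial
  have hσp : σ ^ p = 1 := by rw [← hcard]; exact pow_card_eq_one'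
  have hfix : ∀ z : L, σ z = z → ∃ c : K, z = algebraMap K L c := by
    intro z hz
    have hmem : z ∈ (⊥ : IntermediateField K L) := by
      rw [IsGalois.mem_bot_iff_fixed]
      intro τ
      have hle : Subgroup.zpowers σ ≤ MulAction.stabilizer (L ≃ₐ[K] L) z := by
        rw [Subgroup.zpowers_le, MulAction.mem_stabilizer_iff]
        exact hz
      have := MulAction.mem_stabilizer_iff.mp (hle (hgen τ))
      exact this
    obtain ⟨c, hc⟩ := IntermediateField.mem_bot.mp hmem
    exact ⟨c, hc.symm⟩
  set N : Module.End K L := σ.toLinearMap - 1 with hN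
  have hinjalg : Function.Injective (algebraMap K (Module.End K L)) := by
    intro a b h
    have := congrArg (fun f : Module.End K L => f 1) h
    simp only [Module.algebraMap_end_apply] at this
    rw [Algebra.smul_def, Algebra.smul_def, mul_one, mul_one] at this
    exact (algebraMap K L).injective this
  have hcharE : CharP (Module.End K L) p := charP_of_injective_algebraMap hinjalg p
  have hNp : N ^ p = 0 := by
    rw [hN, sub_pow_char_of_commute p (Commute.one_right _), one_pow,
      ← AlgEquiv.pow_toLinearMap, hσp]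
    ext y
    simp
  have hex : ∃ k, N ^ k = 0 := ⟨p, hNp⟩
  have hk : N ^ (Nat.find hex) = 0 := Nat.find_spec hex
  have hk0 : Nat.find hex ≠ 0 := by
    intro h
    rw [h, pow_zero] at hk
    exact one_ne_zero hk
  obtain ⟨j, hj⟩ : ∃ j, Nat.find hex = j + 1 := Nat.exists_eq_succ_of_ne_zero hk0
  have hj' : N ^ j ≠ 0 := Nat.find_min hex (by omega : j < Nat.find hex)
  obtain ⟨z, hz⟩ : ∃ z, (N ^ j) z ≠ 0 := by
    by_contra h
    push Not at h
    exact hj' (LinearMap.ext h)
  have hNw : N ((N ^ j) z) = 0 := by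
    rw [← Module.End.mul_apply, ← pow_succ', ← hj, hk]
    rfl
  have hσw : σ ((N ^ j) z) = (N ^ j) z := by
    have := hNw
    rw [hN] at this
    simpa [sub_eq_zero] using this
  obtain ⟨c, hc⟩ := hfix _ hσw
  have hc0 : c ≠ 0 := by
    rintro rfl
    rw [map_zero] at hc
    exact hz hc
  have hj0 : j ≠ 0 := by
    intro h0
    rw [h0] at hj
    rw [hj, zero_add, pow_one] at hk
    apply hσ
    ext y
    have := congrArg (fun f : Module.End K L => f y) hk
    simpa [hN, sub_eq_zero] using this
  obtain ⟨i, hi⟩ : ∃ i, j = i + 1 := Nat.exists_eq_succ_of_ne_zero hj0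
  have hNθ' : N ((N ^ i) z) = (N ^ j) z := by
    rw [← Module.End.mul_apply, ← pow_succ', ← hi]
  set θ := c⁻¹ • (N ^ i) z with hθ
  have hNθ : N θ = 1 := by
    rw [hθ, map_smul, hNθ', hc, Algebra.smul_def, ← map_mul, inv_mul_cancel₀ hc0, map_one]
  have hσθ : σ θ = θ + 1 := by
    have := hNθ
    rw [hN] at this
    simp only [LinearMap.sub_apply, AlgEquiv.toLinearMap_apply, Module.End.one_apply] at this
    linear_combination this
  refine ⟨σ, θ, hσθ, ?_⟩
  have hfixed : σ (θ ^ p - θ) = θ ^ p - θ := by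
    rw [map_sub, map_pow, hσθ, add_pow_char, one_pow]; ring
  obtain ⟨a, ha⟩ := hfix _ hfixed
  exact ⟨a, ha⟩

end Groth.Agent.Lib.helper7
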