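import Mathlib
import Groth.Agent.Lib.helper7.DivAlg

set_option autoImplicit false

namespace Groth.Agent.Lib.helper7

open Polynomial

section
variable (K : Type*) [Field K] (p : ℕ) [Fact p.Prime] [CharP K p]
  (A : Type*) [DivisionRing A] [Algebra K A] [FiniteDimensional K A]

/-- an inseparable element whose minimal polynomial has degree `p` has `p`-th power in `K`. -/
theorem H7_pow_mem_of_not_sep (v : A) (hv : ¬ IsSeparable K v)
    (hdeg : (minpoly K v).natDegree = p) : v ^ p ∈ (algebraMap K A).range := by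
  have hp : p.Prime := Fact.out
  have hint : IsIntegral K v := Algebra.IsIntegral.isIntegral v
  have hirr := minpoly.irreducible hint
  have hder : derivative (minpoly K v) = 0 := by
    by_contra hcon
    exact hv ((separable_iff_derivative_ne_zero hirr).mpr hcon)
  have hexp := expand_contract p hder hp.ne_zero
  set g := contract p (minpoly K v) with hg
  have hgdeg : g.natDegree = 1 := by
    have := natDegree_expand p g
    rw [hexp, hdeg] at this
    have hp0 := hp.pos
    nlinarith
  have hg1 : g.coeff 1 = 1 := by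
    rw [hg, coeff_contract hp.ne_zero, one_mul]
    have := (minpoly.monic hint).coeff_natDegree
    rw [hdeg] at this
    exact this
  have hgeq : g = X + C (g.coeff 0) := by
    have := Polynomial.eq_X_add_C_of_natDegree_le_one (le_of_eq hgdeg)
    rw [hg1, C_1, one_mul] at this
    exact this
  have h0 : aeval v (minpoly K v) = 0 := minpoly.aeval K v
  rw [← hexp, hgeq] at h0
  simp only [map_add, expand_X, expand_C, aeval_X_pow, aeval_C] at h0
  refine ⟨-(g.coeff 0), ?_⟩
  rw [map_neg]
  exact (eq_neg_of_add_eq_zero_left h0).symm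


/-- inner derivation -/
noncomputable def H7_ad (v : A) : A →ₗ[K] A := LinearMap.mulLeft K v - LinearMap.mulRight K v

omit [FiniteDimensional K A] in
theorem H7_ad_apply (v x : A) : H7_ad K A v x = v * x - x * v := rfl

omit [FiniteDimensional K A] in
theorem H7_ad_mul (v x y : A) : H7_ad K A v (x * y) = H7_ad K A v x * y + x * H7_ad K A v y := by
  simp only [H7_ad_apply]
  noncomm_ring

theorem H7_ad_pow_char (v : A) (hv : v ^ p ∈ (algebraMap K A).range) : (H7_ad K A v) ^ p = 0 := by
  have hchar : CharP (Module.End K A) p :=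
    charP_of_injective_algebraMap (algebraMap K (Module.End K A)).injective p
  unfold H7_ad
  rw [sub_pow_char_of_commute p (LinearMap.commute_mulLeft_right (R := K) v v),
    LinearMap.pow_mulLeft, LinearMap.pow_mulRight]
  obtain ⟨c, hc⟩ := hv
  rw [← hc]
  ext x
  simp only [LinearMap.sub_apply, LinearMap.mulLeft_apply, LinearMap.mulRight_apply,
    LinearMap.zero_apply]
  rw [Algebra.commutes, sub_self]


omit [FiniteDimensional K A] in
theorem H7_exists_ad_one (v : A) (hnil : (H7_ad K A v) ^ p = 0) (hnc : ∃ x, H7_ad K A v x ≠ 0) :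
    ∃ u : A, v * u - u * v = 1 := by
  classical
  obtain ⟨x, hx⟩ := hnc
  have hp : p.Prime := Fact.out
  set k := Nat.findGreatest (fun k => ((H7_ad K A v) ^ k) x ≠ 0) p with hk
  have h1 : 1 ≤ k := Nat.le_findGreatest hp.one_lt.le (by rw [pow_one]; exact hx)
  have hkne : ((H7_ad K A v) ^ k) x ≠ 0 :=
    Nat.findGreatest_spec (P := fun k => ((H7_ad K A v) ^ k) x ≠ 0) hp.one_lt.le
      (by rw [pow_one]; exact hx)
  have hkp : k ≤ p := Nat.findGreatest_le p
  have hkp' : k < p := by
    rcases Nat.lt_or_ge k p with h | h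
    · exact h
    · exfalso
      have : k = p := le_antisymm hkp h
      rw [this, hnil] at hkne
      exact hkne rfl
  have hsucc : ((H7_ad K A v) ^ (k + 1)) x = 0 := by
    by_contra hcon
    have := Nat.le_findGreatest (P := fun k => ((H7_ad K A v) ^ k) x ≠ 0) (show k + 1 ≤ p from hkp') hcon
    omega
  clear hk
  clear_value k
  obtain ⟨k', rfl⟩ : ∃ k', k = k' + 1 := ⟨k - 1, by omega⟩
  set z := ((H7_ad K A v) ^ (k' + 1)) x with hz
  set y := ((H7_ad K A v) ^ k') x with hy
  have hyz : v * y - y * v = z := by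
    rw [hz, pow_succ', Module.End.mul_apply, H7_ad_apply]
  have hzc : v * z = z * v := by
    rw [pow_succ', Module.End.mul_apply, H7_ad_apply] at hsucc
    exact sub_eq_zero.mp hsucc
  have hzi : v * z⁻¹ = z⁻¹ * v := by
    calc v * z⁻¹ = z⁻¹ * (z * v) * z⁻¹ := by
          rw [← mul_assoc, inv_mul_cancel₀ hkne, one_mul]
      _ = z⁻¹ * (v * z) * z⁻¹ := by rw [hzc]
      _ = z⁻¹ * v := by rw [mul_assoc, mul_assoc, mul_inv_cancel₀ hkne, mul_one]
  refine ⟨z⁻¹ * y, ?_⟩
  calc v * (z⁻¹ * y) - z⁻¹ * y * v = z⁻¹ * (v * y - y * v) := by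
        rw [← mul_assoc, hzi]; noncomm_ring
    _ = 1 := by rw [hyz, inv_mul_cancel₀ hkne]


omit [FiniteDimensional K A] [Fact p.Prime] [CharP K p] in
theorem H7_ad_pow_u (v u : A) (hu : v * u - u * v = 1) (j : ℕ) :
    H7_ad K A v (u ^ (j + 1)) = (j + 1) • u ^ j := by
  induction j with
  | zero => rw [zero_add, pow_one, pow_zero, one_smul, H7_ad_apply, hu]
  | succ j ih =>
    rw [pow_succ, H7_ad_mul, ih, H7_ad_apply _ _ v u, hu, mul_one, smul_mul_assoc, ← pow_succ,
      succ_nsmul, succ_nsmul, succ_nsmul]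

omit [FiniteDimensional K A] [Fact p.Prime] [CharP K p] in
theorem H7_phi_commute (v : A) (a : AdjoinRoot (minpoly K v)) :
    v * H7_phi K A v a = H7_phi K A v a * v := by
  induction a using AdjoinRoot.induction_on with
  | ih g =>
    rw [H7_phi_mk]
    have := (Polynomial.commute_X g).map (aeval v)
    rw [aeval_X] at this
    exact this

omit [FiniteDimensional K A] [Fact p.Prime] [CharP K p] in
theorem H7_ad_phi_mul (v : A) (a : AdjoinRoot (minpoly K v)) (w : A) :
    H7_ad K A v (H7_phi K A v a * w) = H7_phi K A v a * H7_ad K A v w := by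
  rw [H7_ad_mul, H7_ad_apply, H7_phi_commute, sub_self, zero_mul, zero_add]

theorem H7_indep (v u : A) (hu : v * u - u * v = 1) (m : ℕ) (hm : m < p) :
    ∀ a : ℕ → AdjoinRoot (minpoly K v),
      ∑ j ∈ Finset.range (m + 1), H7_phi K A v (a j) * u ^ j = 0 → ∀ j ≤ m, a j = 0 := by
  have hinj := H7_phi_injective K A v
  induction m with
  | zero =>
    intro a h j hj
    rw [zero_add, Finset.sum_range_one, pow_zero, mul_one] at h
    have : a 0 = 0 := hinj (by rw [h, map_zero])
    rw [Nat.le_zero.mp hj, this]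
  | succ m ih =>
    intro a h j hj
    have hD := congrArg (H7_ad K A v) h
    rw [map_zero, map_sum, Finset.sum_range_succ'] at hD
    simp only [H7_ad_phi_mul, pow_zero] at hD
    have h1 : H7_ad K A v 1 = 0 := by rw [H7_ad_apply, mul_one, one_mul, sub_self]
    rw [h1, mul_zero, add_zero] at hD
    have hD' : ∑ i ∈ Finset.range (m + 1), H7_phi K A v ((i + 1) • a (i + 1)) * u ^ i = 0 := by
      rw [← hD]
      apply Finset.sum_congr rfl
      intro i _
      rw [H7_ad_pow_u K A v u hu, map_nsmul, smul_mul_assoc, mul_smul_comm]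
    have h2 := ih (by omega) (fun i => (i + 1) • a (i + 1)) hD'
    have h3 : ∀ i ≤ m, a (i + 1) = 0 := by
      intro i hi
      have := h2 i hi
      have hne : ((i + 1 : ℕ) : K) ≠ 0 := by
        rw [Ne, CharP.cast_eq_zero_iff K p]
        intro hdvd
        have := Nat.le_of_dvd (by omega) hdvd
        omega
      rw [← Nat.cast_smul_eq_nsmul K] at this
      exact (smul_eq_zero.mp this).resolve_left hne
    rcases Nat.eq_zero_or_pos j with rfl | hjpos
    · rw [Finset.sum_range_succ'] at h
      have : ∑ i ∈ Finset.range (m + 1), H7_phi K A v (a (i + 1)) * u ^ (i + 1) = 0 := by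
        apply Finset.sum_eq_zero
        intro i hi
        rw [h3 i (by rw [Finset.mem_range] at hi; omega), map_zero, zero_mul]
      rw [this, zero_add, pow_zero, mul_one] at h
      exact hinj (by rw [h, map_zero])
    · obtain ⟨i, rfl⟩ : ∃ i, j = i + 1 := ⟨j - 1, by omega⟩
      exact h3 i (by omega)


/-- the map `(a_j) ↦ Σ φ(a_j) u^j` -/
noncomputable def H7_Psi (v u : A) : (Fin p → AdjoinRoot (minpoly K v)) →ₗ[K] A where
  toFun a := ∑ j : Fin p, H7_phi K A v (a j) * u ^ (j : ℕ)
  map_add' a b := by
    simp only [Pi.add_apply, map_add, add_mul, Finset.sum_add_distrib]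
  map_smul' c a := by
    simp only [Pi.smul_apply, map_smul, smul_mul_assoc, RingHom.id_apply, Finset.smul_sum]

theorem H7_Psi_injective (v u : A) (hu : v * u - u * v = 1) :
    Function.Injective (H7_Psi K p A v u) := by
  have hp : p.Prime := Fact.out
  rw [← LinearMap.ker_eq_bot, LinearMap.ker_eq_bot']
  intro a ha
  let a' : ℕ → AdjoinRoot (minpoly K v) := fun j => if h : j < p then a ⟨j, h⟩ else 0
  have hsum : ∑ j ∈ Finset.range (p - 1 + 1), H7_phi K A v (a' j) * u ^ j = 0 := by
    have e : p - 1 + 1 = p := Nat.sub_add_cancel hp.one_lt.le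
    rw [e, ← Fin.sum_univ_eq_sum_range (fun j => H7_phi K A v (a' j) * u ^ j) p]
    rw [← ha]
    show _ = ∑ j : Fin p, H7_phi K A v (a j) * u ^ (j : ℕ)
    apply Finset.sum_congr rfl
    intro j _
    simp only [a', j.2, dif_pos]
  have := H7_indep K p A v u hu (p - 1) (Nat.sub_lt hp.pos one_pos) a' hsum
  funext j
  have hj := this j.1 (by have := j.2; omega)
  simp only [a', j.2, dif_pos] at hj
  exact hj

theorem H7_adjoin_top (v u : A) (hu : v * u - u * v = 1) (hdeg : (minpoly K v).natDegree = p)
    (hA : Module.finrank K A = p ^ 2) : Algebra.adjoin K {v, u} = ⊤ := by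
  have hint : IsIntegral K v := Algebra.IsIntegral.isIntegral v
  have h2 : Module.finrank K (AdjoinRoot (minpoly K v)) = p := by
    rw [(AdjoinRoot.powerBasis (minpoly.ne_zero hint)).finrank, AdjoinRoot.powerBasis_dim, hdeg]
  have : Module.Finite K (AdjoinRoot (minpoly K v)) :=
    Module.Finite.of_basis (AdjoinRoot.powerBasis (minpoly.ne_zero hint)).basis
  have hfr : Module.finrank K (Fin p → AdjoinRoot (minpoly K v)) = Module.finrank K A := by
    rw [Module.finrank_pi_fintype, hA]
    simp only [h2, Finset.sum_const, Finset.card_univ, Fintype.card_fin, smul_eq_mul]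
    ring
  have hsurj : Function.Surjective (H7_Psi K p A v u) :=
    (LinearMap.injective_iff_surjective_of_finrank_eq_finrank hfr).mp (H7_Psi_injective K p A v u hu)
  rw [eq_top_iff]
  intro w _
  obtain ⟨a, rfl⟩ := hsurj w
  show ∑ j : Fin p, H7_phi K A v (a j) * u ^ (j : ℕ) ∈ Algebra.adjoin K {v, u}
  apply Subalgebra.sum_mem
  intro j _
  apply Subalgebra.mul_mem
  · generalize a j = b
    induction b using AdjoinRoot.induction_on with
    | ih g =>
      rw [H7_phi_mk]
      exact Algebra.adjoin_mono (by simp) (Polynomial.aeval_mem_adjoin_singleton K v)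
  · exact Subalgebra.pow_mem _ (Algebra.subset_adjoin (by simp)) _


theorem H7_weyl [Algebra.IsCentral K A] (hA : Module.finrank K A = p ^ 2)
    (h : ∃ v : A, ¬ IsSeparable K v) :
    ∃ v u : A, v ^ p ∈ (algebraMap K A).range ∧ u ^ p ∈ (algebraMap K A).range ∧
      v * u - u * v = 1 ∧ Algebra.adjoin K {v, u} = ⊤ := by
  have hp : p.Prime := Fact.out
  obtain ⟨v, hv⟩ := h
  have hvK : v ∉ (algebraMap K A).range := by
    rintro ⟨c, rfl⟩
    exact hv (isSeparable_algebraMap c)
  have hncv : ∃ x, H7_ad K A v x ≠ 0 := by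
    by_contra hcon
    push Not at hcon
    apply hvK
    have : v ∈ Subalgebra.center K A := by
      rw [Subalgebra.mem_center_iff]
      intro b
      have := hcon b
      rw [H7_ad_apply, sub_eq_zero] at this
      exact this.symm
    rw [Algebra.IsCentral.mem_center_iff] at this
    obtain ⟨a, rfl⟩ := this
    exact ⟨a, rfl⟩
  have hnc : ∃ a b : A, a * b ≠ b * a := by
    obtain ⟨x, hx⟩ := hncv
    refine ⟨v, x, fun h => hx ?_⟩
    rw [H7_ad_apply, h, sub_self]
  have hdeg : (minpoly K v).natDegree = p := by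
    rcases H7_natDegree_minpoly_of_prime_sq K A p hp hA hnc v with h1 | h1
    · exact absurd (minpoly.natDegree_eq_one_iff.mp h1) hvK
    · exact h1
  have hvp := H7_pow_mem_of_not_sep K p A v hv hdeg
  have hnil := H7_ad_pow_char K p A v hvp
  obtain ⟨u, hu⟩ := H7_exists_ad_one K p A v hnil hncv
  have htop := H7_adjoin_top K p A v u hu hdeg hA
  refine ⟨v, u, hvp, ?_, hu, htop⟩
  have hcharA : CharP A p := charP_of_injective_algebraMap (algebraMap K A).injective p
  have hcv : v * u ^ p = u ^ p * v := by
    obtain ⟨q, hq⟩ : ∃ q, p = q + 1 := ⟨p - 1, (Nat.sub_add_cancel hp.pos).symm⟩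
    have := H7_ad_pow_u K A v u hu q
    rw [← hq, H7_ad_apply, ← Nat.cast_smul_eq_nsmul A, CharP.cast_eq_zero, zero_smul] at this
    exact sub_eq_zero.mp this
  have hcen : u ^ p ∈ Subalgebra.center K A := by
    rw [Subalgebra.mem_center_iff]
    have hle : Algebra.adjoin K {v, u} ≤ Subalgebra.centralizer K {u ^ p} := by
      apply Algebra.adjoin_le
      intro w hw
      simp only [Set.mem_insert_iff, Set.mem_singleton_iff] at hw
      rw [SetLike.mem_coe, Subalgebra.mem_centralizer_iff]
      intro g hg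
      rw [Set.mem_singleton_iff] at hg
      subst hg
      rcases hw with rfl | rfl
      · exact hcv.symm
      · rw [← pow_succ, ← pow_succ']
    intro b
    have hb : b ∈ Algebra.adjoin K {v, u} := by rw [htop]; trivial
    have := hle hb
    rw [Subalgebra.mem_centralizer_iff] at this
    exact (this (u ^ p) rfl).symm
  rw [Algebra.IsCentral.mem_center_iff] at hcen
  obtain ⟨a, ha⟩ := hcen
  exact ⟨a, ha.symm⟩

end
end Groth.Agent.Lib.helper7
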