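import Mathlib
open scoped TensorProduct

namespace Groth.Agent.Lib.helper7

theorem H7_exists_avoid {k K V ι : Type*} [Field k] [Field K] [Algebra k K] [AddCommGroup V]
    [Module k V] [Module.Finite k V] [Fintype ι]
    (θ : Module.Basis ι K (Module.Dual K (K ⊗[k] V))) :
    ∃ x : V, ∀ i, θ i ((1 : K) ⊗ₜ[k] x) ≠ 0 := by
  classical
  have hcard : Fintype.card (Fin (Module.finrank k V)) = Fintype.card ι := by
    rw [Fintype.card_fin, ← Module.finrank_eq_card_basis θ, Subspace.dual_finrank_eq,
      Module.finrank_baseChange]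
  let e : Module.Basis ι k V := (Module.finBasis k V).reindex (Fintype.equivOfCardEq hcard)
  let E : Module.Basis ι K (K ⊗[k] V) := Algebra.TensorProduct.basis K e
  have hE : ∀ j, E j = (1 : K) ⊗ₜ[k] e j := fun j => Algebra.TensorProduct.basis_apply e j
  let M : Matrix ι ι K := Matrix.of fun i j => θ i (E j)
  have hMdet : M.det ≠ 0 := by
    have h1 : IsUnit (E.dualBasis.det θ) := Module.Basis.isUnit_det _ _
    have h2 : E.dualBasis.toMatrix θ = M.transpose := by
      ext j i
      simp [Module.Basis.toMatrix_apply, M]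
    rw [Module.Basis.det_apply, h2, Matrix.det_transpose] at h1
    exact h1.ne_zero
  let b := Module.Free.chooseBasis k K
  let S : Finset (Module.Free.ChooseBasisIndex k K) :=
    Finset.univ.biUnion fun i : ι => Finset.univ.biUnion fun j : ι => (b.repr (M i j)).support
  have hM : ∀ i j, M i j = ∑ β ∈ S, algebraMap k K (b.repr (M i j) β) * b β := by
    intro i j
    conv_lhs => rw [← b.linearCombination_repr (M i j)]
    rw [Finsupp.linearCombination_apply, Finsupp.sum]
    rw [Finset.sum_subset (s₁ := (b.repr (M i j)).support) (s₂ := S)]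
    · refine Finset.sum_congr rfl fun β _ => ?_
      rw [Algebra.smul_def]
    · intro β hβ
      simp only [S, Finset.mem_biUnion, Finset.mem_univ, true_and]
      exact ⟨i, j, hβ⟩
    · intro β _ hβ
      rw [Finsupp.notMem_support_iff] at hβ
      rw [hβ, zero_smul]
  have hdet : M.det = ∑ r ∈ Fintype.piFinset (fun _ : ι => S), (∏ i, b (r i)) *
      algebraMap k K (Matrix.det (Matrix.of fun i j => b.repr (M i j) (r i))) := by
    have h1 : M = Matrix.of fun i => ∑ β ∈ S, (fun j => algebraMap k K (b.repr (M i j) β) * b β) := by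
      ext i j
      rw [Matrix.of_apply, Finset.sum_apply]
      exact hM i j
    have h2 : M.det = Matrix.detRowAlternating
        (fun i => ∑ β ∈ S, (fun j => algebraMap k K (b.repr (M i j) β) * b β)) := by
      conv_lhs => rw [h1]
      rfl
    rw [h2]
    have h3 := (Matrix.detRowAlternating (R := K) (n := ι)).toMultilinearMap.map_sum_finset
      (fun i β => (fun j => algebraMap k K (b.repr (M i j) β) * b β)) (fun _ => S)
    simp only [AlternatingMap.coe_multilinearMap] at h3
    rw [h3]
    refine Finset.sum_congr rfl fun r _ => ?_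
    have h4 : (Matrix.detRowAlternating fun i j => (algebraMap k K) ((b.repr (M i j)) (r i)) * b (r i)) =
        Matrix.det (Matrix.of fun i j => b (r i) *
          (Matrix.of fun i j => algebraMap k K (b.repr (M i j) (r i))) i j) := by
      show Matrix.det _ = Matrix.det _
      congr 1
      ext i j
      simp [mul_comm]
    rw [h4, Matrix.det_mul_column]
    congr 1
    rw [RingHom.map_det]
    rfl
  obtain ⟨r, -, hr⟩ : ∃ r ∈ Fintype.piFinset (fun _ : ι => S), (∏ i, b (r i)) *
      algebraMap k K (Matrix.det (Matrix.of fun i j => b.repr (M i j) (r i))) ≠ 0 := by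
    by_contra hcon
    push Not at hcon
    apply hMdet
    rw [hdet]
    exact Finset.sum_eq_zero hcon
  set N : Matrix ι ι k := Matrix.of fun i j => b.repr (M i j) (r i) with hN
  have hNdet : N.det ≠ 0 := by
    intro h0
    apply hr
    rw [h0, map_zero, mul_zero]
  have hNu : IsUnit N.det := isUnit_iff_ne_zero.mpr hNdet
  let w : ι → k := N⁻¹.mulVec (fun _ => 1)
  have hw : N.mulVec w = fun _ => 1 := by
    simp only [w, Matrix.mulVec_mulVec, Matrix.mul_nonsing_inv _ hNu, Matrix.one_mulVec]
  refine ⟨∑ j, w j • e j, fun i h0 => ?_⟩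
  have h1 : θ i ((1 : K) ⊗ₜ[k] ∑ j, w j • e j) = ∑ j, w j • M i j := by
    rw [TensorProduct.tmul_sum, map_sum]
    refine Finset.sum_congr rfl fun j _ => ?_
    rw [TensorProduct.tmul_smul, LinearMap.map_smul_of_tower, ← hE]
    rfl
  rw [h1] at h0
  have h2 : b.repr (∑ j, w j • M i j) (r i) = 1 := by
    rw [map_sum, Finsupp.finsetSum_apply]
    simp only [map_smul, Finsupp.smul_apply, smul_eq_mul]
    have := congrFun hw i
    simp only [Matrix.mulVec, dotProduct, hN, Matrix.of_apply] at this
    rw [← this]
    exact Finset.sum_congr rfl fun j _ => mul_comm _ _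
  rw [h0] at h2
  simp at h2

end Groth.Agent.Lib.helper7
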