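import Mathlib

universe u
open TensorProduct

namespace Groth.Agent.Lib.helper7

theorem H7_S13041
    (R K A B : Type u) [CommRing R] [IsDomain R] [Field K] [Algebra R K] [IsFractionRing R K]
    [CommRing A] [CommRing B] [Algebra R A] [Algebra R B] [Algebra A B] [IsScalarTower R A B]
    [Module.Flat R A] [Module.Flat R B] [Module.Finite A B]
    (hK : Function.Bijective
      (Algebra.TensorProduct.map (AlgHom.id R K) (IsScalarTower.toAlgHom R A B)))
    (htr : Function.Surjective (fun u : B →ₗ[A] A => u 1)) :
    Function.Bijective (algebraMap A B) := by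
  obtain ⟨u, hu⟩ := htr 1
  simp only at hu
  have hui : ∀ a : A, u (algebraMap A B a) = a := by
    intro a
    rw [Algebra.algebraMap_eq_smul_one, map_smul, hu, smul_eq_mul, mul_one]
  refine ⟨fun a b hab => ?_, fun b => ?_⟩
  · rw [← hui a, hab, hui]
  · refine ⟨u b, ?_⟩
    set c : B := b - algebraMap A B (u b) with hc
    have huc : u c = 0 := by rw [hc, map_sub, hui, sub_self]
    suffices c = 0 by rw [hc, sub_eq_zero] at this; exact this.symm
    -- B → K ⊗ B injective
    have hinj : Function.Injective (fun x : B => (1 : K) ⊗ₜ[R] x) := by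
      have h1 : Function.Injective (Algebra.linearMap R K) := IsFractionRing.injective R K
      have h2 := Module.Flat.rTensor_preserves_injective_linearMap (M := B) (Algebra.linearMap R K) h1
      intro x y hxy
      have h3 : (Algebra.linearMap R K).rTensor B ((1 : R) ⊗ₜ[R] x) =
          (Algebra.linearMap R K).rTensor B ((1 : R) ⊗ₜ[R] y) := by
        simp only [LinearMap.rTensor_tmul, Algebra.linearMap_apply, map_one]
        exact hxy
      have h4 := h2 h3
      have h5 := congrArg (TensorProduct.lid R B) h4
      simpa using h5
    apply hinj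
    simp only
    obtain ⟨t, ht⟩ := hK.2 ((1 : K) ⊗ₜ[R] c)
    let U : K ⊗[R] B →ₗ[R] K ⊗[R] A := LinearMap.lTensor K (u.restrictScalars R)
    have hU : ∀ t : K ⊗[R] A,
        U (Algebra.TensorProduct.map (AlgHom.id R K) (IsScalarTower.toAlgHom R A B) t) = t := by
      intro t
      induction t using TensorProduct.induction_on with
      | zero => simp
      | tmul x a =>
        simp only [U, Algebra.TensorProduct.map_tmul, AlgHom.coe_id, id_eq,
          LinearMap.lTensor_tmul, LinearMap.coe_restrictScalars, IsScalarTower.coe_toAlgHom', hui]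
      | add x y hx hy => rw [map_add, map_add, hx, hy]
    have h6 : t = 0 := by
      rw [← hU t, ht]
      simp only [U, LinearMap.lTensor_tmul, LinearMap.coe_restrictScalars, huc, tmul_zero]
    rw [← ht, h6, map_zero, tmul_zero]

end Groth.Agent.Lib.helper7
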