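import Mathlib

universe u v
open DualNumber Pointwise

namespace Groth.Agent.Lib.helper7

section
variable (R : Type u) [CommRing R] (M : Type v)
    [AddCommGroup M] [Module R[ε] M] [Module R M] [IsScalarTower R R[ε] M]

theorem H7_dn_decomp (x : R[ε]) :
    x = algebraMap R R[ε] (TrivSqZeroExt.fst x) + algebraMap R R[ε] (TrivSqZeroExt.snd x) * ε := by
  ext
  · simp [TrivSqZeroExt.algebraMap_eq_inl]
  · simp [TrivSqZeroExt.algebraMap_eq_inl]

theorem H7_dn_smul (x : R[ε]) (m : M) :
    x • m = (TrivSqZeroExt.fst x) • m + (TrivSqZeroExt.snd x) • ((ε : R[ε]) • m) := by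
  conv_lhs => rw [H7_dn_decomp R x]
  rw [add_smul, mul_smul, algebraMap_smul, algebraMap_smul]

theorem H7_eps_eps (m : M) : (ε : R[ε]) • ((ε : R[ε]) • m) = 0 := by
  rw [← mul_smul, DualNumber.eps_mul_eps, zero_smul]

theorem H7_eps_smul_comm (a : R) (m : M) : (ε : R[ε]) • (a • m) = a • ((ε : R[ε]) • m) := by
  rw [← algebraMap_smul R[ε] a m, ← mul_smul, mul_comm, mul_smul, algebraMap_smul]

end

section
variable (R : Type u) [CommRing R] (M : Type v)
    [AddCommGroup M] [Module R[ε] M] [Module R M] [IsScalarTower R R[ε] M]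

theorem H7_mem_epsM (x : M) : x ∈ ((ε : R[ε]) • (⊤ : Submodule R[ε] M)) ↔ ∃ m : M, (ε : R[ε]) • m = x := by
  rw [Submodule.mem_smul_pointwise_iff_exists]
  constructor
  · rintro ⟨m, -, h⟩; exact ⟨m, h⟩
  · rintro ⟨m, h⟩; exact ⟨m, Submodule.mem_top, h⟩

theorem H7_dn_fwd (r : ℕ) (b : Module.Basis (Fin r) R[ε] M) :
    (Nonempty (Module.Basis (Fin r) R (M ⧸ ((ε : R[ε]) • (⊤ : Submodule R[ε] M)))) ∧
        Nonempty (Module.Basis (Fin r) R (((ε : R[ε]) • (⊤ : Submodule R[ε] M)).restrictScalars R))) := by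
  classical
  set N : Submodule R[ε] M := (ε : R[ε]) • (⊤ : Submodule R[ε] M) with hN
  have hsum : ∀ c : Fin r → R[ε], ∑ i, c i • b i = b.equivFun.symm c := by
    intro c; rw [Module.Basis.equivFun_symm_apply]
  have hepsb : ∀ i, (ε : R[ε]) • b i ∈ N := fun i => (H7_mem_epsM R M _).2 ⟨b i, rfl⟩
  constructor
  · -- basis of M ⧸ N
    let v : Fin r → M ⧸ N := fun i => Submodule.Quotient.mk (b i)
    have hli : LinearIndependent R v := by
      rw [Fintype.linearIndependent_iff]
      intro g hg
      have h1 : (Submodule.Quotient.mk (∑ i, g i • b i) : M ⧸ N) = 0 := by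
        rw [← hg]
        change N.mkQ (∑ i, g i • b i) = _
        rw [map_sum]
        exact Finset.sum_congr rfl (fun i _ => rfl)
      rw [Submodule.Quotient.mk_eq_zero, hN, H7_mem_epsM] at h1
      obtain ⟨m, hm⟩ := h1
      have h2 : ∑ i, g i • b i = b.equivFun.symm (fun i => algebraMap R R[ε] (g i)) := by
        rw [← hsum]
        exact Finset.sum_congr rfl (fun i _ => (algebraMap_smul R[ε] (g i) (b i)).symm)
      rw [h2] at hm
      have h3 := congrArg b.equivFun hm
      rw [map_smul, LinearEquiv.apply_symm_apply] at h3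
      intro i
      have h4 := congrArg TrivSqZeroExt.fst (congrFun h3 i)
      simpa [TrivSqZeroExt.algebraMap_eq_inl] using h4.symm
    have hsp : ⊤ ≤ Submodule.span R (Set.range v) := by
      intro q _
      obtain ⟨m, rfl⟩ := Submodule.Quotient.mk_surjective N q
      have h1 : m = ∑ i, b.equivFun m i • b i := by
        rw [hsum, LinearEquiv.symm_apply_apply]
      have h2 : (Submodule.Quotient.mk m : M ⧸ N) =
          ∑ i, (TrivSqZeroExt.fst (b.equivFun m i)) • v i := by
        conv_lhs => rw [h1]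
        change N.mkQ (∑ i, b.equivFun m i • b i) = _
        rw [map_sum]
        refine Finset.sum_congr rfl (fun i _ => ?_)
        rw [Submodule.mkQ_apply, H7_dn_smul R M, Submodule.Quotient.mk_add]
        have : (Submodule.Quotient.mk
            (TrivSqZeroExt.snd (b.equivFun m i) • ((ε : R[ε]) • b i)) : M ⧸ N) = 0 := by
          rw [Submodule.Quotient.mk_eq_zero, ← algebraMap_smul R[ε]]
          exact N.smul_mem _ (hepsb i)
        rw [this, add_zero]
        rfl
      rw [h2]
      exact Submodule.sum_mem _ (fun i _ => Submodule.smul_mem _ _ (Submodule.subset_span ⟨i, rfl⟩))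
    exact ⟨Module.Basis.mk hli hsp⟩
  · -- basis of N
    let w : Fin r → ↥(N.restrictScalars R) := fun i => ⟨(ε : R[ε]) • b i, hepsb i⟩
    have hli : LinearIndependent R w := by
      rw [Fintype.linearIndependent_iff]
      intro g hg
      have h1 : ∑ i, g i • ((ε : R[ε]) • b i) = 0 := by
        have := congrArg (Subtype.val) hg
        simpa [w] using this
      have h2 : ∑ i, g i • ((ε : R[ε]) • b i) =
          b.equivFun.symm (fun i => algebraMap R R[ε] (g i) * ε) := by
        rw [← hsum]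
        refine Finset.sum_congr rfl (fun i _ => ?_)
        rw [mul_smul, algebraMap_smul]
      rw [h2] at h1
      have h3 := congrArg b.equivFun h1
      rw [LinearEquiv.apply_symm_apply, map_zero] at h3
      intro i
      have h4 := congrArg TrivSqZeroExt.snd (congrFun h3 i)
      simpa [TrivSqZeroExt.algebraMap_eq_inl] using h4
    have hsp : ⊤ ≤ Submodule.span R (Set.range w) := by
      rintro ⟨n, hn⟩ _
      have hn' := hn
      rw [Submodule.restrictScalars_mem, hN, H7_mem_epsM] at hn'
      obtain ⟨m, rfl⟩ := hn'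
      have h1 : m = ∑ i, b.equivFun m i • b i := by
        rw [hsum, LinearEquiv.symm_apply_apply]
      have h2 : (⟨(ε : R[ε]) • m, hn⟩ : ↥(N.restrictScalars R)) =
          ∑ i, (TrivSqZeroExt.fst (b.equivFun m i)) • w i := by
        apply Subtype.ext
        rw [Submodule.coe_sum]
        simp only [Submodule.coe_smul, w]
        conv_lhs => rw [h1]
        rw [Finset.smul_sum]
        refine Finset.sum_congr rfl (fun i _ => ?_)
        rw [H7_dn_smul R M (b.equivFun m i) (b i), smul_add, H7_eps_smul_comm, H7_eps_smul_comm,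
          H7_eps_eps, smul_zero, add_zero]
      rw [h2]
      exact Submodule.sum_mem _ (fun i _ => Submodule.smul_mem _ _ (Submodule.subset_span ⟨i, rfl⟩))
    exact ⟨Module.Basis.mk hli hsp⟩

end

section
variable (R : Type u) [CommRing R] (M : Type v)
    [AddCommGroup M] [Module R[ε] M] [Module R M] [IsScalarTower R R[ε] M]

theorem H7_dn_bwd (r : ℕ)
    (c : Module.Basis (Fin r) R (M ⧸ ((ε : R[ε]) • (⊤ : Submodule R[ε] M))))
    (d : Module.Basis (Fin r) R (((ε : R[ε]) • (⊤ : Submodule R[ε] M)).restrictScalars R)) :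
    Nonempty (Module.Basis (Fin r) R[ε] M) := by
  classical
  set N : Submodule R[ε] M := (ε : R[ε]) • (⊤ : Submodule R[ε] M) with hN
  -- the multiplication-by-ε map M ⧸ N → N
  have hker : N ≤ LinearMap.ker (LinearMap.lsmul R[ε] M (ε : R[ε])) := by
    intro n hn
    rw [hN, H7_mem_epsM] at hn
    obtain ⟨m, rfl⟩ := hn
    rw [LinearMap.mem_ker, LinearMap.lsmul_apply, H7_eps_eps]
  let μ₀ : M ⧸ N →ₗ[R[ε]] M := N.liftQ (LinearMap.lsmul R[ε] M (ε : R[ε])) hker
  have hμ₀ : ∀ m : M, μ₀ (Submodule.Quotient.mk m) = (ε : R[ε]) • m := fun m => rfl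
  let μ : M ⧸ N →ₗ[R] ↥(N.restrictScalars R) :=
    LinearMap.codRestrict (N.restrictScalars R) (μ₀.restrictScalars R) (by
      intro q
      obtain ⟨m, rfl⟩ := Submodule.Quotient.mk_surjective N q
      change (ε : R[ε]) • m ∈ N
      exact (H7_mem_epsM R M _).2 ⟨m, rfl⟩)
  have hμ : ∀ m : M, ((μ (Submodule.Quotient.mk m) : ↥(N.restrictScalars R)) : M) = (ε : R[ε]) • m :=
    fun m => rfl
  have hμsurj : Function.Surjective μ := by
    rintro ⟨n, hn⟩
    have hn' := hn
    rw [Submodule.restrictScalars_mem, hN, H7_mem_epsM] at hn'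
    obtain ⟨m, rfl⟩ := hn'
    exact ⟨Submodule.Quotient.mk m, Subtype.ext (hμ m)⟩
  have hμinj : Function.Injective μ := by
    let T : (Fin r → R) →ₗ[R] (Fin r → R) :=
      d.equivFun.toLinearMap ∘ₗ μ ∘ₗ c.equivFun.symm.toLinearMap
    have hT : Function.Surjective T :=
      d.equivFun.surjective.comp (hμsurj.comp c.equivFun.symm.surjective)
    have hTi : Function.Injective T := OrzechProperty.injective_of_surjective_endomorphism T hT
    intro q₁ q₂ h
    have h1 : T (c.equivFun q₁) = T (c.equivFun q₂) := by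
      simp only [T, LinearMap.comp_apply, LinearEquiv.coe_coe, LinearEquiv.symm_apply_apply, h]
    exact c.equivFun.injective (hTi h1)
  -- lifts
  have hex : ∀ i, ∃ m : M, (Submodule.Quotient.mk m : M ⧸ N) = c i :=
    fun i => Submodule.Quotient.mk_surjective N (c i)
  choose m hm using hex
  have hli : LinearIndependent R[ε] m := by
    rw [Fintype.linearIndependent_iff]
    intro g hg
    have hdec : ∑ i, ((TrivSqZeroExt.fst (g i)) • m i +
        (TrivSqZeroExt.snd (g i)) • ((ε : R[ε]) • m i)) = 0 := by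
      rw [← hg]
      exact Finset.sum_congr rfl (fun i _ => (H7_dn_smul R M (g i) (m i)).symm)
    have h1 : ∑ i, (TrivSqZeroExt.fst (g i)) • c i = 0 := by
      have := congrArg N.mkQ hdec
      rw [map_sum, map_zero] at this
      rw [← this]
      refine Finset.sum_congr rfl (fun i _ => ?_)
      rw [map_add, Submodule.mkQ_apply, Submodule.mkQ_apply]
      have h0 : (Submodule.Quotient.mk
          (TrivSqZeroExt.snd (g i) • ((ε : R[ε]) • m i)) : M ⧸ N) = 0 := by
        rw [Submodule.Quotient.mk_eq_zero, ← algebraMap_smul R[ε]]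
        exact N.smul_mem _ ((H7_mem_epsM R M _).2 ⟨m i, rfl⟩)
      rw [h0, add_zero, ← hm i]
      rfl
    have hfst : ∀ i, TrivSqZeroExt.fst (g i) = 0 :=
      Fintype.linearIndependent_iff.1 c.linearIndependent _ h1
    have h2 : μ (∑ i, (TrivSqZeroExt.snd (g i)) • c i) = 0 := by
      apply Subtype.ext
      rw [map_sum, Submodule.coe_sum, Submodule.coe_zero, ← hdec]
      refine Finset.sum_congr rfl (fun i _ => ?_)
      rw [map_smul, Submodule.coe_smul, ← hm i, hμ, hfst i, zero_smul, zero_add]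
    have h3 : ∑ i, (TrivSqZeroExt.snd (g i)) • c i = 0 := by
      apply hμinj; rw [h2, map_zero]
    have hsnd : ∀ i, TrivSqZeroExt.snd (g i) = 0 :=
      Fintype.linearIndependent_iff.1 c.linearIndependent _ h3
    intro i
    exact TrivSqZeroExt.ext (hfst i) (hsnd i)
  have hsp : ⊤ ≤ Submodule.span R[ε] (Set.range m) := by
    set W := Submodule.span R[ε] (Set.range m) with hW
    have hstep : ∀ x : M, ∃ w ∈ W, ∃ x' : M, x = w + (ε : R[ε]) • x' := by
      intro x
      obtain ⟨a, ha⟩ : ∃ a : Fin r → R, (Submodule.Quotient.mk x : M ⧸ N) = ∑ i, a i • c i := by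
        refine ⟨c.equivFun (Submodule.Quotient.mk x), ?_⟩
        rw [← Module.Basis.equivFun_symm_apply, LinearEquiv.symm_apply_apply]
      have h2 : (Submodule.Quotient.mk (x - ∑ i, a i • m i) : M ⧸ N) = 0 := by
        rw [Submodule.Quotient.mk_sub, ha, sub_eq_zero]
        change _ = N.mkQ (∑ i, a i • m i)
        rw [map_sum]
        refine Finset.sum_congr rfl (fun i _ => ?_)
        rw [← hm i]; rfl
      rw [Submodule.Quotient.mk_eq_zero] at h2
      obtain ⟨x', hx'⟩ := (H7_mem_epsM R M _).1 h2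
      refine ⟨∑ i, a i • m i, ?_, x', ?_⟩
      · refine Submodule.sum_mem _ (fun i _ => ?_)
        rw [← algebraMap_smul R[ε]]
        exact W.smul_mem _ (Submodule.subset_span ⟨i, rfl⟩)
      · rw [hx']; abel
    intro x _
    obtain ⟨w, hw, x', hx⟩ := hstep x
    obtain ⟨w', hw', x'', hx'⟩ := hstep x'
    rw [hx, hx', smul_add, H7_eps_eps, add_zero]
    exact add_mem hw (W.smul_mem _ hw')
  exact ⟨Module.Basis.mk hli hsp⟩

theorem H7_S14033 (r : ℕ) :
    Nonempty (Module.Basis (Fin r) R[ε] M) ↔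
      (Nonempty (Module.Basis (Fin r) R (M ⧸ ((ε : R[ε]) • (⊤ : Submodule R[ε] M)))) ∧
        Nonempty (Module.Basis (Fin r) R (((ε : R[ε]) • (⊤ : Submodule R[ε] M)).restrictScalars R))) := by
  constructor
  · rintro ⟨b⟩; exact H7_dn_fwd R M r b
  · rintro ⟨⟨c⟩, ⟨d⟩⟩; exact H7_dn_bwd R M r c d

end

end Groth.Agent.Lib.helper7
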