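import Mathlib

universe u v

namespace Groth.Agent.Lib.helper7

theorem H7_finlen_of_killed {R : Type u} [CommRing R] (m : Ideal R) [hmax : m.IsMaximal] (Q : Type v)
    [AddCommGroup Q] [Module R Q] [Module.Finite R Q] (h : ∀ a ∈ m, ∀ q : Q, a • q = 0) :
    IsFiniteLength R Q := by
  classical
  have hT : Module.IsTorsionBySet R Q (m : Set R) := fun q a => h a.1 a.2 q
  let _ : Field (R ⧸ m) := Ideal.Quotient.field m
  let _ : Module (R ⧸ m) Q := hT.module
  have : IsScalarTower R (R ⧸ m) Q := hT.isScalarTower
  have : Module.Finite (R ⧸ m) Q := Module.Finite.of_restrictScalars_finite R (R ⧸ m) Q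
  rw [← Module.length_ne_top_iff,
    Module.length_eq_of_surjective (R := R ⧸ m) (S := R) (M := Q) Ideal.Quotient.mk_surjective,
    Module.length_eq_finrank]
  exact ENat.natCast_ne_top _

theorem H7_finlen_of_pow_smul {R : Type u} [CommRing R] (m : Ideal R) [m.IsMaximal] (hm : m.FG)
    (M : Type v) [AddCommGroup M] [Module R M] [Module.Finite R M] (n : ℕ)
    (hn : m ^ n • (⊤ : Submodule R M) = ⊥) : IsFiniteLength R M := by
  classical
  have step : ∀ k : ℕ, Module.length R ↥(m ^ (k + 1) • (⊤ : Submodule R M)) ≠ ⊤ →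
      Module.length R ↥(m ^ k • (⊤ : Submodule R M)) ≠ ⊤ := by
    intro k hk
    have hle : m ^ (k + 1) • (⊤ : Submodule R M) ≤ m ^ k • (⊤ : Submodule R M) := by
      rw [pow_succ', Submodule.mul_smul]
      exact Submodule.smul_le_right
    have hfg : (m ^ k • (⊤ : Submodule R M)).FG :=
      Submodule.FG.smul (Ideal.FG.pow hm) Module.Finite.fg_top
    have : Module.Finite R ↥(m ^ k • (⊤ : Submodule R M)) := Module.Finite.of_fg hfg
    have hex := Module.length_eq_add_of_exact
      (Submodule.comap (m ^ k • (⊤ : Submodule R M)).subtype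
        (m ^ (k + 1) • (⊤ : Submodule R M))).subtype
      (Submodule.comap (m ^ k • (⊤ : Submodule R M)).subtype
        (m ^ (k + 1) • (⊤ : Submodule R M))).mkQ
      (Submodule.subtype_injective _) (Submodule.mkQ_surjective _)
      (LinearMap.exact_subtype_mkQ _)
    rw [hex, (Submodule.comapSubtypeEquivOfLe hle).length_eq]
    have hq : IsFiniteLength R (↥(m ^ k • (⊤ : Submodule R M)) ⧸
        (Submodule.comap (m ^ k • (⊤ : Submodule R M)).subtype
          (m ^ (k + 1) • (⊤ : Submodule R M)))) := by
      refine H7_finlen_of_killed m _ ?_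
      intro a ha q
      obtain ⟨x, rfl⟩ := Submodule.mkQ_surjective _ q
      rw [← map_smul, Submodule.mkQ_apply, Submodule.Quotient.mk_eq_zero, Submodule.mem_comap]
      rw [pow_succ', Submodule.mul_smul]
      exact Submodule.smul_mem_smul ha x.2
    rw [← Module.length_ne_top_iff] at hq
    exact WithTop.add_ne_top.2 ⟨hk, hq⟩
  have all : ∀ j : ℕ, j ≤ n → Module.length R ↥(m ^ (n - j) • (⊤ : Submodule R M)) ≠ ⊤ := by
    intro j
    induction j with
    | zero =>
      intro _
      rw [Nat.sub_zero, hn, Module.length_bot]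
      exact ENat.zero_ne_top
    | succ j ih =>
      intro hj
      have := step (n - (j + 1)) (by
        have h1 : n - (j + 1) + 1 = n - j := by omega
        rw [h1]; exact ih (by omega))
      exact this
  have h0 := all n le_rfl
  rw [Nat.sub_self, pow_zero, Ideal.one_eq_top, Submodule.top_smul, Module.length_top] at h0
  exact Module.length_ne_top_iff.1 h0

end Groth.Agent.Lib.helper7
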