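import Mathlib
import Groth.Agent.Lib.helper7.FinLen

set_option autoImplicit false
universe u v

open TensorProduct

namespace Groth.Agent.Lib.helper7

theorem H7_length_eq_finrank_of_tower (R : Type*) [CommRing R] (k : Type*) [Field k] [Algebra R k]
    (hs : Function.Surjective (algebraMap R k)) (W : Type*) [AddCommGroup W] [Module R W]
    [Module k W] [IsScalarTower R k W] [Module.Finite k W] :
    Module.length R W = Module.finrank k W := by
  rw [Module.length_eq_of_surjective (S := R) (R := k) (M := W) hs, Module.length_eq_finrank]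

theorem H7_length_coker_eq_ker (R : Type*) [CommRing R] (N : Type*) [AddCommGroup N] [Module R N]
    (hN : Module.length R N ≠ ⊤) (f : N →ₗ[R] N) :
    Module.length R (N ⧸ LinearMap.range f) = Module.length R (LinearMap.ker f) := by
  have hex : Function.Exact (LinearMap.ker f).subtype f.rangeRestrict := by
    intro y
    constructor
    · intro hy
      have : f y = 0 := congrArg Subtype.val hy
      exact ⟨⟨y, this⟩, rfl⟩
    · rintro ⟨⟨z, hz⟩, rfl⟩
      exact Subtype.ext hz
  have h1 := Module.length_eq_add_of_exact (LinearMap.ker f).subtype f.rangeRestrict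
    (Submodule.subtype_injective _) f.surjective_rangeRestrict hex
  have h2 := Module.length_eq_add_of_exact (LinearMap.range f).subtype (LinearMap.range f).mkQ
    (Submodule.subtype_injective _) (Submodule.mkQ_surjective _) (LinearMap.exact_subtype_mkQ _)
  generalize Module.length R N = L at h1 h2 hN
  generalize Module.length R (LinearMap.ker f) = K at h1
  generalize Module.length R (LinearMap.range f) = G at h1 h2
  generalize Module.length R (N ⧸ LinearMap.range f) = C at h2
  cases L with
  | top => exact absurd rfl hN
  | coe l =>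
    cases K with
    | top => simp at h1
    | coe x =>
      cases G with
      | top => simp at h1
      | coe g =>
        cases C with
        | top => simp at h2
        | coe c =>
          have e1 : l = x + g := by exact_mod_cast h1
          have e2 : l = g + c := by exact_mod_cast h2
          have : c = x := by omega
          rw [this]

theorem H7_finlen_hom (R : Type*) [CommRing R] (M : Type*) [AddCommGroup M] [Module R M]
    [Module.Finite R M] (Q : Type*) [AddCommGroup Q] [Module R Q] (hQ : IsFiniteLength R Q) :
    IsFiniteLength R (M →ₗ[R] Q) := by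
  obtain ⟨r, s, hs⟩ := Module.Finite.exists_fin (R := R) (M := M)
  let ev : (M →ₗ[R] Q) →ₗ[R] (Fin r → Q) := LinearMap.pi (fun i => LinearMap.applyₗ (s i))
  have hev : Function.Injective ev := by
    intro f g hfg
    apply LinearMap.ext_on_range hs
    intro i
    exact congrFun hfg i
  have hpi : IsFiniteLength R (Fin r → Q) := by
    rw [isFiniteLength_iff_isNoetherian_isArtinian] at hQ ⊢
    obtain ⟨h1, h2⟩ := hQ
    exact ⟨inferInstance, inferInstance⟩
  exact hpi.of_injective hev

theorem H7_subsingleton_tensor (R : Type*) [CommRing R] (K : Type*) [AddCommGroup K] [Module R K]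
    (X : Type*) [AddCommGroup X] [Module R X] [Subsingleton X] : Subsingleton (K ⊗[R] X) := by
  refine ⟨fun a b => ?_⟩
  have h0 : ∀ t : K ⊗[R] X, t = 0 := by
    intro t
    induction t using TensorProduct.induction_on with
    | zero => rfl
    | tmul a x => rw [Subsingleton.elim x 0, TensorProduct.tmul_zero]
    | add a b ha hb => rw [ha, hb, add_zero]
  rw [h0 a, h0 b]

open IsLocalRing in
theorem H7_S15367
    (R : Type u) [CommRing R] [IsDomain R] [IsDiscreteValuationRing R] (ϖ : R) (hϖ : Irreducible ϖ) (n : ℕ)
    (M : Type v) [AddCommGroup M] [Module R M] [Module.Finite R M] (hM : ∀ m : M, ϖ ^ n • m = 0) :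
    Module.finrank (IsLocalRing.ResidueField R)
        (IsLocalRing.ResidueField R ⊗[R] (M →ₗ[R] (R ⧸ Ideal.span {ϖ ^ n}))) =
      Module.finrank (IsLocalRing.ResidueField R) (IsLocalRing.ResidueField R ⊗[R] M) := by
  classical
  have hϖ0 : ϖ ≠ 0 := hϖ.ne_zero
  have hmax : maximalIdeal R = Ideal.span {ϖ} := hϖ.maximalIdeal_eq
  have hmem : ∀ x : R, x ∈ maximalIdeal R ↔ ∃ y, x = ϖ * y := by
    intro x
    rw [hmax, Ideal.mem_span_singleton]
    exact Iff.rfl
  cases n with
  | zero =>
    have hMs : Subsingleton M := ⟨fun a b => by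
      have ha := hM a; have hb := hM b
      rw [pow_zero, one_smul] at ha hb
      rw [ha, hb]⟩
    have h1 : Subsingleton (M →ₗ[R] (R ⧸ Ideal.span {ϖ ^ 0})) :=
      ⟨fun f g => LinearMap.ext fun m => by rw [Subsingleton.elim m 0, map_zero, map_zero]⟩
    haveI := H7_subsingleton_tensor R (ResidueField R) M
    haveI := H7_subsingleton_tensor R (ResidueField R) (M →ₗ[R] (R ⧸ Ideal.span {ϖ ^ 0}))
    rw [Module.finrank_zero_of_subsingleton, Module.finrank_zero_of_subsingleton]
  | succ n =>
    set Rb := R ⧸ Ideal.span {ϖ ^ (n + 1)} with hRb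
    set Ms := M →ₗ[R] Rb with hMs
    have hsurj : Function.Surjective (algebraMap R (ResidueField R)) := Ideal.Quotient.mk_surjective
    -- finite length of Rb and Ms
    have hRbfin : IsFiniteLength R Rb := by
      refine H7_finlen_of_pow_smul (maximalIdeal R) (IsNoetherian.noetherian _) _ (n + 1) ?_
      rw [eq_bot_iff]
      intro x hx
      refine Submodule.smul_induction_on hx ?_ ?_
      · intro r hr y _
        obtain ⟨a, rfl⟩ := Submodule.Quotient.mk_surjective _ y
        rw [Submodule.mem_bot, ← Submodule.Quotient.mk_smul, Submodule.Quotient.mk_eq_zero,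
          smul_eq_mul]
        rw [hmax, Ideal.span_singleton_pow] at hr
        exact Ideal.mul_mem_right _ _ hr
      · intro y z hy hz
        exact Submodule.add_mem _ hy hz
    have hMsfin : IsFiniteLength R Ms := H7_finlen_hom R M Rb hRbfin
    have hMslen : Module.length R Ms ≠ ⊤ := Module.length_ne_top_iff.2 hMsfin
    haveI : Module.Finite R Ms := by
      rw [isFiniteLength_iff_isNoetherian_isArtinian] at hMsfin
      haveI := hMsfin.1
      infer_instance
    have ha : (Module.finrank (ResidueField R) (ResidueField R ⊗[R] Ms) : ℕ∞) =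
        Module.length R (ResidueField R ⊗[R] Ms) :=
      (H7_length_eq_finrank_of_tower R (ResidueField R) hsurj (ResidueField R ⊗[R] Ms)).symm
    have eb : (ResidueField R ⊗[R] Ms) ≃ₗ[R] Ms ⧸ (maximalIdeal R • ⊤ : Submodule R Ms) :=
      TensorProduct.quotTensorEquivQuotSMul Ms (maximalIdeal R)
    set fϖ : Ms →ₗ[R] Ms := LinearMap.lsmul R Ms ϖ with hfϖ
    have hc0 : (maximalIdeal R • ⊤ : Submodule R Ms) = LinearMap.range fϖ := by
      rw [hmax, Submodule.ideal_span_singleton_smul]
      ext x
      rw [Submodule.mem_smul_pointwise_iff_exists, LinearMap.mem_range]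
      constructor
      · rintro ⟨y, -, rfl⟩; exact ⟨y, rfl⟩
      · rintro ⟨y, rfl⟩; exact ⟨y, trivial, rfl⟩
    have hc : Module.length R (Ms ⧸ (maximalIdeal R • ⊤ : Submodule R Ms)) =
        Module.length R (LinearMap.ker fϖ) := by
      rw [(Submodule.quotEquivOfEq _ _ hc0).length_eq]
      exact H7_length_coker_eq_ker R Ms hMslen fϖ
    have hj0 : (maximalIdeal R : Submodule R R) ≤
        Submodule.comap (LinearMap.lsmul R R (ϖ ^ n)) (Ideal.span {ϖ ^ (n + 1)} : Submodule R R) := by
      intro x hx
      obtain ⟨y, rfl⟩ := (hmem x).1 hx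
      rw [Submodule.mem_comap, LinearMap.lsmul_apply, smul_eq_mul]
      exact Ideal.mem_span_singleton.2 ⟨y, by ring⟩
    let j : ResidueField R →ₗ[R] Rb :=
      Submodule.mapQ (maximalIdeal R) (Ideal.span {ϖ ^ (n + 1)}) (LinearMap.lsmul R R (ϖ ^ n)) hj0
    have hj_apply : ∀ x : R, j (residue R x) =
        Ideal.Quotient.mk (Ideal.span {ϖ ^ (n + 1)}) (ϖ ^ n * x) := fun x => rfl
    have hj_inj : Function.Injective j := by
      rw [injective_iff_map_eq_zero]
      intro y hy
      obtain ⟨x, rfl⟩ := residue_surjective y
      rw [hj_apply, Ideal.Quotient.eq_zero_iff_mem, Ideal.mem_span_singleton] at hy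
      obtain ⟨a, ha⟩ := hy
      have : x = ϖ * a := by
        apply mul_left_cancel₀ (pow_ne_zero n hϖ0)
        rw [ha]; ring
      rw [residue_eq_zero_iff, hmem]; exact ⟨a, this⟩
    have hj_range : ∀ z : Rb, ϖ • z = 0 → ∃ y, j y = z := by
      intro z hz
      obtain ⟨r, rfl⟩ := Ideal.Quotient.mk_surjective z
      have hz' : Ideal.Quotient.mk (Ideal.span {ϖ ^ (n + 1)}) (ϖ * r) = 0 := hz
      rw [Ideal.Quotient.eq_zero_iff_mem, Ideal.mem_span_singleton] at hz'
      obtain ⟨a, ha⟩ := hz'
      have hr : r = ϖ ^ n * a := by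
        apply mul_left_cancel₀ hϖ0; rw [ha]; ring
      exact ⟨residue R a, by rw [hj_apply, hr]⟩
    have hϖres : residue R ϖ = 0 := (residue_eq_zero_iff ϖ).2 ((hmem ϖ).2 ⟨1, by ring⟩)
    have hj_kill : ∀ y, ϖ • j y = 0 := by
      intro y
      rw [← map_smul]
      have : ϖ • y = 0 := by
        rw [Algebra.smul_def]
        show residue R ϖ * y = 0
        rw [hϖres, zero_mul]
      rw [this, map_zero]
    let J : (M →ₗ[R] ResidueField R) →ₗ[R] Ms :=
      { toFun := fun g => j.comp g
        map_add' := fun g h => LinearMap.comp_add _ _ _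
        map_smul' := fun c g => LinearMap.comp_smul _ _ _ }
    have hJ_inj : Function.Injective J := by
      intro g h hgh
      ext m
      apply hj_inj
      exact LinearMap.congr_fun hgh m
    have hJ_range : LinearMap.range J = LinearMap.ker fϖ := by
      ext f
      rw [LinearMap.mem_ker]
      constructor
      · rintro ⟨g, rfl⟩
        ext m
        show ϖ • j (g m) = 0
        exact hj_kill _
      · intro hf
        have hfm : ∀ m, ϖ • f m = 0 := fun m => LinearMap.congr_fun hf m
        have hfr : ∀ m, f m ∈ LinearMap.range j := fun m => hj_range _ (hfm m)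
        let e := LinearEquiv.ofInjective j hj_inj
        refine ⟨e.symm.toLinearMap.comp (f.codRestrict (LinearMap.range j) hfr), ?_⟩
        ext m
        show j (e.symm ⟨f m, hfr m⟩) = f m
        have := e.apply_symm_apply ⟨f m, hfr m⟩
        exact congrArg Subtype.val this
    have hd : Module.length R (LinearMap.ker fϖ) = Module.length R (M →ₗ[R] ResidueField R) := by
      rw [← hJ_range]
      exact (LinearEquiv.ofInjective J hJ_inj).length_eq.symm
    let E := LinearMap.liftBaseChangeEquiv (R := R) (M := M) (N := ResidueField R) (ResidueField R)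
    haveI : Module.Finite (ResidueField R) (M →ₗ[R] ResidueField R) := Module.Finite.equiv E.symm
    have he : Module.length R (M →ₗ[R] ResidueField R) =
        Module.finrank (ResidueField R) (ResidueField R ⊗[R] M) := by
      rw [H7_length_eq_finrank_of_tower R (ResidueField R) hsurj (M →ₗ[R] ResidueField R),
        E.finrank_eq]
      congr 1
      exact Subspace.dual_finrank_eq
    have hfinal : (Module.finrank (ResidueField R) (ResidueField R ⊗[R] Ms) : ℕ∞) =
        (Module.finrank (ResidueField R) (ResidueField R ⊗[R] M) : ℕ∞) := by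
      rw [ha, eb.length_eq, hc, hd, he]
    exact_mod_cast hfinal

end Groth.Agent.Lib.helper7
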