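import Mathlib
import Groth.Prelude.Def_W4c1chowmix47Eta

set_option autoImplicit false
set_option linter.unusedSectionVars false
universe u

namespace Groth.Agent.Lib.helper7

open EtaPt

/-- `η.map` of a ring hom between fields is injective. -/
theorem H7_eta_map_injective (η : FieldEndo.{u}) {K L : Type u} [Field K] [Field L] (f : K →+* L) :
    Function.Injective (η.map f) := (η.map f).injective

/-- Naturality, applied. -/
theorem H7_eta_nat (η : FieldEndo.{u}) {K L : Type u} [Field K] [Field L] (f : K →+* L) (a : K) :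
    η.map f (η.eta K a) = η.eta L (f a) := by
  have := η.eta_natural f
  exact congrArg (fun h => h a) (congrArg DFunLike.coe this)

/-- pow-injectivity in a field receiving a hom from `K`. -/
theorem H7_pow_expChar_inj {K L : Type u} [Field K] [Field L] (f : K →+* L) (n : ℕ) {a b : L}
    (h : a ^ ringExpChar K ^ n = b ^ ringExpChar K ^ n) : a = b := by
  have : ExpChar K (ringExpChar K) := ringExpChar.expChar K
  have : ExpChar L (ringExpChar K) := expChar_of_injective_ringHom f.injective (ringExpChar K)
  apply iterateFrobenius_inj L (ringExpChar K) n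
  simpa [iterateFrobenius_def] using h

theorem H7_S13807 (η : FieldEndo.{u}) (K : Type u) [Field K] : η.M K = ⊤ := by
  rw [eq_top_iff]
  intro x _
  intro R _ _ _ hR g
  -- the unique prime of K
  let p₀ : PrimeSpectrum K := ⟨⊥, Ideal.isPrime_bot⟩
  let K' := p₀.asIdeal.ResidueField
  let L := FractionRing R
  obtain ⟨n, z', hz'⟩ := η.exists_pow_mem_range_eta K' (x p₀)
  let eK : K ≃ₐ[K] K' := Ideal.algEquivResidueFieldOfField p₀.asIdeal
  obtain ⟨z, hz⟩ : ∃ z : K, algebraMap K K' z = z' := ⟨eK.symm z', by
    have := eK.apply_symm_apply z'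
    rwa [Ideal.algEquivResidueFieldOfField_apply] at this⟩
  -- map K' → L
  let φ : K' →+* L := ((algebraMap R L).comp g).comp (eK.symm : K' →+* K)
  have hφ : ∀ a : K, φ (algebraMap K K' a) = algebraMap R L (g a) := by
    intro a
    have : eK.symm (algebraMap K K' a) = a := by
      have := eK.symm_apply_apply a
      rwa [Ideal.algEquivResidueFieldOfField_apply] at this
    simp only [φ, RingHom.comp_apply, RingHom.coe_coe, this]
  obtain ⟨y₀, hy₀⟩ := hR.2 (η.map φ (x p₀))
  have hy₀pow : y₀ ^ ringExpChar K' ^ n = algebraMap R L (g z) := by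
    apply (η.eta L).injective
    rw [map_pow, hy₀, ← map_pow, ← hz', H7_eta_nat, ← hz, hφ]
  have hint : IsIntegral R y₀ := by
    refine ⟨Polynomial.X ^ (ringExpChar K' ^ n) - Polynomial.C (g z), ?_, ?_⟩
    · apply Polynomial.monic_X_pow_sub_C
      have : 0 < ringExpChar K' := by
        have := ringExpChar.expChar K'
        exact expChar_pos K' _
      exact (pow_pos this n).ne'
    · simp only [Polynomial.eval₂_sub, Polynomial.eval₂_pow, Polynomial.eval₂_X, Polynomial.eval₂_C, hy₀pow]
      exact sub_self _
  obtain ⟨y, hy⟩ := IsIntegrallyClosed.isIntegral_iff.mp hint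
  have hypow : y ^ ringExpChar K' ^ n = g z := by
    apply IsFractionRing.injective R L
    rw [map_pow, hy, hy₀pow]
  refine ⟨y, ?_⟩
  funext q
  -- general lemma over primes P of K
  have key : ∀ (P : PrimeSpectrum K) (ρ : P.asIdeal.ResidueField →+* q.asIdeal.ResidueField)
      (hρ : ∀ a : K, ρ (algebraMap K _ a) = algebraMap R _ (g a)),
      (η.map ρ (x P)) ^ ringExpChar K' ^ n = η.eta _ (algebraMap R _ (g z)) := by
    intro P ρ hρ
    obtain rfl : P = p₀ := by
      apply PrimeSpectrum.ext
      exact Ideal.eq_bot_of_prime P.asIdeal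
    rw [← map_pow, ← hz', H7_eta_nat, ← hz, hρ]
  have h1 := key (PrimeSpectrum.comap g q)
    (Ideal.ResidueField.map (PrimeSpectrum.comap g q).asIdeal q.asIdeal g rfl)
    (fun a => Ideal.ResidueField.map_algebraMap _ _ g rfl a)
  have h2 : (η.t R y q) ^ ringExpChar K' ^ n = η.eta _ (algebraMap R _ (g z)) := by
    change (η.eta _ (algebraMap R _ y)) ^ _ = _
    rw [← map_pow, ← map_pow, hypow]
  have hf : K' →+* η.obj q.asIdeal.ResidueField :=
    (η.eta _).comp ((algebraMap R q.asIdeal.ResidueField).comp (g.comp (eK.symm : K' →+* K)))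
  apply H7_pow_expChar_inj hf n
  exact h2.trans h1.symm

end Groth.Agent.Lib.helper7
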