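import Mathlib
import Groth.Prelude.Def_W4c1chowmix47Eta
import Groth.Agent.Lib.helper7.EtaA

set_option autoImplicit false
set_option linter.unusedSectionVars false
universe u

namespace Groth.Agent.Lib.helper7

open EtaPt

/-- `η.map` of a ring isomorphism is bijective. -/
theorem H7_eta_map_equiv_bijective (η : FieldEndo.{u}) {K L : Type u} [Field K] [Field L]
    (e : K ≃+* L) : Function.Bijective (η.map (e : K →+* L)) := by
  refine ⟨(η.map _).injective, fun y => ⟨η.map (e.symm : L →+* K) y, ?_⟩⟩
  have h1 := η.map_comp (e.symm : L →+* K) (e : K →+* L)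
  have h2 : (e : K →+* L).comp (e.symm : L →+* K) = RingHom.id L := by
    ext a; simp
  rw [h2, η.map_id] at h1
  have := congrArg (fun h => h y) (congrArg DFunLike.coe h1)
  simpa using this.symm

/-- bijectivity of `η.eta` transfers along ring isomorphisms. -/
theorem H7_eta_bij_of_equiv (η : FieldEndo.{u}) {K L : Type u} [Field K] [Field L]
    (e : K ≃+* L) (h : Function.Bijective (η.eta K)) : Function.Bijective (η.eta L) := by
  have hcomp : ∀ a : L, η.eta L a = η.map (e : K →+* L) (η.eta K (e.symm a)) := by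
    intro a
    rw [H7_eta_nat]; simp
  have : (η.eta L : L → η.obj L) = (η.map (e : K →+* L)) ∘ (η.eta K) ∘ e.symm := by
    funext a; exact hcomp a
  rw [this]
  exact (H7_eta_map_equiv_bijective η e).comp (h.comp e.symm.bijective)

theorem H7_S13808 (η : FieldEndo.{u}) (A : Type u) [CommRing A] [IsDomain A] (hA : η.InV A) :
    Set.InjOn (fun x : η.N A => x ⟨⊥, Ideal.isPrime_bot⟩) (η.M A) := by
  intro x hx y hy hxy
  have hxy' : x ⟨⊥, Ideal.isPrime_bot⟩ = y ⟨⊥, Ideal.isPrime_bot⟩ := hxy
  have hz : x - y ∈ η.M A := Subring.sub_mem _ hx hy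
  have hz0 : (x - y) ⟨⊥, Ideal.isPrime_bot⟩ = 0 := by
    rw [Pi.sub_apply, hxy', sub_self]
  suffices h : x - y = 0 from sub_eq_zero.mp h
  generalize x - y = z at hz hz0
  funext p
  -- a dominating valuation ring
  let K := FractionRing A
  let Ap := Localization.AtPrime p.asIdeal
  let f : Ap →+* K := IsLocalization.lift (M := p.asIdeal.primeCompl) (g := algebraMap A K)
    (fun s => by
      apply IsUnit.mk0
      intro h0
      have : (s : A) = 0 := (IsFractionRing.injective A K) (by simpa using h0)
      exact s.2 (this ▸ p.asIdeal.zero_mem))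
  obtain ⟨V, hV, hloc⟩ := IsLocalRing.exists_factor_valuationRing f
  let fV : Ap →+* V := f.codRestrict V.toSubring hV
  have hlocV : IsLocalHom fV := hloc
  let g : A →+* V := fV.comp (algebraMap A Ap)
  have hgK : ∀ a : A, ((g a : V) : K) = algebraMap A K a := by
    intro a
    change f (algebraMap A Ap a) = _
    exact IsLocalization.lift_eq _ a
  have hginj : Function.Injective g := by
    intro a b hab
    apply IsFractionRing.injective A K
    rw [← hgK, ← hgK, hab]
  -- InV V
  have hVin : η.InV V := by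
    let e : FractionRing A ≃+* FractionRing V :=
      ((FractionRing.algEquiv V K).symm : K ≃+* FractionRing V)
    exact H7_eta_bij_of_equiv η e hA
  obtain ⟨r, hr⟩ := hz V hVin g
  -- r = 0 via the generic point
  have hr0 : r = 0 := by
    let q₀ : PrimeSpectrum V := ⟨⊥, Ideal.isPrime_bot⟩
    have hcom : PrimeSpectrum.comap g q₀ = ⟨⊥, Ideal.isPrime_bot⟩ := by
      apply PrimeSpectrum.ext
      change Ideal.comap g ⊥ = ⊥
      rw [← RingHom.ker_eq_comap_bot]
      exact (RingHom.injective_iff_ker_eq_bot g).mp hginj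
    have hzc : ∀ P : PrimeSpectrum A, P = ⟨⊥, Ideal.isPrime_bot⟩ → z P = 0 := by
      intro P hP; subst hP; exact hz0
    have h1 : η.Nmap g z q₀ = 0 := by
      change η.map _ (z (PrimeSpectrum.comap g q₀)) = 0
      rw [hzc _ hcom, map_zero]
    rw [← hr] at h1
    have h2 : η.eta _ (algebraMap V q₀.asIdeal.ResidueField r) = 0 := h1
    have h3 : algebraMap V q₀.asIdeal.ResidueField r = 0 :=
      (map_eq_zero_iff _ (η.eta _).injective).mp h2
    have h4 : r ∈ q₀.asIdeal := Ideal.algebraMap_residueField_eq_zero.mp h3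
    exact h4
  rw [hr0, map_zero] at hr
  -- the closed point
  let qm : PrimeSpectrum V := ⟨IsLocalRing.maximalIdeal V, inferInstance⟩
  have hcomm : PrimeSpectrum.comap g qm = p := by
    apply PrimeSpectrum.ext
    change Ideal.comap g (IsLocalRing.maximalIdeal V) = p.asIdeal
    have h1 : Ideal.comap fV (IsLocalRing.maximalIdeal V) =
        IsLocalRing.maximalIdeal Ap :=
      ((IsLocalRing.local_hom_TFAE fV).out 0 4).mp hlocV
    change Ideal.comap (fV.comp (algebraMap A Ap)) _ = _
    rw [← Ideal.comap_comap, h1]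
    exact IsLocalization.AtPrime.comap_maximalIdeal Ap p.asIdeal
  have h5 : η.Nmap g z qm = 0 := by rw [← hr]; rfl
  have h6 : η.map (Ideal.ResidueField.map (PrimeSpectrum.comap g qm).asIdeal qm.asIdeal g rfl)
      (z (PrimeSpectrum.comap g qm)) = 0 := h5
  have h7 : z (PrimeSpectrum.comap g qm) = 0 :=
    (map_eq_zero_iff _ (η.map _).injective).mp h6
  rw [hcomm] at h7
  exact h7

end Groth.Agent.Lib.helper7
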