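import Mathlib
import Groth.Prelude.Def_W4c1chowmix47Eta
import Groth.Agent.Lib.helper7.EtaA
import Groth.Agent.Lib.helper7.EtaB

set_option autoImplicit false
set_option linter.unusedSectionVars false
universe u

namespace Groth.Agent.Lib.helper7

open EtaPt

/-- bijectivity of `η.eta` at any fraction field of a domain `A` with `InV A`. -/
theorem H7_eta_bij_of_InV (η : FieldEndo.{u}) (A : Type u) [CommRing A] [IsDomain A] (hA : η.InV A)
    (K : Type u) [Field K] [Algebra A K] [IsFractionRing A K] : Function.Bijective (η.eta K) :=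
  H7_eta_bij_of_equiv η ((FractionRing.algEquiv A K : FractionRing A ≃+* K)) hA

/-- `InV` from bijectivity at some fraction field. -/
theorem H7_InV_of_eta_bij (η : FieldEndo.{u}) (A : Type u) [CommRing A] [IsDomain A]
    (K : Type u) [Field K] [Algebra A K] [IsFractionRing A K] (h : Function.Bijective (η.eta K)) :
    η.InV A :=
  H7_eta_bij_of_equiv η ((FractionRing.algEquiv A K).symm : K ≃+* FractionRing A) h

theorem H7_S13809 (η : FieldEndo.{u}) (A : Type u) [CommRing A] [IsDomain A] [IsIntegrallyClosed A]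
    (hA : η.InV A) : Function.Bijective (η.q A) := by
  let p₀ : PrimeSpectrum A := ⟨⊥, Ideal.isPrime_bot⟩
  let K₀ := p₀.asIdeal.ResidueField
  have : IsFractionRing A K₀ := inferInstanceAs (IsFractionRing A (⊥ : Ideal A).ResidueField)
  have hK₀ : Function.Bijective (η.eta K₀) := H7_eta_bij_of_InV η A hA K₀
  constructor
  · intro a b hab
    have h1 : η.t A a = η.t A b := congrArg Subtype.val hab
    have h2 : η.eta K₀ (algebraMap A K₀ a) = η.eta K₀ (algebraMap A K₀ b) := congrFun h1 p₀
    exact IsFractionRing.injective A K₀ ((η.eta K₀).injective h2)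
  · rintro ⟨x, hx⟩
    obtain ⟨y₀, hy₀⟩ := hK₀.2 (x p₀)
    -- y₀ is integral over A
    have hint : IsIntegral A y₀ := by
      by_contra hni
      have hnot : y₀ ∉ (integralClosure A K₀).toSubring := hni
      obtain ⟨V, hRV, hyV⟩ := Subring.exists_le_valuationSubring_of_isIntegrallyClosedIn hnot
      apply hyV
      have hAV : ∀ a : A, algebraMap A K₀ a ∈ V.toSubring := fun a =>
        hRV (show algebraMap A K₀ a ∈ integralClosure A K₀ from isIntegral_algebraMap)
      let g : A →+* V := (algebraMap A K₀).codRestrict V.toSubring hAV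
      have hgK : ∀ a : A, ((g a : V) : K₀) = algebraMap A K₀ a := fun a => rfl
      have hginj : Function.Injective g := by
        intro a b hab
        apply IsFractionRing.injective A K₀
        rw [← hgK, ← hgK, hab]
      have hVin : η.InV V := H7_InV_of_eta_bij η V K₀ hK₀
      obtain ⟨r, hr⟩ := hx V hVin g
      let q₀ : PrimeSpectrum V := ⟨⊥, Ideal.isPrime_bot⟩
      let k₀ := q₀.asIdeal.ResidueField
      have hcom : PrimeSpectrum.comap g q₀ = p₀ := by
        apply PrimeSpectrum.ext
        change Ideal.comap g ⊥ = ⊥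
        rw [← RingHom.ker_eq_comap_bot]
        exact (RingHom.injective_iff_ker_eq_bot g).mp hginj
      -- general lemma
      have key : ∀ (P : PrimeSpectrum A) (hP : P = p₀) (ρ : P.asIdeal.ResidueField →+* k₀)
          (hρ : ∀ a : A, ρ (algebraMap A _ a) = algebraMap V k₀ (g a)),
          ∃ ρ₀ : K₀ →+* k₀, (∀ a : A, ρ₀ (algebraMap A _ a) = algebraMap V k₀ (g a)) ∧
            η.map ρ (x P) = η.eta k₀ (ρ₀ y₀) := by
        intro P hP ρ hρ
        subst hP
        exact ⟨ρ, hρ, by rw [← hy₀, H7_eta_nat]⟩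
      obtain ⟨ρ₀, hρ₀, hρx⟩ := key (PrimeSpectrum.comap g q₀) hcom
        (Ideal.ResidueField.map (PrimeSpectrum.comap g q₀).asIdeal q₀.asIdeal g rfl)
        (fun a => Ideal.ResidueField.map_algebraMap _ _ g rfl a)
      have h1 : η.Nmap g x q₀ = η.eta k₀ (ρ₀ y₀) := hρx
      rw [← hr] at h1
      have h2 : η.eta k₀ (algebraMap V k₀ r) = η.eta k₀ (ρ₀ y₀) := h1
      have h3 : algebraMap V k₀ r = ρ₀ y₀ := (η.eta k₀).injective h2
      -- σ : k₀ → K₀
      have : IsFractionRing V k₀ := inferInstanceAs (IsFractionRing V (⊥ : Ideal V).ResidueField)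
      let σ : k₀ ≃ₐ[V] K₀ := IsLocalization.algEquiv (nonZeroDivisors V) k₀ K₀
      have hσρ : ((σ : k₀ →+* K₀).comp ρ₀) = RingHom.id K₀ := by
        apply Ideal.ResidueField.ringHom_ext
        apply RingHom.ext
        intro a
        change σ (ρ₀ (algebraMap A K₀ a)) = algebraMap A K₀ a
        rw [hρ₀, σ.commutes]
        rfl
      have h4 : y₀ = σ (ρ₀ y₀) := by
        have := congrArg (fun h => h y₀) (congrArg DFunLike.coe hσρ)
        simpa using this.symm
      rw [h4, ← h3, σ.commutes]
      exact r.2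
    obtain ⟨a, ha⟩ := IsIntegrallyClosed.isIntegral_iff.mp hint
    refine ⟨a, ?_⟩
    apply Subtype.ext
    change η.t A a = x
    apply H7_S13808 η A hA (η.t_mem_M A a) hx
    change η.eta K₀ (algebraMap A K₀ a) = x p₀
    rw [ha, hy₀]

end Groth.Agent.Lib.helper7
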