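import Mathlib
import Groth.Prelude.Def_W4c1chowmix47Eta
import Groth.Agent.Lib.helper7.EtaA
import Groth.Agent.Lib.helper7.EtaB
import Groth.Agent.Lib.helper7.EtaC

set_option autoImplicit false
set_option linter.unusedSectionVars false
universe u

namespace Groth.Agent.Lib.helper7

open EtaPt

theorem H7_map_comp_apply (η : FieldEndo.{u}) {K L E : Type u} [Field K] [Field L] [Field E]
    (f : K →+* L) (g : L →+* E) (a : η.obj K) : η.map g (η.map f a) = η.map (g.comp f) a := by
  rw [η.map_comp]; rfl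

/-- Functoriality of `Nmap`. -/
theorem H7_Nmap_comp (η : FieldEndo.{u}) {A B C : Type u} [CommRing A] [CommRing B] [CommRing C]
    (f : A →+* B) (g : B →+* C) (x : η.N A) : η.Nmap (g.comp f) x = η.Nmap g (η.Nmap f x) := by
  funext q
  change η.map (Ideal.ResidueField.map (PrimeSpectrum.comap (g.comp f) q).asIdeal q.asIdeal
      (g.comp f) rfl) (x (PrimeSpectrum.comap (g.comp f) q)) =
    η.map (Ideal.ResidueField.map (PrimeSpectrum.comap g q).asIdeal q.asIdeal g rfl)
      (η.map (Ideal.ResidueField.map (PrimeSpectrum.comap f (PrimeSpectrum.comap g q)).asIdeal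
        (PrimeSpectrum.comap g q).asIdeal f rfl) (x (PrimeSpectrum.comap f (PrimeSpectrum.comap g q))))
  rw [H7_map_comp_apply]
  have : (Ideal.ResidueField.map (PrimeSpectrum.comap g q).asIdeal q.asIdeal g rfl).comp
      (Ideal.ResidueField.map (PrimeSpectrum.comap f (PrimeSpectrum.comap g q)).asIdeal
        (PrimeSpectrum.comap g q).asIdeal f rfl) =
      Ideal.ResidueField.map (PrimeSpectrum.comap (g.comp f) q).asIdeal q.asIdeal (g.comp f) rfl := by
    apply Ideal.ResidueField.ringHom_ext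
    apply RingHom.ext
    intro a
    have e1 := Ideal.ResidueField.map_algebraMap
      (PrimeSpectrum.comap f (PrimeSpectrum.comap g q)).asIdeal (PrimeSpectrum.comap g q).asIdeal f rfl a
    have e2 := Ideal.ResidueField.map_algebraMap (PrimeSpectrum.comap g q).asIdeal q.asIdeal g rfl (f a)
    have e3 := Ideal.ResidueField.map_algebraMap
      (PrimeSpectrum.comap (g.comp f) q).asIdeal q.asIdeal (g.comp f) rfl a
    exact (congrArg _ e1).trans (e2.trans e3.symm)
  rw [this]
  rfl

open Classical in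
/-- Consequences of bijectivity of `Nmap f`. -/
theorem H7_Nmap_bij_facts (η : FieldEndo.{u}) {A B : Type u} [CommRing A] [CommRing B] (f : A →+* B)
    (hN : Function.Bijective (η.Nmap f)) :
    Function.Surjective (PrimeSpectrum.comap f) ∧
    ∀ q : PrimeSpectrum B, Function.Surjective (η.map
      (Ideal.ResidueField.map (PrimeSpectrum.comap f q).asIdeal q.asIdeal f rfl)) := by
  constructor
  · intro p
    by_contra hp
    push Not at hp
    have h0 : η.Nmap f (Pi.single p 1) = 0 := by
      funext q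
      change η.map _ ((Pi.single p (1 : η.obj p.asIdeal.ResidueField) : η.N A)
        (PrimeSpectrum.comap f q)) = 0
      rw [Pi.single_eq_of_ne (hp q), map_zero]
    have h1 : (Pi.single p 1 : η.N A) = 0 := hN.1 (by rw [h0, map_zero])
    have := congrFun h1 p
    rw [Pi.single_eq_same] at this
    exact one_ne_zero this
  · intro q c
    obtain ⟨x, hx⟩ := hN.2 (Pi.single q c)
    refine ⟨x (PrimeSpectrum.comap f q), ?_⟩
    have := congrFun hx q
    rw [Pi.single_eq_same] at this
    exact this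

theorem H7_S13811 (η : FieldEndo.{u}) {A B : Type u} [CommRing A] [CommRing B] (f : A →+* B)
    (hf : f.IsIntegral) (hN : Function.Bijective (η.Nmap f))
    (R : Type u) [CommRing R] [IsDomain R] [ValuationRing R] (hR : η.InV R) (g : A →+* R) :
    ∃ g' : B →+* R, g'.comp f = g := by
  obtain ⟨hsurj, hFρ⟩ := H7_Nmap_bij_facts η f hN
  let r₀ : PrimeSpectrum R := ⟨⊥, Ideal.isPrime_bot⟩
  let K₀ := r₀.asIdeal.ResidueField
  have : IsFractionRing R K₀ := inferInstanceAs (IsFractionRing R (⊥ : Ideal R).ResidueField)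
  have hK₀ : Function.Bijective (η.eta K₀) := H7_eta_bij_of_InV η R hR K₀
  obtain ⟨𝔮, h𝔮⟩ := hsurj (PrimeSpectrum.comap g r₀)
  -- general construction over P with P = comap f 𝔮
  have key : ∀ (P : PrimeSpectrum A) (hP : PrimeSpectrum.comap f 𝔮 = P)
      (γ : P.asIdeal.ResidueField →+* K₀)
      (hγ : ∀ a : A, γ (algebraMap A _ a) = algebraMap R K₀ (g a)),
      ∃ ψ : 𝔮.asIdeal.ResidueField →+* K₀, ∀ a : A,
        ψ (algebraMap B _ (f a)) = algebraMap R K₀ (g a) := by
    intro P hP γ hγ
    subst hP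
    let ρ := Ideal.ResidueField.map (PrimeSpectrum.comap f 𝔮).asIdeal 𝔮.asIdeal f rfl
    let eρ : η.obj (PrimeSpectrum.comap f 𝔮).asIdeal.ResidueField ≃+* η.obj 𝔮.asIdeal.ResidueField :=
      RingEquiv.ofBijective (η.map ρ) ⟨(η.map ρ).injective, hFρ 𝔮⟩
    let eK : K₀ ≃+* η.obj K₀ := RingEquiv.ofBijective (η.eta K₀) hK₀
    let ψ : 𝔮.asIdeal.ResidueField →+* K₀ :=
      (eK.symm : η.obj K₀ →+* K₀).comp ((η.map γ).comp
        ((eρ.symm : η.obj 𝔮.asIdeal.ResidueField →+* _).comp (η.eta 𝔮.asIdeal.ResidueField)))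
    refine ⟨ψ, fun a => ?_⟩
    have h1 : algebraMap B 𝔮.asIdeal.ResidueField (f a) = ρ (algebraMap A _ a) :=
      (Ideal.ResidueField.map_algebraMap _ _ f rfl a).symm
    have h2 : η.eta 𝔮.asIdeal.ResidueField (ρ (algebraMap A _ a)) =
        eρ (η.eta _ (algebraMap A _ a)) := (H7_eta_nat η ρ _).symm
    change eK.symm (η.map γ (eρ.symm (η.eta _ (algebraMap B _ (f a))))) = _
    rw [h1, h2, RingEquiv.symm_apply_apply, H7_eta_nat, hγ]
    exact eK.symm_apply_apply _
  obtain ⟨ψ, hψ⟩ := key (PrimeSpectrum.comap g r₀) h𝔮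
    (Ideal.ResidueField.map (PrimeSpectrum.comap g r₀).asIdeal r₀.asIdeal g rfl)
    (fun a => Ideal.ResidueField.map_algebraMap _ _ g rfl a)
  let h : B →+* K₀ := ψ.comp (algebraMap B 𝔮.asIdeal.ResidueField)
  have hhf : ∀ a : A, h (f a) = algebraMap R K₀ (g a) := hψ
  have hmem : ∀ b : B, h b ∈ (algebraMap R K₀).range := by
    intro b
    obtain ⟨p, hpm, hp0⟩ := hf b
    have hint : IsIntegral R (h b) := by
      refine ⟨p.map g, hpm.map g, ?_⟩
      rw [Polynomial.eval₂_map]
      have hc : (algebraMap R K₀).comp g = h.comp f := RingHom.ext fun a => (hhf a).symm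
      rw [hc, ← Polynomial.hom_eval₂, hp0, map_zero]
    obtain ⟨y, hy⟩ := IsIntegrallyClosed.isIntegral_iff.mp hint
    exact ⟨y, hy⟩
  let e : R ≃+* (algebraMap R K₀).range :=
    RingEquiv.ofBijective (algebraMap R K₀).rangeRestrict
      ⟨fun a b hab => IsFractionRing.injective R K₀ (congrArg Subtype.val hab),
        (algebraMap R K₀).rangeRestrict_surjective⟩
  let g' : B →+* R := (e.symm : _ →+* R).comp (h.codRestrict (algebraMap R K₀).range hmem)
  have hg' : ∀ b : B, algebraMap R K₀ (g' b) = h b := by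
    intro b
    have : e (g' b) = h.codRestrict (algebraMap R K₀).range hmem b := e.apply_symm_apply _
    exact congrArg Subtype.val this
  refine ⟨g', RingHom.ext fun a => ?_⟩
  apply IsFractionRing.injective R K₀
  rw [RingHom.comp_apply, hg', hhf]

theorem H7_S13812 (η : FieldEndo.{u}) {A B : Type u} [CommRing A] [CommRing B] (f : A →+* B)
    (hf : f.IsIntegral) (hN : Function.Bijective (η.Nmap f)) :
    Set.BijOn (η.Nmap f) (η.M A) (η.M B) := by
  refine ⟨?_, hN.1.injOn, ?_⟩
  · intro x hx R _ _ _ hR g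
    rw [← H7_Nmap_comp]
    exact hx R hR (g.comp f)
  · intro y hy
    obtain ⟨x, rfl⟩ := hN.2 y
    refine ⟨x, ?_, rfl⟩
    intro R _ _ _ hR g
    obtain ⟨g', rfl⟩ := H7_S13811 η f hf hN R hR g
    rw [H7_Nmap_comp]
    exact hy R hR g'

end Groth.Agent.Lib.helper7
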