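import Mathlib
import Groth.Prelude.Def_W4c1chowmix47Eta
import Groth.Agent.Lib.helper7.EtaD

set_option autoImplicit false
set_option linter.unusedSectionVars false
universe u

namespace Groth.Agent.Lib.helper7

open EtaPt

theorem H7_S13819 (η : FieldEndo.{u}) {A B' B : Type u} [CommRing A] [CommRing B'] [CommRing B]
    (f₁ : A →+* B') (f₂ : B' →+* B)
    (h₁ : f₁.IsIntegral) (hN : Function.Bijective (η.Nmap f₁)) :
    f₂.range ≤ η.rel (f₂.comp f₁) := by
  rintro _ ⟨b', rfl⟩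
  obtain ⟨x, hx, hxb⟩ := (H7_S13812 η f₁ h₁ hN).surjOn (η.t_mem_M B' b')
  refine ⟨x, hx, ?_⟩
  rw [H7_Nmap_comp, hxb, η.Nmap_t_apply]

end Groth.Agent.Lib.helper7
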