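import Mathlib
import Groth.Prelude.Def_W4c1chowmix47Eta
import Groth.Agent.Lib.helper7.EtaD

set_option autoImplicit false
set_option linter.unusedSectionVars false
universe u

namespace Groth.Agent.Lib.helper7

open EtaPt

open Classical in
/-- surjectivity of `Nmap f` forces injectivity of `Spec f`. -/
theorem H7_Nmap_surj_comap_inj (η : FieldEndo.{u}) {A B : Type u} [CommRing A] [CommRing B] (f : A →+* B)
    (hN : Function.Surjective (η.Nmap f)) : Function.Injective (PrimeSpectrum.comap f) := by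
  intro Q Q' hQQ
  by_contra hne
  obtain ⟨x, hx⟩ := hN (Pi.single Q 1)
  have h1 : η.Nmap f x Q' = 0 := by
    rw [hx, Pi.single_eq_of_ne (Ne.symm hne)]
  have h2 : η.map (Ideal.ResidueField.map (PrimeSpectrum.comap f Q').asIdeal Q'.asIdeal f rfl)
      (x (PrimeSpectrum.comap f Q')) = 0 := h1
  have h3 : x (PrimeSpectrum.comap f Q') = 0 := (map_eq_zero_iff _ (η.map _).injective).mp h2
  have h4 : x (PrimeSpectrum.comap f Q) = 0 := by
    have : ∀ P₁ P₂ : PrimeSpectrum A, P₁ = P₂ → x P₁ = 0 → x P₂ = 0 := by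
      intro P₁ P₂ h; subst h; exact id
    exact this _ _ hQQ.symm h3
  have h5 : η.Nmap f x Q = 1 := by rw [hx, Pi.single_eq_same]
  have h6 : η.map (Ideal.ResidueField.map (PrimeSpectrum.comap f Q).asIdeal Q.asIdeal f rfl)
      (x (PrimeSpectrum.comap f Q)) = 1 := h5
  rw [h4, map_zero] at h6
  exact zero_ne_one h6

/-- fraction representation in the residue field of a prime. -/
theorem H7_residueField_frac {A : Type u} [CommRing A] (P : Ideal A) [P.IsPrime] (d : P.ResidueField) :
    ∃ a₁ a₂ : A, a₂ ∉ P ∧ d * algebraMap A P.ResidueField a₂ = algebraMap A P.ResidueField a₁ := by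
  obtain ⟨z, rfl⟩ := IsLocalRing.residue_surjective (R := Localization.AtPrime P) d
  obtain ⟨a₁, s, rfl⟩ := IsLocalization.exists_mk'_eq P.primeCompl z
  refine ⟨a₁, s.1, s.2, ?_⟩
  have h := IsLocalization.mk'_spec (Localization.AtPrime P) a₁ s
  have h' := congrArg (IsLocalRing.residue (Localization.AtPrime P)) h
  rw [map_mul] at h'
  exact h'

/-- Two ring homs from `B` to `F(k(Q))` agreeing on `A`, under the bijectivity hypothesis. -/
theorem H7_hom_unique (η : FieldEndo.{u}) {A B : Type u} [CommRing A] [CommRing B] (g : A →+* B)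
    (hN : Function.Bijective (η.Nmap g)) (Q : PrimeSpectrum B)
    (θ : B →+* η.obj Q.asIdeal.ResidueField)
    (hθ : ∀ a : A, θ (g a) = η.eta _ (algebraMap B Q.asIdeal.ResidueField (g a))) (b : B) :
    θ b = η.eta _ (algebraMap B Q.asIdeal.ResidueField b) := by
  obtain ⟨hsurj, hFρ⟩ := H7_Nmap_bij_facts η g hN
  have hinj := H7_Nmap_surj_comap_inj η g hN.2
  let kQ := Q.asIdeal.ResidueField
  let θ' : B →+* η.obj kQ := (η.eta kQ).comp (algebraMap B kQ)
  have hθ' : ∀ a : A, θ (g a) = θ' (g a) := hθ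
  -- kernel of θ' is Q
  have hker' : ∀ b : B, θ' b = 0 ↔ b ∈ Q.asIdeal := by
    intro b
    change η.eta kQ (algebraMap B kQ b) = 0 ↔ _
    rw [map_eq_zero_iff _ (η.eta kQ).injective, Ideal.algebraMap_residueField_eq_zero]
  -- kernel of θ is Q
  have hker : ∀ b : B, θ b = 0 ↔ b ∈ Q.asIdeal := by
    let Q₁ : PrimeSpectrum B := ⟨RingHom.ker θ, RingHom.ker_isPrime θ⟩
    have : PrimeSpectrum.comap g Q₁ = PrimeSpectrum.comap g Q := by
      apply PrimeSpectrum.ext
      ext a
      change θ (g a) = 0 ↔ g a ∈ Q.asIdeal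
      rw [hθ', hker']
    have hQ₁ : Q₁ = Q := hinj this
    intro b
    have : b ∈ Q₁.asIdeal ↔ b ∈ Q.asIdeal := by rw [hQ₁]
    exact this
  let P := PrimeSpectrum.comap g Q
  let kP := P.asIdeal.ResidueField
  let ρ : kP →+* kQ := Ideal.ResidueField.map P.asIdeal Q.asIdeal g rfl
  have hρ : ∀ a : A, ρ (algebraMap A kP a) = algebraMap B kQ (g a) :=
    fun a => Ideal.ResidueField.map_algebraMap _ _ g rfl a
  set c := algebraMap B kQ b with hc
  obtain ⟨d, hd⟩ := hFρ Q (η.eta kQ c)
  obtain ⟨n, d', hd'⟩ := η.exists_pow_mem_range_eta kP d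
  have hcpow : c ^ ringExpChar kP ^ n = ρ d' := by
    apply (η.eta kQ).injective
    rw [map_pow, ← hd, ← map_pow, ← hd', H7_eta_nat]
  obtain ⟨a₁, a₂, ha₂, hfrac⟩ := H7_residueField_frac P.asIdeal d'
  have hrel : b ^ ringExpChar kP ^ n * g a₂ - g a₁ ∈ Q.asIdeal := by
    rw [← Ideal.algebraMap_residueField_eq_zero, map_sub, map_mul, map_pow, ← hc, hcpow,
      ← hρ, ← hρ, ← map_mul, hfrac, sub_self]
  have e1 : θ b ^ ringExpChar kP ^ n * θ (g a₂) = θ (g a₁) := by
    have := (hker _).mpr hrel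
    rw [map_sub, map_mul, map_pow, sub_eq_zero] at this
    exact this
  have e2 : θ' b ^ ringExpChar kP ^ n * θ' (g a₂) = θ' (g a₁) := by
    have := (hker' _).mpr hrel
    rw [map_sub, map_mul, map_pow, sub_eq_zero] at this
    exact this
  have hne : θ' (g a₂) ≠ 0 := by
    rw [Ne, hker']
    exact ha₂
  have e3 : θ b ^ ringExpChar kP ^ n = θ' b ^ ringExpChar kP ^ n := by
    rw [hθ', hθ'] at e1
    exact mul_right_cancel₀ hne (e1.trans e2.symm)
  exact H7_pow_expChar_inj ((η.eta kQ).comp ρ) n e3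

theorem H7_S13806 (η : FieldEndo.{u}) (A : Type u) [CommRing A]
    (B : Type u) [CommRing B] (g : A →+* B)
    (hg : g.IsIntegral) (hN : Function.Bijective (η.Nmap g)) :
    ∃! g' : B →+* η.M A, g'.comp g = η.q A := by
  have hbij := H7_S13812 η g hg hN
  let r : η.M A →+* η.M B := (η.Nmap g).restrict (η.M A) (η.M B) hbij.mapsTo
  have hr : Function.Bijective r := by
    constructor
    · intro x y hxy
      apply Subtype.ext
      exact hN.1 (congrArg Subtype.val hxy)
    · rintro ⟨y, hy⟩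
      obtain ⟨x, hx, hxy⟩ := hbij.surjOn hy
      exact ⟨⟨x, hx⟩, Subtype.ext hxy⟩
  let e : η.M A ≃+* η.M B := RingEquiv.ofBijective r hr
  have he : ∀ x : η.M A, ((e x : η.M B) : η.N B) = η.Nmap g (x : η.N A) := fun x => rfl
  refine ⟨(e.symm : η.M B →+* η.M A).comp (η.q B), ?_, ?_⟩
  · apply RingHom.ext
    intro a
    change e.symm (η.q B (g a)) = η.q A a
    rw [RingEquiv.symm_apply_eq]
    apply Subtype.ext
    rw [he]
    exact (η.Nmap_t_apply g a).symm
  · intro g'' hg''
    apply RingHom.ext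
    intro b
    change g'' b = e.symm (η.q B b)
    rw [RingEquiv.eq_symm_apply]
    apply Subtype.ext
    rw [he]
    change η.Nmap g (g'' b : η.N A) = η.t B b
    funext Q
    let θ : B →+* η.obj Q.asIdeal.ResidueField :=
      (η.map (Ideal.ResidueField.map (PrimeSpectrum.comap g Q).asIdeal Q.asIdeal g rfl)).comp
        ((Pi.evalRingHom (fun p : PrimeSpectrum A => η.obj p.asIdeal.ResidueField)
          (PrimeSpectrum.comap g Q)).comp ((η.M A).subtype.comp g''))
    have hθ : ∀ a : A, θ (g a) = η.eta _ (algebraMap B Q.asIdeal.ResidueField (g a)) := by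
      intro a
      have h1 : g'' (g a) = η.q A a := congrArg (fun h => h a) (congrArg DFunLike.coe hg'')
      change η.map _ (((g'' (g a) : η.M A) : η.N A) (PrimeSpectrum.comap g Q)) = _
      rw [h1]
      change η.map _ (η.eta _ (algebraMap A _ a)) = _
      rw [H7_eta_nat]
      congr 1
      exact Ideal.ResidueField.map_algebraMap _ _ g rfl a
    exact H7_hom_unique η g hN Q θ hθ b

end Groth.Agent.Lib.helper7
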