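import Mathlib
import Groth.Prelude.Def_W4c1chowmix47Eta
import Groth.Agent.Lib.helper7.EtaD

set_option autoImplicit false
set_option linter.unusedSectionVars false
universe u

namespace Groth.Agent.Lib.helper7

open EtaPt

theorem H7_S13824 (η : FieldEndo.{u}) (A : Type u) [CommRing A] (f : A) :
    (∀ y : η.N (Localization.Away f), ∃ (x : η.N A) (n : ℕ),
        y * η.t (Localization.Away f) (algebraMap A (Localization.Away f) f) ^ n =
          η.Nmap (algebraMap A (Localization.Away f)) x) ∧
      ∀ x : η.N A, η.Nmap (algebraMap A (Localization.Away f)) x = 0 → ∃ n : ℕ, η.t A f ^ n * x = 0 := by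
  classical
  let Af := Localization.Away f
  let alg : A →+* Af := algebraMap A Af
  have hsos : alg.SurjectiveOnStalks :=
    RingHom.surjectiveOnStalks_of_isLocalization (Submonoid.powers f) Af
  have hinj : Function.Injective (PrimeSpectrum.comap alg) :=
    PrimeSpectrum.localization_comap_injective Af (Submonoid.powers f)
  -- primes of A not containing f come from A_f
  have hex : ∀ p : PrimeSpectrum A, f ∉ p.asIdeal → ∃ q : PrimeSpectrum Af, PrimeSpectrum.comap alg q = p := by
    intro p hp
    have : p ∈ Set.range (PrimeSpectrum.comap alg) := by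
      rw [PrimeSpectrum.localization_comap_range Af (Submonoid.powers f)]
      change Disjoint _ _
      rw [Set.disjoint_left]
      rintro _ ⟨n, rfl⟩ hmem
      exact hp (p.isPrime.mem_of_pow_mem n hmem)
    exact this
  have hnotmem : ∀ q : PrimeSpectrum Af, f ∉ (PrimeSpectrum.comap alg q).asIdeal := by
    intro q hq
    have hu : IsUnit (alg f) := IsLocalization.Away.algebraMap_isUnit f
    exact q.isPrime.ne_top (Ideal.eq_top_of_isUnit_mem _ hq hu)
  constructor
  · intro y
    -- existence of the component at each p
    have hc : ∀ p : PrimeSpectrum A, ∃ c : η.obj p.asIdeal.ResidueField,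
        f ∉ p.asIdeal → ∀ (q : PrimeSpectrum Af) (hq : p.asIdeal = q.asIdeal.comap alg),
          η.map (Ideal.ResidueField.map p.asIdeal q.asIdeal alg hq) c = y q := by
      intro p
      by_cases hp : f ∈ p.asIdeal
      · exact ⟨0, fun h => absurd hp h⟩
      · obtain ⟨q₀, hq₀⟩ := hex p hp
        have hq₀' : p.asIdeal = q₀.asIdeal.comap alg := by rw [← hq₀]; rfl
        have hbij := hsos.residueFieldMap_bijective p.asIdeal q₀.asIdeal hq₀'
        let e : p.asIdeal.ResidueField ≃+* q₀.asIdeal.ResidueField :=
          RingEquiv.ofBijective _ hbij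
        obtain ⟨c, hc⟩ := (H7_eta_map_equiv_bijective η e).2 (y q₀)
        refine ⟨c, fun _ q hq => ?_⟩
        have hqq : q = q₀ := by
          apply hinj
          apply PrimeSpectrum.ext
          change q.asIdeal.comap alg = q₀.asIdeal.comap alg
          rw [← hq, ← hq₀']
        subst hqq
        exact hc
    choose x hx using hc
    refine ⟨x, 0, ?_⟩
    rw [pow_zero, mul_one]
    funext q
    exact (hx (PrimeSpectrum.comap alg q) (hnotmem q) q rfl).symm
  · intro x hx0
    refine ⟨1, ?_⟩
    rw [pow_one]
    funext p
    change η.eta _ (algebraMap A _ f) * x p = 0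
    by_cases hp : f ∈ p.asIdeal
    · rw [Ideal.algebraMap_residueField_eq_zero.mpr hp, map_zero, zero_mul]
    · obtain ⟨q, hq⟩ := hex p hp
      have h1 : η.Nmap alg x q = 0 := by rw [hx0]; rfl
      have h2 : η.map (Ideal.ResidueField.map (PrimeSpectrum.comap alg q).asIdeal q.asIdeal alg rfl)
          (x (PrimeSpectrum.comap alg q)) = 0 := h1
      have h3 : x (PrimeSpectrum.comap alg q) = 0 := (map_eq_zero_iff _ (η.map _).injective).mp h2
      rw [hq] at h3
      rw [h3, mul_zero]

end Groth.Agent.Lib.helper7
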