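import Mathlib
import Groth.Prelude.Def_W4c1chowmix47Eta
import Groth.Agent.Lib.helper7.EtaD

set_option autoImplicit false
set_option linter.unusedSectionVars false
universe u

namespace Groth.Agent.Lib.helper7

open EtaPt

theorem H7_prime_prod_cases {A B : Type u} [CommRing A] [CommRing B] (P : PrimeSpectrum (A × B)) :
    (∃ p : PrimeSpectrum A, P.asIdeal = p.asIdeal.comap (RingHom.fst A B)) ∨
      (∃ q : PrimeSpectrum B, P.asIdeal = q.asIdeal.comap (RingHom.snd A B)) := by
  rcases (Ideal.ideal_prod_prime P.asIdeal).mp P.isPrime with ⟨p, hp, h⟩ | ⟨q, hq, h⟩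
  · left
    refine ⟨⟨p, hp⟩, ?_⟩
    rw [h]
    ext ⟨a, b⟩
    simp [Ideal.mem_prod]
  · right
    refine ⟨⟨q, hq⟩, ?_⟩
    rw [h]
    ext ⟨a, b⟩
    simp [Ideal.mem_prod]

theorem H7_comap_fst_ne_comap_snd {A B : Type u} [CommRing A] [CommRing B] (p : PrimeSpectrum A)
    (q : PrimeSpectrum B) : p.asIdeal.comap (RingHom.fst A B) ≠ q.asIdeal.comap (RingHom.snd A B) := by
  intro h
  have h1 : ((0, 1) : A × B) ∈ p.asIdeal.comap (RingHom.fst A B) := by
    simp [Ideal.mem_comap]
  rw [h] at h1
  have h2 : (1 : B) ∈ q.asIdeal := by simpa [Ideal.mem_comap] using h1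
  exact q.isPrime.ne_top ((Ideal.eq_top_iff_one _).mpr h2)

/-- general transport lemma for `Nmap`. -/
theorem H7_Nmap_apply_of_eq (η : FieldEndo.{u}) {A B : Type u} [CommRing A] [CommRing B] (f : A →+* B)
    (x : η.N A) (P : PrimeSpectrum A) (q : PrimeSpectrum B) (h : P.asIdeal = q.asIdeal.comap f) :
    η.map (Ideal.ResidueField.map P.asIdeal q.asIdeal f h) (x P) = η.Nmap f x q := by
  obtain rfl : P = PrimeSpectrum.comap f q := PrimeSpectrum.ext h
  rfl

/-- any ring hom maps `M` into `M`. -/
theorem H7_Nmap_mem_M (η : FieldEndo.{u}) {A B : Type u} [CommRing A] [CommRing B] (f : A →+* B)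
    {x : η.N A} (hx : x ∈ η.M A) : η.Nmap f x ∈ η.M B := by
  intro R _ _ _ hR g
  rw [← H7_Nmap_comp]
  exact hx R hR (g.comp f)

theorem H7_S13810 (η : FieldEndo.{u}) (A B : Type u) [CommRing A] [CommRing B] :
    Set.BijOn (fun x : η.N (A × B) => (η.Nmap (RingHom.fst A B) x, η.Nmap (RingHom.snd A B) x))
      (η.M (A × B)) ((η.M A : Set (η.N A)) ×ˢ (η.M B : Set (η.N B))) := by
  have hfs : Function.Surjective (RingHom.fst A B) := fun a => ⟨(a, 0), rfl⟩
  have hss : Function.Surjective (RingHom.snd A B) := fun b => ⟨(0, b), rfl⟩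
  have hfsos := RingHom.surjectiveOnStalks_of_surjective hfs
  have hssos := RingHom.surjectiveOnStalks_of_surjective hss
  refine ⟨?_, ?_, ?_⟩
  · intro x hx
    exact ⟨H7_Nmap_mem_M η _ hx, H7_Nmap_mem_M η _ hx⟩
  · intro x _ x' _ hxx
    have h1 : η.Nmap (RingHom.fst A B) x = η.Nmap (RingHom.fst A B) x' := congrArg Prod.fst hxx
    have h2 : η.Nmap (RingHom.snd A B) x = η.Nmap (RingHom.snd A B) x' := congrArg Prod.snd hxx
    funext P
    rcases H7_prime_prod_cases P with ⟨p, h⟩ | ⟨q, h⟩
    · apply (η.map (Ideal.ResidueField.map P.asIdeal p.asIdeal _ h)).injective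
      rw [H7_Nmap_apply_of_eq, H7_Nmap_apply_of_eq, h1]
    · apply (η.map (Ideal.ResidueField.map P.asIdeal q.asIdeal _ h)).injective
      rw [H7_Nmap_apply_of_eq, H7_Nmap_apply_of_eq, h2]
  · rintro ⟨y, z⟩ ⟨hy, hz⟩
    have hy' : y ∈ η.M A := hy
    have hz' : z ∈ η.M B := hz
    have hc : ∀ P : PrimeSpectrum (A × B), ∃ c : η.obj P.asIdeal.ResidueField,
        (∀ (p : PrimeSpectrum A) (h : P.asIdeal = p.asIdeal.comap (RingHom.fst A B)),
          η.map (Ideal.ResidueField.map P.asIdeal p.asIdeal _ h) c = y p) ∧
        (∀ (q : PrimeSpectrum B) (h : P.asIdeal = q.asIdeal.comap (RingHom.snd A B)),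
          η.map (Ideal.ResidueField.map P.asIdeal q.asIdeal _ h) c = z q) := by
      intro P
      rcases H7_prime_prod_cases P with ⟨p₀, h₀⟩ | ⟨q₀, h₀⟩
      · have hbij := hfsos.residueFieldMap_bijective P.asIdeal p₀.asIdeal h₀
        let e : P.asIdeal.ResidueField ≃+* p₀.asIdeal.ResidueField := RingEquiv.ofBijective _ hbij
        obtain ⟨c, hc⟩ := (H7_eta_map_equiv_bijective η e).2 (y p₀)
        refine ⟨c, fun p h => ?_, fun q h => ?_⟩
        · have hpp : p = p₀ := by
            apply PrimeSpectrum.ext
            apply Ideal.comap_injective_of_surjective _ hfs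
            rw [← h, ← h₀]
          subst hpp
          exact hc
        · exact absurd (h₀.symm.trans h) (H7_comap_fst_ne_comap_snd p₀ q)
      · have hbij := hssos.residueFieldMap_bijective P.asIdeal q₀.asIdeal h₀
        let e : P.asIdeal.ResidueField ≃+* q₀.asIdeal.ResidueField := RingEquiv.ofBijective _ hbij
        obtain ⟨c, hc⟩ := (H7_eta_map_equiv_bijective η e).2 (z q₀)
        refine ⟨c, fun p h => ?_, fun q h => ?_⟩
        · exact absurd (h.symm.trans h₀) (H7_comap_fst_ne_comap_snd p q₀)
        · have hqq : q = q₀ := by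
            apply PrimeSpectrum.ext
            apply Ideal.comap_injective_of_surjective _ hss
            rw [← h, ← h₀]
          subst hqq
          exact hc
    choose x hx1 hx2 using hc
    have hxy : η.Nmap (RingHom.fst A B) x = y := by
      funext p
      exact hx1 (PrimeSpectrum.comap (RingHom.fst A B) p) p rfl
    have hxz : η.Nmap (RingHom.snd A B) x = z := by
      funext q
      exact hx2 (PrimeSpectrum.comap (RingHom.snd A B) q) q rfl
    refine ⟨x, ?_, by simp only [hxy, hxz]⟩
    intro R _ _ _ hR g
    have hprod : g (1, 0) * g (0, 1) = 0 := by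
      rw [← map_mul]
      have h0 : ((1, 0) : A × B) * (0, 1) = 0 := by ext <;> simp
      rw [h0, map_zero]
    rcases mul_eq_zero.mp hprod with h10 | h01
    · -- factors through snd
      let g₂ : B →+* R :=
        { toFun := fun b => g (0, b)
          map_one' := by
            have : g (1, 1) = g (1, 0) + g (0, 1) := by rw [← map_add]; simp
            have h1 : g (1, 1) = 1 := map_one g
            rw [h10, zero_add] at this
            rw [← this, h1]
          map_mul' := fun b b' => by rw [← map_mul]; simp
          map_zero' := by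
            have h0 : ((0, 0) : A × B) = 0 := rfl
            rw [h0, map_zero]
          map_add' := fun b b' => by rw [← map_add]; simp }
      have hg : g = g₂.comp (RingHom.snd A B) := by
        apply RingHom.ext
        rintro ⟨a, b⟩
        have h1 : g (a, b) = g (a, 0) + g (0, b) := by rw [← map_add]; simp
        have h2 : g (a, 0) = 0 := by
          have : ((a, 0) : A × B) = (1, 0) * (a, 0) := by simp
          rw [this, map_mul, h10, zero_mul]
        rw [h1, h2, zero_add]
        rfl
      rw [hg, H7_Nmap_comp, hxz]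
      exact hz' R hR g₂
    · let g₁ : A →+* R :=
        { toFun := fun a => g (a, 0)
          map_one' := by
            have : g (1, 1) = g (1, 0) + g (0, 1) := by rw [← map_add]; simp
            have h1 : g (1, 1) = 1 := map_one g
            rw [h01, add_zero] at this
            rw [← this, h1]
          map_mul' := fun a a' => by rw [← map_mul]; simp
          map_zero' := by
            have h0 : ((0, 0) : A × B) = 0 := rfl
            rw [h0, map_zero]
          map_add' := fun a a' => by rw [← map_add]; simp }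
      have hg : g = g₁.comp (RingHom.fst A B) := by
        apply RingHom.ext
        rintro ⟨a, b⟩
        have h1 : g (a, b) = g (a, 0) + g (0, b) := by rw [← map_add]; simp
        have h2 : g (0, b) = 0 := by
          have : ((0, b) : A × B) = (0, 1) * (0, b) := by simp
          rw [this, map_mul, h01, zero_mul]
        rw [h1, h2, add_zero]
        rfl
      rw [hg, H7_Nmap_comp, hxy]
      exact hy' R hR g₁

end Groth.Agent.Lib.helper7
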