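import Mathlib

set_option autoImplicit false
universe u

open TensorProduct

namespace Groth.Agent.Lib.helper7

/-- for a flat algebra, the annihilator of an element of the kernel generates the unit ideal -/
theorem H7_map_ann_eq_top {A B : Type u} [CommRing A] [CommRing B] [Algebra A B] [Module.Flat A B]
    (x : A) (hx : algebraMap A B x = 0) :
    Ideal.map (algebraMap A B) (LinearMap.ker (LinearMap.toSpanSingleton A A x)) = ⊤ := by
  set μ : A →ₗ[A] A := LinearMap.toSpanSingleton A A x with hμ
  have hex : Function.Exact (LinearMap.ker μ).subtype μ := LinearMap.exact_subtype_ker_map μ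
  have hex2 := Module.Flat.lTensor_exact B hex
  have hzero : ∀ t, LinearMap.lTensor B μ t = 0 := by
    intro t
    induction t using TensorProduct.induction_on with
    | zero => rw [map_zero]
    | tmul b a =>
      rw [LinearMap.lTensor_tmul]
      change b ⊗ₜ[A] (a • x) = 0
      rw [smul_eq_mul, mul_comm, ← smul_eq_mul, ← TensorProduct.smul_tmul, Algebra.smul_def, hx,
        zero_mul, TensorProduct.zero_tmul]
    | add t1 t2 h1 h2 => rw [map_add, h1, h2, add_zero]
  obtain ⟨w, hw⟩ := (hex2 ((1 : B) ⊗ₜ[A] (1 : A))).mp (hzero _)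
  have key : ∀ w : B ⊗[A] (LinearMap.ker μ),
      TensorProduct.rid A B (LinearMap.lTensor B (LinearMap.ker μ).subtype w) ∈
        Ideal.map (algebraMap A B) (LinearMap.ker μ) := by
    intro w
    induction w using TensorProduct.induction_on with
    | zero => rw [map_zero, map_zero]; exact Ideal.zero_mem _
    | tmul b n =>
      rw [LinearMap.lTensor_tmul, TensorProduct.rid_tmul, Algebra.smul_def]
      exact Ideal.mul_mem_right _ _ (Ideal.mem_map_of_mem _ n.2)
    | add t1 t2 h1 h2 => rw [map_add, map_add]; exact Ideal.add_mem _ h1 h2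
  have h1 := key w
  rw [hw, TensorProduct.rid_tmul, one_smul] at h1
  exact (Ideal.eq_top_iff_one _).mpr h1

/-- kernel of a flat integral algebra map is an idempotent ideal -/
theorem H7_ker_isIdempotentElem {A B : Type u} [CommRing A] [CommRing B] [Algebra A B]
    [Module.Flat A B] [Algebra.IsIntegral A B] :
    IsIdempotentElem (RingHom.ker (algebraMap A B)) := by
  set J := RingHom.ker (algebraMap A B) with hJ
  have hxy : ∀ x ∈ J, ∃ y ∈ J, x = x * y := by
    intro x hx
    have hx0 : algebraMap A B x = 0 := hx
    have htop := H7_map_ann_eq_top (B := B) x hx0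
    set N : Ideal A := LinearMap.ker (LinearMap.toSpanSingleton A A x) with hN
    have hsup : N ⊔ J = ⊤ := by
      by_contra hne
      obtain ⟨m, hm, hle⟩ := Ideal.exists_le_maximal _ hne
      have hmp : m.IsPrime := hm.isPrime
      obtain ⟨Q, _, hQp, hQ⟩ := Ideal.exists_ideal_over_prime_of_isIntegral m (⊥ : Ideal B)
        (le_trans (le_of_eq (by rfl)) (le_trans le_sup_right hle))
      have h1 : Ideal.map (algebraMap A B) N ≤ Q := by
        rw [Ideal.map_le_iff_le_comap, hQ]
        exact le_trans le_sup_left hle
      rw [htop] at h1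
      exact hQp.ne_top (top_le_iff.mp h1)
    have h1 : (1 : A) ∈ N ⊔ J := hsup ▸ Submodule.mem_top
    obtain ⟨n, hn, y, hy, hny⟩ := Submodule.mem_sup.mp h1
    refine ⟨y, hy, ?_⟩
    have hn0 : n * x = 0 := hn
    calc x = x * 1 := (mul_one x).symm
      _ = x * (n + y) := by rw [hny]
      _ = x * y := by rw [mul_add, mul_comm x n, hn0, zero_add]
  apply le_antisymm
  · exact Ideal.mul_le_right
  · intro x hx
    obtain ⟨y, hy, hxy'⟩ := hxy x hx
    rw [hxy']
    exact Ideal.mul_mem_mul hx hy

theorem H7_ker_idem_of_etale {R A B : Type u} [CommRing R] [CommRing A] [CommRing B]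
    [Algebra R A] [Algebra R B] [Algebra.Etale R A] [Algebra.Etale R B] [Module.Finite R B]
    [IsNoetherianRing A] (f : A →ₐ[R] B) :
    ∃ e : A, IsIdempotentElem e ∧ RingHom.ker f = Ideal.span {e} := by
  let _ : Algebra A B := f.toRingHom.toAlgebra
  have : IsScalarTower R A B := IsScalarTower.of_algebraMap_eq' f.comp_algebraMap.symm
  have : Algebra.Etale A B := Algebra.Etale.of_restrictScalars R A B
  have : Module.Flat A B := inferInstance
  have : Module.Finite A B := Module.Finite.of_restrictScalars_finite R A B
  have : Algebra.IsIntegral A B := Algebra.IsIntegral.of_finite A B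
  have h1 : IsIdempotentElem (RingHom.ker (algebraMap A B)) := H7_ker_isIdempotentElem
  exact (Ideal.isIdempotentElem_iff_of_fg _ (IsNoetherian.noetherian _)).mp h1

end Groth.Agent.Lib.helper7
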