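import Mathlib
import Groth.Prelude.Def_SchFin
import Groth.Prelude.Def_SchFin2

set_option autoImplicit false
universe u

open TensorProduct

namespace Groth.Agent.Lib.helper7

open SchFin CategoryTheory CategoryTheory.Limits

/-- a subsingleton algebra is étale -/
theorem H7_etale_of_subsingleton (R S : Type u) [CommRing R] [CommRing S] [Algebra R S]
    [Subsingleton S] : Algebra.Etale R S := by
  have hs : Subsingleton (Localization.Away (0 : R)) :=
    IsLocalization.subsingleton (M := Submonoid.powers (0 : R)) ⟨1, pow_one 0⟩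
  let e : Localization.Away (0 : R) ≃ₐ[R] S :=
    { toFun := fun _ => 0
      invFun := fun _ => 0
      left_inv := fun _ => Subsingleton.elim _ _
      right_inv := fun _ => Subsingleton.elim _ _
      map_mul' := fun _ _ => Subsingleton.elim _ _
      map_add' := fun _ _ => Subsingleton.elim _ _
      commutes' := fun _ => Subsingleton.elim _ _ }
  exact Algebra.Etale.of_equiv e

/-- a binary product of étale algebras is étale -/
theorem H7_etale_prod (R A B : Type u) [CommRing R] [CommRing A] [CommRing B] [Algebra R A]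
    [Algebra R B] [Algebra.Etale R A] [Algebra.Etale R B] : Algebra.Etale R (A × B) := by
  let F : Bool → Type u := fun b => cond b A B
  let i1 : ∀ b, CommRing (F b) := fun b => by
    cases b
    · exact (inferInstance : CommRing B)
    · exact (inferInstance : CommRing A)
  let i2 : ∀ b, Algebra R (F b) := fun b => by
    cases b
    · exact (inferInstance : Algebra R B)
    · exact (inferInstance : Algebra R A)
  have i3 : ∀ b, Algebra.Etale R (F b) := fun b => by
    cases b
    · exact (inferInstance : Algebra.Etale R B)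
    · exact (inferInstance : Algebra.Etale R A)
  let e : (∀ b, F b) ≃ₐ[R] A × B :=
    { toFun := fun f => (f true, f false)
      invFun := fun x b => by
        cases b
        · exact x.2
        · exact x.1
      left_inv := fun f => by
        funext b
        cases b <;> rfl
      right_inv := fun x => rfl
      map_mul' := fun _ _ => rfl
      map_add' := fun _ _ => rfl
      commutes' := fun _ => rfl }
  exact Algebra.Etale.of_equiv e

theorem H7_tensor_subsingleton {R : Type*} [CommRing R] (S M : Type*) [AddCommGroup S]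
    [Module R S] [AddCommGroup M] [Module R M] [Subsingleton M] : Subsingleton (S ⊗[R] M) := by
  have h0 : ∀ a : S ⊗[R] M, a = 0 := by
    intro a
    induction a using TensorProduct.induction_on with
    | zero => rfl
    | tmul s m => rw [show m = 0 from Subsingleton.elim _ _, TensorProduct.tmul_zero]
    | add a b ha hb => rw [ha, hb, add_zero]
  exact ⟨fun a b => (h0 a).trans (h0 b).symm⟩

/-- the zero algebra -/
def H7_zeroAlg (X : RSpace.{u}) : Alg X where
  carrier _ := PUnit.{u+1}
  res _ := RingHom.id _
  res_algebraMap _ _ := rfl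
  res_self _ _ := rfl
  res_comp _ _ _ := rfl

theorem H7_zeroAlg_isEtCover (X : RSpace.{u}) : (H7_zeroAlg X).IsEtCover := by
  refine ⟨?_, fun p => ⟨?_, ?_⟩⟩
  · intro p q h
    unfold IsBCAlong
    let _ : Algebra (X.ring p) (X.ring q) := (X.res h).toAlgebra
    have h1 : Subsingleton ((H7_zeroAlg X).toMod.carrier p) :=
      (inferInstance : Subsingleton PUnit.{u+1})
    have h2 : Subsingleton ((H7_zeroAlg X).toMod.carrier q) :=
      (inferInstance : Subsingleton PUnit.{u+1})
    have h3 := H7_tensor_subsingleton (R := X.ring p) (X.ring q) ((H7_zeroAlg X).toMod.carrier p)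
    refine ⟨?_, ?_⟩
    · intro a b _
      exact Subsingleton.elim _ _
    · intro y
      exact ⟨0, Subsingleton.elim _ _⟩
  · exact (inferInstance : Module.Finite (X.ring p) PUnit.{u+1})
  · exact H7_etale_of_subsingleton (X.ring p) PUnit.{u+1}

theorem H7_isBC_prod {R S : Type u} [CommRing R] [CommRing S] (g : R →+* S)
    {M1 M2 N1 N2 : Type u} [AddCommGroup M1] [AddCommGroup M2] [AddCommGroup N1] [AddCommGroup N2]
    [Module R M1] [Module R M2] [Module S N1] [Module S N2]
    (f1 : M1 →ₛₗ[g] N1) (f2 : M2 →ₛₗ[g] N2) (h1 : IsBCAlong g f1) (h2 : IsBCAlong g f2)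
    (f : (M1 × M2) →ₛₗ[g] (N1 × N2)) (hf : ∀ x, f x = (f1 x.1, f2 x.2)) : IsBCAlong g f := by
  unfold IsBCAlong at h1 h2 ⊢
  let _ : Algebra R S := g.toAlgebra
  let _ : Module R N1 := Module.compHom N1 g
  let _ : Module R N2 := Module.compHom N2 g
  have : IsScalarTower R S N1 := IsScalarTower.of_algebraMap_smul fun _ _ => rfl
  have : IsScalarTower R S N2 := IsScalarTower.of_algebraMap_smul fun _ _ => rfl
  apply IsBaseChange.of_equiv
    ((TensorProduct.prodRight R S S M1 M2) ≪≫ₗ (h1.equiv.prodCongr h2.equiv))
  intro x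
  change ((h1.equiv.prodCongr h2.equiv) ((TensorProduct.prodRight R S S M1 M2) (1 ⊗ₜ x))) = f x
  rw [hf]
  obtain ⟨a, b⟩ := x
  rw [TensorProduct.prodRight_tmul]
  change (h1.equiv (1 ⊗ₜ a), h2.equiv (1 ⊗ₜ b)) = _
  rw [IsBaseChange.equiv_tmul, IsBaseChange.equiv_tmul, one_smul, one_smul]
  rfl

/-- the product algebra -/
def H7_prodAlg {X : RSpace.{u}} (A B : Alg X) : Alg X where
  carrier p := A.carrier p × B.carrier p
  res h := RingHom.prodMap (A.res h) (B.res h)
  res_algebraMap h a := Prod.ext (A.res_algebraMap h a) (B.res_algebraMap h a)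
  res_self p b := Prod.ext (A.res_self p b.1) (B.res_self p b.2)
  res_comp h h' b := Prod.ext (A.res_comp h h' b.1) (B.res_comp h h' b.2)

theorem H7_prodAlg_isEtCover {X : RSpace.{u}} (A B : Alg X) (hA : A.IsEtCover) (hB : B.IsEtCover) :
    (H7_prodAlg A B).IsEtCover := by
  refine ⟨?_, fun p => ⟨?_, ?_⟩⟩
  · intro p q h
    exact H7_isBC_prod (X.res h) (A.toMod.res h) (B.toMod.res h) (hA.1 p q h) (hB.1 p q h)
      ((H7_prodAlg A B).toMod.res h) (fun x => rfl)
  · have := (hA.2 p).1
    have := (hB.2 p).1
    exact (inferInstance : Module.Finite (X.ring p) (A.carrier p × B.carrier p))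
  · have := (hA.2 p).2
    have := (hB.2 p).2
    exact H7_etale_prod (X.ring p) (A.carrier p) (B.carrier p)

/-- the terminal étale cover -/
def H7_termFEt (X : RSpace.{u}) : FEt X := ⟨H7_zeroAlg X, H7_zeroAlg_isEtCover X⟩

/-- the map to the zero algebra -/
def H7_toZero {X : RSpace.{u}} (A : Alg X) : A ⟶ H7_zeroAlg X where
  app p :=
    { toFun := fun _ => PUnit.unit
      map_one' := rfl
      map_mul' := fun _ _ => rfl
      map_zero' := rfl
      map_add' := fun _ _ => rfl
      commutes' := fun _ => rfl }
  compat _ _ := rfl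

theorem H7_hasTerminal (X : RSpace.{u}) : HasTerminal (FEt X) := by
  have hT : IsTerminal (H7_termFEt X) := by
    refine IsTerminal.ofUniqueHom (fun A => ObjectProperty.homMk (H7_toZero A.obj)) ?_
    intro A m
    apply ObjectProperty.hom_ext
    apply Alg.hom_ext
    intro p
    apply AlgHom.ext
    intro a
    exact Subsingleton.elim (α := PUnit.{u+1}) _ _
  exact hT.hasTerminal

/-- first projection -/
def H7_fst {X : RSpace.{u}} (A B : Alg X) : H7_prodAlg A B ⟶ A where
  app p := AlgHom.fst (X.ring p) (A.carrier p) (B.carrier p)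
  compat _ _ := rfl

/-- second projection -/
def H7_snd {X : RSpace.{u}} (A B : Alg X) : H7_prodAlg A B ⟶ B where
  app p := AlgHom.snd (X.ring p) (A.carrier p) (B.carrier p)
  compat _ _ := rfl

/-- pairing -/
def H7_pair {X : RSpace.{u}} {T A B : Alg X} (f : T ⟶ A) (g : T ⟶ B) : T ⟶ H7_prodAlg A B where
  app p := AlgHom.prod (f.app p) (g.app p)
  compat h b := Prod.ext (f.compat h b) (g.compat h b)

theorem H7_hasBinaryProducts (X : RSpace.{u}) : HasBinaryProducts (FEt X) := by
  have key : ∀ A B : FEt X, HasLimit (pair A B) := by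
    intro A B
    let P : FEt X := ⟨H7_prodAlg A.obj B.obj, H7_prodAlg_isEtCover _ _ A.property B.property⟩
    let fan : BinaryFan A B := BinaryFan.mk (P := P) (ObjectProperty.homMk (H7_fst A.obj B.obj))
      (ObjectProperty.homMk (H7_snd A.obj B.obj))
    refine HasLimit.mk ⟨fan, BinaryFan.IsLimit.mk fan
      (fun {T} f g => ObjectProperty.homMk (H7_pair f.hom g.hom)) ?_ ?_ ?_⟩
    · intro T f g
      rfl
    · intro T f g
      rfl
    · intro T f g m h1 h2
      apply ObjectProperty.hom_ext
      apply Alg.hom_ext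
      intro p
      apply AlgHom.ext
      intro a
      have e1 := congrArg (fun k => (k.hom.app p) a) h1
      have e2 := congrArg (fun k => (k.hom.app p) a) h2
      exact Prod.ext e1 e2
  exact hasBinaryProducts_of_hasLimit_pair _

theorem H7_S15622 (X : RSpace.{u}) : HasTerminal (FEt X) ∧ HasBinaryProducts (FEt X) :=
  ⟨H7_hasTerminal X, H7_hasBinaryProducts X⟩

end Groth.Agent.Lib.helper7
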