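import Mathlib
import Groth.Prelude.Def_SchFin
import Groth.Prelude.Def_SchFin2
import Groth.Agent.Lib.helper7.EtaleKer
import Groth.Agent.Lib.helper7.SchFinProd

set_option autoImplicit false
universe u

open TensorProduct

namespace Groth.Agent.Lib.helper7

open SchFin CategoryTheory

/-- flat base change of kernels along restriction -/
theorem H7_ker_res {X : RSpace.{u}} (hX : X.IsFinSp) {A B : Alg X} (hA : A.IsQcoh) (hB : B.IsQcoh)
    (f : A ⟶ B) {p q : X.pt} (h : p ≤ q) :
    RingHom.ker (f.app q) = Ideal.map (A.res h) (RingHom.ker (f.app p)) := by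
  apply le_antisymm
  · intro y hy
    have hA' := hA p q h
    have hB' := hB p q h
    unfold IsBCAlong at hA' hB'
    let _ : Algebra (X.ring p) (X.ring q) := (X.res h).toAlgebra
    have hflat : Module.Flat (X.ring p) (X.ring q) := hX.2 p q h
    let _ : Module (X.ring p) (A.toMod.carrier q) := Module.compHom _ (X.res h)
    have : IsScalarTower (X.ring p) (X.ring q) (A.toMod.carrier q) :=
      IsScalarTower.of_algebraMap_smul fun _ _ => rfl
    let _ : Module (X.ring p) (B.toMod.carrier q) := Module.compHom _ (X.res h)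
    have : IsScalarTower (X.ring p) (X.ring q) (B.toMod.carrier q) :=
      IsScalarTower.of_algebraMap_smul fun _ _ => rfl
    let fp : A.toMod.carrier p →ₗ[X.ring p] B.toMod.carrier p := (f.app p).toLinearMap
    let fq : A.toMod.carrier q →ₗ[X.ring q] B.toMod.carrier q := (f.app q).toLinearMap
    have key : ∀ t, fq (hA'.equiv t) = hB'.equiv (LinearMap.lTensor (X.ring q) fp t) := by
      intro t
      induction t using TensorProduct.induction_on with
      | zero => rw [map_zero, map_zero, map_zero, map_zero]
      | tmul s a =>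
        rw [LinearMap.lTensor_tmul, IsBaseChange.equiv_tmul, IsBaseChange.equiv_tmul, map_smul]
        exact congrArg (s • ·) (f.compat h a).symm
      | add t1 t2 h1 h2 => rw [map_add, map_add, map_add, map_add, h1, h2]
    have hex : Function.Exact (LinearMap.ker fp).subtype fp := LinearMap.exact_subtype_ker_map fp
    have hex2 := Module.Flat.lTensor_exact (X.ring q) hex
    obtain ⟨t, rfl⟩ := hA'.equiv.surjective y
    have h0 : LinearMap.lTensor (X.ring q) fp t = 0 := by
      apply hB'.equiv.injective
      rw [← key, map_zero]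
      exact hy
    obtain ⟨w, rfl⟩ := (hex2 t).mp h0
    clear h0 hy
    induction w using TensorProduct.induction_on with
    | zero => rw [map_zero, map_zero]; exact Ideal.zero_mem _
    | tmul s k =>
      rw [LinearMap.lTensor_tmul, IsBaseChange.equiv_tmul]
      change s • A.res h k.1 ∈ _
      rw [Algebra.smul_def]
      exact Ideal.mul_mem_left _ _ (Ideal.mem_map_of_mem _ k.2)
    | add t1 t2 h1 h2 => rw [map_add, map_add]; exact Ideal.add_mem _ h1 h2
  · rw [Ideal.map_le_iff_le_comap]
    intro a ha
    change f.app q (A.res h a) = 0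
    rw [← f.compat]
    have : f.app p a = 0 := ha
    rw [this, map_zero]

theorem H7_idem_unique {A : Type*} [CommRing A] (e e' : A) (he : IsIdempotentElem e)
    (he' : IsIdempotentElem e') (h : Ideal.span {e} = Ideal.span {e'}) : e = e' := by
  have h1 : e ∈ Ideal.span {e'} := h ▸ Ideal.subset_span rfl
  have h2 : e' ∈ Ideal.span {e} := h.symm ▸ Ideal.subset_span rfl
  obtain ⟨a, ha⟩ := Ideal.mem_span_singleton'.mp h1
  obtain ⟨b, hb⟩ := Ideal.mem_span_singleton'.mp h2
  have h3 : e * e' = e := by
    rw [← ha, mul_assoc, he'.eq]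
  have h4 : e' * e = e' := by
    rw [← hb, mul_assoc, he.eq]
  rw [← h3, mul_comm, h4]

/-- kernels of a morphism of étale covers are generated by idempotents -/
theorem H7_fet_ker_idem {X : RSpace.{u}} (hX : X.IsFinSp) {A B : FEt X} (f : A ⟶ B) (p : X.pt) :
    ∃ e : A.obj.carrier p, IsIdempotentElem e ∧ RingHom.ker (f.hom.app p) = Ideal.span {e} := by
  have := (A.property.2 p).2
  have := (B.property.2 p).2
  have := (A.property.2 p).1
  have := (B.property.2 p).1
  have := hX.1 p
  have : IsNoetherianRing (A.obj.carrier p) := IsNoetherianRing.of_finite (X.ring p) _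
  exact H7_ker_idem_of_etale (f.hom.app p)

/-- the chosen idempotent generating the kernel -/
noncomputable def H7_kerIdem {X : RSpace.{u}} (hX : X.IsFinSp) {A B : FEt X} (f : A ⟶ B)
    (p : X.pt) : A.obj.carrier p := (H7_fet_ker_idem hX f p).choose

theorem H7_kerIdem_idem {X : RSpace.{u}} (hX : X.IsFinSp) {A B : FEt X} (f : A ⟶ B) (p : X.pt) :
    IsIdempotentElem (H7_kerIdem hX f p) := (H7_fet_ker_idem hX f p).choose_spec.1

theorem H7_kerIdem_span {X : RSpace.{u}} (hX : X.IsFinSp) {A B : FEt X} (f : A ⟶ B) (p : X.pt) :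
    RingHom.ker (f.hom.app p) = Ideal.span {H7_kerIdem hX f p} :=
  (H7_fet_ker_idem hX f p).choose_spec.2

theorem H7_kerIdem_res {X : RSpace.{u}} (hX : X.IsFinSp) {A B : FEt X} (f : A ⟶ B) {p q : X.pt}
    (h : p ≤ q) : A.obj.res h (H7_kerIdem hX f p) = H7_kerIdem hX f q := by
  apply H7_idem_unique _ _ ((H7_kerIdem_idem hX f p).map (A.obj.res h)) (H7_kerIdem_idem hX f q)
  rw [← H7_kerIdem_span hX f q, H7_ker_res hX A.property.1 B.property.1 f.hom h,
    H7_kerIdem_span hX f p, Ideal.map_span, Set.image_singleton]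

end Groth.Agent.Lib.helper7
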