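import Mathlib
import Groth.Prelude.Def_SchFin
import Groth.Prelude.Def_SchFin2
import Groth.Agent.Lib.helper7.SchFinKer

set_option autoImplicit false
universe u

open TensorProduct

namespace Groth.Agent.Lib.helper7

open SchFin CategoryTheory

theorem H7_str_isEtCover (X : RSpace.{u}) : (Alg.str X).IsEtCover := by
  refine ⟨?_, fun p => ⟨?_, ?_⟩⟩
  · intro p q h
    unfold IsBCAlong
    let _ : Algebra (X.ring p) (X.ring q) := (X.res h).toAlgebra
    apply IsBaseChange.of_equiv (TensorProduct.AlgebraTensorModule.rid (X.ring p) (X.ring q) (X.ring q))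
    intro x
    rw [TensorProduct.AlgebraTensorModule.rid_tmul]
    change X.res h x * 1 = X.res h x
    rw [mul_one]
  · exact (inferInstance : Module.Finite (X.ring p) (X.ring p))
  · exact (inferInstance : Algebra.Etale (X.ring p) (X.ring p))

/-- the trivial double cover -/
def H7_dbl (X : RSpace.{u}) : FEt X :=
  ⟨H7_prodAlg (Alg.str X) (Alg.str X),
    H7_prodAlg_isEtCover _ _ (H7_str_isEtCover X) (H7_str_isEtCover X)⟩

/-- `a e + b (1 - e)` -/
def H7_lin {R A : Type*} [CommRing R] [CommRing A] [Algebra R A] (e : A) (a b : R) : A :=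
  a • e + b • (1 - e)

theorem H7_lin_mul {R A : Type*} [CommRing R] [CommRing A] [Algebra R A] (e : A)
    (he : IsIdempotentElem e) (a b a' b' : R) :
    H7_lin e (a * a') (b * b') = H7_lin e a b * H7_lin e a' b' := by
  unfold H7_lin
  have h1 : e * e = e := he.eq
  have h2 : e * (1 - e) = 0 := by rw [mul_sub, mul_one, h1, sub_self]
  have h3 : (1 - e) * e = 0 := by rw [mul_comm, h2]
  have h4 : (1 - e) * (1 - e) = 1 - e := he.one_sub.eq
  simp only [add_mul, mul_add, smul_mul_smul_comm, h1, h2, h3, h4, smul_zero, add_zero,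
    zero_add]

theorem H7_lin_add {R A : Type*} [CommRing R] [CommRing A] [Algebra R A] (e : A)
    (a b a' b' : R) : H7_lin e (a + a') (b + b') = H7_lin e a b + H7_lin e a' b' := by
  unfold H7_lin
  rw [add_smul, add_smul]
  abel

theorem H7_lin_one {R A : Type*} [CommRing R] [CommRing A] [Algebra R A] (e : A) :
    H7_lin (R := R) e 1 1 = 1 := by
  unfold H7_lin
  rw [one_smul, one_smul, add_sub_cancel]

theorem H7_lin_zero {R A : Type*} [CommRing R] [CommRing A] [Algebra R A] (e : A) :
    H7_lin (R := R) e 0 0 = 0 := by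
  unfold H7_lin
  rw [zero_smul, zero_smul, add_zero]

theorem H7_lin_alg {R A : Type*} [CommRing R] [CommRing A] [Algebra R A] (e : A) (r : R) :
    H7_lin e r r = algebraMap R A r := by
  unfold H7_lin
  rw [← smul_add, add_sub_cancel, Algebra.algebraMap_eq_smul_one]

/-- the map from the double cover picking out an idempotent -/
def H7_idemHom {X : RSpace.{u}} (A : Alg X) (e : ∀ p, A.carrier p)
    (he : ∀ p, IsIdempotentElem (e p)) (hres : ∀ {p q : X.pt} (h : p ≤ q), A.res h (e p) = e q) :
    H7_prodAlg (Alg.str X) (Alg.str X) ⟶ A where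
  app p :=
    { toFun := fun x => H7_lin (R := X.ring p) (e p) x.1 x.2
      map_one' := H7_lin_one (R := X.ring p) (e p)
      map_mul' := fun x y => H7_lin_mul (R := X.ring p) (e p) (he p) x.1 x.2 y.1 y.2
      map_zero' := H7_lin_zero (R := X.ring p) (e p)
      map_add' := fun x y => H7_lin_add (R := X.ring p) (e p) x.1 x.2 y.1 y.2
      commutes' := fun r => H7_lin_alg (R := X.ring p) (e p) r }
  compat {p q} h x := by
    have key : ∀ a b : X.ring p, H7_lin (R := X.ring q) (e q) (X.res h a) (X.res h b) =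
        A.res h (H7_lin (R := X.ring p) (e p) a b) := by
      intro a b
      unfold H7_lin
      simp only [Algebra.smul_def, map_add, map_mul, map_sub, map_one, A.res_algebraMap, hres h]
    exact (key x.1 x.2).symm

theorem H7_S15626 (X : RSpace.{u}) (hX : X.IsSchematic) {A B : FEt X} (f : A ⟶ B)
    [Mono f] (p : X.pt) : Function.Injective (f.hom.app p) := by
  have hF := hX.1
  let g₁ : H7_dbl X ⟶ A := ObjectProperty.homMk (H7_idemHom A.obj (fun p => H7_kerIdem hF f p)
    (H7_kerIdem_idem hF f) (fun h => H7_kerIdem_res hF f h))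
  let g₂ : H7_dbl X ⟶ A := ObjectProperty.homMk (H7_idemHom A.obj (fun _ => 0)
    (fun _ => IsIdempotentElem.zero) (fun h => map_zero _))
  have hfe : ∀ p, f.hom.app p (H7_kerIdem hF f p) = 0 := by
    intro p
    have : H7_kerIdem hF f p ∈ RingHom.ker (f.hom.app p) := by
      rw [H7_kerIdem_span hF f p]
      exact Ideal.subset_span rfl
    exact this
  have hcomp : g₁ ≫ f = g₂ ≫ f := by
    apply ObjectProperty.hom_ext
    apply Alg.hom_ext
    intro p
    apply AlgHom.ext
    intro x
    have key : ∀ a b : X.ring p, f.hom.app p (H7_lin (H7_kerIdem hF f p) a b) =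
        f.hom.app p (H7_lin (0 : A.obj.carrier p) a b) := by
      intro a b
      unfold H7_lin
      simp only [map_add, map_smul, map_sub, map_one, hfe p, map_zero]
    exact key x.1 x.2
  have hg : g₁ = g₂ := (cancel_mono f).mp hcomp
  have he0 : H7_kerIdem hF f p = 0 := by
    have h1 := congrArg (fun g : H7_dbl X ⟶ A => g.hom.app p ((1 : X.ring p), (0 : X.ring p))) hg
    have h2 : H7_lin (R := X.ring p) (H7_kerIdem hF f p) 1 0 =
        H7_lin (R := X.ring p) (0 : A.obj.carrier p) 1 0 := h1
    unfold H7_lin at h2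
    simpa using h2
  rw [injective_iff_map_eq_zero]
  intro a ha
  have hmem : a ∈ RingHom.ker (f.hom.app p) := ha
  rw [H7_kerIdem_span hF f p, he0, Ideal.span_singleton_eq_bot.mpr rfl, Ideal.mem_bot] at hmem
  exact hmem

end Groth.Agent.Lib.helper7
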