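import Mathlib
import Groth.Prelude.Def_SchFin
import Groth.Prelude.Def_SchFin2
import Groth.Agent.Lib.helper7.SchFinS26

set_option autoImplicit false
universe u

open TensorProduct

namespace Groth.Agent.Lib.helper7

open SchFin CategoryTheory

/-- the quotient of an algebra by a compatible family of elements -/
def H7_quotAlg {X : RSpace.{u}} (A : Alg X) (e : ∀ p, A.carrier p)
    (hres : ∀ {p q : X.pt} (h : p ≤ q), A.res h (e p) = e q) : Alg X where
  carrier p := A.carrier p ⧸ Ideal.span {e p}
  res {p q} h := Ideal.quotientMap (Ideal.span {e q}) (A.res h) (by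
    rw [Ideal.span_le]
    intro x hx
    rw [Set.mem_singleton_iff] at hx
    subst hx
    change A.res h (e p) ∈ Ideal.span {e q}
    rw [hres h]
    exact Ideal.subset_span rfl)
  res_algebraMap {p q} h a := by
    change Ideal.quotientMap _ (A.res h) _ (Ideal.Quotient.mk _ (algebraMap _ _ a)) =
      Ideal.Quotient.mk _ (algebraMap _ _ (X.res h a))
    rw [Ideal.quotientMap_mk, A.res_algebraMap]
  res_self p b := by
    obtain ⟨b, rfl⟩ := Ideal.Quotient.mk_surjective b
    rw [Ideal.quotientMap_mk, A.res_self]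
  res_comp {p q s} h h' b := by
    obtain ⟨b, rfl⟩ := Ideal.Quotient.mk_surjective b
    rw [Ideal.quotientMap_mk, Ideal.quotientMap_mk, Ideal.quotientMap_mk, A.res_comp]

/-- the quotient morphism -/
def H7_quotHom {X : RSpace.{u}} (A : Alg X) (e : ∀ p, A.carrier p)
    (hres : ∀ {p q : X.pt} (h : p ≤ q), A.res h (e p) = e q) : A ⟶ H7_quotAlg A e hres where
  app p := Ideal.Quotient.mkₐ (X.ring p) (Ideal.span {e p})
  compat _ _ := rfl

/-- a retract of a base change is a base change -/
theorem H7_isBaseChange_retract {R S : Type u} [CommRing R] [CommRing S] [Algebra R S]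
    {M N M' N' : Type u} [AddCommGroup M] [AddCommGroup N] [AddCommGroup M'] [AddCommGroup N']
    [Module R M] [Module R N] [Module S N] [IsScalarTower R S N]
    [Module R M'] [Module R N'] [Module S N'] [IsScalarTower R S N']
    (f : M →ₗ[R] N) (hf : IsBaseChange S f) (f' : M' →ₗ[R] N')
    (π : M →ₗ[R] M') (σ : M' →ₗ[R] M) (hπσ : ∀ x, π (σ x) = x)
    (πN : N →ₗ[S] N') (σN : N' →ₗ[S] N) (hπσN : ∀ x, πN (σN x) = x)
    (h1 : ∀ m, f' (π m) = πN (f m)) (h2 : ∀ m', f (σ m') = σN (f' m')) : IsBaseChange S f' := by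
  let φ' : S ⊗[R] M' →ₗ[S] N' := LinearMap.liftBaseChange S f'
  have c1 : ∀ t, φ' (LinearMap.lTensor S π t) = πN (hf.equiv t) := by
    intro t
    induction t using TensorProduct.induction_on with
    | zero => rw [map_zero, map_zero, map_zero, map_zero]
    | tmul s m =>
      rw [LinearMap.lTensor_tmul, LinearMap.liftBaseChange_tmul, IsBaseChange.equiv_tmul, map_smul,
        h1]
    | add t1 t2 e1 e2 => rw [map_add, map_add, map_add, map_add, e1, e2]
  have c2 : ∀ t', hf.equiv (LinearMap.lTensor S σ t') = σN (φ' t') := by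
    intro t'
    induction t' using TensorProduct.induction_on with
    | zero => rw [map_zero, map_zero, map_zero, map_zero]
    | tmul s m =>
      rw [LinearMap.lTensor_tmul, LinearMap.liftBaseChange_tmul, IsBaseChange.equiv_tmul, map_smul,
        h2]
    | add t1 t2 e1 e2 => rw [map_add, map_add, map_add, map_add, e1, e2]
  have hπσT : ∀ t', LinearMap.lTensor S π (LinearMap.lTensor S σ t') = t' := by
    intro t'
    rw [← LinearMap.comp_apply, ← LinearMap.lTensor_comp]
    have : π.comp σ = LinearMap.id := LinearMap.ext hπσ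
    rw [this, LinearMap.lTensor_id, LinearMap.id_apply]
  have hbij : Function.Bijective φ' := by
    constructor
    · rw [← LinearMap.ker_eq_bot, LinearMap.ker_eq_bot']
      intro t' ht'
      have h3 : hf.equiv (LinearMap.lTensor S σ t') = 0 := by rw [c2, ht', map_zero]
      have h4 : LinearMap.lTensor S σ t' = 0 := by
        apply hf.equiv.injective
        rw [h3, map_zero]
      rw [← hπσT t', h4, map_zero]
    · intro n'
      obtain ⟨t, ht⟩ := hf.equiv.surjective (σN n')
      refine ⟨LinearMap.lTensor S π t, ?_⟩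
      rw [c1, ht, hπσN]
  exact IsBaseChange.of_equiv (LinearEquiv.ofBijective φ' hbij) (fun m => by
    change φ' (1 ⊗ₜ m) = _
    rw [LinearMap.liftBaseChange_tmul, one_smul])

/-- the section of the quotient by an idempotent -/
noncomputable def H7_idemSection {A : Type u} [CommRing A] (e : A) (he : IsIdempotentElem e) :
    (A ⧸ Ideal.span {e}) →ₗ[A] A :=
  Submodule.liftQ (Ideal.span {e}) (LinearMap.toSpanSingleton A A (1 - e)) (by
    rw [Ideal.span_le]
    intro x hx
    rw [Set.mem_singleton_iff] at hx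
    subst hx
    change x • (1 - x) = 0
    rw [smul_eq_mul, mul_sub, mul_one, he.eq, sub_self])

theorem H7_idemSection_mk {A : Type u} [CommRing A] (e : A) (he : IsIdempotentElem e) (a : A) :
    H7_idemSection e he (Ideal.Quotient.mk _ a) = a * (1 - e) := rfl

theorem H7_mk_idemSection {A : Type u} [CommRing A] (e : A) (he : IsIdempotentElem e)
    (x : A ⧸ Ideal.span {e}) : Ideal.Quotient.mk _ (H7_idemSection e he x) = x := by
  obtain ⟨a, rfl⟩ := Ideal.Quotient.mk_surjective x
  rw [H7_idemSection_mk, mul_sub, mul_one, map_sub, sub_eq_self, Ideal.Quotient.eq_zero_iff_mem]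
  exact Ideal.mul_mem_left _ _ (Ideal.subset_span rfl)

theorem H7_quotAlg_isQcoh {X : RSpace.{u}} (A : Alg X) (hA : A.IsQcoh) (e : ∀ p, A.carrier p)
    (he : ∀ p, IsIdempotentElem (e p))
    (hres : ∀ {p q : X.pt} (h : p ≤ q), A.res h (e p) = e q) : (H7_quotAlg A e hres).IsQcoh := by
  intro p q h
  have hA' := hA p q h
  unfold IsBCAlong at hA' ⊢
  let _ : Algebra (X.ring p) (X.ring q) := (X.res h).toAlgebra
  let _ : Module (X.ring p) (A.toMod.carrier q) := Module.compHom _ (X.res h)
  have : IsScalarTower (X.ring p) (X.ring q) (A.toMod.carrier q) :=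
    IsScalarTower.of_algebraMap_smul fun _ _ => rfl
  let _ : Module (X.ring p) ((H7_quotAlg A e hres).toMod.carrier q) := Module.compHom _ (X.res h)
  have : IsScalarTower (X.ring p) (X.ring q) ((H7_quotAlg A e hres).toMod.carrier q) :=
    IsScalarTower.of_algebraMap_smul fun _ _ => rfl
  refine H7_isBaseChange_retract _ hA' _
    (Ideal.Quotient.mkₐ (X.ring p) (Ideal.span {e p})).toLinearMap
    ((H7_idemSection (e p) (he p)).restrictScalars (X.ring p))
    (H7_mk_idemSection (e p) (he p))
    (Ideal.Quotient.mkₐ (X.ring q) (Ideal.span {e q})).toLinearMap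
    ((H7_idemSection (e q) (he q)).restrictScalars (X.ring q))
    (H7_mk_idemSection (e q) (he q)) ?_ ?_
  · intro m
    rfl
  · intro m'
    obtain ⟨a, rfl⟩ := Ideal.Quotient.mk_surjective m'
    change A.res h (a * (1 - e p)) = A.res h a * (1 - e q)
    rw [map_mul, map_sub, map_one, hres h]

theorem H7_etale_quot_idem {R A : Type u} [CommRing R] [CommRing A] [Algebra R A]
    [Algebra.Etale R A] (e : A) (he : IsIdempotentElem e) :
    Algebra.Etale R (A ⧸ Ideal.span {e}) := by
  have hloc : IsLocalization.Away (1 - e) (A ⧸ Ideal.span {e}) := by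
    apply IsLocalization.away_of_isIdempotentElem he.one_sub
    · rw [sub_sub_cancel]
      exact Ideal.mk_ker
    · exact Ideal.Quotient.mk_surjective
  have : Algebra.Etale A (A ⧸ Ideal.span {e}) := Algebra.Etale.of_isLocalizationAway (1 - e)
  exact Algebra.Etale.comp R A (A ⧸ Ideal.span {e})

theorem H7_quotAlg_isEtCover {X : RSpace.{u}} (A : Alg X) (hA : A.IsEtCover)
    (e : ∀ p, A.carrier p) (he : ∀ p, IsIdempotentElem (e p))
    (hres : ∀ {p q : X.pt} (h : p ≤ q), A.res h (e p) = e q) :
    (H7_quotAlg A e hres).IsEtCover := by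
  refine ⟨H7_quotAlg_isQcoh A hA.1 e he hres, fun p => ⟨?_, ?_⟩⟩
  · have := (hA.2 p).1
    exact (inferInstance : Module.Finite (X.ring p) (A.carrier p ⧸ Ideal.span {e p}))
  · have := (hA.2 p).2
    exact H7_etale_quot_idem (e p) (he p)

end Groth.Agent.Lib.helper7
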