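import Mathlib
import Groth.Agent.Lib.helper7.SchFinQuot

set_option autoImplicit false
universe u

namespace Groth.Agent.Lib.helper7

section L
variable {R : Type u} [CommRing R] {n : ℕ} {G : Type u} [Group G] [Fintype G]
  (ρ : G →* ((Fin n → R) ≃ₐ[R] (Fin n → R)))

/-- matrix coefficients of the action on the standard idempotents -/
def H7_eps (g : G) (i j : Fin n) : R := ρ g (Pi.single j 1) i

theorem H7_eps_mul (g : G) (i j k : Fin n) :
    H7_eps ρ g i j * H7_eps ρ g i k = if j = k then H7_eps ρ g i j else 0 := by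
  unfold H7_eps
  rw [← Pi.mul_apply, ← map_mul]
  have hprod : (Pi.single j (1 : R) * Pi.single k 1 : Fin n → R) =
      if j = k then Pi.single j 1 else 0 := by
    ext l
    by_cases h : j = k
    · subst h
      rw [if_pos rfl]
      by_cases hl : l = j
      · subst hl; simp
      · simp [Pi.single_apply, hl]
    · rw [if_neg h]
      by_cases hl : l = j
      · subst hl
        have : l ≠ k := h
        simp [Pi.single_apply, this]
      · simp [Pi.single_apply, hl]
  rw [hprod]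
  by_cases h : j = k
  · rw [if_pos h, if_pos h]
  · rw [if_neg h, if_neg h, map_zero]
    rfl

theorem H7_eps_idem (g : G) (i j : Fin n) : H7_eps ρ g i j * H7_eps ρ g i j = H7_eps ρ g i j := by
  rw [H7_eps_mul, if_pos rfl]

theorem H7_eps_orth (g : G) (i j k : Fin n) (h : j ≠ k) : H7_eps ρ g i j * H7_eps ρ g i k = 0 := by
  rw [H7_eps_mul, if_neg h]

theorem H7_apply_eq_sum (g : G) (t : Fin n → R) (i : Fin n) :
    ρ g t i = ∑ j, H7_eps ρ g i j * t j := by
  have ht : t = ∑ j, t j • (Pi.single j (1 : R) : Fin n → R) := by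
    ext l
    simp [Finset.sum_apply, Pi.single_apply]
  conv_lhs => rw [ht]
  rw [map_sum, Finset.sum_apply]
  apply Finset.sum_congr rfl
  intro j _
  rw [map_smul, Pi.smul_apply, smul_eq_mul, mul_comm]
  rfl

theorem H7_eps_sum (g : G) (i : Fin n) : ∑ j, H7_eps ρ g i j = 1 := by
  have h := H7_apply_eq_sum ρ g 1 i
  rw [map_one] at h
  simpa using h.symm

theorem H7_eps_one (i j : Fin n) : H7_eps ρ 1 i j = if i = j then 1 else 0 := by
  unfold H7_eps
  rw [map_one, AlgEquiv.one_apply, Pi.single_apply]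

theorem H7_eps_mul_grp (g h : G) (i k : Fin n) :
    H7_eps ρ (g * h) i k = ∑ j, H7_eps ρ g i j * H7_eps ρ h j k := by
  unfold H7_eps
  rw [map_mul, AlgEquiv.mul_apply, H7_apply_eq_sum]
  rfl

theorem H7_eps_le (g h : G) (i j k : Fin n) :
    H7_eps ρ g i j * H7_eps ρ h j k * H7_eps ρ (g * h) i k = H7_eps ρ g i j * H7_eps ρ h j k := by
  rw [H7_eps_mul_grp, Finset.mul_sum, Finset.sum_eq_single j]
  · calc H7_eps ρ g i j * H7_eps ρ h j k * (H7_eps ρ g i j * H7_eps ρ h j k)
        = (H7_eps ρ g i j * H7_eps ρ g i j) * (H7_eps ρ h j k * H7_eps ρ h j k) := by ring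
      _ = _ := by rw [H7_eps_idem, H7_eps_idem]
  · intro j' _ hj'
    calc H7_eps ρ g i j * H7_eps ρ h j k * (H7_eps ρ g i j' * H7_eps ρ h j' k)
        = (H7_eps ρ g i j * H7_eps ρ g i j') * (H7_eps ρ h j k * H7_eps ρ h j' k) := by ring
      _ = 0 := by rw [H7_eps_orth ρ g i j j' (Ne.symm hj'), zero_mul]
  · intro h'
    exact absurd (Finset.mem_univ j) h'

theorem H7_eps_symm_le (g : G) (i j : Fin n) :
    H7_eps ρ g i j * H7_eps ρ g⁻¹ j i = H7_eps ρ g i j := by
  have h := H7_eps_le ρ g g⁻¹ i j i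
  rw [mul_inv_cancel, H7_eps_one, if_pos rfl, mul_one] at h
  -- h : ε g i j * ε g⁻¹ j i = ε g i j * ε g⁻¹ j i ; need a different route
  have h1 : H7_eps ρ (g * g⁻¹) i i = ∑ j', H7_eps ρ g i j' * H7_eps ρ g⁻¹ j' i :=
    H7_eps_mul_grp ρ g g⁻¹ i i
  rw [mul_inv_cancel, H7_eps_one, if_pos rfl] at h1
  calc H7_eps ρ g i j * H7_eps ρ g⁻¹ j i
      = ∑ j', H7_eps ρ g i j * (H7_eps ρ g i j' * H7_eps ρ g⁻¹ j' i) := by
        rw [Finset.sum_eq_single j]
        · rw [← mul_assoc, H7_eps_idem]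
        · intro j' _ hj'
          rw [← mul_assoc, H7_eps_orth ρ g i j j' (Ne.symm hj'), zero_mul]
        · intro h'
          exact absurd (Finset.mem_univ j) h'
    _ = H7_eps ρ g i j * 1 := by rw [← Finset.mul_sum, ← h1]
    _ = H7_eps ρ g i j := mul_one _

theorem H7_eps_symm (g : G) (i j : Fin n) : H7_eps ρ g i j = H7_eps ρ g⁻¹ j i := by
  have h1 := H7_eps_symm_le ρ g i j
  have h2 := H7_eps_symm_le ρ g⁻¹ j i
  rw [inv_inv] at h2
  rw [← h1, mul_comm, h2]


theorem H7_inv_iff (t : Fin n → R) :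
    (∀ g, ρ g t = t) ↔ ∀ g i j, H7_eps ρ g i j * (t i - t j) = 0 := by
  constructor
  · intro h g i j
    have h1 : ρ g t i = t i := congrFun (h g) i
    rw [H7_apply_eq_sum] at h1
    have h2 : H7_eps ρ g i j * t i = H7_eps ρ g i j * t j := by
      rw [← h1, Finset.mul_sum, Finset.sum_eq_single j]
      · rw [← mul_assoc, H7_eps_idem]
      · intro k _ hk
        rw [← mul_assoc, H7_eps_orth ρ g i j k (Ne.symm hk), zero_mul]
      · intro h'
        exact absurd (Finset.mem_univ j) h'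
    rw [mul_sub, h2, sub_self]
  · intro h g
    ext i
    rw [H7_apply_eq_sum]
    have h1 : ∀ j, H7_eps ρ g i j * t j = H7_eps ρ g i j * t i := by
      intro j
      have := h g i j
      rw [mul_sub, sub_eq_zero] at this
      exact this.symm
    rw [Finset.sum_congr rfl (fun j _ => h1 j), ← Finset.sum_mul, H7_eps_sum, one_mul]

/-- `1 - x` products fix what every `x` kills -/
theorem H7_prod_one_sub_mul {ι : Type*} (s : Finset ι) (x : ι → R) (y : R)
    (h : ∀ j ∈ s, x j * y = 0) : (∏ j ∈ s, (1 - x j)) * y = y := by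
  classical
  induction s using Finset.induction_on with
  | empty => simp
  | insert a s ha ih =>
    rw [Finset.prod_insert ha, mul_assoc, ih (fun j hj => h j (Finset.mem_insert_of_mem hj)),
      sub_mul, one_mul, h a (Finset.mem_insert_self a s), sub_zero]

theorem H7_mul_prod_congr {ι : Type*} (s : Finset ι) (e : R) (a b : ι → R)
    (h : ∀ j ∈ s, e * a j = e * b j) : e * ∏ j ∈ s, a j = e * ∏ j ∈ s, b j := by
  classical
  induction s using Finset.induction_on with
  | empty => simp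
  | insert c s hc ih =>
    rw [Finset.prod_insert hc, Finset.prod_insert hc, ← mul_assoc, h c (Finset.mem_insert_self c s),
      mul_assoc, mul_left_comm, ih (fun j hj => h j (Finset.mem_insert_of_mem hj)), mul_left_comm,
      ← mul_assoc]

theorem H7_prod_idem {ι : Type*} (s : Finset ι) (a : ι → R) (h : ∀ j ∈ s, a j * a j = a j) :
    (∏ j ∈ s, a j) * (∏ j ∈ s, a j) = ∏ j ∈ s, a j := by
  rw [← Finset.prod_mul_distrib]
  exact Finset.prod_congr rfl h

/-- "not related" -/
def H7_w (i j : Fin n) : R := ∏ g : G, (1 - H7_eps ρ g i j)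

theorem H7_one_sub_eps_idem (g : G) (i j : Fin n) :
    (1 - H7_eps ρ g i j) * (1 - H7_eps ρ g i j) = 1 - H7_eps ρ g i j := by
  have := H7_eps_idem ρ g i j
  ring_nf
  ring_nf at this
  rw [this]
  ring

theorem H7_w_idem (i j : Fin n) : H7_w ρ i j * H7_w ρ i j = H7_w ρ i j :=
  H7_prod_idem _ _ (fun g _ => H7_one_sub_eps_idem ρ g i j)

theorem H7_eps_mul_w (g : G) (i j : Fin n) : H7_eps ρ g i j * H7_w ρ i j = 0 := by
  classical
  unfold H7_w
  rw [← Finset.mul_prod_erase Finset.univ _ (Finset.mem_univ g), ← mul_assoc, mul_sub, mul_one,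
    H7_eps_idem, sub_self, zero_mul]

theorem H7_w_self (i : Fin n) : H7_w ρ i i = 0 := by
  have := H7_eps_mul_w ρ 1 i i
  rw [H7_eps_one, if_pos rfl, one_mul] at this
  exact this

theorem H7_w_symm (i j : Fin n) : H7_w ρ i j = H7_w ρ j i := by
  unfold H7_w
  rw [← Equiv.prod_comp (Equiv.inv G)]
  apply Finset.prod_congr rfl
  intro g _
  rw [Equiv.inv_apply, ← H7_eps_symm]

theorem H7_eps_mul_w_congr (g : G) (i k j : Fin n) :
    H7_eps ρ g i k * H7_w ρ i j = H7_eps ρ g i k * H7_w ρ k j := by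
  unfold H7_w
  rw [← Equiv.prod_comp (Equiv.mulLeft g⁻¹) (fun h => 1 - H7_eps ρ h k j)]
  apply H7_mul_prod_congr
  intro h _
  rw [Equiv.coe_mulLeft, mul_sub, mul_sub]
  congr 1
  -- ε g i k * ε h i j = ε g i k * ε (g⁻¹ h) k j
  have e1 : H7_eps ρ g i k = H7_eps ρ g⁻¹ k i := H7_eps_symm ρ g i k
  have l1 := H7_eps_le ρ g⁻¹ h k i j
  have l2 := H7_eps_le ρ g (g⁻¹ * h) i k j
  rw [mul_inv_cancel_left] at l2
  rw [e1, ← l1, ← e1, mul_assoc, mul_comm (H7_eps ρ h i j), ← mul_assoc, l2]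


/-- "related" -/
def H7_u (i j : Fin n) : R := 1 - H7_w ρ i j

theorem H7_u_self (i : Fin n) : H7_u ρ i i = 1 := by
  unfold H7_u
  rw [H7_w_self, sub_zero]

theorem H7_u_symm (i j : Fin n) : H7_u ρ i j = H7_u ρ j i := by
  unfold H7_u
  rw [H7_w_symm]

theorem H7_eps_mul_u_congr (g : G) (i k j : Fin n) :
    H7_eps ρ g i k * H7_u ρ i j = H7_eps ρ g i k * H7_u ρ k j := by
  unfold H7_u
  rw [mul_sub, mul_sub, H7_eps_mul_w_congr]

theorem H7_u_mul_sub (t : Fin n → R) (ht : ∀ g, ρ g t = t) (i j : Fin n) :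
    H7_u ρ i j * (t i - t j) = 0 := by
  unfold H7_u H7_w
  rw [sub_mul, one_mul, H7_prod_one_sub_mul, sub_self]
  intro g _
  exact (H7_inv_iff ρ t).mp ht g i j

/-- "minimal in its class" -/
def H7_m (i : Fin n) : R := ∏ j ∈ Finset.univ.filter (fun j => j < i), H7_w ρ i j

theorem H7_m_eq (i : Fin n) :
    H7_m ρ i = ∏ j ∈ Finset.univ.filter (fun j => j < i), (1 - H7_u ρ i j) := by
  unfold H7_m H7_u
  apply Finset.prod_congr rfl
  intro j _
  rw [sub_sub_cancel]

theorem H7_m_idem (i : Fin n) : H7_m ρ i * H7_m ρ i = H7_m ρ i :=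
  H7_prod_idem _ _ (fun j _ => H7_w_idem ρ i j)

theorem H7_m_mul_u (i j : Fin n) (h : j < i) : H7_m ρ i * H7_u ρ i j = 0 := by
  classical
  unfold H7_m H7_u
  have hj : j ∈ Finset.univ.filter (fun j => j < i) := by simp [h]
  rw [← Finset.mul_prod_erase _ _ hj, mul_comm (H7_w ρ i j), mul_assoc, mul_sub, mul_one,
    H7_w_idem, sub_self, mul_zero]

/-- the subalgebra of invariants -/
def H7_invSub : Subalgebra R (Fin n → R) where
  carrier := {t | ∀ g, ρ g t = t}
  mul_mem' {a b} ha hb g := by rw [map_mul, ha g, hb g]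
  one_mem' g := map_one _
  add_mem' {a b} ha hb g := by rw [map_add, ha g, hb g]
  zero_mem' g := map_zero _
  algebraMap_mem' r g := AlgEquiv.commutes _ r

/-- the comparison map to a product of idempotent quotients -/
def H7_invPhi : H7_invSub ρ →ₐ[R] (∀ i : Fin n, R ⧸ Ideal.span {1 - H7_m ρ i}) :=
  (Pi.algHom R (fun i : Fin n => R ⧸ Ideal.span {1 - H7_m ρ i})
    (fun i => (Ideal.Quotient.mkₐ R (Ideal.span {1 - H7_m ρ i})).comp
      (Pi.evalAlgHom R (fun _ : Fin n => R) i))).comp (H7_invSub ρ).val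

theorem H7_invPhi_apply (t : H7_invSub ρ) (i : Fin n) :
    H7_invPhi ρ t i = Ideal.Quotient.mk _ (t.1 i) := rfl

theorem H7_mk_eq_zero_iff (i : Fin n) (x : R) :
    (Ideal.Quotient.mk (Ideal.span {1 - H7_m ρ i}) x = 0) ↔ H7_m ρ i * x = 0 := by
  rw [Ideal.Quotient.eq_zero_iff_mem, Ideal.mem_span_singleton']
  constructor
  · rintro ⟨c, rfl⟩
    have := H7_m_idem ρ i
    calc H7_m ρ i * (c * (1 - H7_m ρ i)) = c * (H7_m ρ i - H7_m ρ i * H7_m ρ i) := by ring
      _ = 0 := by rw [this, sub_self, mul_zero]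
  · intro h
    refine ⟨x, ?_⟩
    rw [mul_sub, mul_one, mul_comm x, h, sub_zero]

theorem H7_invPhi_injective : Function.Injective (H7_invPhi ρ) := by
  rw [injective_iff_map_eq_zero]
  intro t ht
  have hm : ∀ i, H7_m ρ i * t.1 i = 0 := by
    intro i
    rw [← H7_mk_eq_zero_iff]
    have := congrFun ht i
    rwa [H7_invPhi_apply] at this
  have hz : ∀ k : ℕ, ∀ i : Fin n, i.val = k → t.1 i = 0 := by
    intro k
    induction k using Nat.strong_induction_on with
    | _ k ih =>
      intro i hi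
      have h1 : H7_m ρ i * t.1 i = t.1 i := by
        rw [H7_m_eq]
        apply H7_prod_one_sub_mul
        intro j hj
        have hji : j < i := (Finset.mem_filter.mp hj).2
        have htj : t.1 j = 0 := ih j.val (by rw [← hi]; exact hji) j rfl
        have := H7_u_mul_sub ρ t.1 t.2 i j
        rw [htj, sub_zero] at this
        exact this
      rw [← h1, hm i]
  apply Subtype.ext
  funext i
  exact hz i.val i rfl

theorem H7_invPhi_surjective : Function.Surjective (H7_invPhi ρ) := by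
  intro c
  choose c' hc' using fun i => Ideal.Quotient.mk_surjective (c i)
  let t : Fin n → R := fun i => ∑ j, H7_u ρ i j * (H7_m ρ j * c' j)
  have ht : ∀ g, ρ g t = t := by
    rw [H7_inv_iff]
    intro g i k
    change H7_eps ρ g i k * ((∑ j, H7_u ρ i j * (H7_m ρ j * c' j)) -
      ∑ j, H7_u ρ k j * (H7_m ρ j * c' j)) = 0
    rw [mul_sub, Finset.mul_sum, Finset.mul_sum, sub_eq_zero]
    apply Finset.sum_congr rfl
    intro j _
    rw [← mul_assoc, H7_eps_mul_u_congr, mul_assoc]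
  refine ⟨⟨t, ht⟩, ?_⟩
  funext i
  rw [H7_invPhi_apply, ← hc' i, ← sub_eq_zero, ← map_sub, H7_mk_eq_zero_iff]
  change H7_m ρ i * ((∑ j, H7_u ρ i j * (H7_m ρ j * c' j)) - c' i) = 0
  rw [mul_sub, Finset.mul_sum, Finset.sum_eq_single i]
  · rw [H7_u_self, one_mul, ← mul_assoc, H7_m_idem, sub_self]
  · intro j _ hj
    rcases lt_or_gt_of_ne hj with h | h
    · rw [← mul_assoc, H7_m_mul_u ρ i j h, zero_mul]
    · have : H7_m ρ j * H7_u ρ i j = 0 := by rw [H7_u_symm, H7_m_mul_u ρ j i h]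
      calc H7_m ρ i * (H7_u ρ i j * (H7_m ρ j * c' j))
          = H7_m ρ i * c' j * (H7_m ρ j * H7_u ρ i j) := by ring
        _ = 0 := by rw [this, mul_zero]
  · intro h'
    exact absurd (Finset.mem_univ i) h'


theorem H7_etale_invSub : Algebra.Etale R (H7_invSub ρ) := by
  have h1 : ∀ i : Fin n, Algebra.Etale R (R ⧸ Ideal.span {1 - H7_m ρ i}) := fun i =>
    H7_etale_quot_idem (1 - H7_m ρ i) (IsIdempotentElem.one_sub (H7_m_idem ρ i))
  have h2 : Algebra.Etale R (∀ i : Fin n, R ⧸ Ideal.span {1 - H7_m ρ i}) := inferInstance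
  let e := AlgEquiv.ofBijective (H7_invPhi ρ) ⟨H7_invPhi_injective ρ, H7_invPhi_surjective ρ⟩
  exact Algebra.Etale.of_equiv e.symm

end L

end Groth.Agent.Lib.helper7
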