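import Mathlib
import Groth.Agent.Lib.helper7.EtaleInvPi

set_option autoImplicit false
universe u
open TensorProduct

namespace Groth.Agent.Lib.helper7

/-- invariants of a finite family of endomorphisms commute with flat base change -/
theorem H7_isBaseChange_invariants {R S : Type u} [CommRing R] [CommRing S] [Algebra R S]
    [Module.Flat R S]
    {M M' : Type u} [AddCommGroup M] [Module R M] [AddCommGroup M'] [Module R M'] [Module S M']
    [IsScalarTower R S M'] {ι : Type u} [Finite ι]
    (σ : ι → M →ₗ[R] M) (σ' : ι → M' →ₗ[S] M')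
    (f : M →ₗ[R] M') (hf : IsBaseChange S f) (hσ : ∀ g m, f (σ g m) = σ' g (f m))
    {L L' : Type u} [AddCommGroup L] [Module R L] [AddCommGroup L'] [Module R L'] [Module S L']
    [IsScalarTower R S L']
    (j : L →ₗ[R] M) (hj : Function.Injective j) (hL : ∀ m, (∃ x, j x = m) ↔ ∀ g, σ g m = m)
    (j' : L' →ₗ[S] M') (hj' : Function.Injective j')
    (hL' : ∀ m, (∃ x, j' x = m) ↔ ∀ g, σ' g m = m)
    (fL : L →ₗ[R] L') (hfL : ∀ x, j' (fL x) = f (j x)) : IsBaseChange S fL := by
  classical
  have : Fintype ι := Fintype.ofFinite ι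
  let Φ : S ⊗[R] L →ₗ[S] L' := LinearMap.liftBaseChange S fL
  have hΦ : ∀ z : S ⊗[R] L, j' (Φ z) = hf.equiv (j.lTensor S z) := by
    intro z
    induction z using TensorProduct.induction_on with
    | zero => simp
    | tmul s x =>
      change j' (s • fL x) = hf.equiv (s ⊗ₜ (j x))
      rw [IsBaseChange.equiv_tmul, map_smul, hfL]
    | add a b ha hb =>
      rw [map_add, map_add, map_add, map_add, ha, hb]
  have hinj : Function.Injective Φ := by
    intro a b hab
    have h1 : hf.equiv (j.lTensor S a) = hf.equiv (j.lTensor S b) := by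
      rw [← hΦ, ← hΦ, hab]
    exact Module.Flat.lTensor_preserves_injective_linearMap j hj (hf.equiv.injective h1)
  have hsurj : Function.Surjective Φ := by
    intro y'
    let y : S ⊗[R] M := hf.equiv.symm (j' y')
    let δ : M →ₗ[R] (ι → M) := LinearMap.pi (fun g => σ g - LinearMap.id)
    have hex : Function.Exact j δ := by
      intro m
      constructor
      · intro hm
        apply (hL m).mpr
        intro g
        have := congrFun hm g
        change σ g m - m = 0 at this
        exact sub_eq_zero.mp this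
      · rintro ⟨x, rfl⟩
        funext g
        change σ g (j x) - j x = 0
        rw [(hL (j x)).mp ⟨x, rfl⟩ g, sub_self]
    have hex' := Module.Flat.lTensor_exact S hex
    have hy : δ.lTensor S y = 0 := by
      apply (TensorProduct.piRight R S S (fun _ : ι => M)).injective
      rw [map_zero]
      funext g
      have key : ∀ w : S ⊗[R] M, (TensorProduct.piRight R S S (fun _ : ι => M)) (δ.lTensor S w) g =
          (σ g - LinearMap.id).lTensor S w := by
        intro w
        induction w using TensorProduct.induction_on with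
        | zero => simp
        | tmul s m => rfl
        | add a b ha hb => simp only [map_add, Pi.add_apply, ha, hb]
      rw [key]
      change (σ g - LinearMap.id).lTensor S y = 0
      apply hf.equiv.injective
      rw [map_zero]
      have key2 : ∀ w : S ⊗[R] M, hf.equiv ((σ g - LinearMap.id).lTensor S w) =
          σ' g (hf.equiv w) - hf.equiv w := by
        intro w
        induction w using TensorProduct.induction_on with
        | zero => simp
        | tmul s m =>
          rw [LinearMap.lTensor_tmul, IsBaseChange.equiv_tmul, IsBaseChange.equiv_tmul,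
            LinearMap.sub_apply, LinearMap.id_apply, map_sub, hσ, map_smul, smul_sub]
        | add a b ha hb => rw [map_add, map_add, map_add, map_add, ha, hb]; abel
      rw [key2]
      change σ' g (hf.equiv (hf.equiv.symm (j' y'))) - hf.equiv (hf.equiv.symm (j' y')) = 0
      rw [LinearEquiv.apply_symm_apply, (hL' _).mp ⟨y', rfl⟩ g, sub_self]
    obtain ⟨z, hz⟩ := (hex' y).mp hy
    refine ⟨z, ?_⟩
    apply hj'
    rw [hΦ, hz]
    exact hf.equiv.apply_symm_apply _
  let e : S ⊗[R] L ≃ₗ[S] L' := LinearEquiv.ofBijective Φ ⟨hinj, hsurj⟩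
  apply IsBaseChange.of_equiv e
  intro x
  change Φ (1 ⊗ₜ x) = fL x
  change (1 : S) • fL x = fL x
  rw [one_smul]


section E
variable {R A R' : Type u} [CommRing R] [CommRing A] [Algebra R A] [CommRing R'] [Algebra R R']
  {G : Type u} [Group G] (σ : G →* (A →ₐ[R] A))

/-- the subalgebra fixed by a family of endomorphisms -/
def H7_fixSub : Subalgebra R A where
  carrier := {a | ∀ g, σ g a = a}
  mul_mem' {a b} ha hb g := by rw [map_mul, ha g, hb g]
  one_mem' g := map_one _
  add_mem' {a b} ha hb g := by rw [map_add, ha g, hb g]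
  zero_mem' g := map_zero _
  algebraMap_mem' r g := AlgHom.commutes _ r

variable {n : ℕ} (τ : R' ⊗[R] A ≃ₐ[R'] (Fin n → R'))

/-- the transported action as endomorphisms -/
noncomputable def H7_transHom : G →* ((Fin n → R') →ₐ[R'] (Fin n → R')) where
  toFun g := (τ : R' ⊗[R] A →ₐ[R'] (Fin n → R')).comp
    ((Algebra.TensorProduct.map (AlgHom.id R' R') (σ g)).comp
      (τ.symm : (Fin n → R') →ₐ[R'] R' ⊗[R] A))
  map_one' := by
    apply AlgHom.ext
    intro t
    change τ (Algebra.TensorProduct.map (AlgHom.id R' R') (σ 1) (τ.symm t)) = t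
    rw [map_one]
    change τ (Algebra.TensorProduct.map (AlgHom.id R' R') (AlgHom.id R A) (τ.symm t)) = t
    rw [Algebra.TensorProduct.map_id]
    exact τ.apply_symm_apply t
  map_mul' g h := by
    apply AlgHom.ext
    intro t
    change τ (Algebra.TensorProduct.map (AlgHom.id R' R') (σ (g * h)) (τ.symm t)) =
      τ (Algebra.TensorProduct.map (AlgHom.id R' R') (σ g) (τ.symm
        (τ (Algebra.TensorProduct.map (AlgHom.id R' R') (σ h) (τ.symm t)))))
    rw [τ.symm_apply_apply, map_mul]
    congr 1
    generalize τ.symm t = z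
    induction z using TensorProduct.induction_on with
    | zero => simp
    | tmul s a => rfl
    | add x y hx hy => rw [map_add, map_add, map_add, hx, hy]

/-- the transported action as automorphisms -/
noncomputable def H7_transRho : G →* ((Fin n → R') ≃ₐ[R'] (Fin n → R')) :=
  (AlgEquiv.algHomUnitsEquiv R' (Fin n → R')).toMonoidHom.comp
    (MonoidHom.toHomUnits (H7_transHom σ τ))

theorem H7_transRho_apply (g : G) (t : Fin n → R') :
    H7_transRho σ τ g t =
      τ (Algebra.TensorProduct.map (AlgHom.id R' R') (σ g) (τ.symm t)) := rfl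

theorem H7_transRho_tau (g : G) (s : R') (a : A) :
    H7_transRho σ τ g (τ (s ⊗ₜ a)) = τ (s ⊗ₜ σ g a) := by
  rw [H7_transRho_apply, τ.symm_apply_apply]
  rfl


/-- the base change map to the trivialisation -/
noncomputable def H7_trivMap : A →ₗ[R] (Fin n → R') :=
  (τ.toLinearEquiv.toLinearMap.restrictScalars R).comp (TensorProduct.mk R R' A 1)

theorem H7_trivMap_apply (a : A) : H7_trivMap τ a = τ (1 ⊗ₜ a) := rfl

theorem H7_trivMap_isBaseChange : IsBaseChange R' (H7_trivMap τ) :=
  IsBaseChange.of_equiv τ.toLinearEquiv (fun _ => rfl)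

theorem H7_trivMap_mem (x : H7_fixSub σ) : H7_trivMap τ x.1 ∈ H7_invSub (H7_transRho σ τ) := by
  intro g
  rw [H7_trivMap_apply, H7_transRho_tau, x.2 g]

/-- the restriction of the base change map to invariants -/
noncomputable def H7_trivMapFix : H7_fixSub σ →ₗ[R] H7_invSub (H7_transRho σ τ) where
  toFun x := ⟨H7_trivMap τ x.1, H7_trivMap_mem σ τ x⟩
  map_add' x y := Subtype.ext (map_add (H7_trivMap τ) x.1 y.1)
  map_smul' r x := Subtype.ext (map_smul (H7_trivMap τ) r x.1)

theorem H7_trivMapFix_isBaseChange [Finite G] [Module.Flat R R'] :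
    IsBaseChange R' (H7_trivMapFix σ τ) := by
  refine H7_isBaseChange_invariants (ι := G) (fun g => (σ g).toLinearMap)
    (fun g => (H7_transRho σ τ g).toLinearMap) (H7_trivMap τ) (H7_trivMap_isBaseChange τ)
    (fun g m => ?_) (H7_fixSub σ).val.toLinearMap Subtype.val_injective (fun m => ?_)
    (H7_invSub (H7_transRho σ τ)).val.toLinearMap Subtype.val_injective (fun m => ?_)
    (H7_trivMapFix σ τ) (fun x => rfl)
  · change H7_trivMap τ (σ g m) = H7_transRho σ τ g (H7_trivMap τ m)
    rw [H7_trivMap_apply, H7_trivMap_apply, H7_transRho_tau]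
  · constructor
    · rintro ⟨x, rfl⟩ g
      exact x.2 g
    · intro h
      exact ⟨⟨m, h⟩, rfl⟩
  · constructor
    · rintro ⟨x, rfl⟩ g
      exact x.2 g
    · intro h
      exact ⟨⟨m, h⟩, rfl⟩


include τ in
theorem H7_etale_fixSub [Finite G] [Module.FaithfullyFlat R R'] :
    Algebra.Etale R (H7_fixSub σ) := by
  classical
  have : Fintype G := Fintype.ofFinite G
  have hbc := H7_trivMapFix_isBaseChange σ τ
  have hN : Algebra.Etale R' (H7_invSub (H7_transRho σ τ)) := H7_etale_invSub _
  let ψ0 : R' ⊗[R] (H7_fixSub σ) →ₐ[R'] (Fin n → R') :=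
    (τ : R' ⊗[R] A →ₐ[R'] (Fin n → R')).comp
      (Algebra.TensorProduct.map (AlgHom.id R' R') (H7_fixSub σ).val)
  have hψ : ∀ z : R' ⊗[R] (H7_fixSub σ), ((hbc.equiv z : H7_invSub (H7_transRho σ τ)) :
      Fin n → R') = ψ0 z := by
    intro z
    induction z using TensorProduct.induction_on with
    | zero => simp
    | tmul s x =>
      rw [IsBaseChange.equiv_tmul]
      change s • H7_trivMap τ x.1 = τ (s ⊗ₜ x.1)
      rw [H7_trivMap_apply, ← map_smul, TensorProduct.smul_tmul', smul_eq_mul, mul_one]
    | add a b ha hb =>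
      rw [map_add, map_add, Subalgebra.coe_add, ha, hb]
  let e : R' ⊗[R] (H7_fixSub σ) ≃ₐ[R'] H7_invSub (H7_transRho σ τ) :=
    AlgEquiv.ofLinearEquiv hbc.equiv
      (by
        apply Subtype.ext
        rw [hψ, map_one]
        rfl)
      (by
        intro x y
        apply Subtype.ext
        rw [hψ, map_mul, Subalgebra.coe_mul, hψ, hψ])
  have hE : Algebra.Etale R' (R' ⊗[R] (H7_fixSub σ)) := Algebra.Etale.of_equiv e.symm
  exact Algebra.Etale.of_etale_tensorProduct_of_faithfullyFlat R'

end E

end Groth.Agent.Lib.helper7
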