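import Mathlib
import Groth.Prelude.Def_SchFin
import Groth.Prelude.Def_SchFin2

set_option autoImplicit false
universe u
open TensorProduct

namespace Groth.Agent.Lib.helper7
open SchFin CategoryTheory CategoryTheory.Limits

section homPt
variable {R Ω : Type u} [CommRing R] [Field Ω] [Algebra R Ω]
variable (E : Type u) [CommRing E] [Algebra R E]

/-- the homomorphism from the base change attached to a homomorphism to `Ω` -/
noncomputable def H7_homLift (φ : E →ₐ[R] Ω) : Ω ⊗[R] E →ₐ[Ω] Ω :=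
  Algebra.TensorProduct.lift (AlgHom.id Ω Ω) φ (fun _ _ => Commute.all _ _)

theorem H7_homLift_tmul (φ : E →ₐ[R] Ω) (c : Ω) (e : E) :
    H7_homLift E φ (c ⊗ₜ e) = c * φ e := by
  unfold H7_homLift
  rw [Algebra.TensorProduct.lift_tmul]
  rfl

/-- the point of the fibre attached to a homomorphism to `Ω` -/
noncomputable def H7_homPt (φ : E →ₐ[R] Ω) : PrimeSpectrum (Ω ⊗[R] E) :=
  ⟨RingHom.ker (H7_homLift E φ), RingHom.ker_isPrime _⟩

theorem H7_homLift_comp {E' : Type u} [CommRing E'] [Algebra R E'] (f : E →ₐ[R] E')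
    (φ : E' →ₐ[R] Ω) :
    (H7_homLift E' φ).comp (Algebra.TensorProduct.map (AlgHom.id Ω Ω) f) =
      H7_homLift E (φ.comp f) := by
  apply Algebra.TensorProduct.ext
  · apply AlgHom.ext
    intro c
    simp [H7_homLift]
  · apply AlgHom.ext
    intro e
    simp [H7_homLift]

theorem H7_homPt_comap {E' : Type u} [CommRing E'] [Algebra R E'] (f : E →ₐ[R] E')
    (φ : E' →ₐ[R] Ω) :
    PrimeSpectrum.comap (Algebra.TensorProduct.map (AlgHom.id Ω Ω) f).toRingHom (H7_homPt E' φ) =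
      H7_homPt E (φ.comp f) := by
  apply PrimeSpectrum.ext
  ext t
  change H7_homLift E' φ (Algebra.TensorProduct.map (AlgHom.id Ω Ω) f t) = 0 ↔
    H7_homLift E (φ.comp f) t = 0
  rw [← H7_homLift_comp E f φ]
  rfl

theorem H7_homPt_injective : Function.Injective (H7_homPt (R := R) (Ω := Ω) E) := by
  intro φ φ' h
  have hk : RingHom.ker (H7_homLift E φ) = RingHom.ker (H7_homLift E φ') :=
    congrArg PrimeSpectrum.asIdeal h
  apply AlgHom.ext
  intro e
  have h1 : ((1 : Ω) ⊗ₜ[R] e - (φ e) ⊗ₜ[R] (1 : E)) ∈ RingHom.ker (H7_homLift E φ) := by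
    rw [RingHom.mem_ker, map_sub, H7_homLift_tmul, H7_homLift_tmul, map_one, one_mul, mul_one,
      sub_self]
  rw [hk, RingHom.mem_ker, map_sub, H7_homLift_tmul, H7_homLift_tmul, map_one, one_mul, mul_one,
    sub_eq_zero] at h1
  exact h1.symm


theorem H7_homPt_surjective [IsAlgClosed Ω] [Module.Finite R E] :
    Function.Surjective (H7_homPt (R := R) (Ω := Ω) E) := by
  intro x
  have hfin : Module.Finite Ω (Ω ⊗[R] E) := inferInstance
  have hfinq : Module.Finite Ω ((Ω ⊗[R] E) ⧸ x.asIdeal) := inferInstance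
  have hint : Algebra.IsIntegral Ω ((Ω ⊗[R] E) ⧸ x.asIdeal) := inferInstance
  have hdom : IsDomain ((Ω ⊗[R] E) ⧸ x.asIdeal) := Ideal.Quotient.isDomain _
  have hbij : Function.Bijective (algebraMap Ω ((Ω ⊗[R] E) ⧸ x.asIdeal)) :=
    IsAlgClosed.algebraMap_bijective_of_isIntegral
  let eq : Ω ≃ₐ[Ω] ((Ω ⊗[R] E) ⧸ x.asIdeal) :=
    AlgEquiv.ofBijective (Algebra.ofId Ω _) hbij
  let χ : Ω ⊗[R] E →ₐ[Ω] Ω :=
    (eq.symm : ((Ω ⊗[R] E) ⧸ x.asIdeal) →ₐ[Ω] Ω).comp (Ideal.Quotient.mkₐ Ω x.asIdeal)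
  let φ : E →ₐ[R] Ω := (χ.restrictScalars R).comp Algebra.TensorProduct.includeRight
  refine ⟨φ, ?_⟩
  have hχ : H7_homLift E φ = χ := by
    apply Algebra.TensorProduct.ext
    · apply AlgHom.ext
      intro c
      change H7_homLift E φ (c ⊗ₜ 1) = χ (c ⊗ₜ 1)
      rw [H7_homLift_tmul, map_one, mul_one]
      have h1 : (c ⊗ₜ[R] (1 : E) : Ω ⊗[R] E) = algebraMap Ω (Ω ⊗[R] E) c := rfl
      rw [h1, AlgHom.commutes]
      rfl
    · apply AlgHom.ext
      intro e
      change H7_homLift E φ (1 ⊗ₜ e) = χ (1 ⊗ₜ e)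
      rw [H7_homLift_tmul, one_mul]
      rfl
  apply PrimeSpectrum.ext
  change RingHom.ker (H7_homLift E φ) = x.asIdeal
  rw [hχ]
  ext t
  rw [RingHom.mem_ker]
  change eq.symm (Ideal.Quotient.mk _ t) = 0 ↔ _
  rw [map_eq_zero_iff _ eq.symm.injective, Ideal.Quotient.eq_zero_iff_mem]

end homPt


section fib
variable {X : RSpace.{u}} {Ω : Type u} [Field Ω] [IsAlgClosed Ω] (ξ : GeomPt X Ω)

/-- homomorphisms from the algebra at the base point to `Ω` -/
abbrev H7_HomΩ (E : Alg X) : Type u :=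
  letI : Algebra (X.ring ξ.base) Ω := ξ.toField.toAlgebra
  E.carrier ξ.base →ₐ[X.ring ξ.base] Ω

/-- the point of the fibre attached to a homomorphism -/
noncomputable def H7_fibPt (E : Alg X) (φ : H7_HomΩ ξ E) : ξ.Fib E :=
  letI : Algebra (X.ring ξ.base) Ω := ξ.toField.toAlgebra
  H7_homPt (E.carrier ξ.base) φ

/-- composition with a morphism of algebras -/
noncomputable def H7_homComp {A B : Alg X} (f : A ⟶ B) (φ : H7_HomΩ ξ B) : H7_HomΩ ξ A :=
  letI : Algebra (X.ring ξ.base) Ω := ξ.toField.toAlgebra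
  φ.comp (f.app ξ.base)

theorem H7_fibPt_injective (E : Alg X) : Function.Injective (H7_fibPt ξ E) := by
  let _ : Algebra (X.ring ξ.base) Ω := ξ.toField.toAlgebra
  exact H7_homPt_injective (E.carrier ξ.base)

theorem H7_fibPt_surjective (E : Alg X) (hE : Module.Finite (X.ring ξ.base) (E.carrier ξ.base)) :
    Function.Surjective (H7_fibPt ξ E) := by
  let _ : Algebra (X.ring ξ.base) Ω := ξ.toField.toAlgebra
  exact H7_homPt_surjective (E.carrier ξ.base)

theorem H7_fibMap_fibPt {A B : Alg X} (f : A ⟶ B) (φ : H7_HomΩ ξ B) :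
    ξ.fibMap f (H7_fibPt ξ B φ) = H7_fibPt ξ A (H7_homComp ξ f φ) := by
  let _ : Algebra (X.ring ξ.base) Ω := ξ.toField.toAlgebra
  exact H7_homPt_comap (A.carrier ξ.base) (f.app ξ.base) φ

theorem H7_homComp_apply {A B : Alg X} (f : A ⟶ B) (φ : H7_HomΩ ξ B) (a : A.carrier ξ.base) :
    H7_homComp ξ f φ a = φ (f.app ξ.base a) := rfl

theorem H7_HomΩ_ext {E : Alg X} (φ ψ : H7_HomΩ ξ E) (h : ∀ e, φ e = ψ e) : φ = ψ := by
  let _ : Algebra (X.ring ξ.base) Ω := ξ.toField.toAlgebra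
  exact AlgHom.ext h

end fib

end Groth.Agent.Lib.helper7
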