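import Mathlib
import Groth.Agent.Lib.helper7.EtaleFix
import Groth.Agent.Lib.helper7.SchFinFib

set_option autoImplicit false
universe u
open TensorProduct

namespace Groth.Agent.Lib.helper7

section pts
variable {R' Ω : Type u} [CommRing R'] [Field Ω] {n : ℕ}

/-- a ring map from a finite product to a field, semilinear over `β₀`, is an evaluation -/
theorem H7_pi_hom_eval (β₀ : R' →+* Ω) (χ : (Fin n → R') →+* Ω)
    (hχ : ∀ (r : R') (t : Fin n → R'), χ (r • t) = β₀ r * χ t) :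
    ∃ i : Fin n, ∀ t, χ t = β₀ (t i) := by
  classical
  have hsum : ∑ i : Fin n, χ (Pi.single i 1) = 1 := by
    rw [← map_sum, Finset.univ_sum_single]
    exact map_one χ
  have hex : ∃ i : Fin n, χ (Pi.single i 1) ≠ 0 := by
    by_contra hne
    push Not at hne
    rw [Finset.sum_eq_zero (fun i _ => hne i)] at hsum
    exact zero_ne_one hsum
  obtain ⟨i, hi⟩ := hex
  have hidem : χ (Pi.single i 1) * χ (Pi.single i 1) = χ (Pi.single i 1) := by
    rw [← map_mul]
    congr 1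
    ext j
    by_cases hj : j = i
    · subst hj; simp
    · simp [Pi.single_apply, hj]
  have h1 : χ (Pi.single i 1) = 1 := by
    have : χ (Pi.single i 1) * (χ (Pi.single i 1) - 1) = 0 := by
      rw [mul_sub, hidem, mul_one, sub_self]
    rcases mul_eq_zero.mp this with h | h
    · exact absurd h hi
    · exact sub_eq_zero.mp h
  refine ⟨i, fun t => ?_⟩
  have ht : t * Pi.single i 1 = t i • (Pi.single i (1 : R') : Fin n → R') := by
    ext j
    by_cases hj : j = i
    · subst hj; simp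
    · simp [Pi.single_apply, hj]
  calc χ t = χ t * χ (Pi.single i 1) := by rw [h1, mul_one]
    _ = χ (t * Pi.single i 1) := (map_mul χ _ _).symm
    _ = β₀ (t i) * χ (Pi.single i 1) := by rw [ht, hχ]
    _ = β₀ (t i) := by rw [h1, mul_one]

end pts


section orbit
variable {R A R' Ω : Type u} [CommRing R] [CommRing A] [Algebra R A] [CommRing R'] [Algebra R R']
  [Field Ω] [Algebra R Ω] {G : Type u} [Group G] [Fintype G] (σ : G →* (A →ₐ[R] A)) {n : ℕ}
  (τ : R' ⊗[R] A ≃ₐ[R'] (Fin n → R')) (β₀ : R' →ₐ[R] Ω)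

/-- the character of the trivialisation attached to a point -/
noncomputable def H7_chi (α : A →ₐ[R] Ω) : (Fin n → R') →+* Ω :=
  (Algebra.TensorProduct.productMap β₀ α).toRingHom.comp (τ.symm : (Fin n → R') →+* R' ⊗[R] A)

theorem H7_chi_tau (α : A →ₐ[R] Ω) (s : R') (a : A) :
    H7_chi τ β₀ α (τ (s ⊗ₜ a)) = β₀ s * α a := by
  unfold H7_chi
  change Algebra.TensorProduct.productMap β₀ α (τ.symm (τ (s ⊗ₜ a))) = _
  rw [τ.symm_apply_apply, Algebra.TensorProduct.productMap_apply_tmul]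

theorem H7_chi_smul (α : A →ₐ[R] Ω) (r : R') (t : Fin n → R') :
    H7_chi τ β₀ α (r • t) = β₀ r * H7_chi τ β₀ α t := by
  unfold H7_chi
  change Algebra.TensorProduct.productMap β₀ α (τ.symm (r • t)) =
    β₀ r * Algebra.TensorProduct.productMap β₀ α (τ.symm t)
  rw [map_smul, Algebra.smul_def, map_mul, Algebra.TensorProduct.algebraMap_apply]
  congr 1
  change Algebra.TensorProduct.productMap β₀ α (r ⊗ₜ 1) = β₀ r
  rw [Algebra.TensorProduct.productMap_apply_tmul, map_one, mul_one]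

theorem H7_chi_eval (α : A →ₐ[R] Ω) : ∃ i : Fin n, ∀ t, H7_chi τ β₀ α t = β₀ (t i) :=
  H7_pi_hom_eval (β₀ : R' →+* Ω) (H7_chi τ β₀ α) (H7_chi_smul τ β₀ α)

include τ β₀ in
theorem H7_orbit_of_agree [Module.Flat R R'] (α α' : A →ₐ[R] Ω)
    (h : ∀ x : H7_fixSub σ, α x.1 = α' x.1) : ∃ g, α' = α.comp (σ g) := by
  classical
  obtain ⟨i, hi⟩ := H7_chi_eval τ β₀ α
  obtain ⟨i', hi'⟩ := H7_chi_eval τ β₀ α'
  let ρ := H7_transRho σ τ
  let t : Fin n → R' := fun j => H7_u ρ j i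
  have ht : t ∈ H7_invSub ρ := by
    change ∀ g, ρ g t = t
    rw [H7_inv_iff]
    intro g j k
    change H7_eps ρ g j k * (H7_u ρ j i - H7_u ρ k i) = 0
    rw [mul_sub, H7_eps_mul_u_congr, sub_self]
  have hbc := H7_trivMapFix_isBaseChange σ τ
  have hagree : ∀ z : R' ⊗[R] (H7_fixSub σ),
      H7_chi τ β₀ α ((hbc.equiv z : H7_invSub ρ) : Fin n → R') =
        H7_chi τ β₀ α' ((hbc.equiv z : H7_invSub ρ) : Fin n → R') := by
    intro z
    induction z using TensorProduct.induction_on with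
    | zero => simp
    | tmul s x =>
      rw [IsBaseChange.equiv_tmul]
      change H7_chi τ β₀ α (s • H7_trivMap τ x.1) = H7_chi τ β₀ α' (s • H7_trivMap τ x.1)
      rw [H7_chi_smul, H7_chi_smul, H7_trivMap_apply, H7_chi_tau, H7_chi_tau, h x]
    | add a b ha hb =>
      rw [map_add, Subalgebra.coe_add, map_add, map_add, ha, hb]
  obtain ⟨z, hz⟩ := hbc.equiv.surjective ⟨t, ht⟩
  have h2 := hagree z
  rw [hz] at h2
  change H7_chi τ β₀ α t = H7_chi τ β₀ α' t at h2
  rw [hi, hi'] at h2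
  change β₀ (H7_u ρ i i) = β₀ (H7_u ρ i' i) at h2
  rw [H7_u_self, map_one] at h2
  have h3 : β₀ (H7_w ρ i' i) = 0 := by
    unfold H7_u at h2
    rw [map_sub, map_one] at h2
    have := h2
    rw [eq_sub_iff_add_eq, add_eq_left] at this
    exact this
  unfold H7_w at h3
  rw [map_prod, Finset.prod_eq_zero_iff] at h3
  obtain ⟨g, _, hg⟩ := h3
  rw [map_sub, map_one, sub_eq_zero] at hg
  -- hg : 1 = β₀ (ε g i' i)
  have hg' : β₀ (H7_eps ρ g⁻¹ i i') = 1 := by
    rw [← H7_eps_symm]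
    exact hg.symm
  refine ⟨g⁻¹, ?_⟩
  apply AlgHom.ext
  intro a
  have e1 : α' a = β₀ ((τ (1 ⊗ₜ a)) i') := by
    rw [← hi', H7_chi_tau, map_one, one_mul]
  have e2 : (α.comp (σ g⁻¹)) a = β₀ ((ρ g⁻¹ (τ (1 ⊗ₜ a))) i) := by
    rw [← hi, H7_transRho_tau, H7_chi_tau, map_one, one_mul]
    rfl
  rw [e1, e2, H7_apply_eq_sum, map_sum, Finset.sum_eq_single i']
  · rw [map_mul, hg', one_mul]
  · intro j _ hj
    have : β₀ (H7_eps ρ g⁻¹ i j) = 0 := by
      have h5 : β₀ (H7_eps ρ g⁻¹ i j) * β₀ (H7_eps ρ g⁻¹ i i') = 0 := by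
        rw [← map_mul, H7_eps_orth ρ g⁻¹ i j i' hj, map_zero]
      rw [hg', mul_one] at h5
      exact h5
    rw [map_mul, this, zero_mul]
  · intro h'
    exact absurd (Finset.mem_univ i') h'

end orbit


theorem H7_exists_point {R R' Ω : Type u} [CommRing R] [CommRing R'] [Algebra R R'] [Field Ω]
    [IsAlgClosed Ω] [Algebra R Ω] [Module.Finite R R'] [Module.FaithfullyFlat R R'] :
    Nonempty (R' →ₐ[R] Ω) := by
  have : Nontrivial (Ω ⊗[R] R') := inferInstance
  obtain ⟨x⟩ := (inferInstance : Nonempty (PrimeSpectrum (Ω ⊗[R] R')))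
  obtain ⟨φ, _⟩ := H7_homPt_surjective (R := R) (Ω := Ω) R' x
  exact ⟨φ⟩

/-- two points agreeing on invariants are conjugate -/
theorem H7_orbit_of_agree' {R A R' Ω : Type u} [CommRing R] [CommRing A] [Algebra R A]
    [CommRing R'] [Algebra R R'] [Field Ω] [IsAlgClosed Ω] [Algebra R Ω] {G : Type u} [Group G]
    [Finite G] (σ : G →* (A →ₐ[R] A)) {n : ℕ} (τ : R' ⊗[R] A ≃ₐ[R'] (Fin n → R'))
    [Module.Finite R R'] [Module.FaithfullyFlat R R'] (α α' : A →ₐ[R] Ω)
    (h : ∀ x : H7_fixSub σ, α x.1 = α' x.1) : ∃ g, α' = α.comp (σ g) := by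
  have : Fintype G := Fintype.ofFinite G
  obtain ⟨β₀⟩ := H7_exists_point (R := R) (R' := R') (Ω := Ω)
  exact H7_orbit_of_agree σ τ β₀ α α' h

end Groth.Agent.Lib.helper7
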