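import Mathlib

set_option autoImplicit false
universe u

namespace Groth.Agent.Lib.helper7
open CategoryTheory CategoryTheory.Limits

theorem H7_fintype_isLimit_pullback {P A B C : FintypeCat.{u}} (p1 : P ⟶ A) (p2 : P ⟶ B)
    (a : A ⟶ C) (b : B ⟶ C) (comm : p1 ≫ a = p2 ≫ b)
    (h : ∀ (x : A) (y : B), a x = b y → ∃! z : P, p1 z = x ∧ p2 z = y) :
    Nonempty (IsLimit (PullbackCone.mk p1 p2 comm)) := by
  have hc : ∀ (s : PullbackCone a b) (w : s.pt), a (s.fst w) = b (s.snd w) := fun s w =>
    ConcreteCategory.congr_hom s.condition w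
  refine ⟨PullbackCone.IsLimit.mk comm
    (fun s => FintypeCat.homMk (fun w => (h (s.fst w) (s.snd w) (hc s w)).choose)) ?_ ?_ ?_⟩
  · intro s
    ext w
    exact (h (s.fst w) (s.snd w) (hc s w)).choose_spec.1.1
  · intro s
    ext w
    exact (h (s.fst w) (s.snd w) (hc s w)).choose_spec.1.2
  · intro s m h1 h2
    ext w
    apply (h (s.fst w) (s.snd w) (hc s w)).choose_spec.2
    exact ⟨ConcreteCategory.congr_hom h1 w, ConcreteCategory.congr_hom h2 w⟩

theorem H7_fintype_isColimit_cofan {A B S : FintypeCat.{u}} (i1 : A ⟶ S) (i2 : B ⟶ S)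
    (h1 : Function.Injective i1) (h2 : Function.Injective i2) (hd : ∀ x y, i1 x ≠ i2 y)
    (hs : ∀ z : S, (∃ x, i1 x = z) ∨ ∃ y, i2 y = z) :
    Nonempty (IsColimit (BinaryCofan.mk i1 i2)) := by
  classical
  refine ⟨BinaryCofan.IsColimit.mk _
    (fun {T} f g => FintypeCat.homMk (fun z =>
      if hz : ∃ x, i1 x = z then f hz.choose else
        g ((hs z).resolve_left hz).choose)) ?_ ?_ ?_⟩
  · intro T f g
    ext x
    have hz : ∃ x', i1 x' = i1 x := ⟨x, rfl⟩
    change (if hz : ∃ x', i1 x' = i1 x then f hz.choose else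
        g ((hs (i1 x)).resolve_left hz).choose) = f x
    rw [dif_pos hz]
    exact congrArg f (h1 hz.choose_spec)
  · intro T f g
    ext y
    have hz : ¬ ∃ x', i1 x' = i2 y := fun ⟨x', hx'⟩ => hd x' y hx'
    change (if hz : ∃ x', i1 x' = i2 y then f hz.choose else
        g ((hs (i2 y)).resolve_left hz).choose) = g y
    rw [dif_neg hz]
    exact congrArg g (h2 ((hs (i2 y)).resolve_left hz).choose_spec)
  · intro T f g m hm1 hm2
    ext z
    change m z = (if hz : ∃ x, i1 x = z then f hz.choose else
        g ((hs z).resolve_left hz).choose)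
    by_cases hz : ∃ x, i1 x = z
    · rw [dif_pos hz]
      have h3 := ConcreteCategory.congr_hom hm1 hz.choose
      refine Eq.trans ?_ h3
      change m z = m (i1 hz.choose)
      exact congrArg m hz.choose_spec.symm
    · rw [dif_neg hz]
      have h3 := ConcreteCategory.congr_hom hm2 ((hs z).resolve_left hz).choose
      refine Eq.trans ?_ h3
      change m z = m (i2 ((hs z).resolve_left hz).choose)
      exact congrArg m ((hs z).resolve_left hz).choose_spec.symm

/-- a one-point finite type is terminal -/
noncomputable def H7_fintype_isTerminal (A : FintypeCat.{u}) [Unique A] : IsTerminal A :=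
  IsTerminal.ofUniqueHom (fun Z => FintypeCat.homMk (fun _ => default)) (fun Z m => by
    ext z
    exact Subsingleton.elim _ _)

/-- an empty finite type is initial -/
noncomputable def H7_fintype_isInitial (A : FintypeCat.{u}) [IsEmpty A] : IsInitial A :=
  IsInitial.ofUniqueHom (fun Z => FintypeCat.homMk (fun a => isEmptyElim a)) (fun Z m => by
    ext z
    exact isEmptyElim z)

end Groth.Agent.Lib.helper7
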