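import Mathlib

set_option autoImplicit false
universe u

open TensorProduct

namespace Groth.Agent.Lib.helper7

section
variable (A B : Type u) [CommRing A] [CommRing B] [Algebra A B]
variable (N : Type u) [AddCommGroup N] [Module B N] [Module A N] [IsScalarTower A B N]
variable (P : Type u) [AddCommGroup P] [Module B P] [Module A P] [IsScalarTower A B P]

noncomputable def H7_rhoL : B →ₐ[A] Module.End A (N ⊗[A] P) :=
  (Module.End.rTensorAlgHom (R := A) (M := N) (N := P)).comp (Algebra.lsmul A A N)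

noncomputable def H7_rhoR : B →ₐ[A] Module.End A (N ⊗[A] P) :=
  (Module.End.lTensorAlgHom (R := A) (M := P) (N := N)).comp (Algebra.lsmul A A P)

theorem H7_rhoL_tmul (b : B) (n : N) (p : P) :
    H7_rhoL A B N P b (n ⊗ₜ p) = (b • n) ⊗ₜ p := rfl

theorem H7_rhoR_tmul (b : B) (n : N) (p : P) :
    H7_rhoR A B N P b (n ⊗ₜ p) = n ⊗ₜ (b • p) := rfl

/-- action of `B ⊗ B` on `N ⊗[A] P`. -/
noncomputable def H7_rho : B ⊗[A] B →ₐ[A] Module.End A (N ⊗[A] P) :=
  Algebra.TensorProduct.lift (H7_rhoL A B N P) (H7_rhoR A B N P)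
    (by
      intro b b'
      show _ * _ = _ * _
      apply TensorProduct.ext'
      intro n p
      rw [Module.End.mul_apply, Module.End.mul_apply, H7_rhoR_tmul, H7_rhoL_tmul, H7_rhoL_tmul,
        H7_rhoR_tmul])

theorem H7_rho_tmul (b b' : B) (n : N) (p : P) :
    H7_rho A B N P (b ⊗ₜ b') (n ⊗ₜ p) = (b • n) ⊗ₜ (b' • p) := by
  rw [H7_rho, Algebra.TensorProduct.lift_tmul, Module.End.mul_apply, H7_rhoR_tmul, H7_rhoL_tmul]

/-- the canonical surjection `N ⊗[A] P → N ⊗[B] P`. -/
noncomputable def H7_q : N ⊗[A] P →ₗ[A] N ⊗[B] P :=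
  TensorProduct.mapOfCompatibleSMul B A A N P

theorem H7_q_tmul (n : N) (p : P) : H7_q A B N P (n ⊗ₜ p) = n ⊗ₜ p := rfl

theorem H7_q_surjective : Function.Surjective (H7_q A B N P) :=
  TensorProduct.mapOfCompatibleSMul_surjective B A A N P

/-- F1 -/
theorem H7_q_rho (x : B ⊗[A] B) (t : N ⊗[A] P) :
    H7_q A B N P (H7_rho A B N P x t) =
      (Algebra.TensorProduct.lmul' A (S := B) x) • H7_q A B N P t := by
  induction x using TensorProduct.induction_on with
  | zero => simp
  | add x y hx hy =>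
    rw [map_add, LinearMap.add_apply, map_add, hx, hy, map_add, add_smul]
  | tmul b b' =>
    induction t using TensorProduct.induction_on with
    | zero => simp
    | add t t' ht ht' => rw [map_add, map_add, ht, ht', map_add, smul_add]
    | tmul n p =>
      rw [H7_rho_tmul, H7_q_tmul, H7_q_tmul, Algebra.TensorProduct.lmul'_apply_tmul,
        TensorProduct.tmul_smul, TensorProduct.smul_tmul', smul_smul, mul_comm b' b,
        TensorProduct.smul_tmul']

end

section
variable (A B : Type u) [CommRing A] [CommRing B] [Algebra A B]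
variable (N : Type u) [AddCommGroup N] [Module B N] [Module A N] [IsScalarTower A B N]
variable (P : Type u) [AddCommGroup P] [Module B P] [Module A P] [IsScalarTower A B P]
variable (Q : Type u) [AddCommGroup Q] [Module B Q] [Module A Q] [IsScalarTower A B Q]

/-- F2 -/
theorem H7_rho_natural (f : P →ₗ[B] Q) (x : B ⊗[A] B) (t : N ⊗[A] P) :
    (f.restrictScalars A).lTensor N (H7_rho A B N P x t) =
      H7_rho A B N Q x ((f.restrictScalars A).lTensor N t) := by
  induction x using TensorProduct.induction_on with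
  | zero => simp
  | add x y hx hy =>
    rw [map_add, LinearMap.add_apply, map_add, hx, hy, map_add, LinearMap.add_apply]
  | tmul b b' =>
    induction t using TensorProduct.induction_on with
    | zero => simp
    | add t t' ht ht' => rw [map_add, map_add, ht, ht', map_add, map_add]
    | tmul n p =>
      rw [H7_rho_tmul, LinearMap.lTensor_tmul, LinearMap.lTensor_tmul, H7_rho_tmul]
      simp

theorem H7_q_natural (f : P →ₗ[B] Q) (t : N ⊗[A] P) :
    f.lTensor N (H7_q A B N P t) = H7_q A B N Q ((f.restrictScalars A).lTensor N t) := by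
  induction t using TensorProduct.induction_on with
  | zero => simp
  | add t t' ht ht' => rw [map_add, map_add, ht, ht', map_add, map_add]
  | tmul n p => rfl

end

section
variable (A B : Type u) [CommRing A] [CommRing B] [Algebra A B]
variable (N : Type u) [AddCommGroup N] [Module B N] [Module A N] [IsScalarTower A B N]

/-- `n ⊗ b ↦ b • n`. -/
noncomputable def H7_m : N ⊗[A] B →ₗ[A] N :=
  ((TensorProduct.rid B N).toLinearMap.restrictScalars A) ∘ₗ (H7_q A B N B)

theorem H7_m_tmul (n : N) (b : B) : H7_m A B N (n ⊗ₜ b) = b • n := by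
  simp [H7_m, H7_q_tmul]

/-- the span of `ker μ`-multiples. -/
noncomputable def H7_S : Submodule A (N ⊗[A] B) :=
  Submodule.span A {z | ∃ x ∈ RingHom.ker (Algebra.TensorProduct.lmul' A (S := B)),
    ∃ w, z = H7_rho A B N B x w}

theorem H7_theta_mem (t : N ⊗[A] B) :
    t - (H7_m A B N t) ⊗ₜ[A] (1 : B) ∈ H7_S A B N := by
  induction t using TensorProduct.induction_on with
  | zero => simp
  | add t t' ht ht' =>
    have : t + t' - (H7_m A B N (t + t')) ⊗ₜ[A] (1 : B) =
        (t - (H7_m A B N t) ⊗ₜ[A] (1 : B)) + (t' - (H7_m A B N t') ⊗ₜ[A] (1 : B)) := by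
      rw [map_add, TensorProduct.add_tmul]; abel
    rw [this]; exact Submodule.add_mem _ ht ht'
  | tmul n b =>
    apply Submodule.subset_span
    refine ⟨(1 : B) ⊗ₜ[A] b - b ⊗ₜ[A] (1 : B), ?_, n ⊗ₜ[A] (1 : B), ?_⟩
    · rw [RingHom.mem_ker, map_sub, Algebra.TensorProduct.lmul'_apply_tmul,
        Algebra.TensorProduct.lmul'_apply_tmul, one_mul, mul_one, sub_self]
    · rw [map_sub, LinearMap.sub_apply, H7_rho_tmul, H7_rho_tmul, H7_m_tmul]
      simp

theorem H7_phi (hpure : ∀ x ∈ RingHom.ker (Algebra.TensorProduct.lmul' A (S := B)),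
      ∃ y ∈ RingHom.ker (Algebra.TensorProduct.lmul' A (S := B)), x = x * y)
    (z : N ⊗[A] B) (hz : z ∈ H7_S A B N) :
    ∃ y ∈ RingHom.ker (Algebra.TensorProduct.lmul' A (S := B)), H7_rho A B N B y z = z := by
  unfold H7_S at hz
  induction hz using Submodule.span_induction with
  | mem z hz =>
    obtain ⟨x, hx, w, rfl⟩ := hz
    obtain ⟨y, hy, hxy⟩ := hpure x hx
    refine ⟨y, hy, ?_⟩
    rw [← Module.End.mul_apply, ← map_mul, mul_comm y x, ← hxy]
  | zero => exact ⟨0, Ideal.zero_mem _, by simp⟩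
  | add z₁ z₂ _ _ h₁ h₂ =>
    obtain ⟨y₁, hy₁, e₁⟩ := h₁
    obtain ⟨y₂, hy₂, e₂⟩ := h₂
    refine ⟨y₁ + y₂ - y₁ * y₂, Ideal.sub_mem _ (Ideal.add_mem _ hy₁ hy₂) (Ideal.mul_mem_left _ _ hy₂), ?_⟩
    have a1 : H7_rho A B N B (y₁ * y₂) z₁ = H7_rho A B N B y₂ z₁ := by
      rw [mul_comm, map_mul, Module.End.mul_apply, e₁]
    have a2 : H7_rho A B N B (y₁ * y₂) z₂ = H7_rho A B N B y₁ z₂ := by
      rw [map_mul, Module.End.mul_apply, e₂]
    rw [map_add, map_sub, map_add, LinearMap.sub_apply, LinearMap.add_apply, LinearMap.sub_apply,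
      LinearMap.add_apply, a1, a2, e₁, e₂]
    abel
  | smul a z _ hz =>
    obtain ⟨y, hy, e⟩ := hz
    exact ⟨y, hy, by rw [map_smul, e]⟩

theorem H7_S7126 (h : (Algebra.TensorProduct.lmul' A (S := B)).Flat) [Module.Flat A N] :
    Module.Flat B N := by
  have hpure : ∀ x ∈ RingHom.ker (Algebra.TensorProduct.lmul' A (S := B)),
      ∃ y ∈ RingHom.ker (Algebra.TensorProduct.lmul' A (S := B)), x = x * y := by
    letI alg : Algebra (B ⊗[A] B) B := (Algebra.TensorProduct.lmul' A (S := B)).toRingHom.toAlgebra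
    have hflat : Module.Flat (B ⊗[A] B) B := h
    have hs : Function.Surjective (Algebra.ofId (B ⊗[A] B) B) := fun b =>
      ⟨b ⊗ₜ 1, by
        show Algebra.TensorProduct.lmul' A (S := B) (b ⊗ₜ 1) = b
        rw [Algebra.TensorProduct.lmul'_apply_tmul, mul_one]⟩
    let e := Ideal.quotientKerAlgEquivOfSurjective hs
    haveI : (RingHom.ker (Algebra.ofId (B ⊗[A] B) B)).Pure :=
      Module.Flat.of_linearEquiv e.toLinearEquiv
    intro x hx
    exact Ideal.exists_eq_mul_of_pure (I := RingHom.ker (Algebra.ofId (B ⊗[A] B) B)) hx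
  rw [Module.Flat.iff_lTensor_injective']
  intro I
  rw [injective_iff_map_eq_zero]
  intro s hs
  obtain ⟨t, rfl⟩ := H7_q_surjective A B N I s
  have hq : H7_q A B N B ((I.subtype.restrictScalars A).lTensor N t) = 0 := by
    rw [← H7_q_natural]; exact hs
  have ht'S : (I.subtype.restrictScalars A).lTensor N t ∈ H7_S A B N := by
    have := H7_theta_mem A B N ((I.subtype.restrictScalars A).lTensor N t)
    have hm : H7_m A B N ((I.subtype.restrictScalars A).lTensor N t) = 0 := by
      rw [H7_m, LinearMap.comp_apply, hq, map_zero]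
    rwa [hm, TensorProduct.zero_tmul, sub_zero] at this
  obtain ⟨y, hy, hyt⟩ := H7_phi A B N hpure _ ht'S
  have hinj : Function.Injective ((I.subtype.restrictScalars A).lTensor N) :=
    Module.Flat.lTensor_preserves_injective_linearMap _ Subtype.val_injective
  have hyt2 : H7_rho A B N I y t = t := by
    apply hinj
    rw [H7_rho_natural]; exact hyt
  rw [← hyt2, H7_q_rho]
  have : Algebra.TensorProduct.lmul' A (S := B) y = 0 := hy
  rw [this, zero_smul]

end

end Groth.Agent.Lib.helper7
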