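import Mathlib
import Groth.Prelude.Def_W4c1frobunstivaNR

set_option autoImplicit false
set_option linter.unusedSectionVars false
universe u v

namespace Groth.Agent.Lib.helper7

open TensorProduct W4c1frobunstiva

section
variable (R : Type u) [CommRing R] (M : Type v) [AddCommGroup M] [Module R M]

/-- `1 ⊗ x = 0` in `(R/I) ⊗ M` iff `x ∈ I • ⊤`. -/
theorem H7_one_tmul_eq_zero_iff (I : Ideal R) (x : M) :
    ((1 : R ⧸ I) ⊗ₜ[R] x = 0) ↔ x ∈ I • (⊤ : Submodule R M) := by
  rw [← (quotTensorEquivQuotSMul M I).map_eq_zero_iff]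
  have : (1 : R ⧸ I) = Ideal.Quotient.mk I 1 := rfl
  rw [this, quotTensorEquivQuotSMul_mk_tmul, one_smul, Submodule.Quotient.mk_eq_zero]

theorem H7_sum_mk_smul_tmul (I : Ideal R) {r : ℕ} (a : Fin r → R) (m : Fin r → M) :
    ∑ i, (Ideal.Quotient.mk I (a i)) • ((1 : R ⧸ I) ⊗ₜ[R] m i) = (1 : R ⧸ I) ⊗ₜ[R] (∑ i, a i • m i) := by
  rw [tmul_sum]
  refine Finset.sum_congr rfl fun i _ => ?_
  rw [TensorProduct.smul_tmul', smul_eq_mul, mul_one, tmul_smul, TensorProduct.smul_tmul',
    ← Ideal.Quotient.algebraMap_eq, Algebra.smul_def, mul_one, Ideal.Quotient.algebraMap_eq]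

/-- every element of `(R/I) ⊗ M` is `1 ⊗ x`. -/
theorem H7_exists_one_tmul (I : Ideal R) (z : (R ⧸ I) ⊗[R] M) : ∃ x : M, (1 : R ⧸ I) ⊗ₜ[R] x = z := by
  obtain ⟨x, hx⟩ := Submodule.Quotient.mk_surjective _ (quotTensorEquivQuotSMul M I z)
  refine ⟨x, ?_⟩
  apply (quotTensorEquivQuotSMul M I).injective
  have : (1 : R ⧸ I) = Ideal.Quotient.mk I 1 := rfl
  rw [this, quotTensorEquivQuotSMul_mk_tmul, one_smul, hx]

/-- Nakayama for a nilpotent ideal, no finiteness. -/
theorem H7_nak_nilpotent (I : Ideal R) (k : ℕ) (hk : I ^ k = ⊥) (N : Submodule R M)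
    (h : (⊤ : Submodule R M) ≤ N ⊔ I • ⊤) : N = ⊤ := by
  have hstep : ∀ j : ℕ, (⊤ : Submodule R M) ≤ N ⊔ (I ^ j) • (⊤ : Submodule R M) := by
    intro j
    induction j with
    | zero => rw [pow_zero, Ideal.one_eq_top, Submodule.top_smul]; exact le_sup_right
    | succ j ih =>
      calc (⊤ : Submodule R M) ≤ N ⊔ I • (⊤ : Submodule R M) := h
        _ ≤ N ⊔ I • (N ⊔ (I ^ j) • (⊤ : Submodule R M)) :=
            sup_le_sup_left (Submodule.smul_mono le_rfl ih) _
        _ = N ⊔ (I • N ⊔ I • ((I ^ j) • (⊤ : Submodule R M))) := by rw [Submodule.smul_sup]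
        _ ≤ N ⊔ (I ^ (j + 1)) • (⊤ : Submodule R M) := by
            rw [← Submodule.smul_assoc, smul_eq_mul, ← pow_succ']
            refine sup_le le_sup_left (sup_le ?_ le_sup_right)
            exact le_trans Submodule.smul_le_right le_sup_left
  have := hstep k
  rw [hk, Submodule.bot_smul, sup_bot_eq] at this
  exact top_le_iff.mp this

end

theorem H7_S14032 (R : Type u) [CommRing R]
    [IsNoetherianRing R] (M : Type v) [AddCommGroup M] [Module R M] (r : ℕ) :
    IsNRFree R M r ↔
      Nonempty (Module.Basis (Fin r) (R ⧸ nilradical R) ((R ⧸ nilradical R) ⊗[R] M)) := by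
  set I := nilradical R with hI
  constructor
  · rintro ⟨m, hspan, hrel⟩
    let b : Fin r → (R ⧸ I) ⊗[R] M := fun i => (1 : R ⧸ I) ⊗ₜ[R] m i
    have hli : LinearIndependent (R ⧸ I) b := by
      rw [Fintype.linearIndependent_iff]
      intro g hg i
      have hlift : ∀ i, ∃ a : R, Ideal.Quotient.mk I a = g i := fun i => Ideal.Quotient.mk_surjective _
      choose a ha using hlift
      have h1 : ∑ i, (Ideal.Quotient.mk I (a i)) • b i = 0 := by
        simp only [ha]; exact hg
      rw [H7_sum_mk_smul_tmul, H7_one_tmul_eq_zero_iff, ← hspan,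
        Submodule.mem_ideal_smul_span_iff_exists_sum] at h1
      obtain ⟨c, hc, hsum⟩ := h1
      rw [Finsupp.sum_fintype c (fun i c => c • m i) (fun i => zero_smul _ _)] at hsum
      have h2 : ∑ i, (a i - c i) • m i = 0 := by
        simp only [sub_smul, Finset.sum_sub_distrib, hsum, sub_self]
      have h3 := hrel _ h2 i
      have h4 : a i ∈ I := by
        have : a i = (a i - c i) + c i := by ring
        rw [this]
        exact I.add_mem (mem_nilradical.mpr h3) (hc i)
      rw [← ha, Ideal.Quotient.eq_zero_iff_mem]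
      exact h4
    have hsp : ⊤ ≤ Submodule.span (R ⧸ I) (Set.range b) := by
      intro z _
      obtain ⟨x, rfl⟩ := H7_exists_one_tmul R M I z
      have hx : x ∈ Submodule.span R (Set.range m) := by rw [hspan]; trivial
      obtain ⟨a, rfl⟩ := (Submodule.mem_span_range_iff_exists_fun R).mp hx
      rw [← H7_sum_mk_smul_tmul]
      exact Submodule.sum_mem _ fun i _ => Submodule.smul_mem _ _ (Submodule.subset_span ⟨i, rfl⟩)
    exact ⟨Module.Basis.mk hli hsp⟩
  · rintro ⟨b⟩
    have hm : ∀ i, ∃ x : M, (1 : R ⧸ I) ⊗ₜ[R] x = b i := fun i => H7_exists_one_tmul R M I (b i)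
    choose m hm using hm
    refine ⟨m, ?_, ?_⟩
    · obtain ⟨k, hk⟩ := IsNoetherianRing.isNilpotent_nilradical R
      apply H7_nak_nilpotent R M I k hk
      intro x _
      -- express 1 ⊗ x in the basis
      have h1 : (1 : R ⧸ I) ⊗ₜ[R] x = ∑ i, b.repr ((1 : R ⧸ I) ⊗ₜ[R] x) i • b i := (b.sum_repr _).symm
      have hlift : ∀ i, ∃ a : R, Ideal.Quotient.mk I a = b.repr ((1 : R ⧸ I) ⊗ₜ[R] x) i :=
        fun i => Ideal.Quotient.mk_surjective _
      choose a ha using hlift
      have h2 : (1 : R ⧸ I) ⊗ₜ[R] x = (1 : R ⧸ I) ⊗ₜ[R] (∑ i, a i • m i) := by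
        rw [← H7_sum_mk_smul_tmul, h1]
        refine Finset.sum_congr rfl fun i _ => ?_
        rw [ha, hm]
      have h3 : x - ∑ i, a i • m i ∈ I • (⊤ : Submodule R M) := by
        rw [← H7_one_tmul_eq_zero_iff, tmul_sub, h2, sub_self]
      have h4 : x = ∑ i, a i • m i + (x - ∑ i, a i • m i) := by abel
      rw [h4]
      refine Submodule.add_mem_sup ?_ h3
      exact Submodule.sum_mem _ fun i _ => Submodule.smul_mem _ _ (Submodule.subset_span ⟨i, rfl⟩)
    · intro a hsum i
      have h1 : ∑ i, (Ideal.Quotient.mk I (a i)) • b i = 0 := by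
        have := H7_sum_mk_smul_tmul R M I a m
        simp only [hm] at this
        rw [this, hsum, tmul_zero]
      have h2 := Fintype.linearIndependent_iff.mp b.linearIndependent _ h1 i
      rw [Ideal.Quotient.eq_zero_iff_mem] at h2
      exact mem_nilradical.mp h2


theorem H7_S14043 (R : Type u) [CommRing R]
    [IsNoetherianRing R] (M : Type v) [AddCommGroup M] [Module R M] (r : ℕ)
    (hM : IsNRFree R M r) (m m' : Fin r → M)
    (hm : Submodule.span R (Set.range m) = ⊤) (hm' : Submodule.span R (Set.range m') = ⊤) :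
    ∃ T : Matrix (Fin r) (Fin r) R, IsUnit T ∧ ∀ j, m' j = ∑ i, T j i • m i := by
  classical
  set I := nilradical R with hI
  obtain ⟨b⟩ := (H7_S14032 R M r).mp hM
  -- m̄' is linearly independent
  let F : (Fin r → R ⧸ I) →ₗ[R ⧸ I] (R ⧸ I) ⊗[R] M :=
    Fintype.linearCombination (R ⧸ I) (fun j => (1 : R ⧸ I) ⊗ₜ[R] m' j)
  have hF : ∀ c : Fin r → R ⧸ I, F c = ∑ j, c j • ((1 : R ⧸ I) ⊗ₜ[R] m' j) := fun c => by
    simp [F, Fintype.linearCombination_apply]
  have hFsurj : Function.Surjective F := by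
    intro z
    obtain ⟨x, rfl⟩ := H7_exists_one_tmul R M I z
    have hx : x ∈ Submodule.span R (Set.range m') := by rw [hm']; trivial
    obtain ⟨a, rfl⟩ := (Submodule.mem_span_range_iff_exists_fun R).mp hx
    refine ⟨fun j => Ideal.Quotient.mk I (a j), ?_⟩
    rw [hF, H7_sum_mk_smul_tmul]
  have hFinj : Function.Injective F := by
    have hsurj2 : Function.Surjective ((b.equivFun : _ →ₗ[R ⧸ I] (Fin r → R ⧸ I)).comp F) :=
      b.equivFun.surjective.comp hFsurj
    have hinj2 := OrzechProperty.injective_of_surjective_endomorphism _ hsurj2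
    intro c c' hcc
    apply hinj2
    change b.equivFun (F c) = b.equivFun (F c')
    rw [hcc]
  have hind : ∀ a : Fin r → R, ∑ j, a j • m' j = 0 → ∀ j, a j ∈ I := by
    intro a ha j
    have h1 : F (fun j => Ideal.Quotient.mk I (a j)) = 0 := by
      rw [hF, H7_sum_mk_smul_tmul, ha, tmul_zero]
    have h2 := hFinj (h1.trans (map_zero F).symm)
    have h3 := congrFun h2 j
    exact Ideal.Quotient.eq_zero_iff_mem.mp h3
  -- matrices
  have hT : ∀ j, ∃ t : Fin r → R, ∑ i, t i • m i = m' j := fun j =>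
    (Submodule.mem_span_range_iff_exists_fun R).mp (by rw [hm]; trivial)
  have hS : ∀ i, ∃ s : Fin r → R, ∑ j, s j • m' j = m i := fun i =>
    (Submodule.mem_span_range_iff_exists_fun R).mp (by rw [hm']; trivial)
  choose T hT using hT
  choose S hS using hS
  let Tm : Matrix (Fin r) (Fin r) R := Matrix.of T
  let Sm : Matrix (Fin r) (Fin r) R := Matrix.of S
  have hTS : ∀ j l, (Tm * Sm - 1) j l ∈ I := by
    intro j
    apply hind
    have : ∑ l, (Tm * Sm - 1) j l • m' l = ∑ l, (Tm * Sm) j l • m' l - m' j := by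
      simp only [Matrix.sub_apply, sub_smul, Finset.sum_sub_distrib, Matrix.one_apply, ite_smul,
        one_smul, zero_smul, Finset.sum_ite_eq, Finset.mem_univ, if_true]
    rw [this, sub_eq_zero]
    calc ∑ l, (Tm * Sm) j l • m' l = ∑ l, ∑ i, (T j i * S i l) • m' l := by
          refine Finset.sum_congr rfl fun l _ => ?_
          rw [Matrix.mul_apply, Finset.sum_smul]
          rfl
      _ = ∑ i, T j i • ∑ l, S i l • m' l := by
          rw [Finset.sum_comm]
          refine Finset.sum_congr rfl fun i _ => ?_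
          rw [Finset.smul_sum]
          refine Finset.sum_congr rfl fun l _ => ?_
          rw [mul_smul]
      _ = m' j := by
          simp only [hS, hT]
  have hdet : IsUnit (Tm * Sm).det := by
    have h1 : Ideal.Quotient.mk I (Tm * Sm).det = 1 := by
      rw [RingHom.map_det]
      have : (Ideal.Quotient.mk I).mapMatrix (Tm * Sm) = 1 := by
        ext j l
        have := hTS j l
        rw [Matrix.sub_apply, ← Ideal.Quotient.eq] at this
        simp only [RingHom.mapMatrix_apply, Matrix.map_apply]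
        rw [this]
        simp only [Matrix.one_apply]
        split_ifs <;> simp
      rw [this, Matrix.det_one]
    have h2 : (Tm * Sm).det - 1 ∈ I := by
      rw [← Ideal.Quotient.eq, h1, map_one]
    have h3 : IsNilpotent ((Tm * Sm).det - 1) := mem_nilradical.mp h2
    have := h3.isUnit_add_one
    simpa using this
  rw [Matrix.det_mul] at hdet
  refine ⟨Tm, (Matrix.isUnit_iff_isUnit_det _).mpr (isUnit_of_mul_isUnit_left hdet), fun j => ?_⟩
  exact (hT j).symm

end Groth.Agent.Lib.helper7
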