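import Mathlib
import Groth.Agent.Lib.helper7.NRFree

set_option autoImplicit false
set_option linter.unusedSectionVars false
universe u v

namespace Groth.Agent.Lib.helper7

open TensorProduct

/-- image of `κ ⊗ N → κ ⊗ B` consists of nilpotents -/
theorem H7_lTensor_nil_isNilpotent {A : Type u} {B : Type v} [CommRing A] [CommRing B] [Algebra A B]
    (K : Type*) [CommRing K] [Algebra A K]
    (z : K ⊗[A] (nilradical B)) :
    IsNilpotent ((((nilradical B).subtype.restrictScalars A).lTensor K) z) := by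
  induction z using TensorProduct.induction_on with
  | zero => rw [map_zero]; exact IsNilpotent.zero
  | tmul c n =>
    rw [LinearMap.lTensor_tmul]
    have h : c ⊗ₜ[A] ((n : B)) = (c ⊗ₜ[A] (1 : B)) * ((1 : K) ⊗ₜ[A] (n : B)) := by
      rw [Algebra.TensorProduct.tmul_mul_tmul, mul_one, one_mul]
    change IsNilpotent (c ⊗ₜ[A] ((n : B)))
    rw [h]
    apply Commute.isNilpotent_mul_left (Commute.all _ _)
    obtain ⟨k, hk⟩ := n.2
    exact ⟨k, by rw [Algebra.TensorProduct.tmul_pow, one_pow, hk, tmul_zero]⟩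
  | add x y hx hy => rw [map_add]; exact Commute.isNilpotent_add (Commute.all _ _) hx hy

theorem H7_fibre_tensor_nil_zero (A : Type u) (B : Type v)
    [CommRing A] [CommRing B] [Algebra A B]
    [Module.Flat A (B ⧸ nilradical B)]
    (K : Type*) [CommRing K] [Algebra A K] [IsReduced (K ⊗[A] B)]
    (z : K ⊗[A] (nilradical B)) : z = 0 := by
  have hinj : Function.Injective (((nilradical B).subtype.restrictScalars A).lTensor K) := by
    refine LinearMap.lTensor_injective_of_exact_of_flat (R := A) (P := B ⧸ nilradical B)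
      ((Ideal.Quotient.mkₐ A (nilradical B)).toLinearMap) Ideal.Quotient.mk_surjective
      ((nilradical B).subtype.restrictScalars A) Subtype.val_injective ?_ K
    intro b
    constructor
    · intro hb
      exact ⟨⟨b, Ideal.Quotient.eq_zero_iff_mem.mp hb⟩, rfl⟩
    · rintro ⟨n, rfl⟩
      exact Ideal.Quotient.eq_zero_iff_mem.mpr n.2
  apply hinj
  rw [map_zero]
  exact (H7_lTensor_nil_isNilpotent K z).eq_zero


/-- the comparison map `κ(p) ⊗_A N → (B/𝔪) ⊗_B N` -/
theorem H7_exists_fibre_to_quot (A : Type u) (B : Type v)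
    [CommRing A] [CommRing B] [Algebra A B] (m : Ideal B) [m.IsMaximal]
    (N : Type*) [AddCommGroup N] [Module B N] [Module A N] [IsScalarTower A B N] :
    ∃ L : ((m.comap (algebraMap A B)).ResidueField ⊗[A] N) →ₗ[A] ((B ⧸ m) ⊗[B] N),
      ∀ n : N, L ((1 : (m.comap (algebraMap A B)).ResidueField) ⊗ₜ[A] n) = (1 : B ⧸ m) ⊗ₜ[B] n := by
  set p := m.comap (algebraMap A B) with hp
  have hf₁ : p ≤ RingHom.ker ((Ideal.Quotient.mk m).comp (algebraMap A B)) := by
    intro a ha
    rw [RingHom.mem_ker, RingHom.comp_apply]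
    exact Ideal.Quotient.eq_zero_iff_mem.mpr ha
  have hf₂ : p.primeCompl ≤ (IsUnit.submonoid (B ⧸ m)).comap
      ((Ideal.Quotient.mk m).comp (algebraMap A B)) := by
    intro a ha
    have hne : (Ideal.Quotient.mk m) (algebraMap A B a) ≠ 0 := by
      intro h0
      have h1 : algebraMap A B a ∈ m := Ideal.Quotient.eq_zero_iff_mem.mp h0
      exact ha h1
    obtain ⟨b, hb⟩ := Ideal.Quotient.exists_inv hne
    change IsUnit ((Ideal.Quotient.mk m) (algebraMap A B a))
    exact IsUnit.of_mul_eq_one _ hb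
  let φ : p.ResidueField →+* B ⧸ m :=
    Ideal.ResidueField.lift p ((Ideal.Quotient.mk m).comp (algebraMap A B)) hf₁ hf₂
  have hφ : ∀ a : A, φ (algebraMap A p.ResidueField a) = Ideal.Quotient.mk m (algebraMap A B a) :=
    fun a => Ideal.ResidueField.lift_algebraMap _ _ hf₁ hf₂ a
  have hsm : ∀ (a : A) (c : p.ResidueField), φ (a • c) = a • φ c := by
    intro a c
    rw [Algebra.smul_def, map_mul, hφ, Algebra.smul_def]
    rfl
  let Lb : p.ResidueField →ₗ[A] N →ₗ[A] ((B ⧸ m) ⊗[B] N) :=
    LinearMap.mk₂ A (fun c n => (φ c) ⊗ₜ[B] n)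
      (fun c₁ c₂ n => by rw [map_add, add_tmul])
      (fun a c n => by rw [hsm, TensorProduct.smul_tmul'])
      (fun c n₁ n₂ => by rw [tmul_add])
      (fun a c n => by
        rw [← algebraMap_smul B a n, TensorProduct.tmul_smul, algebraMap_smul])
  refine ⟨TensorProduct.lift Lb, fun n => ?_⟩
  rw [TensorProduct.lift.tmul]
  change (φ 1) ⊗ₜ[B] n = _
  rw [map_one]


theorem H7_S14035 (A : Type u) (B : Type v)
    [CommRing A] [CommRing B] [Algebra A B] [IsNoetherianRing B]
    [Module.Flat A (B ⧸ nilradical B)]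
    (hfib : ∀ p : PrimeSpectrum A, IsReduced (p.asIdeal.ResidueField ⊗[A] B)) :
    IsReduced B := by
  rw [← nilradical_eq_bot_iff]
  set N := nilradical B with hN
  -- N ≤ m • N for every maximal m
  have hle : ∀ (m : Ideal B) [m.IsMaximal], N ≤ m • N := by
    intro m _
    intro n hn
    have : IsReduced ((m.comap (algebraMap A B)).ResidueField ⊗[A] B) :=
      hfib ⟨m.comap (algebraMap A B), inferInstance⟩
    obtain ⟨L, hL⟩ := H7_exists_fibre_to_quot A B m N
    have h0 := hL ⟨n, hn⟩
    rw [H7_fibre_tensor_nil_zero A B (m.comap (algebraMap A B)).ResidueField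
      ((1 : (m.comap (algebraMap A B)).ResidueField) ⊗ₜ[A] (⟨n, hn⟩ : N)), map_zero] at h0
    have h1 := (H7_one_tmul_eq_zero_iff B N m (⟨n, hn⟩ : N)).mp h0.symm
    have h2 : N.subtype (⟨n, hn⟩ : N) ∈ Submodule.map N.subtype (m • (⊤ : Submodule B N)) :=
      Submodule.mem_map_of_mem h1
    rw [Submodule.map_smul'', Submodule.map_subtype_top] at h2
    exact h2
  have hfg : N.FG := (isNoetherianRing_iff_ideal_fg B).mp inferInstance N
  have hann : Submodule.annihilator N = ⊤ := by
    by_contra hne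
    obtain ⟨m, hm, hJm⟩ := Ideal.exists_le_maximal _ hne
    have := hm
    obtain ⟨r, hr1, hr2⟩ :=
      Submodule.exists_sub_one_mem_and_smul_eq_zero_of_fg_of_le_smul m N hfg (hle m)
    have hrJ : r ∈ Submodule.annihilator N := by
      rw [Submodule.mem_annihilator]
      intro n hn
      exact hr2 n hn
    have hrm : r ∈ m := hJm hrJ
    have : (1 : B) ∈ m := by
      have := m.sub_mem hrm hr1
      simpa using this
    exact hm.ne_top ((Ideal.eq_top_iff_one m).mpr this)
  exact Submodule.annihilator_eq_top_iff.mp hann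

theorem H7_S14040 (A : Type u) [CommRing A]
    [IsDomain A] [IsDiscreteValuationRing A] (B : Type v) [CommRing B] [Algebra A B]
    [IsNoetherianRing B] (hirr : (nilradical B).IsPrime)
    (hdom : (nilradical B).comap (algebraMap A B) = ⊥)
    (hfib : ∀ p : PrimeSpectrum A, IsReduced (p.asIdeal.ResidueField ⊗[A] B)) :
    IsReduced B ∧ Module.Flat A B := by
  have := hirr
  have hflat : Module.Flat A (B ⧸ nilradical B) := by
    rw [Module.Flat.flat_iff_torsion_eq_bot_of_isBezout, eq_bot_iff]
    intro x hx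
    rw [Submodule.mem_torsion_iff] at hx
    obtain ⟨a, ha⟩ := hx
    obtain ⟨b, rfl⟩ := Ideal.Quotient.mk_surjective x
    rw [Submodule.mem_bot]
    have h1 : (Ideal.Quotient.mk (nilradical B)) (algebraMap A B a * b) = 0 := by
      rw [← ha, Submonoid.smul_def, ← Algebra.smul_def]
      rfl
    rw [Ideal.Quotient.eq_zero_iff_mem] at h1 ⊢
    rcases Ideal.IsPrime.mem_or_mem hirr h1 with h2 | h2
    · exfalso
      have h3 : (a : A) ∈ (nilradical B).comap (algebraMap A B) := h2
      rw [hdom, Ideal.mem_bot] at h3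
      exact nonZeroDivisors.coe_ne_zero a h3
    · exact h2
  have hred : IsReduced B := H7_S14035 A B hfib
  refine ⟨hred, ?_⟩
  have hbot : nilradical B = ⊥ := nilradical_eq_bot_iff.mpr hred
  exact Module.Flat.of_linearEquiv
    ((Submodule.quotEquivOfEqBot (nilradical B) hbot).symm.restrictScalars A)

end Groth.Agent.Lib.helper7
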