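import Mathlib

universe u

namespace Groth.Agent.Lib.helper7

theorem H7_zmod_decomp (p n : ℕ) [Fact p.Prime] (a : ZMod (p ^ n)) :
    ∃ i : ℕ, i ≤ n ∧ ∃ u : ZMod (p ^ n), IsUnit u ∧ a = u * (p : ZMod (p ^ n)) ^ i := by
  have hp : p.Prime := Fact.out
  have hne : NeZero (p ^ n) := ⟨pow_ne_zero _ hp.ne_zero⟩
  have hpn : ((p : ZMod (p ^ n))) ^ n = 0 := by
    rw [← Nat.cast_pow]; exact ZMod.natCast_self _
  by_cases hm : a.val = 0
  · refine ⟨n, le_rfl, 1, isUnit_one, ?_⟩
    rw [hpn, mul_zero]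
    rwa [ZMod.val_eq_zero] at hm
  · obtain ⟨j, m', hm', hj⟩ := Nat.exists_eq_pow_mul_and_not_dvd hm p hp.ne_one
    have hlt : a.val < p ^ n := ZMod.val_lt a
    have hjn : j ≤ n := by
      by_contra hcon
      push Not at hcon
      have h1 : p ^ n ≤ p ^ j := Nat.pow_le_pow_right hp.pos hcon.le
      have h2 : p ^ j ≤ a.val := by
        rw [hj]
        exact Nat.le_mul_of_pos_right _ (Nat.pos_of_ne_zero (fun h => hm' (h ▸ dvd_zero p)))
      omega
    refine ⟨j, hjn, (m' : ZMod (p ^ n)), ?_, ?_⟩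
    · rw [ZMod.isUnit_iff_coprime]
      apply Nat.Coprime.pow_right
      exact ((Nat.Prime.coprime_iff_not_dvd hp).2 hm').symm
    · rw [← ZMod.natCast_zmod_val a, hj]
      push_cast
      ring

theorem H7_zmod_ann (p n : ℕ) [Fact p.Prime] (i : ℕ) (hi : i ≤ n) (b : ZMod (p ^ n))
    (hb : (p : ZMod (p ^ n)) ^ i * b = 0) : ∃ c : ZMod (p ^ n), b = (p : ZMod (p ^ n)) ^ (n - i) * c := by
  have hp : p.Prime := Fact.out
  obtain ⟨j, hj, u, hu, rfl⟩ := H7_zmod_decomp p n b
  have h1 : (p : ZMod (p ^ n)) ^ (i + j) = 0 := by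
    have : (p : ZMod (p ^ n)) ^ i * (u * (p : ZMod (p ^ n)) ^ j) = u * (p : ZMod (p ^ n)) ^ (i + j) := by
      rw [pow_add]; ring
    rw [this] at hb
    exact (hu.mul_right_eq_zero).1 hb
  rw [← Nat.cast_pow, ZMod.natCast_eq_zero_iff] at h1
  have h2 : n ≤ i + j := (Nat.pow_dvd_pow_iff_le_right hp.one_lt).1 h1
  refine ⟨u * (p : ZMod (p ^ n)) ^ (j - (n - i)), ?_⟩
  have : j = (n - i) + (j - (n - i)) := by omega
  conv_lhs => rw [this, pow_add]
  ring

theorem H7_S17500 (p n : ℕ) [Fact p.Prime]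
    (H : Type u) [AddCommGroup H] [Module (ZMod (p ^ n)) H] :
    Module.Flat (ZMod (p ^ n)) H ↔
      ∀ i : ℕ, i ≤ n →
        LinearMap.ker ((p ^ i : ZMod (p ^ n)) • (LinearMap.id : H →ₗ[ZMod (p ^ n)] H)) =
          LinearMap.range ((p ^ (n - i) : ZMod (p ^ n)) • (LinearMap.id : H →ₗ[ZMod (p ^ n)] H)) := by
  classical
  have hp : p.Prime := Fact.out
  have hpn : ((p : ZMod (p ^ n))) ^ n = 0 := by
    rw [← Nat.cast_pow]; exact ZMod.natCast_self _
  constructor
  · intro hflat i hi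
    apply le_antisymm
    · intro h hh
      simp only [LinearMap.mem_ker, LinearMap.smul_apply, LinearMap.id_apply] at hh
      have hrel : ∑ _j : Unit, (fun _ : Unit => (p : ZMod (p ^ n)) ^ i) _j • (fun _ : Unit => h) _j = 0 := by
        simpa using hh
      obtain ⟨k, a, y, hxy, hfa⟩ := Module.Flat.isTrivialRelation_of_sum_smul_eq_zero hrel
      have hc : ∀ j, ∃ c : ZMod (p ^ n), a () j = (p : ZMod (p ^ n)) ^ (n - i) * c := by
        intro j
        apply H7_zmod_ann p n i hi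
        simpa using hfa j
      choose c hc using hc
      refine ⟨∑ j, c j • y j, ?_⟩
      simp only [LinearMap.smul_apply, LinearMap.id_apply]
      have hxy' : h = ∑ j, a () j • y j := hxy ()
      conv_rhs => rw [hxy']
      rw [Finset.smul_sum]
      apply Finset.sum_congr rfl
      intro j _
      rw [hc j, mul_smul]
    · rintro _ ⟨h, rfl⟩
      simp only [LinearMap.mem_ker, LinearMap.smul_apply, LinearMap.id_apply]
      rw [← mul_smul, ← pow_add, Nat.add_sub_cancel' hi, hpn, zero_smul]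
  · intro hcond
    have hpir : IsPrincipalIdealRing (ZMod (p ^ n)) :=
      IsPrincipalIdealRing.of_surjective (Int.castRingHom (ZMod (p ^ n))) (ZMod.ringHom_surjective _)
    rw [Module.Flat.iff_lift_lsmul_comp_subtype_injective]
    intro I _
    obtain ⟨a, rfl⟩ := (hpir.principal I).principal
    have ha : a ∈ Submodule.span (ZMod (p ^ n)) {a} := Submodule.mem_span_singleton_self a
    have hex : ∀ x : TensorProduct (ZMod (p ^ n)) (Submodule.span (ZMod (p ^ n)) {a}) H,
        ∃ h : H, x = (⟨a, ha⟩ : Submodule.span (ZMod (p ^ n)) {a}) ⊗ₜ[ZMod (p ^ n)] h := by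
      intro x
      induction x using TensorProduct.induction_on with
      | zero => exact ⟨0, by simp⟩
      | tmul b h' =>
        obtain ⟨b, hb⟩ := b
        obtain ⟨c, rfl⟩ := Submodule.mem_span_singleton.1 hb
        refine ⟨c • h', ?_⟩
        rw [← TensorProduct.smul_tmul]
        rfl
      | add x₁ x₂ ih₁ ih₂ =>
        obtain ⟨h₁, rfl⟩ := ih₁
        obtain ⟨h₂, rfl⟩ := ih₂
        exact ⟨h₁ + h₂, (TensorProduct.tmul_add _ _ _).symm⟩
    rw [injective_iff_map_eq_zero]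
    intro x hx
    obtain ⟨h, rfl⟩ := hex x
    simp only [TensorProduct.lift.tmul, LinearMap.comp_apply, Submodule.subtype_apply,
      LinearMap.lsmul_apply] at hx
    obtain ⟨i, hi, u, hu, rfl⟩ := H7_zmod_decomp p n a
    have h1 : (p : ZMod (p ^ n)) ^ i • h = 0 := by
      rw [mul_smul] at hx
      exact (hu.smul_eq_zero).1 hx
    have h2 : h ∈ LinearMap.ker ((p ^ i : ZMod (p ^ n)) • (LinearMap.id : H →ₗ[ZMod (p ^ n)] H)) := by
      simpa using h1
    rw [hcond i hi] at h2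
    obtain ⟨h', rfl⟩ := h2
    simp only [LinearMap.smul_apply, LinearMap.id_apply]
    rw [← TensorProduct.smul_tmul]
    have : ((p : ZMod (p ^ n)) ^ (n - i)) • (⟨u * (p : ZMod (p ^ n)) ^ i, ha⟩ :
        Submodule.span (ZMod (p ^ n)) {u * (p : ZMod (p ^ n)) ^ i}) = 0 := by
      apply Subtype.ext
      simp only [Submodule.coe_smul, smul_eq_mul, ZeroMemClass.coe_zero]
      have : (p : ZMod (p ^ n)) ^ (n - i) * (u * (p : ZMod (p ^ n)) ^ i) = u * (p : ZMod (p ^ n)) ^ n := by
        have hsplit : (p : ZMod (p ^ n)) ^ n = (p : ZMod (p ^ n)) ^ (n - i) * (p : ZMod (p ^ n)) ^ i := by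
          rw [← pow_add, Nat.sub_add_cancel hi]
        rw [hsplit]
        ring
      rw [this, hpn, mul_zero]
    rw [this, TensorProduct.zero_tmul]

end Groth.Agent.Lib.helper7
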