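import Mathlib

open MvPolynomial

theorem H7_finrank_homog (k : Type*) [Field k] (d : ℕ) :
    Module.finrank k (MvPolynomial.homogeneousSubmodule (Fin 3) k d) = Nat.choose (d + 2) 2 := by
  rw [MvPolynomial.homogeneousSubmodule_eq_finsupp_supported]
  rw [(AddMonoidAlgebra.supportedEquivFinsupp (R := k) (S := k) {e : Fin 3 →₀ ℕ | e.degree = d}).finrank_eq]
  rw [Module.finrank_eq_nat_card_basis (Finsupp.basisSingleOne)]
  have hs : {e : Fin 3 →₀ ℕ | e.degree = d} = ↑((Finset.univ : Finset (Fin 3)).finsuppAntidiag d) := by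
    ext e
    simp [Finsupp.degree_eq_sum, Finset.mem_finsuppAntidiag]
  rw [hs]
  rw [Nat.card_coe_set_eq, Set.ncard_coe_finset, Finset.card_finsuppAntidiag_nat_eq_choose]
  simp
  rw [add_comm 2 d, Nat.choose_symm_add]

/-- separating linear form -/
theorem H7_sep_form {k : Type*} [Field k] {σ : Type*} [Fintype σ] [DecidableEq σ] (v w : σ → k)
    (h : LinearIndependent k ![v, w]) :
    ∃ l : MvPolynomial σ k, l.IsHomogeneous 1 ∧ eval v l ≠ 0 ∧ eval w l = 0 := by
  rw [linearIndependent_fin2] at h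
  obtain ⟨hw, hv⟩ := h
  simp only [Matrix.cons_val_one, Matrix.cons_val_zero] at hw hv
  have hmem : v ∉ Submodule.span k {w} := by
    intro hm
    rw [Submodule.mem_span_singleton] at hm
    obtain ⟨a, ha⟩ := hm
    exact hv a ha
  obtain ⟨φ, hφv, hφw⟩ := Submodule.exists_dual_map_eq_bot_of_notMem hmem inferInstance
  have hφw' : φ w = 0 := by
    have : φ w ∈ (Submodule.span k {w}).map φ := Submodule.mem_map_of_mem (Submodule.mem_span_singleton_self w)
    rw [hφw] at this
    simpa using this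
  have hev : ∀ u : σ → k, eval u (∑ i, C (φ (Pi.single i 1)) * X i) = φ u := by
    intro u
    simp only [map_sum, map_mul, eval_C, eval_X]
    conv_rhs => rw [← Finset.univ_sum_single u]
    rw [map_sum]
    refine Finset.sum_congr rfl (fun i _ => ?_)
    have : (Pi.single i (u i) : σ → k) = u i • Pi.single i 1 := by
      ext j
      simp [Pi.single_apply]
    rw [this, map_smul, smul_eq_mul, mul_comm]
  refine ⟨∑ i, C (φ (Pi.single i 1)) * X i, ?_, ?_, ?_⟩
  · apply IsHomogeneous.sum
    intro i _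
    have := (isHomogeneous_C σ (φ (Pi.single i 1))).mul (isHomogeneous_X k i)
    simpa using this
  · rw [hev]; exact hφv
  · rw [hev]; exact hφw'

theorem H7_interp {k : Type*} [Field k] (n : ℕ)
    (Λ : Finset (Fin 3 → k)) (hcard : Λ.card = n)
    (hdist : ∀ v ∈ Λ, ∀ w ∈ Λ, v ≠ w → LinearIndependent k ![v, w]) (v : Fin 3 → k) (hv : v ∈ Λ) :
    ∃ f : MvPolynomial (Fin 3) k, f.IsHomogeneous (n - 1) ∧ eval v f ≠ 0 ∧
      ∀ w ∈ Λ, w ≠ v → eval w f = 0 := by
  classical
  have lin : ∀ w ∈ Λ, w ≠ v → ∃ l : MvPolynomial (Fin 3) k, l.IsHomogeneous 1 ∧ eval v l ≠ 0 ∧ eval w l = 0 :=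
    fun w hw hwv => H7_sep_form v w (hdist v hv w hw (Ne.symm hwv))
  choose! l hl1 hl2 hl3 using lin
  refine ⟨∏ w ∈ Λ.erase v, l w, ?_, ?_, ?_⟩
  · have := IsHomogeneous.prod (Λ.erase v) l (fun _ => 1) (fun w hw => hl1 w (Finset.mem_of_mem_erase hw) (Finset.ne_of_mem_erase hw))
    simpa [Finset.card_erase_of_mem hv, hcard] using this
  · rw [map_prod]
    exact Finset.prod_ne_zero_iff.mpr (fun w hw => hl2 w (Finset.mem_of_mem_erase hw) (Finset.ne_of_mem_erase hw))
  · intro w hw hwv
    rw [map_prod]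
    exact Finset.prod_eq_zero (Finset.mem_erase.mpr ⟨hwv, hw⟩) (hl3 w hw hwv)

theorem H7_forms_points (k : Type*) [Field k] (n : ℕ)
    (Λ : Finset (Fin 3 → k)) (hcard : Λ.card = n)
    (hdist : ∀ v ∈ Λ, ∀ w ∈ Λ, v ≠ w → LinearIndependent k ![v, w]) :
    Module.finrank k ↥(MvPolynomial.homogeneousSubmodule (Fin 3) k (n - 1) ⊓ ⨅ v ∈ Λ, LinearMap.ker (MvPolynomial.aeval v).toLinearMap) + n = Nat.choose (n - 1 + 2) 2 := by
  classical
  set V := MvPolynomial.homogeneousSubmodule (Fin 3) k (n - 1) with hV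
  set K : Submodule k (MvPolynomial (Fin 3) k) := ⨅ v ∈ Λ, LinearMap.ker (MvPolynomial.aeval v).toLinearMap with hK
  let ev : V →ₗ[k] (Λ → k) := LinearMap.pi (fun v => (MvPolynomial.aeval (v : Fin 3 → k)).toLinearMap ∘ₗ V.subtype)
  have hker : LinearMap.ker ev = Submodule.comap V.subtype K := by
    ext f
    simp only [LinearMap.mem_ker, Submodule.mem_comap, hK, Submodule.mem_iInf, ev]
    constructor
    · intro h v hv
      have := congrFun h ⟨v, hv⟩
      simpa using this
    · intro h
      funext v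
      have := h v.1 v.2
      simpa using this
  have h1 : Module.finrank k ↥(V ⊓ K) = Module.finrank k (LinearMap.ker ev) := by
    rw [hker, ← Submodule.map_comap_subtype, Submodule.finrank_map_subtype_eq]
  have hsurj : Function.Surjective ev := by
    intro g
    have key := fun v : Λ => H7_interp n Λ hcard hdist v.1 v.2
    choose F hF1 hF2 hF3 using key
    have hmem : (∑ v : Λ, (g v / eval (v : Fin 3 → k) (F v)) • F v) ∈ V := by
      apply Submodule.sum_mem
      intro v _
      exact Submodule.smul_mem _ _ (hF1 v)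
    refine ⟨⟨_, hmem⟩, ?_⟩
    funext w
    simp only [ev, LinearMap.pi_apply, LinearMap.coe_comp, Function.comp_apply, Submodule.subtype_apply,
      AlgHom.toLinearMap_apply, map_sum, map_smul, smul_eq_mul]
    rw [Finset.sum_eq_single w]
    · exact div_mul_cancel₀ _ (hF2 w)
    · intro v _ hvw
      have := hF3 v w.1 w.2 (fun h => hvw (Subtype.ext h).symm)
      simp only [MvPolynomial.aeval_eq_eval] at this ⊢
      rw [this, mul_zero]
    · simp
  have : Module.Finite k V := Module.Finite.iff_fg.mpr (homogeneousSubmodule_fg (Fin 3) k (n - 1))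
  have h2 := LinearMap.finrank_range_add_finrank_ker ev
  rw [LinearMap.range_eq_top.mpr hsurj, finrank_top, Module.finrank_pi, ← h1, Fintype.card_coe, hcard, H7_finrank_homog] at h2
  omega
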