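import Mathlib
import Groth.Agent.Lib.helper7.Forms

open MvPolynomial

/-- the linear form attached to a functional -/
noncomputable def H7_linForm {k : Type*} [Field k] {σ : Type*} [Fintype σ] [DecidableEq σ]
    (φ : (σ → k) →ₗ[k] k) : MvPolynomial σ k := ∑ i, C (φ (Pi.single i 1)) * X i

theorem H7_linForm_eval {k : Type*} [Field k] {σ : Type*} [Fintype σ] [DecidableEq σ]
    (φ : (σ → k) →ₗ[k] k) (u : σ → k) : eval u (H7_linForm φ) = φ u := by
  unfold H7_linForm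
  simp only [map_sum, map_mul, eval_C, eval_X]
  conv_rhs => rw [← Finset.univ_sum_single u]
  rw [map_sum]
  refine Finset.sum_congr rfl (fun i _ => ?_)
  have : (Pi.single i (u i) : σ → k) = u i • Pi.single i 1 := by
    ext j
    simp [Pi.single_apply]
  rw [this, map_smul, smul_eq_mul, mul_comm]

theorem H7_linForm_homog {k : Type*} [Field k] {σ : Type*} [Fintype σ] [DecidableEq σ]
    (φ : (σ → k) →ₗ[k] k) : (H7_linForm φ).IsHomogeneous 1 := by
  unfold H7_linForm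
  apply IsHomogeneous.sum
  intro i _
  have := (isHomogeneous_C σ (φ (Pi.single i 1))).mul (isHomogeneous_X k i)
  simpa using this

theorem H7_sep_sub {k : Type*} [Field k] {σ : Type*} [Fintype σ] [DecidableEq σ]
    (p : Submodule k (σ → k)) (v : σ → k) (hv : v ∉ p) :
    ∃ l : MvPolynomial σ k, l.IsHomogeneous 1 ∧ eval v l ≠ 0 ∧ ∀ u ∈ p, eval u l = 0 := by
  obtain ⟨φ, hφv, hφp⟩ := Submodule.exists_dual_map_eq_bot_of_notMem hv inferInstance
  refine ⟨H7_linForm φ, H7_linForm_homog φ, by rw [H7_linForm_eval]; exact hφv, ?_⟩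
  intro u hu
  rw [H7_linForm_eval]
  have : φ u ∈ p.map φ := Submodule.mem_map_of_mem hu
  rw [hφp] at this
  exact (Submodule.mem_bot k).mp this

/-- a non-collinear set has two points whose line avoids a given point off the set -/
theorem H7_two_points {k : Type*} [Field k] (Λ' : Finset (Fin 3 → k)) (hne : Λ'.Nonempty)
    (hline' : ¬ ∃ ℓ : (Fin 3 → k) →ₗ[k] k, ℓ ≠ 0 ∧ ∀ v ∈ Λ', ℓ v = 0)
    (v : Fin 3 → k) (hv : ∀ w ∈ Λ', ¬ ∃ c : k, v = c • w) :
    ∃ w1 ∈ Λ', ∃ w2 ∈ Λ', w1 ≠ w2 ∧ v ∉ Submodule.span k {w1, w2} := by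
  classical
  by_contra hcon
  push Not at hcon
  obtain ⟨w1, hw1⟩ := hne
  apply hline'
  -- a nonzero form vanishing on v and w1
  have hlt : Submodule.span k {v, w1} < ⊤ := by
    rw [lt_top_iff_ne_top]
    intro htop
    have h1 : Module.finrank k (Submodule.span k ({v, w1} : Set (Fin 3 → k))) ≤ 2 := by
      have := finrank_span_finset_le_card (R := k) ({v, w1} : Finset (Fin 3 → k))
      have h2 : ({v, w1} : Finset (Fin 3 → k)).card ≤ 2 := Finset.card_le_two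
      rw [Set.finrank, Finset.coe_pair] at this
      omega
    rw [htop, finrank_top] at h1
    simp at h1
  obtain ⟨φ, hφ0, hφ⟩ := Submodule.exists_dual_map_eq_bot_of_lt_top hlt inferInstance
  have hφz : ∀ u ∈ Submodule.span k {v, w1}, φ u = 0 := by
    intro u hu
    have : φ u ∈ (Submodule.span k {v, w1}).map φ := Submodule.mem_map_of_mem hu
    rw [hφ] at this
    exact (Submodule.mem_bot k).mp this
  have hφv : φ v = 0 := hφz v (Submodule.subset_span (by simp))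
  have hφw1 : φ w1 = 0 := hφz w1 (Submodule.subset_span (by simp))
  refine ⟨φ, hφ0, ?_⟩
  intro w2 hw2
  by_cases h12 : w1 = w2
  · rw [← h12]; exact hφw1
  · have hmem := hcon w1 hw1 w2 hw2 h12
    rw [Submodule.mem_span_pair] at hmem
    obtain ⟨a, b, hab⟩ := hmem
    have hb : b ≠ 0 := by
      rintro rfl
      apply hv w1 hw1
      exact ⟨a, by rw [← hab]; simp⟩
    have : φ (a • w1 + b • w2) = 0 := by rw [hab]; exact hφv
    rw [map_add, map_smul, map_smul, hφw1, smul_zero, zero_add, smul_eq_mul] at this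
    exact (mul_eq_zero.mp this).resolve_left hb

theorem H7_sep_points {k : Type*} [Field k] (n : ℕ) (hn : 3 ≤ n) (Λ' : Finset (Fin 3 → k))
    (hcard' : Λ'.card = n)
    (hline' : ¬ ∃ ℓ : (Fin 3 → k) →ₗ[k] k, ℓ ≠ 0 ∧ ∀ v ∈ Λ', ℓ v = 0)
    (v : Fin 3 → k) (hv : ∀ w ∈ Λ', ¬ ∃ c : k, v = c • w) :
    ∃ f : MvPolynomial (Fin 3) k, f.IsHomogeneous (n - 1) ∧ eval v f ≠ 0 ∧
      ∀ w ∈ Λ', eval w f = 0 := by
  classical
  have hne : Λ'.Nonempty := by rw [← Finset.card_pos]; omega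
  obtain ⟨w1, hw1, w2, hw2, h12, hvs⟩ := H7_two_points Λ' hne hline' v hv
  obtain ⟨l0, hl0h, hl0v, hl0⟩ := H7_sep_sub _ v hvs
  have lin : ∀ w ∈ Λ', ∃ l : MvPolynomial (Fin 3) k, l.IsHomogeneous 1 ∧ eval v l ≠ 0 ∧ eval w l = 0 := by
    intro w hw
    have : v ∉ Submodule.span k {w} := by
      intro hm
      rw [Submodule.mem_span_singleton] at hm
      obtain ⟨a, ha⟩ := hm
      exact hv w hw ⟨a, ha.symm⟩
    obtain ⟨l, h1, h2, h3⟩ := H7_sep_sub _ v this
    exact ⟨l, h1, h2, h3 w (Submodule.mem_span_singleton_self w)⟩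
  choose! l hl1 hl2 hl3 using lin
  have hS : ∀ w ∈ (Λ'.erase w1).erase w2, w ∈ Λ' :=
    fun w hw => Finset.mem_of_mem_erase (Finset.mem_of_mem_erase hw)
  refine ⟨l0 * ∏ w ∈ (Λ'.erase w1).erase w2, l w, ?_, ?_, ?_⟩
  · have := hl0h.mul (IsHomogeneous.prod ((Λ'.erase w1).erase w2) l (fun _ => 1)
      (fun w hw => hl1 w (hS w hw)))
    have hc : ((Λ'.erase w1).erase w2).card = n - 2 := by
      rw [Finset.card_erase_of_mem (Finset.mem_erase.mpr ⟨Ne.symm h12, hw2⟩),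
        Finset.card_erase_of_mem hw1, hcard']
      omega
    have e : 1 + ∑ _w ∈ (Λ'.erase w1).erase w2, 1 = n - 1 := by
      rw [Finset.sum_const, hc, smul_eq_mul, mul_one]; omega
    rw [e] at this
    exact this
  · rw [map_mul, map_prod]
    exact mul_ne_zero hl0v (Finset.prod_ne_zero_iff.mpr (fun w hw => hl2 w (hS w hw)))
  · intro w hw
    rw [map_mul, map_prod]
    by_cases h1 : w = w1
    · rw [hl0 w (h1 ▸ Submodule.subset_span (by simp)), zero_mul]
    by_cases h2 : w = w2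
    · rw [hl0 w (h2 ▸ Submodule.subset_span (by simp)), zero_mul]
    · rw [Finset.prod_eq_zero (Finset.mem_erase.mpr ⟨h2, Finset.mem_erase.mpr ⟨h1, hw⟩⟩) (hl3 w hw),
        mul_zero]

theorem H7_points_of_forms_le {k : Type*} [Field k] (n : ℕ) (hn : 3 ≤ n) (Λ Λ' : Finset (Fin 3 → k))
    (hcard' : Λ'.card = n)
    (hline' : ¬ ∃ ℓ : (Fin 3 → k) →ₗ[k] k, ℓ ≠ 0 ∧ ∀ v ∈ Λ', ℓ v = 0)
    (hle : (MvPolynomial.homogeneousSubmodule (Fin 3) k (n - 1) ⊓ ⨅ v ∈ Λ', LinearMap.ker (MvPolynomial.aeval v).toLinearMap) ≤ (MvPolynomial.homogeneousSubmodule (Fin 3) k (n - 1) ⊓ ⨅ v ∈ Λ, LinearMap.ker (MvPolynomial.aeval v).toLinearMap)) :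
    ∀ v ∈ Λ, ∃ w ∈ Λ', ∃ c : k, v = c • w := by
  intro v hv
  by_contra hcon
  push Not at hcon
  obtain ⟨f, hf1, hf2, hf3⟩ := H7_sep_points n hn Λ' hcard' hline' v
    (fun w hw ⟨c, hc⟩ => hcon w hw c hc)
  have hmem : f ∈ (MvPolynomial.homogeneousSubmodule (Fin 3) k (n - 1) ⊓ ⨅ v ∈ Λ', LinearMap.ker (MvPolynomial.aeval v).toLinearMap) := by
    refine Submodule.mem_inf.mpr ⟨hf1, ?_⟩
    simp only [Submodule.mem_iInf, LinearMap.mem_ker, AlgHom.toLinearMap_apply]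
    intro w hw
    rw [MvPolynomial.aeval_eq_eval]
    exact hf3 w hw
  have := (Submodule.mem_inf.mp (hle hmem)).2
  simp only [Submodule.mem_iInf, LinearMap.mem_ker, AlgHom.toLinearMap_apply] at this
  have h2 := this v hv
  rw [MvPolynomial.aeval_eq_eval] at h2
  exact hf2 h2
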