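import Mathlib

universe u

namespace Groth.Agent.Lib.helper7

theorem H7_int_of_pow_mul (p : ℕ) (m : ℕ) (hm : 0 < m) (hmp : Nat.Coprime m p) (i : ℕ) (h : ℤ)
    (hz : Int.fract ((p : ℚ) ^ i * ((h : ℚ) / (m : ℚ))) = 0) :
    ∃ q : ℤ, (h : ℚ) / (m : ℚ) = q := by
  have hm0 : (m : ℚ) ≠ 0 := by exact_mod_cast hm.ne'
  have h1 : (p : ℚ) ^ i * ((h : ℚ) / (m : ℚ)) = (⌊(p : ℚ) ^ i * ((h : ℚ) / (m : ℚ))⌋ : ℚ) := by
    have := Int.self_sub_floor ((p : ℚ) ^ i * ((h : ℚ) / (m : ℚ)))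
    rw [hz] at this
    linarith
  set z := ⌊(p : ℚ) ^ i * ((h : ℚ) / (m : ℚ))⌋ with hzdef
  have h2 : ((p : ℤ) ^ i * h : ℤ) = z * (m : ℤ) := by
    have : ((p : ℚ) ^ i * h) = z * m := by
      field_simp at h1
      linarith
    exact_mod_cast this
  have hdvd : (m : ℤ) ∣ (p : ℤ) ^ i * h := ⟨z, by rw [h2, mul_comm]⟩
  have hcop : IsCoprime (m : ℤ) ((p : ℤ) ^ i) := by
    have : Nat.Coprime m (p ^ i) := Nat.Coprime.pow_right i hmp
    exact_mod_cast (Nat.isCoprime_iff_coprime.2 this)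
  obtain ⟨q, hq⟩ := hcop.dvd_of_dvd_mul_left hdvd
  refine ⟨q, ?_⟩
  rw [hq]
  push_cast
  field_simp

theorem H7_S16983
    {B : Type u} [Fintype B] [DecidableEq B] (B₀ : Finset B) (hB₀ : B₀.card = 3)
    (p : ℕ) (hp : p.Prime) (s : ℕ) (hs : 0 < s)
    (m : B → ℕ) (hm : ∀ j, 0 < m j) (hmp : ∀ j, Nat.Coprime (m j) p)
    (σ : Fin s → B → ℚ) (hint : ∀ i j, ∃ h : ℤ, σ i j = (h : ℚ) / (m j : ℚ))
    (hsum : ∀ i, ∑ j, (σ i j - 1) = -2)
    (hfract : ∀ i j, Int.fract (σ i j) = Int.fract ((p : ℚ) ^ (i : ℕ) * σ ⟨0, hs⟩ j))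
    (hne : ∀ i j, σ i j ≠ 1)
    (hB₀min : ∀ j ∈ B₀, (∃ i, ⌊σ i j⌋ = 0) ∧ ∀ i, 0 ≤ ⌊σ i j⌋)
    (hBmin : ∀ j ∉ B₀, (∃ i, ⌊σ i j⌋ = 1) ∧ ∀ i, 1 ≤ ⌊σ i j⌋) :
    (∀ i, ∑ j, Int.fract (σ i j) = 1) ∧ (∀ i j, ⌊σ i j⌋ = if j ∈ B₀ then 0 else 1) := by
  classical
  set c : B → ℤ := fun j => if j ∈ B₀ then 0 else 1 with hc
  have hcle : ∀ i j, c j ≤ ⌊σ i j⌋ := by
    intro i j
    simp only [hc]
    split_ifs with h
    · exact (hB₀min j h).2 i
    · exact (hBmin j h).2 i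
  have hcsum : ∑ j, c j = (Fintype.card B : ℤ) - 3 := by
    simp only [hc]
    rw [Finset.sum_ite, Finset.sum_const_zero, zero_add, Finset.sum_const, nsmul_eq_mul, mul_one]
    have h1 : (Finset.univ.filter (fun j => ¬ j ∈ B₀)) = Finset.univ \ B₀ := by
      ext j; simp
    rw [h1, Finset.card_sdiff_of_subset (Finset.subset_univ _), hB₀, Finset.card_univ]
    have : 3 ≤ Fintype.card B := by
      rw [← hB₀]; exact Finset.card_le_univ _
    push_cast [Nat.cast_sub this]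
    ring
  -- sum decomposition
  have hdec : ∀ i, ((∑ j, ⌊σ i j⌋ : ℤ) : ℚ) + ∑ j, Int.fract (σ i j) = (Fintype.card B : ℚ) - 2 := by
    intro i
    have h1 := hsum i
    rw [Finset.sum_sub_distrib, Finset.sum_const, Finset.card_univ, nsmul_eq_mul, mul_one] at h1
    have h2 : ∑ j, σ i j = ((∑ j, ⌊σ i j⌋ : ℤ) : ℚ) + ∑ j, Int.fract (σ i j) := by
      push_cast
      rw [← Finset.sum_add_distrib]
      exact Finset.sum_congr rfl (fun j _ => (Int.floor_add_fract (σ i j)).symm)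
    rw [← h2]; linarith
  have hLge : ∀ i, (Fintype.card B : ℤ) - 3 ≤ ∑ j, ⌊σ i j⌋ := by
    intro i; rw [← hcsum]; exact Finset.sum_le_sum (fun j _ => hcle i j)
  have hF01 : ∀ i, ∑ j, Int.fract (σ i j) = 0 ∨ ∑ j, Int.fract (σ i j) = 1 := by
    intro i
    have h1 := hdec i
    have h2 : (0 : ℚ) ≤ ∑ j, Int.fract (σ i j) := Finset.sum_nonneg (fun j _ => Int.fract_nonneg _)
    have h3 : ∑ j, Int.fract (σ i j) = (((Fintype.card B : ℤ) - 2 - ∑ j, ⌊σ i j⌋ : ℤ) : ℚ) := by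
      push_cast; push_cast at h1; linarith
    have h4 : (0 : ℤ) ≤ (Fintype.card B : ℤ) - 2 - ∑ j, ⌊σ i j⌋ := by
      rw [h3] at h2; exact_mod_cast h2
    have h5 := hLge i
    have h6 : (Fintype.card B : ℤ) - 2 - ∑ j, ⌊σ i j⌋ = 0 ∨ (Fintype.card B : ℤ) - 2 - ∑ j, ⌊σ i j⌋ = 1 := by
      omega
    rcases h6 with h6 | h6
    · left; rw [h3, h6]; simp
    · right; rw [h3, h6]; simp
  have hFne : ∀ i, ∑ j, Int.fract (σ i j) ≠ 0 := by
    intro i₀ h0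
    have hfr0 : ∀ j, Int.fract (σ i₀ j) = 0 := by
      intro j
      exact (Finset.sum_eq_zero_iff_of_nonneg (fun j _ => Int.fract_nonneg _)).1 h0 j (Finset.mem_univ j)
    -- σ 0 j integer
    have hint0 : ∀ j, ∃ q : ℤ, σ ⟨0, hs⟩ j = q := by
      intro j
      obtain ⟨h, hh⟩ := hint ⟨0, hs⟩ j
      rw [hh]
      refine H7_int_of_pow_mul p (m j) (hm j) (hmp j) (i₀ : ℕ) h ?_
      rw [← hh, ← hfract i₀ j]; exact hfr0 j
    have hall : ∀ i j, σ i j = (⌊σ i j⌋ : ℚ) := by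
      intro i j
      obtain ⟨q, hq⟩ := hint0 j
      have h1 : Int.fract (σ i j) = 0 := by
        rw [hfract i j, hq]
        have : (p : ℚ) ^ (i : ℕ) * (q : ℚ) = (((p : ℤ) ^ (i : ℕ) * q : ℤ) : ℚ) := by push_cast; ring
        rw [this]; exact Int.fract_intCast _
      have := Int.self_sub_floor (σ i j)
      rw [h1] at this; linarith
    have hne1 : ∀ i j, ⌊σ i j⌋ ≠ 1 := by
      intro i j h
      apply hne i j
      rw [hall i j, h]; simp
    have hBall : ∀ j, j ∈ B₀ := by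
      intro j
      by_contra hj
      obtain ⟨i, hi⟩ := (hBmin j hj).1
      exact hne1 i j hi
    have hcard : (Fintype.card B : ℤ) = 3 := by
      have : B₀ = Finset.univ := Finset.eq_univ_iff_forall.2 hBall
      rw [← Finset.card_univ, ← this, hB₀]; rfl
    have hL : ∑ j, ⌊σ i₀ j⌋ = 1 := by
      have h1 := hdec i₀
      rw [h0, add_zero] at h1
      have : ((∑ j, ⌊σ i₀ j⌋ : ℤ) : ℚ) = (((Fintype.card B : ℤ) - 2 : ℤ) : ℚ) := by
        rw [h1]; push_cast; ring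
      have := Int.cast_injective this
      rw [this, hcard]; norm_num
    have hnn : ∀ j, 0 ≤ ⌊σ i₀ j⌋ := fun j => (hB₀min j (hBall j)).2 i₀
    by_cases hex : ∃ j, 2 ≤ ⌊σ i₀ j⌋
    · obtain ⟨j, hj⟩ := hex
      have := Finset.single_le_sum (f := fun j => ⌊σ i₀ j⌋) (fun j _ => hnn j) (Finset.mem_univ j)
      omega
    · push Not at hex
      have : ∀ j, ⌊σ i₀ j⌋ = 0 := by
        intro j
        have h1 := hnn j
        have h2 := hex j
        have h3 := hne1 i₀ j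
        omega
      rw [Finset.sum_eq_zero (fun j _ => this j)] at hL
      exact absurd hL (by norm_num)
  have hF1 : ∀ i, ∑ j, Int.fract (σ i j) = 1 := fun i => (hF01 i).resolve_left (hFne i)
  refine ⟨hF1, ?_⟩
  intro i j
  have h1 := hdec i
  rw [hF1 i] at h1
  have h2 : ∑ j, ⌊σ i j⌋ = ∑ j, c j := by
    rw [hcsum]
    have : ((∑ j, ⌊σ i j⌋ : ℤ) : ℚ) = (((Fintype.card B : ℤ) - 3 : ℤ) : ℚ) := by
      push_cast; push_cast at h1; linarith
    exact Int.cast_injective this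
  have h3 := (Finset.sum_eq_sum_iff_of_le (fun j _ => hcle i j)).1 h2.symm j (Finset.mem_univ j)
  rw [← h3]

end Groth.Agent.Lib.helper7
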