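import Mathlib

set_option autoImplicit false

namespace Groth.Agent.Lib.helper7
open Matrix

/-- a 2x2 integer matrix with a nonzero fixed vector has `det - tr + 1 = 0` -/
theorem H7_fix_det (M : Matrix (Fin 2) (Fin 2) ℤ) (v : Fin 2 → ℤ) (hv : v ≠ 0) (hM : M *ᵥ v = v) :
    M 0 0 * M 1 1 - M 0 1 * M 1 0 - (M 0 0 + M 1 1) + 1 = 0 := by
  have h0 : (M - 1) *ᵥ v = 0 := by rw [Matrix.sub_mulVec, hM, Matrix.one_mulVec, sub_self]
  have hdet : (M - 1).det = 0 := Matrix.exists_mulVec_eq_zero_iff.mp ⟨v, hv, h0⟩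
  rw [Matrix.det_fin_two] at hdet
  simp only [Matrix.sub_apply, Matrix.one_apply_eq, Matrix.one_apply_ne, ne_eq, zero_ne_one,
    one_ne_zero, not_false_eq_true, sub_zero] at hdet
  linarith

/-- a finite-order 2x2 integer matrix of determinant one with a nonzero fixed vector is the identity -/
theorem H7_eq_one_of_det_one (M : Matrix (Fin 2) (Fin 2) ℤ) (v : Fin 2 → ℤ) (hv : v ≠ 0)
    (hM : M *ᵥ v = v) (hdet : M.det = 1) (n : ℕ) (hn : 0 < n) (hpow : M ^ n = 1) : M = 1 := by
  have h1 := H7_fix_det M v hv hM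
  rw [Matrix.det_fin_two] at hdet
  have htr : M 0 0 + M 1 1 = 2 := by linarith
  have hN : (M - 1) * (M - 1) = 0 := by
    ext i j
    fin_cases i <;> fin_cases j <;>
      simp [Matrix.mul_apply, Fin.sum_univ_two, Matrix.sub_apply, Matrix.one_apply]
    · linear_combination (M 0 0) * htr - hdet
    · linear_combination (M 0 1) * htr
    · linear_combination (M 1 0) * htr
    · linear_combination (M 1 1) * htr - hdet
  have hgen : ∀ (N : Matrix (Fin 2) (Fin 2) ℤ), N * N = 0 → ∀ k : ℕ, (1 + N) ^ k = 1 + k • N := by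
    intro N hNN k
    induction k with
    | zero => simp
    | succ k ih =>
      rw [pow_succ, ih, mul_add, mul_one, add_mul, one_mul, smul_mul_assoc, hNN, smul_zero,
        add_zero, succ_nsmul]
      abel
  have hpowk : ∀ k : ℕ, M ^ k = 1 + k • (M - 1) := by
    intro k
    have := hgen (M - 1) hN k
    rwa [add_sub_cancel] at this
  have := hpowk n
  rw [hpow] at this
  have h2 : n • (M - 1) = 0 := by
    have : (1 : Matrix (Fin 2) (Fin 2) ℤ) + n • (M - 1) = 1 + 0 := by rw [← this, add_zero]
    exact add_left_cancel this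
  have h3 : M - 1 = 0 := by
    ext i j
    have := congrFun (congrFun h2 i) j
    simp only [Matrix.smul_apply, Matrix.zero_apply, nsmul_eq_mul] at this
    rcases mul_eq_zero.mp this with h | h
    · exfalso; have : (n : ℤ) ≠ 0 := by exact_mod_cast hn.ne'
      exact this h
    · simpa using h
  exact sub_eq_zero.mp h3

end Groth.Agent.Lib.helper7
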