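import Mathlib

set_option autoImplicit false

namespace Groth.Agent.Lib.helper7
open Matrix

/-- Cayley–Hamilton for 2x2 integer matrices -/
theorem H7_ch2 (M : Matrix (Fin 2) (Fin 2) ℤ) :
    M * M = M.trace • M - M.det • (1 : Matrix (Fin 2) (Fin 2) ℤ) := by
  ext i j
  fin_cases i <;> fin_cases j <;>
    simp only [Matrix.mul_apply, Fin.sum_univ_two, Matrix.trace_fin_two, Matrix.det_fin_two,
      Matrix.one_apply, Matrix.sub_apply, Matrix.smul_apply, smul_eq_mul, Fin.zero_eta, Fin.mk_one,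
      Fin.isValue, if_true, if_false, zero_ne_one, one_ne_zero, mul_one, mul_zero, sub_zero] <;> ring

theorem H7_trace_rec (M : Matrix (Fin 2) (Fin 2) ℤ) (k : ℕ) :
    (M ^ (k + 2)).trace = M.trace * (M ^ (k + 1)).trace - M.det * (M ^ k).trace := by
  have h : M ^ (k + 2) = M.trace • M ^ (k + 1) - M.det • M ^ k := by
    rw [pow_add, pow_two, H7_ch2, mul_sub, mul_smul_comm, mul_smul_comm, mul_one, ← pow_succ]
  rw [h, Matrix.trace_sub, Matrix.trace_smul, Matrix.trace_smul, smul_eq_mul, smul_eq_mul]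

/-- a finite-order 2x2 integer matrix of determinant ±1 has |trace| ≤ 2 -/
theorem H7_abs_trace_le (M : Matrix (Fin 2) (Fin 2) ℤ) (hdet : M.det = 1 ∨ M.det = -1)
    (n : ℕ) (hn : 0 < n) (hpow : M ^ n = 1) : |M.trace| ≤ 2 := by
  by_contra hcon
  push Not at hcon
  have h3 : 3 ≤ |M.trace| := by omega
  have hd : |M.det| = 1 := by rcases hdet with h | h <;> rw [h] <;> simp
  have key : ∀ k : ℕ, |(M ^ k).trace| < |(M ^ (k + 1)).trace| ∧ 2 ≤ |(M ^ k).trace| := by
    intro k
    induction k with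
    | zero =>
      simp only [pow_zero, zero_add, pow_one, Matrix.trace_one, Fintype.card_fin]
      constructor
      · have : |((2 : ℕ) : ℤ)| = 2 := by norm_num
        rw [this]; omega
      · norm_num
    | succ k ih =>
      obtain ⟨ih1, ih2⟩ := ih
      constructor
      · rw [show k + 1 + 1 = k + 2 from rfl, H7_trace_rec]
        have h1 : |M.trace * (M ^ (k + 1)).trace - M.det * (M ^ k).trace| ≥
            |M.trace * (M ^ (k + 1)).trace| - |M.det * (M ^ k).trace| := by
          have := abs_sub_abs_le_abs_sub (M.trace * (M ^ (k + 1)).trace) (M.det * (M ^ k).trace)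
          linarith
        rw [abs_mul, abs_mul, hd, one_mul] at h1
        have h2 : 3 * |(M ^ (k + 1)).trace| ≤ |M.trace| * |(M ^ (k + 1)).trace| :=
          mul_le_mul_of_nonneg_right h3 (abs_nonneg _)
        have h4 : 0 ≤ |(M ^ k).trace| := abs_nonneg _
        linarith
      · omega
  have h1 := key (n - 1)
  have hn' : n - 1 + 1 = n := by omega
  rw [hn', hpow] at h1
  simp only [Matrix.trace_one, Fintype.card_fin] at h1
  have : |((2 : ℕ) : ℤ)| = 2 := by norm_num
  rw [this] at h1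
  omega

end Groth.Agent.Lib.helper7

namespace Groth.Agent.Lib.helper7
open Matrix

theorem H7_det_sub_one (M : Matrix (Fin 2) (Fin 2) ℤ) : (M - 1).det = M.det - M.trace + 1 := by
  rw [Matrix.det_fin_two, Matrix.det_fin_two, Matrix.trace_fin_two]
  simp only [Matrix.sub_apply, Matrix.one_apply_eq, Matrix.one_apply_ne, ne_eq, zero_ne_one,
    one_ne_zero, not_false_eq_true, sub_zero]
  ring

theorem H7_fixvec_of_mod (M : Matrix (Fin 2) (Fin 2) ℤ) (hdet : M.det = 1 ∨ M.det = -1)
    (n : ℕ) (hn : 0 < n) (hpow : M ^ n = 1) (d : ℕ) (hd : 6 < d)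
    (w : Fin 2 → ZMod d) (hw : ∀ m : ℕ, 0 < m → m < d → m • w ≠ 0)
    (hfix : (M.map (Int.castRingHom (ZMod d))) *ᵥ w = w) :
    ∃ v : Fin 2 → ℤ, v ≠ 0 ∧ M *ᵥ v = v := by
  have htr := H7_abs_trace_le M hdet n hn hpow
  have hN : ((M - 1).map (Int.castRingHom (ZMod d))) *ᵥ w = 0 := by
    have h1 : (M - 1).map (Int.castRingHom (ZMod d)) = M.map (Int.castRingHom (ZMod d)) - 1 := by
      ext i j
      simp [Matrix.map_apply, Matrix.sub_apply, Matrix.one_apply]
    rw [h1, Matrix.sub_mulVec, hfix, Matrix.one_mulVec, sub_self]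
  have hdetN : ((Int.castRingHom (ZMod d)) (M - 1).det) • w = 0 := by
    have h1 : (Int.castRingHom (ZMod d)) (M - 1).det =
        ((M - 1).map (Int.castRingHom (ZMod d))).det := by
      rw [RingHom.map_det, RingHom.mapMatrix_apply]
    rw [h1]
    have h2 := Matrix.adjugate_mul ((M - 1).map (Int.castRingHom (ZMod d)))
    have h3 : (((M - 1).map (Int.castRingHom (ZMod d))).adjugate *
        ((M - 1).map (Int.castRingHom (ZMod d)))) *ᵥ w = 0 := by
      rw [← Matrix.mulVec_mulVec, hN, Matrix.mulVec_zero]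
    rw [h2, Matrix.smul_mulVec, Matrix.one_mulVec] at h3
    exact h3
  have hdvd : (d : ℤ) ∣ (M - 1).det := by
    have hd0 : (d : ℤ) ≠ 0 := by exact_mod_cast (by omega : d ≠ 0)
    set D := (M - 1).det with hD
    have hm0 : 0 ≤ D % (d : ℤ) := Int.emod_nonneg _ hd0
    have hm1 : D % (d : ℤ) < d := Int.emod_lt_of_pos _ (by exact_mod_cast (by omega : 0 < d))
    by_contra hnd
    have hne : D % (d : ℤ) ≠ 0 := fun h => hnd (Int.dvd_of_emod_eq_zero h)
    have hcast : ((D % (d : ℤ)).toNat : ZMod d) = (Int.castRingHom (ZMod d)) D := by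
      have h1 : (((D % (d : ℤ)).toNat : ℤ) : ZMod d) = ((D % (d : ℤ) : ℤ) : ZMod d) := by
        rw [Int.toNat_of_nonneg hm0]
      rw [Int.cast_natCast] at h1
      rw [h1]
      simp
    have := hw (D % (d : ℤ)).toNat (by omega) (by omega)
    apply this
    rw [← Nat.cast_smul_eq_nsmul (ZMod d), hcast]
    exact hdetN
  have hzero : (M - 1).det = 0 := by
    apply Int.eq_zero_of_abs_lt_dvd hdvd
    rw [H7_det_sub_one]
    have h1 : |M.det| = 1 := by rcases hdet with h | h <;> rw [h] <;> simp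
    have h2 : |M.det - M.trace + 1| ≤ |M.det| + |M.trace| + 1 := by
      have := abs_add_le (M.det - M.trace) 1
      have h3 := abs_sub (M.det) (M.trace)
      simp only [abs_one] at this
      linarith
    have : (6 : ℤ) < d := by exact_mod_cast hd
    linarith
  obtain ⟨v, hv, hv0⟩ := Matrix.exists_mulVec_eq_zero_iff.mpr hzero
  refine ⟨v, hv, ?_⟩
  rw [Matrix.sub_mulVec, Matrix.one_mulVec, sub_eq_zero] at hv0
  exact hv0

end Groth.Agent.Lib.helper7
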