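import Mathlib

namespace Groth.Agent.Lib.helper7
universe u

/-- exponent vector `(i, j)` -/
noncomputable def H7_ij (i j : ℕ) : Fin 2 →₀ ℕ := Finsupp.single 0 i + Finsupp.single 1 j

theorem H7_ij_inj {i j k l : ℕ} : H7_ij k l = H7_ij i j ↔ k = i ∧ l = j := by
  constructor
  · intro h
    have h0 := DFunLike.congr_fun h 0
    have h1 := DFunLike.congr_fun h 1
    simp [H7_ij] at h0 h1
    exact ⟨h0, h1⟩
  · rintro ⟨rfl, rfl⟩; rfl

theorem H7_X_pow_mul {A : Type u} [CommRing A] (k l : ℕ) :
    (MvPolynomial.X 0 ^ k * MvPolynomial.X 1 ^ l : MvPolynomial (Fin 2) A) =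
      MvPolynomial.monomial (H7_ij k l) 1 := by
  rw [MvPolynomial.X_pow_eq_monomial, MvPolynomial.X_pow_eq_monomial, MvPolynomial.monomial_mul,
    one_mul]
  rfl

theorem H7_coeff_XX {A : Type u} [CommRing A] (i j k l : ℕ) (a : A) :
    MvPolynomial.coeff (H7_ij i j)
      (MvPolynomial.C a * (MvPolynomial.X 0 ^ k * MvPolynomial.X 1 ^ l) : MvPolynomial (Fin 2) A) =
      if k = i ∧ l = j then a else 0 := by
  classical
  rw [H7_X_pow_mul, MvPolynomial.C_mul_monomial, MvPolynomial.coeff_monomial, mul_one]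
  simp only [H7_ij_inj]

theorem H7_coeff_add_pow {A : Type u} [CommRing A] (i j m : ℕ) :
    MvPolynomial.coeff (H7_ij i j)
      ((MvPolynomial.X 0 + MvPolynomial.X 1) ^ m : MvPolynomial (Fin 2) A) =
      if i + j = m then (m.choose i : A) else 0 := by
  classical
  rw [add_pow, MvPolynomial.coeff_sum]
  have : ∀ k ∈ Finset.range (m + 1), MvPolynomial.coeff (H7_ij i j)
      ((MvPolynomial.X 0 ^ k * MvPolynomial.X 1 ^ (m - k) * (m.choose k : MvPolynomial (Fin 2) A))) =
      if k = i ∧ m - k = j then (m.choose k : A) else 0 := by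
    intro k _
    have e : (MvPolynomial.X 0 ^ k * MvPolynomial.X 1 ^ (m - k) * (m.choose k : MvPolynomial (Fin 2) A)) =
        MvPolynomial.C (m.choose k : A) * (MvPolynomial.X 0 ^ k * MvPolynomial.X 1 ^ (m - k)) := by
      rw [mul_comm, map_natCast]
    rw [e, H7_coeff_XX]
  rw [Finset.sum_congr rfl this]
  by_cases h : i + j = m
  · rw [if_pos h]
    rw [Finset.sum_eq_single i]
    · rw [if_pos ⟨rfl, by omega⟩]
    · intro k _ hk
      rw [if_neg (fun hh => hk hh.1)]
    · intro hi
      exfalso; apply hi; rw [Finset.mem_range]; omega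
  · rw [if_neg h]
    apply Finset.sum_eq_zero
    intro k hk
    rw [Finset.mem_range] at hk
    rw [if_neg]
    rintro ⟨rfl, h2⟩
    apply h; omega

theorem H7_coeff_aeval_add {A : Type u} [CommRing A] (f : Polynomial A) (i j : ℕ) :
    MvPolynomial.coeff (H7_ij i j)
      (Polynomial.aeval (MvPolynomial.X 0 + MvPolynomial.X 1 : MvPolynomial (Fin 2) A) f) =
      ((i + j).choose i : A) * f.coeff (i + j) := by
  classical
  induction f using Polynomial.induction_on' with
  | add p q hp hq => rw [map_add, MvPolynomial.coeff_add, hp, hq, Polynomial.coeff_add, mul_add]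
  | monomial m c =>
    rw [← Polynomial.C_mul_X_pow_eq_monomial, map_mul, Polynomial.aeval_C, map_pow,
      Polynomial.aeval_X, MvPolynomial.algebraMap_eq, MvPolynomial.coeff_C_mul, H7_coeff_add_pow,
      Polynomial.coeff_C_mul, Polynomial.coeff_X_pow]
    by_cases h : i + j = m
    · rw [if_pos h, if_pos h, h]; ring
    · rw [if_neg h, if_neg h]; ring

theorem H7_coeff_aeval_mul {A : Type u} [CommRing A] (f g : Polynomial A) (i j : ℕ) :
    MvPolynomial.coeff (H7_ij i j)
      (Polynomial.aeval (MvPolynomial.X 0 : MvPolynomial (Fin 2) A) f *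
        Polynomial.aeval (MvPolynomial.X 1 : MvPolynomial (Fin 2) A) g) =
      f.coeff i * g.coeff j := by
  classical
  induction f using Polynomial.induction_on' with
  | add p q hp hq => rw [map_add, add_mul, MvPolynomial.coeff_add, hp, hq, Polynomial.coeff_add, add_mul]
  | monomial k a =>
    induction g using Polynomial.induction_on' with
    | add p q hp hq => rw [map_add, mul_add, MvPolynomial.coeff_add, hp, hq, Polynomial.coeff_add, mul_add]
    | monomial l b =>
      rw [← Polynomial.C_mul_X_pow_eq_monomial, ← Polynomial.C_mul_X_pow_eq_monomial, map_mul, map_mul,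
        Polynomial.aeval_C, Polynomial.aeval_C, map_pow, map_pow, Polynomial.aeval_X,
        Polynomial.aeval_X, MvPolynomial.algebraMap_eq]
      have e : (MvPolynomial.C a * MvPolynomial.X 0 ^ k * (MvPolynomial.C b * MvPolynomial.X 1 ^ l) :
          MvPolynomial (Fin 2) A) = MvPolynomial.C (a * b) * (MvPolynomial.X 0 ^ k * MvPolynomial.X 1 ^ l) := by
        rw [map_mul]; ring
      rw [e, H7_coeff_XX, Polynomial.coeff_C_mul, Polynomial.coeff_C_mul, Polynomial.coeff_X_pow,
        Polynomial.coeff_X_pow]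
      by_cases h1 : k = i
      · by_cases h2 : l = j
        · rw [if_pos ⟨h1, h2⟩, if_pos h1.symm, if_pos h2.symm]; ring
        · rw [if_neg (fun h => h2 h.2), if_pos h1.symm, if_neg (fun h => h2 h.symm)]; ring
      · rw [if_neg (fun h => h1 h.1), if_neg (fun h => h1 h.symm)]; ring

theorem H7_eq_ij (m : Fin 2 →₀ ℕ) : m = H7_ij (m 0) (m 1) := by
  ext x
  fin_cases x <;> simp [H7_ij]

theorem H7_char_iff {A : Type u} [CommRing A] (f : Polynomial A) :
    Polynomial.aeval (MvPolynomial.X 0 + MvPolynomial.X 1 : MvPolynomial (Fin 2) A) f =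
      Polynomial.aeval (MvPolynomial.X 0 : MvPolynomial (Fin 2) A) f *
        Polynomial.aeval (MvPolynomial.X 1 : MvPolynomial (Fin 2) A) f ↔
    ∀ i j : ℕ, ((i + j).choose i : A) * f.coeff (i + j) = f.coeff i * f.coeff j := by
  constructor
  · intro h i j
    rw [← H7_coeff_aeval_add, ← H7_coeff_aeval_mul, h]
  · intro h
    ext m
    rw [H7_eq_ij m, H7_coeff_aeval_add, H7_coeff_aeval_mul, h]

end Groth.Agent.Lib.helper7
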