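import Mathlib
import Groth.Agent.Lib.helper7.GaChar

namespace Groth.Agent.Lib.helper7
universe u

theorem H7_lucas1 (p : ℕ) [Fact p.Prime] (j : ℕ) : ∀ k : ℕ,
    (j * p ^ k).choose (p ^ k) ≡ j [MOD p] := by
  have hp : 0 < p := (Fact.out : p.Prime).pos
  intro k
  induction k with
  | zero => simp [Nat.ModEq]
  | succ k ih =>
    have h := Choose.choose_modEq_choose_mod_mul_choose_div_nat (p := p) (n := j * p ^ (k + 1))
      (k := p ^ (k + 1))
    have e1 : j * p ^ (k + 1) % p = 0 := by
      rw [pow_succ, ← mul_assoc]; exact Nat.mul_mod_left _ _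
    have e2 : p ^ (k + 1) % p = 0 := by
      rw [pow_succ]; exact Nat.mul_mod_left _ _
    have e3 : j * p ^ (k + 1) / p = j * p ^ k := by
      rw [pow_succ, ← mul_assoc]; exact Nat.mul_div_cancel _ hp
    have e4 : p ^ (k + 1) / p = p ^ k := by
      rw [pow_succ]; exact Nat.mul_div_cancel _ hp
    rw [e1, e2, e3, e4, Nat.choose_self, one_mul] at h
    exact h.trans ih

theorem H7_lucas2 (p : ℕ) [Fact p.Prime] (j : ℕ) : ∀ k : ℕ, ∀ m : ℕ, m < p ^ k →
    (m + j * p ^ k).choose m ≡ 1 [MOD p] := by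
  have hp : 0 < p := (Fact.out : p.Prime).pos
  intro k
  induction k with
  | zero =>
    intro m hm
    have : m = 0 := by simpa using hm
    subst this
    simp [Nat.ModEq]
  | succ k ih =>
    intro m hm
    have h := Choose.choose_modEq_choose_mod_mul_choose_div_nat (p := p) (n := m + j * p ^ (k + 1))
      (k := m)
    have e1 : (m + j * p ^ (k + 1)) % p = m % p := by
      rw [pow_succ, ← mul_assoc]; exact Nat.add_mul_mod_self_right _ _ _
    have e3 : (m + j * p ^ (k + 1)) / p = m / p + j * p ^ k := by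
      rw [pow_succ, ← mul_assoc]; exact Nat.add_mul_div_right _ _ hp
    have hm' : m / p < p ^ k := by
      rw [Nat.div_lt_iff_lt_mul hp, ← pow_succ]; exact hm
    rw [e1, e3, Nat.choose_self, one_mul] at h
    exact h.trans (ih _ hm')

theorem H7_isUnit_factorial (p : ℕ) [Fact p.Prime] (A : Type u) [CommRing A] [CharP A p] (j : ℕ)
    (hj : j < p) : IsUnit ((j.factorial : ℕ) : A) := by
  have hp : p.Prime := Fact.out
  rw [CharP.isUnit_natCast_iff hp, hp.dvd_factorial]
  omega

theorem H7_sum_range_mul {M : Type*} [AddCommMonoid M] (F : ℕ → M) (a b : ℕ) :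
    ∑ m ∈ Finset.range (a * b), F m = ∑ j ∈ Finset.range b, ∑ m ∈ Finset.range a, F (a * j + m) := by
  induction b with
  | zero => simp
  | succ b ih => rw [Nat.mul_succ, Finset.sum_range_add, ih, Finset.sum_range_succ]

/-- The truncated exponential factor. -/
noncomputable def H7_E (p : ℕ) {A : Type u} [CommRing A] (a : A) (k : ℕ) : Polynomial A :=
  ∑ j ∈ Finset.range p, Polynomial.C (Ring.inverse ((j.factorial : ℕ) : A) * a ^ j) *
    Polynomial.X ^ (j * p ^ k)

theorem H7_char_core (p : ℕ) [Fact p.Prime] (A : Type u) [CommRing A] [CharP A p] (c : ℕ → A)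
    (n : ℕ) (hc0 : c 0 = 1)
    (hrel : ∀ i j : ℕ, i < p ^ n → j < p ^ n → ((i + j).choose i : A) * c (i + j) = c i * c j) :
    (∀ k, k < n → c (p ^ k) ^ p = 0) ∧
    ∀ n', n' ≤ n → ∑ m ∈ Finset.range (p ^ n'), Polynomial.C (c m) * Polynomial.X ^ m =
      ∏ k ∈ Finset.range n', H7_E p (c (p ^ k)) k := by
  classical
  have hp : p.Prime := Fact.out
  have hppos : 0 < p := hp.pos
  have hlt : ∀ k, k < n → ∀ j, j < p → j * p ^ k < p ^ n := by
    intro k hk j hj
    calc j * p ^ k < p * p ^ k := Nat.mul_lt_mul_of_pos_right hj (pow_pos hppos k)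
      _ = p ^ (k + 1) := by rw [pow_succ, mul_comm]
      _ ≤ p ^ n := Nat.pow_le_pow_right hppos hk
  -- (2a): step relation
  have hstep : ∀ k, k < n → ∀ j, j < p → ((j + 1 : ℕ) : A) * c ((j + 1) * p ^ k) =
      c (p ^ k) * c (j * p ^ k) := by
    intro k hk j hj
    have h1 := hrel (p ^ k) (j * p ^ k) (by simpa using hlt k hk 1 hp.one_lt) (hlt k hk j hj)
    have e : p ^ k + j * p ^ k = (j + 1) * p ^ k := by ring
    rw [e] at h1
    rw [← h1]
    congr 1
    exact CharP.natCast_eq_natCast' A p (H7_lucas1 p (j + 1) k).symm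
  have h2 : ∀ k, k < n → ∀ j, j ≤ p - 1 → c (j * p ^ k) * ((j.factorial : ℕ) : A) = c (p ^ k) ^ j := by
    intro k hk j
    induction j with
    | zero => intro _; simp [hc0]
    | succ j ih =>
      intro hj
      have hj' : j < p := by omega
      have := hstep k hk j hj'
      rw [Nat.factorial_succ, Nat.cast_mul, pow_succ, ← ih (by omega)]
      calc c ((j + 1) * p ^ k) * (((j + 1 : ℕ) : A) * ((j.factorial : ℕ) : A))
          = (((j + 1 : ℕ) : A) * c ((j + 1) * p ^ k)) * ((j.factorial : ℕ) : A) := by ring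
        _ = _ := by rw [this]; ring
  have h1 : ∀ k, k < n → c (p ^ k) ^ p = 0 := by
    intro k hk
    have hs := hstep k hk (p - 1) (by omega)
    have e : p - 1 + 1 = p := Nat.sub_add_cancel hp.one_le
    rw [e, CharP.cast_eq_zero, zero_mul] at hs
    have h3 := h2 k hk (p - 1) le_rfl
    have : c (p ^ k) ^ p = c (p ^ k) * c (p ^ k) ^ (p - 1) := by
      rw [← pow_succ', e]
    rw [this, ← h3, ← mul_assoc, ← hs, zero_mul]
  refine ⟨h1, ?_⟩
  have h3 : ∀ k, k < n → ∀ m, m < p ^ k → ∀ j, j < p → c (m + j * p ^ k) = c m * c (j * p ^ k) := by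
    intro k hk m hm j hj
    have hmn : m < p ^ n := lt_of_lt_of_le hm (Nat.pow_le_pow_right hppos hk.le)
    have := hrel m (j * p ^ k) hmn (hlt k hk j hj)
    rw [← this, CharP.natCast_eq_natCast' A p (H7_lucas2 p j k m hm), Nat.cast_one, one_mul]
  have h2' : ∀ k, k < n → ∀ j, j < p → c (j * p ^ k) =
      Ring.inverse ((j.factorial : ℕ) : A) * c (p ^ k) ^ j := by
    intro k hk j hj
    rw [← h2 k hk j (by omega), mul_comm (c (j * p ^ k)), ← mul_assoc,
      Ring.inverse_mul_cancel _ (H7_isUnit_factorial p A j hj), one_mul]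
  intro n'
  induction n' with
  | zero =>
    intro _
    simp [hc0]
  | succ n' ih =>
    intro hn'
    have hn'lt : n' < n := hn'
    rw [pow_succ, H7_sum_range_mul, Finset.prod_range_succ, ← ih hn'lt.le, H7_E, Finset.mul_sum]
    apply Finset.sum_congr rfl
    intro j hj
    rw [Finset.mem_range] at hj
    rw [Finset.sum_mul]
    apply Finset.sum_congr rfl
    intro m hm
    rw [Finset.mem_range] at hm
    have e : p ^ n' * j + m = m + j * p ^ n' := by ring
    rw [e, h3 n' hn'lt m hm j hj, h2' n' hn'lt j hj, map_mul, pow_add]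
    ring

theorem H7_coeff_eq_of_mk_eq {A : Type u} [CommRing A] (N : ℕ) (P Q : MvPolynomial (Fin 2) A)
    (h : Ideal.Quotient.mk (Ideal.span {(MvPolynomial.X 0 ^ N : MvPolynomial (Fin 2) A),
      MvPolynomial.X 1 ^ N}) P = Ideal.Quotient.mk _ Q) (i j : ℕ) (hi : i < N) (hj : j < N) :
    MvPolynomial.coeff (H7_ij i j) P = MvPolynomial.coeff (H7_ij i j) Q := by
  classical
  have h1 := (Ideal.Quotient.eq).1 h
  obtain ⟨u, v, huv⟩ := Ideal.mem_span_pair.1 h1
  have h2 : MvPolynomial.coeff (H7_ij i j) (P - Q) = 0 := by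
    rw [← huv, MvPolynomial.coeff_add, MvPolynomial.X_pow_eq_monomial, MvPolynomial.X_pow_eq_monomial,
      MvPolynomial.coeff_mul_monomial', MvPolynomial.coeff_mul_monomial', if_neg, if_neg, add_zero]
    · intro hle
      have := Finsupp.le_def.1 hle 1
      simp [H7_ij] at this
      omega
    · intro hle
      have := Finsupp.le_def.1 hle 0
      simp [H7_ij] at this
      omega
  rw [MvPolynomial.coeff_sub, sub_eq_zero] at h2
  exact h2

end Groth.Agent.Lib.helper7
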