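import Mathlib
import Groth.Agent.Lib.helper7.GaCharP

namespace Groth.Agent.Lib.helper7
universe u

theorem H7_truncexp_add {R : Type u} [CommRing R] (p : ℕ) (ι : ℕ → R)
    (hι : ∀ j, j < p → ι j * ((j.factorial : ℕ) : R) = 1) (x y : R)
    (hxy : ∀ i l : ℕ, p ≤ i + l → x ^ i * y ^ l = 0) :
    ∑ j ∈ Finset.range p, ι j * (x + y) ^ j =
      (∑ i ∈ Finset.range p, ι i * x ^ i) * (∑ l ∈ Finset.range p, ι l * y ^ l) := by
  classical
  set s : Finset (ℕ × ℕ) := (Finset.range p ×ˢ Finset.range p).filter (fun z => z.1 + z.2 < p) with hs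
  have hR : (∑ i ∈ Finset.range p, ι i * x ^ i) * (∑ l ∈ Finset.range p, ι l * y ^ l) =
      ∑ z ∈ s, ι z.1 * ι z.2 * (x ^ z.1 * y ^ z.2) := by
    rw [Finset.sum_mul_sum, ← Finset.sum_product', hs, Finset.sum_filter]
    apply Finset.sum_congr rfl
    rintro ⟨i, l⟩ _
    by_cases h : i + l < p
    · rw [if_pos h]; ring
    · rw [if_neg h]
      have := hxy i l (not_lt.1 h)
      calc ι i * x ^ i * (ι l * y ^ l) = ι i * ι l * (x ^ i * y ^ l) := by ring
        _ = 0 := by rw [this, mul_zero]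
  have hL : ∑ j ∈ Finset.range p, ι j * (x + y) ^ j =
      ∑ z ∈ s, ι z.1 * ι z.2 * (x ^ z.1 * y ^ z.2) := by
    rw [← Finset.sum_fiberwise_of_maps_to (s := s) (t := Finset.range p) (g := fun z => z.1 + z.2)
      (fun z hz => by
        rw [hs, Finset.mem_filter] at hz
        exact Finset.mem_range.2 hz.2)]
    apply Finset.sum_congr rfl
    intro j hj
    rw [Finset.mem_range] at hj
    have hfil : s.filter (fun z => z.1 + z.2 = j) = Finset.HasAntidiagonal.antidiagonal j := by
      ext ⟨i, l⟩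
      simp only [hs, Finset.mem_filter, Finset.mem_product, Finset.mem_range,
        Finset.HasAntidiagonal.mem_antidiagonal]
      constructor
      · rintro ⟨_, h⟩; exact h
      · intro h; refine ⟨⟨⟨by omega, by omega⟩, by omega⟩, h⟩
    rw [hfil, Commute.add_pow' (Commute.all x y), Finset.mul_sum]
    apply Finset.sum_congr rfl
    rintro ⟨i, l⟩ hz
    rw [Finset.HasAntidiagonal.mem_antidiagonal] at hz
    have hi : i < p := by omega
    have hl : l < p := by omega
    have hkey : ι j * ((j.choose i : ℕ) : R) = ι i * ι l := by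
      have hfac : ((j.factorial : ℕ) : R) = ((j.choose i : ℕ) : R) * ((i.factorial : ℕ) : R) *
          ((l.factorial : ℕ) : R) := by
        rw [← Nat.cast_mul, ← Nat.cast_mul]
        congr 1
        rw [← hz, Nat.choose_symm_add, Nat.add_choose_mul_factorial_mul_factorial]
      calc ι j * ((j.choose i : ℕ) : R)
          = ι j * ((j.choose i : ℕ) : R) * (ι i * ((i.factorial : ℕ) : R)) *
              (ι l * ((l.factorial : ℕ) : R)) := by rw [hι i hi, hι l hl, mul_one, mul_one]
        _ = (ι j * (((j.choose i : ℕ) : R) * ((i.factorial : ℕ) : R) * ((l.factorial : ℕ) : R))) *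
              (ι i * ι l) := by ring
        _ = ι i * ι l := by rw [← hfac, hι j hj, one_mul]
    simp only [nsmul_eq_mul]
    calc ι j * (((j.choose i : ℕ) : R) * (x ^ i * y ^ l))
        = (ι j * ((j.choose i : ℕ) : R)) * (x ^ i * y ^ l) := by ring
      _ = _ := by rw [hkey]
  rw [hL, hR]

theorem H7_E_eval_zero (p : ℕ) [Fact p.Prime] {A : Type u} [CommRing A] (a : A) (k : ℕ) :
    (H7_E p a k).eval 0 = 1 := by
  classical
  have hp : p.Prime := Fact.out
  rw [H7_E, Polynomial.eval_finsetSum, Finset.sum_eq_single 0]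
  · simp
  · intro j _ hj
    rw [Polynomial.eval_mul, Polynomial.eval_pow, Polynomial.eval_X,
      zero_pow (Nat.mul_ne_zero hj (pow_ne_zero k hp.ne_zero)), mul_zero]
  · intro h
    exfalso; apply h; rw [Finset.mem_range]; exact hp.pos

theorem H7_aeval_E (p : ℕ) {A : Type u} [CommRing A] (a : A) (k : ℕ) (z : MvPolynomial (Fin 2) A) :
    Polynomial.aeval z (H7_E p a k) = ∑ j ∈ Finset.range p,
      MvPolynomial.C (Ring.inverse ((j.factorial : ℕ) : A)) * (MvPolynomial.C a * z ^ (p ^ k)) ^ j := by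
  rw [H7_E, map_sum]
  apply Finset.sum_congr rfl
  intro j _
  rw [map_mul, Polynomial.aeval_C, MvPolynomial.algebraMap_eq, map_pow, Polynomial.aeval_X, map_mul,
    map_pow, mul_pow, ← pow_mul, mul_comm (p ^ k) j]
  ring

theorem H7_E_char (p : ℕ) [Fact p.Prime] {A : Type u} [CommRing A] [CharP A p] (a : A)
    (ha : a ^ p = 0) (k : ℕ) :
    Polynomial.aeval (MvPolynomial.X 0 + MvPolynomial.X 1 : MvPolynomial (Fin 2) A) (H7_E p a k) =
      Polynomial.aeval (MvPolynomial.X 0 : MvPolynomial (Fin 2) A) (H7_E p a k) *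
        Polynomial.aeval (MvPolynomial.X 1 : MvPolynomial (Fin 2) A) (H7_E p a k) := by
  classical
  rw [H7_aeval_E, H7_aeval_E, H7_aeval_E, add_pow_char_pow, mul_add]
  apply H7_truncexp_add
  · intro j hj
    rw [← map_natCast (MvPolynomial.C : A →+* MvPolynomial (Fin 2) A), ← map_mul,
      Ring.inverse_mul_cancel _ (H7_isUnit_factorial p A j hj), map_one]
  · intro i l hil
    have hα : (MvPolynomial.C a : MvPolynomial (Fin 2) A) ^ (i + l) = 0 := by
      obtain ⟨d, hd⟩ := Nat.exists_eq_add_of_le hil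
      rw [hd, pow_add, ← map_pow, ha, map_zero, zero_mul]
    calc (MvPolynomial.C a * MvPolynomial.X 0 ^ p ^ k) ^ i * (MvPolynomial.C a * MvPolynomial.X 1 ^ p ^ k) ^ l
        = (MvPolynomial.C a : MvPolynomial (Fin 2) A) ^ (i + l) *
            ((MvPolynomial.X 0 ^ p ^ k) ^ i * (MvPolynomial.X 1 ^ p ^ k) ^ l) := by
          rw [mul_pow, mul_pow, pow_add]; ring
      _ = 0 := by rw [hα, zero_mul]

end Groth.Agent.Lib.helper7
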