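import Mathlib
import Groth.Agent.Lib.helper7.GaCharP2

namespace Groth.Agent.Lib.helper7
universe u

theorem H7_ps_coeff_add {A : Type u} [CommRing A] (χ : PowerSeries A) (i j : ℕ) :
    MvPowerSeries.coeff (H7_ij i j)
      (PowerSeries.subst (MvPowerSeries.X 0 + MvPowerSeries.X 1 : MvPowerSeries (Fin 2) A) χ) =
      ((i + j).choose i : A) * PowerSeries.coeff (i + j) χ := by
  classical
  have hs : PowerSeries.HasSubst (MvPowerSeries.X 0 + MvPowerSeries.X 1 : MvPowerSeries (Fin 2) A) :=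
    PowerSeries.HasSubst.of_constantCoeff_zero (by simp)
  have hpow : ∀ d : ℕ, MvPowerSeries.coeff (H7_ij i j)
      ((MvPowerSeries.X 0 + MvPowerSeries.X 1 : MvPowerSeries (Fin 2) A) ^ d) =
      if i + j = d then (d.choose i : A) else 0 := by
    intro d
    have : ((MvPowerSeries.X 0 + MvPowerSeries.X 1 : MvPowerSeries (Fin 2) A) ^ d) =
        (((MvPolynomial.X 0 + MvPolynomial.X 1 : MvPolynomial (Fin 2) A) ^ d : MvPolynomial (Fin 2) A) :
          MvPowerSeries (Fin 2) A) := by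
      rw [MvPolynomial.coe_pow, MvPolynomial.coe_add, MvPolynomial.coe_X, MvPolynomial.coe_X]
    rw [this, MvPolynomial.coeff_coe, H7_coeff_add_pow]
  rw [PowerSeries.coeff_subst hs, finsum_eq_single _ (i + j)]
  · rw [hpow, if_pos rfl, smul_eq_mul, mul_comm]
  · intro d hd
    rw [hpow, if_neg (Ne.symm hd), smul_zero]

theorem H7_ps_coeff_mul {A : Type u} [CommRing A] (χ ψ : PowerSeries A) (i j : ℕ) :
    MvPowerSeries.coeff (H7_ij i j)
      (PowerSeries.subst (MvPowerSeries.X 0 : MvPowerSeries (Fin 2) A) χ *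
        PowerSeries.subst (MvPowerSeries.X 1 : MvPowerSeries (Fin 2) A) ψ) =
      PowerSeries.coeff i χ * PowerSeries.coeff j ψ := by
  classical
  rw [MvPowerSeries.coeff_mul,
    Finset.sum_eq_single ((Finsupp.single 0 i, Finsupp.single 1 j) : (Fin 2 →₀ ℕ) × (Fin 2 →₀ ℕ))]
  · rw [PowerSeries.coeff_subst_single, PowerSeries.coeff_subst_single]
    simp
  · rintro ⟨u, v⟩ huv hne
    rw [Finset.HasAntidiagonal.mem_antidiagonal] at huv
    simp only at huv
    rw [PowerSeries.coeff_subst_single, PowerSeries.coeff_subst_single]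
    by_cases hu : u = Finsupp.single 0 (u 0)
    · by_cases hv : v = Finsupp.single 1 (v 1)
      · exfalso
        apply hne
        have h0 := DFunLike.congr_fun huv 0
        have h1 := DFunLike.congr_fun huv 1
        rw [hu, hv] at h0 h1
        simp [H7_ij] at h0 h1
        rw [hu, hv, h0, h1]
      · rw [if_neg hv, mul_zero]
    · rw [if_neg hu, zero_mul]
  · intro h
    exfalso
    apply h
    rw [Finset.HasAntidiagonal.mem_antidiagonal]
    rfl

theorem H7_ps_char_iff {A : Type u} [CommRing A] (χ : PowerSeries A) :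
    PowerSeries.subst (MvPowerSeries.X 0 + MvPowerSeries.X 1 : MvPowerSeries (Fin 2) A) χ =
      PowerSeries.subst (MvPowerSeries.X 0 : MvPowerSeries (Fin 2) A) χ *
        PowerSeries.subst (MvPowerSeries.X 1 : MvPowerSeries (Fin 2) A) χ ↔
    ∀ i j : ℕ, ((i + j).choose i : A) * PowerSeries.coeff (i + j) χ =
      PowerSeries.coeff i χ * PowerSeries.coeff j χ := by
  constructor
  · intro h i j
    rw [← H7_ps_coeff_add, ← H7_ps_coeff_mul, h]
  · intro h
    ext m
    rw [H7_eq_ij m, H7_ps_coeff_add, H7_ps_coeff_mul, h]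

theorem H7_prodE_char (p : ℕ) [Fact p.Prime] {A : Type u} [CommRing A] [CharP A p] (a : ℕ → A)
    (ha : ∀ n, a n ^ p = 0) (N : ℕ) :
    (∏ n ∈ Finset.range N, H7_E p (a n) n).eval 0 = 1 ∧
    Polynomial.aeval (MvPolynomial.X 0 + MvPolynomial.X 1 : MvPolynomial (Fin 2) A)
        (∏ n ∈ Finset.range N, H7_E p (a n) n) =
      Polynomial.aeval (MvPolynomial.X 0 : MvPolynomial (Fin 2) A) (∏ n ∈ Finset.range N, H7_E p (a n) n) *
        Polynomial.aeval (MvPolynomial.X 1 : MvPolynomial (Fin 2) A)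
          (∏ n ∈ Finset.range N, H7_E p (a n) n) := by
  refine Finset.prod_induction _ (fun g : Polynomial A => g.eval 0 = 1 ∧
    Polynomial.aeval (MvPolynomial.X 0 + MvPolynomial.X 1 : MvPolynomial (Fin 2) A) g =
    Polynomial.aeval (MvPolynomial.X 0 : MvPolynomial (Fin 2) A) g *
    Polynomial.aeval (MvPolynomial.X 1 : MvPolynomial (Fin 2) A) g) ?_ ?_ ?_
  · rintro g h ⟨hg0, hg⟩ ⟨hh0, hh⟩
    refine ⟨by rw [Polynomial.eval_mul, hg0, hh0, one_mul], ?_⟩
    rw [map_mul, map_mul, map_mul, hg, hh]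
    ring
  · exact ⟨by simp, by simp⟩
  · intro n _
    exact ⟨H7_E_eval_zero p (a n) n, H7_E_char p (a n) (ha n) n⟩

end Groth.Agent.Lib.helper7
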