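import Mathlib
universe u
namespace Groth.Agent.Lib.helper7

theorem H7_S6913 (R : Type u) [CommRing R] [IsDomain R] (M : Type u) [AddCommGroup M]
    [Module R M] [Module.Finite R M] :
    (∃ h : M →ₗ[R] (Fin (Module.finrank R M) → R),
      (∀ x : M, h x = 0 → ∃ c : R, c ≠ 0 ∧ c • x = 0) ∧
      (∀ y : Fin (Module.finrank R M) → R, ∃ c : R, c ≠ 0 ∧ c • y ∈ LinearMap.range h)) ∧
    (∃ f : R, f ≠ 0 ∧ Module.Free (Localization.Away f) (LocalizedModule (Submonoid.powers f) M) ∧
      Module.finrank (Localization.Away f) (LocalizedModule (Submonoid.powers f) M) = Module.finrank R M) ∧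
    (∃ g : (Fin (Module.finrank R M) → R) →ₗ[R] M, Function.Injective g ∧
      ∀ x : M, ∃ c : R, c ≠ 0 ∧ c • x ∈ LinearMap.range g) := by
  classical
  set n := Module.finrank R M with hn
  obtain ⟨v, hv⟩ := exists_linearIndependent_of_le_finrank (R := R) (M := M) (le_refl n)
  let g : (Fin n → R) →ₗ[R] M := Fintype.linearCombination R v
  have hg_apply : ∀ y, g y = ∑ i, y i • v i := fun y => Fintype.linearCombination_apply R v y
  have hginj : Function.Injective g := by
    rw [injective_iff_map_eq_zero]
    intro y hy
    rw [hg_apply] at hy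
    exact funext (Fintype.linearIndependent_iff.1 hv y hy)
  have htors : ∀ x : M, ∃ c : R, c ≠ 0 ∧ c • x ∈ LinearMap.range g := by
    intro x
    have hnli : ¬ LinearIndependent R (Fin.cons x v : Fin (n + 1) → M) := by
      intro hli
      have := hli.fintype_card_le_finrank
      rw [Fintype.card_fin, ← hn] at this
      omega
    rw [Fintype.not_linearIndependent_iff] at hnli
    obtain ⟨a, ha, i0, hi0⟩ := hnli
    rw [Fin.sum_univ_succ] at ha
    simp only [Fin.cons_zero, Fin.cons_succ] at ha
    have ha0 : a 0 ≠ 0 := by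
      intro h0
      rw [h0, zero_smul, zero_add] at ha
      have hall := Fintype.linearIndependent_iff.1 hv (fun i => a i.succ) ha
      apply hi0
      refine Fin.cases h0 (fun j => hall j) i0
    refine ⟨a 0, ha0, fun i => - a i.succ, ?_⟩
    rw [hg_apply]
    simp only [neg_smul, Finset.sum_neg_distrib]
    rw [eq_comm, ← sub_eq_zero, sub_neg_eq_add]
    exact ha
  -- uniform denominator
  obtain ⟨S, hS⟩ := (Module.finite_def.1 (inferInstance : Module.Finite R M))
  choose cf hcf0 hcf using htors
  set c : R := ∏ s ∈ S, cf s with hc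
  have hc0 : c ≠ 0 := Finset.prod_ne_zero_iff.2 (fun s _ => hcf0 s)
  have hcM : ∀ x : M, c • x ∈ LinearMap.range g := by
    intro x
    have hle : (⊤ : Submodule R M) ≤
        Submodule.comap (LinearMap.lsmul R M c) (LinearMap.range g) := by
      rw [← hS, Submodule.span_le]
      intro s hs
      rw [SetLike.mem_coe, Submodule.mem_comap, LinearMap.lsmul_apply, hc,
        ← Finset.mul_prod_erase S cf hs, mul_comm, mul_smul]
      exact Submodule.smul_mem _ _ (hcf s)
    exact hle (Submodule.mem_top : x ∈ ⊤)
  refine ⟨?_, ?_, ⟨g, hginj, fun x => ⟨cf x, hcf0 x, hcf x⟩⟩⟩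
  · -- part 1
    let ψ : M →ₗ[R] LinearMap.range g := (LinearMap.lsmul R M c).codRestrict (LinearMap.range g) hcM
    let e : (Fin n → R) ≃ₗ[R] LinearMap.range g := LinearEquiv.ofInjective g hginj
    let h : M →ₗ[R] (Fin n → R) := e.symm.toLinearMap ∘ₗ ψ
    have hgh : ∀ x, g (h x) = c • x := by
      intro x
      have h1 : e (h x) = ψ x := by simp [h]
      have h2 : ((e (h x) : LinearMap.range g) : M) = ((ψ x : LinearMap.range g) : M) :=
        congrArg (fun z : LinearMap.range g => (z : M)) h1
      have h3 : ((e (h x) : LinearMap.range g) : M) = g (h x) := rfl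
      have h4 : ((ψ x : LinearMap.range g) : M) = c • x := rfl
      rw [← h3, h2, h4]
    refine ⟨h, ?_, ?_⟩
    · intro x hx
      refine ⟨c, hc0, ?_⟩
      rw [← hgh x, hx, map_zero]
    · intro y
      refine ⟨c, hc0, g y, ?_⟩
      apply hginj
      rw [hgh, map_smul]
  · -- part 2
    refine ⟨c, hc0, ?_⟩
    let ℓ : M →ₗ[R] LocalizedModule (Submonoid.powers c) M :=
      LocalizedModule.mkLinearMap (Submonoid.powers c) M
    have hli : LinearIndependent (Localization.Away c) (ℓ ∘ v) :=
      hv.of_isLocalizedModule (Localization.Away c) (Submonoid.powers c) ℓ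
    have hspan : ⊤ ≤ Submodule.span (Localization.Away c) (Set.range (ℓ ∘ v)) := by
      intro z _
      obtain ⟨⟨x, s⟩, hxs⟩ := IsLocalizedModule.surj (Submonoid.powers c) ℓ z
      simp only at hxs
      obtain ⟨y, hy⟩ := hcM x
      have h1 : ℓ (c • x) ∈ Submodule.span (Localization.Away c) (Set.range (ℓ ∘ v)) := by
        rw [← hy, hg_apply, map_sum]
        refine Submodule.sum_mem _ (fun i _ => ?_)
        rw [map_smul, ← algebraMap_smul (Localization.Away c) (y i)]
        exact Submodule.smul_mem _ _ (Submodule.subset_span ⟨i, rfl⟩)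
      have h2 : (c * (s : R)) • z = ℓ (c • x) := by
        rw [mul_smul, map_smul, ← hxs]; rfl
      have hu : IsUnit (algebraMap R (Localization.Away c) (c * (s : R))) := by
        rw [map_mul]
        exact (IsLocalization.map_units (Localization.Away c)
          (⟨c, Submonoid.mem_powers c⟩ : Submonoid.powers c)).mul
          (IsLocalization.map_units (Localization.Away c) s)
      obtain ⟨u, hu⟩ := hu
      have h3 : z = (↑u⁻¹ : Localization.Away c) • ((c * (s : R)) • z) := by
        rw [← algebraMap_smul (Localization.Away c) (c * (s : R)) z, ← hu, smul_smul,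
          Units.inv_mul, one_smul]
      rw [h3, h2]
      exact Submodule.smul_mem _ _ h1
    let b : Module.Basis (Fin n) (Localization.Away c) (LocalizedModule (Submonoid.powers c) M) :=
      Module.Basis.mk hli hspan
    have _ : IsDomain (Localization.Away c) :=
      IsLocalization.isDomain_of_le_nonZeroDivisors (R := R) (S := Localization.Away c)
        (powers_le_nonZeroDivisors_of_noZeroDivisors hc0)
    exact ⟨Module.Free.of_basis b, by rw [Module.finrank_eq_card_basis b, Fintype.card_fin]⟩

end Groth.Agent.Lib.helper7
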