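import Mathlib

set_option autoImplicit false
universe u v

namespace Groth.Agent.Lib.helper7

open Module LinearMap

section
variable {k : Type u} [Field k] {V : Type v} [AddCommGroup V] [Module k V]

theorem H7_exists_gproj (𝒱 : ℤ → Submodule k V) (h𝒱 : DirectSum.IsInternal 𝒱) (i : ℤ) :
    ∃ π : V →ₗ[k] V, (∀ x, π x ∈ 𝒱 i) ∧ (∀ x ∈ 𝒱 i, π x = x) ∧
      (∀ j, j ≠ i → ∀ x ∈ 𝒱 j, π x = 0) := by
  classical
  let _inst := h𝒱.chooseDecomposition
  refine ⟨(𝒱 i).subtype ∘ₗ (DirectSum.component k ℤ (fun i => 𝒱 i) i) ∘ₗ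
    (DirectSum.decomposeLinearEquiv 𝒱).toLinearMap, ?_, ?_, ?_⟩
  · intro x
    exact Submodule.coe_mem _
  · intro x hx
    exact DirectSum.decompose_of_mem_same 𝒱 hx
  · intro j hj x hx
    exact DirectSum.decompose_of_mem_ne 𝒱 hx hj

theorem H7_ext_on_graded {W' : Type*} [AddCommGroup W'] [Module k W']
    (𝒱 : ℤ → Submodule k V) (h𝒱 : DirectSum.IsInternal 𝒱) (F G : V →ₗ[k] W')
    (h : ∀ l, ∀ x ∈ 𝒱 l, F x = G x) : F = G := by
  have h1 : (⊤ : Submodule k V) ≤ LinearMap.eqLocus F G := by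
    rw [← h𝒱.submodule_iSup_eq_top]
    exact iSup_le fun l x hx => h l x hx
  ext x
  exact h1 (Submodule.mem_top : x ∈ ⊤)

end


section
variable (k : Type u) [Field k] (V W : Type v) [AddCommGroup V] [Module k V] [FiniteDimensional k V]
  [Nontrivial V] [AddCommGroup W] [Module k W] [FiniteDimensional k W]

/-- existence part -/
theorem H7_grSN_exists (𝒱 : ℤ → Submodule k V) (h𝒱 : DirectSum.IsInternal 𝒱)
    (𝒲 : ℤ → Submodule k W) (h𝒲 : DirectSum.IsInternal 𝒲)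
    (φ : Module.End k V ≃ₐ[k] Module.End k W)
    (hφ : ∀ (d : ℤ) (f : Module.End k V), (∀ (i : ℤ) (x : V), x ∈ 𝒱 i → f x ∈ 𝒱 (i + d)) →
      ∀ (i : ℤ) (y : W), y ∈ 𝒲 i → φ f y ∈ 𝒲 (i + d)) :
    ∃ (n : ℤ) (g : V ≃ₗ[k] W), (∀ i : ℤ, Submodule.map (g : V →ₗ[k] W) (𝒱 i) = 𝒲 (i + n)) ∧
      (∀ f : Module.End k V, φ f = (g : V →ₗ[k] W) ∘ₗ f ∘ₗ (g.symm : W →ₗ[k] V)) := by
  classical
  -- a nonzero homogeneous element
  obtain ⟨i, u, hui, hu⟩ : ∃ (i : ℤ) (u : V), u ∈ 𝒱 i ∧ u ≠ 0 := by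
    by_contra hcon
    push Not at hcon
    have : (LinearMap.id : V →ₗ[k] V) = 0 := by
      apply H7_ext_on_graded 𝒱 h𝒱
      intro l x hx
      simp [hcon l x hx]
    obtain ⟨x, hx⟩ := exists_ne (0 : V)
    exact hx (by simpa using congrArg (fun h => h x) this)
  obtain ⟨π, hπmem, hπsame, hπne⟩ := H7_exists_gproj 𝒱 h𝒱 i
  obtain ⟨v₀, hv₀⟩ := Projective.exists_dual_ne_zero k hu
  set v : Dual k V := v₀ ∘ₗ π with hvdef
  have hvu : v u ≠ 0 := by
    rw [hvdef, LinearMap.comp_apply, hπsame u hui]; exact hv₀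
  have hvne : ∀ j, j ≠ i → ∀ x ∈ 𝒱 j, v x = 0 := by
    intro j hj x hx
    rw [hvdef, LinearMap.comp_apply, hπne j hj x hx, map_zero]
  -- homogeneous z
  have hne0 : φ (smulRight v u) ≠ 0 := by
    rw [Ne, EmbeddingLike.map_eq_zero_iff]
    intro h0
    have := congrArg (fun h => h u) h0
    simp only [smulRight_apply, LinearMap.zero_apply] at this
    exact hu ((smul_eq_zero.mp this).resolve_left hvu)
  obtain ⟨m, z, hzm, hz⟩ : ∃ (m : ℤ) (z : W), z ∈ 𝒲 m ∧ φ (smulRight v u) z ≠ 0 := by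
    by_contra hcon
    push Not at hcon
    apply hne0
    apply H7_ext_on_graded 𝒲 h𝒲
    intro l x hx
    rw [hcon l x hx, LinearMap.zero_apply]
  set T : V →ₗ[k] W := applyₗ z ∘ₗ φ.toLinearMap ∘ₗ smulRightₗ v with hTdef
  have hT : ∀ x, T x = φ (smulRight v x) z := fun x => rfl
  have this : ∀ (A : Module.End k V) (x : V), T (A x) = φ A (T x) := by
    intro A x
    simp only [hT, ← End.mul_apply, ← map_mul]
    congr; ext; simp
  have surj : Function.Surjective T := fun w ↦ by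
    obtain ⟨d, hd⟩ := Projective.exists_dual_eq_one k (show T u ≠ 0 from hz)
    refine ⟨φ.symm (smulRight d w) u, ?_⟩
    rw [this, AlgEquiv.apply_symm_apply, smulRight_apply, hd, one_smul]
  have inj : Function.Injective T := fun x y hxy ↦ by
    have h_smul : smulRightₗ v x = smulRightₗ v y := by
      apply φ.injective <| LinearMap.ext fun z ↦ ?_
      obtain ⟨w, rfl⟩ := surj z
      simp_rw [← this, smulRightₗ_apply_apply, _root_.map_smul, hxy]
    have h2 := congrArg (fun f => f u) h_smul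
    simp only [smulRightₗ_apply_apply] at h2
    exact smul_right_injective V hvu h2
  -- homogeneity
  have hThom : ∀ j, ∀ x ∈ 𝒱 j, T x ∈ 𝒲 (j + (m - i)) := by
    intro j x hx
    have := hφ (j - i) (smulRight v x) (by
      intro l y hy
      rw [smulRight_apply]
      by_cases hl : l = i
      · subst hl
        have : l + (j - l) = j := by ring
        rw [this]
        exact Submodule.smul_mem _ _ hx
      · rw [hvne l hl y hy, zero_smul]
        exact Submodule.zero_mem _) m z hzm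
    have e : m + (j - i) = j + (m - i) := by ring
    rw [e] at this
    exact this
  let g : V ≃ₗ[k] W := LinearEquiv.ofBijective T ⟨inj, surj⟩
  refine ⟨m - i, g, ?_, ?_⟩
  · intro j
    apply le_antisymm
    · rintro _ ⟨x, hx, rfl⟩
      exact hThom j x hx
    · intro w hw
      obtain ⟨πV, hπVmem, hπVsame, hπVne⟩ := H7_exists_gproj 𝒱 h𝒱 j
      obtain ⟨πW, hπWmem, hπWsame, hπWne⟩ := H7_exists_gproj 𝒲 h𝒲 (j + (m - i))
      have hcomm : πW ∘ₗ T = T ∘ₗ πV := by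
        apply H7_ext_on_graded 𝒱 h𝒱
        intro l x hx
        change πW (T x) = T (πV x)
        by_cases hl : l = j
        · subst hl
          rw [hπVsame x hx, hπWsame _ (hThom l x hx)]
        · rw [hπVne l hl x hx, map_zero]
          apply hπWne (l + (m - i)) (by omega) _ (hThom l x hx)
      obtain ⟨x, rfl⟩ := surj w
      refine ⟨πV x, hπVmem x, ?_⟩
      have h1 := congrArg (fun h => h x) hcomm
      simp only [LinearMap.comp_apply] at h1
      change T (πV x) = T x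
      rw [← h1, hπWsame _ hw]
  · intro f
    apply LinearMap.ext
    intro w
    obtain ⟨x, rfl⟩ := surj w
    change φ f (T x) = g (f (g.symm (T x)))
    have : g.symm (T x) = x := g.symm_apply_apply x
    rw [this, ← ‹∀ (A : Module.End k V) (x : V), T (A x) = φ A (T x)›]
    rfl


theorem H7_S13846 (𝒱 : ℤ → Submodule k V) (h𝒱 : DirectSum.IsInternal 𝒱)
    (𝒲 : ℤ → Submodule k W) (h𝒲 : DirectSum.IsInternal 𝒲)
    (φ : Module.End k V ≃ₐ[k] Module.End k W)
    (hφ : ∀ (d : ℤ) (f : Module.End k V), (∀ (i : ℤ) (x : V), x ∈ 𝒱 i → f x ∈ 𝒱 (i + d)) →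
      ∀ (i : ℤ) (y : W), y ∈ 𝒲 i → φ f y ∈ 𝒲 (i + d)) :
    ∃ (n : ℤ) (g : V ≃ₗ[k] W), (∀ i : ℤ, Submodule.map (g : V →ₗ[k] W) (𝒱 i) = 𝒲 (i + n)) ∧
      (∀ f : Module.End k V, φ f = (g : V →ₗ[k] W) ∘ₗ f ∘ₗ (g.symm : W →ₗ[k] V)) ∧
      ∀ (n' : ℤ) (g' : V ≃ₗ[k] W),
        (∀ i : ℤ, Submodule.map (g' : V →ₗ[k] W) (𝒱 i) = 𝒲 (i + n')) →
        (∀ f : Module.End k V, φ f = (g' : V →ₗ[k] W) ∘ₗ f ∘ₗ (g'.symm : W →ₗ[k] V)) →
        n' = n ∧ ∃ c : kˣ, ∀ x : V, g' x = c • g x := by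
  classical
  obtain ⟨n, g, hg1, hg2⟩ := H7_grSN_exists k V W 𝒱 h𝒱 𝒲 h𝒲 φ hφ
  refine ⟨n, g, hg1, hg2, ?_⟩
  intro n' g' hg1' hg2'
  have hconj : g'.conjAlgEquiv k = g.conjAlgEquiv k := by
    apply AlgEquiv.ext
    intro f
    rw [LinearEquiv.conjAlgEquiv_apply, LinearEquiv.conjAlgEquiv_apply]
    exact (hg2' f).symm.trans (hg2 f)
  obtain ⟨c, hc⟩ := (LinearEquiv.conjAlgEquiv_ext_iff' g' g).mp hconj
  have hcx : ∀ x : V, g' x = c • g x := by
    intro x
    rw [hc]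
    rfl
  refine ⟨?_, c, hcx⟩
  -- a nonzero homogeneous element
  obtain ⟨i, u, hui, hu⟩ : ∃ (i : ℤ) (u : V), u ∈ 𝒱 i ∧ u ≠ 0 := by
    by_contra hcon
    push Not at hcon
    have : (LinearMap.id : V →ₗ[k] V) = 0 := by
      apply H7_ext_on_graded 𝒱 h𝒱
      intro l x hx
      simp [hcon l x hx]
    obtain ⟨x, hx⟩ := exists_ne (0 : V)
    exact hx (by simpa using congrArg (fun h => h x) this)
  have h1 : g' u ∈ 𝒲 (i + n') := by
    rw [← hg1' i]
    exact ⟨u, hui, rfl⟩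
  have h2 : g' u ∈ 𝒲 (i + n) := by
    rw [hcx u, ← hg1 i]
    exact Submodule.smul_mem _ _ ⟨u, hui, rfl⟩
  have hne : g' u ≠ 0 := by
    intro h0
    exact hu (g'.map_eq_zero_iff.mp h0)
  by_contra hnn
  have hdis : Disjoint (𝒲 (i + n')) (𝒲 (i + n)) :=
    h𝒲.submodule_iSupIndep.pairwiseDisjoint (by omega)
  exact hne (Submodule.disjoint_def.mp hdis _ h1 h2)

end

end Groth.Agent.Lib.helper7
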