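import Mathlib

namespace Groth.Agent.Lib.helper7
open DirectSum Polynomial

attribute [local instance] Polynomial.algebra

noncomputable def H7_gradPolyFam {S : Type*} [CommRing S] (𝒜 : ℕ → AddSubgroup S) (i : ℕ) :
    𝒜 i →+ S[X] :=
  ((Polynomial.monomial i : S →ₗ[S] S[X]).toAddMonoidHom).comp (𝒜 i).subtype

theorem H7_gradPolyFam_apply {S : Type*} [CommRing S] (𝒜 : ℕ → AddSubgroup S) (i : ℕ) (x : 𝒜 i) :
    H7_gradPolyFam 𝒜 i x = Polynomial.monomial i (x : S) := rfl

/-- The ring hom `S → S[X]`, `s ↦ ∑ sᵢ Xⁱ` attached to an `ℕ`-grading. -/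
noncomputable def H7_gradPoly {S : Type*} [CommRing S] (𝒜 : ℕ → AddSubgroup S) [GradedRing 𝒜] :
    S →+* S[X] :=
  (DirectSum.toSemiring (H7_gradPolyFam 𝒜)
    (by rw [H7_gradPolyFam_apply, SetLike.coe_gOne, Polynomial.monomial_zero_one])
    (by
      intro i j ai aj
      rw [H7_gradPolyFam_apply, H7_gradPolyFam_apply, H7_gradPolyFam_apply, SetLike.coe_gMul,
        Polynomial.monomial_mul_monomial])).comp
    (DirectSum.decomposeRingEquiv 𝒜).toRingHom

theorem H7_gradPoly_coeff {S : Type*} [CommRing S] (𝒜 : ℕ → AddSubgroup S) [GradedRing 𝒜]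
    (s : S) (n : ℕ) : (H7_gradPoly 𝒜 s).coeff n = (DirectSum.decompose 𝒜 s n : S) := by
  classical
  have key : ∀ d : ⨁ i, 𝒜 i, ((DirectSum.toAddMonoid (H7_gradPolyFam 𝒜)) d).coeff n = (d n : S) := by
    intro d
    induction d using DirectSum.induction_on with
    | zero => simp
    | of i x =>
      rw [DirectSum.toAddMonoid_of, H7_gradPolyFam_apply]
      by_cases h : i = n
      · subst h
        simp [DirectSum.of_eq_same]
      · rw [DirectSum.of_eq_of_ne _ _ _ (Ne.symm h)]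
        simp [Polynomial.coeff_monomial, h]
    | add x y hx hy =>
      rw [map_add, Polynomial.coeff_add, hx, hy]
      simp
  exact key _

theorem H7_decompose_algebraMap {R S : Type*} [CommRing R] [CommRing S] [Algebra R S]
    (ℛ : ℕ → AddSubgroup R) [GradedRing ℛ] (𝒮 : ℕ → AddSubgroup S) [GradedRing 𝒮]
    (hmap : ∀ i : ℕ, ∀ r ∈ ℛ i, algebraMap R S r ∈ 𝒮 i) (r : R) (n : ℕ) :
    (DirectSum.decompose 𝒮 (algebraMap R S r) n : S)
      = algebraMap R S (DirectSum.decompose ℛ r n : R) := by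
  classical
  conv_lhs => rw [← DirectSum.sum_support_decompose ℛ r]
  rw [map_sum, DirectSum.decompose_sum, DFinsupp.finsetSum_apply, AddSubmonoidClass.coe_finsetSum]
  have : ∀ i ∈ (DirectSum.decompose ℛ r).support,
      ((DirectSum.decompose 𝒮 (algebraMap R S (DirectSum.decompose ℛ r i : R)) n : 𝒮 n) : S)
        = if i = n then algebraMap R S (DirectSum.decompose ℛ r i : R) else 0 := by
    intro i _
    have hmem := hmap i _ (DirectSum.decompose ℛ r i).2
    by_cases h : i = n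
    · subst h
      rw [DirectSum.decompose_of_mem_same 𝒮 hmem, if_pos rfl]
    · rw [DirectSum.decompose_of_mem_ne 𝒮 hmem h, if_neg h]
  rw [Finset.sum_congr rfl this, Finset.sum_ite_eq']
  split_ifs with hn
  · rfl
  · rw [DFinsupp.notMem_support_iff] at hn
    rw [hn]; simp

theorem H7_isIntegral_decompose {R S : Type*} [CommRing R] [CommRing S] [Algebra R S]
    (ℛ : ℕ → AddSubgroup R) [GradedRing ℛ] (𝒮 : ℕ → AddSubgroup S) [GradedRing 𝒮]
    (hmap : ∀ i : ℕ, ∀ r ∈ ℛ i, algebraMap R S r ∈ 𝒮 i) (s : S) (hs : IsIntegral R s) (i : ℕ) :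
    IsIntegral R ((DirectSum.decompose 𝒮 s i : 𝒮 i) : S) := by
  classical
  have hcomp : (algebraMap R[X] S[X]).comp (H7_gradPoly ℛ) = (H7_gradPoly 𝒮).comp (algebraMap R S) := by
    ext r n
    simp only [RingHom.comp_apply, Polynomial.algebraMap_def, Polynomial.coe_mapRingHom,
      Polynomial.coeff_map, H7_gradPoly_coeff]
    exact (H7_decompose_algebraMap ℛ 𝒮 hmap r n).symm
  have h1 : IsIntegral R[X] (H7_gradPoly 𝒮 s) := hs.map_of_comp_eq (H7_gradPoly ℛ) (H7_gradPoly 𝒮) hcomp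
  have h2 := Polynomial.isIntegral_iff_isIntegral_coeff.1 h1 i
  rwa [H7_gradPoly_coeff] at h2

end Groth.Agent.Lib.helper7
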