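import Mathlib

universe u

namespace Groth.Agent.Lib.helper7

theorem H7_graded_mon {k R : Type*} [CommRing k] [CommRing R] [Algebra k R] (ℛ : ℕ → Submodule k R)
    [GradedAlgebra ℛ] {σ : Type*} [Fintype σ] (gen : σ → R) (w : σ → ℕ)
    (hgenmem : ∀ i, gen i ∈ ℛ (w i)) (s : σ → ℕ) : ∏ i, gen i ^ s i ∈ ℛ (∑ i, s i * w i) := by
  have := SetLike.prod_pow_mem_graded ℛ w gen (F := Finset.univ) s (fun i _ => hgenmem i)
  simpa [smul_eq_mul] using this

theorem H7_graded_span {k R : Type*} [CommRing k] [CommRing R] [Algebra k R] (ℛ : ℕ → Submodule k R)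
    [GradedAlgebra ℛ] {σ : Type*} [Fintype σ] (gen : σ → R) (w : σ → ℕ)
    (hgenmem : ∀ i, gen i ∈ ℛ (w i)) (hgen : Algebra.adjoin k (Set.range gen) = ⊤)
    (n : ℕ) (r : R) (hr : r ∈ ℛ n) :
    r ∈ Submodule.span k {x | ∃ s : σ → ℕ, ∑ i, s i * w i = n ∧ x = ∏ i, gen i ^ s i} := by
  classical
  have hmon := H7_graded_mon ℛ gen w hgenmem
  have hr' : r ∈ (MvPolynomial.aeval gen : MvPolynomial σ k →ₐ[k] R).range := by
    rw [← Algebra.adjoin_range_eq_range_aeval, hgen]; trivial
  obtain ⟨p, hp⟩ := hr'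
  have hp' : MvPolynomial.aeval gen p = r := hp
  subst hp'
  have h1 : MvPolynomial.aeval gen p = GradedAlgebra.proj ℛ n (MvPolynomial.aeval gen p) := by
    rw [GradedAlgebra.proj_apply, DirectSum.decompose_of_mem_same ℛ hr]
  have h2 : MvPolynomial.aeval gen p
      = ∑ s ∈ p.support, (MvPolynomial.coeff s p) • ∏ i, gen i ^ s i := by
    conv_lhs => rw [MvPolynomial.as_sum p]
    rw [map_sum]
    refine Finset.sum_congr rfl fun s _ => ?_
    rw [MvPolynomial.aeval_monomial, ← Algebra.smul_def,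
      Finsupp.prod_fintype _ _ (fun i => pow_zero _)]
  rw [h1, h2, map_sum]
  refine Submodule.sum_mem _ fun s _ => ?_
  rw [map_smul]
  refine Submodule.smul_mem _ _ ?_
  rw [GradedAlgebra.proj_apply]
  by_cases hs : ∑ i, s i * w i = n
  · rw [DirectSum.decompose_of_mem_same ℛ (hs ▸ hmon s)]
    exact Submodule.subset_span ⟨fun i => s i, hs, rfl⟩
  · rw [DirectSum.decompose_of_mem_ne ℛ (hmon s) hs]
    exact Submodule.zero_mem _

theorem H7_S13164 {R A : Type u} [CommRing R] [CommRing A] [Algebra R A] (𝒜 : ℕ → Submodule R A) [GradedAlgebra 𝒜]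
    {s : ℕ} (f : Fin s → A) (deg : Fin s → ℕ) (hdeg : ∀ i, 0 < deg i) (hf : ∀ i, f i ∈ 𝒜 (deg i))
    (hgen : Algebra.adjoin R (Set.range f) = ⊤) (n : ℕ)
    (hn : (s - 1) * (Finset.univ.lcm deg - 1) ≤ n) :
    𝒜 (n + Finset.univ.lcm deg) = 𝒜 n * 𝒜 (Finset.univ.lcm deg) := by
  classical
  set L := Finset.univ.lcm deg with hL
  have hLpos : 0 < L := by
    apply Nat.pos_of_ne_zero
    rw [hL, Ne, Finset.lcm_eq_zero_iff]
    rintro ⟨i, -, hi⟩
    exact (hdeg i).ne' hi
  have hdvd : ∀ i, deg i ∣ L := fun i => Finset.dvd_lcm (Finset.mem_univ i)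
  have hq : ∀ i, (L / deg i) * deg i = L := fun i => Nat.div_mul_cancel (hdvd i)
  have hmon := H7_graded_mon 𝒜 f deg hf
  apply le_antisymm
  · intro r hr
    refine Submodule.span_le.2 ?_ (H7_graded_span 𝒜 f deg hf hgen _ r hr)
    rintro x ⟨e, he, rfl⟩
    have hex : ∃ i, L / deg i ≤ e i := by
      by_contra hcon
      push Not at hcon
      have h1 : ∀ i, e i * deg i ≤ L - 1 := by
        intro i
        have h2 : e i ≤ L / deg i - 1 := by have := hcon i; omega
        have h3 : 1 ≤ L / deg i := Nat.div_pos (Nat.le_of_dvd hLpos (hdvd i)) (hdeg i)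
        calc e i * deg i ≤ (L / deg i - 1) * deg i := Nat.mul_le_mul_right _ h2
          _ = L - deg i := by rw [Nat.sub_mul, hq i, one_mul]
          _ ≤ L - 1 := by have := hdeg i; omega
      have h4 : ∑ i, e i * deg i ≤ s * (L - 1) := by
        calc ∑ i, e i * deg i ≤ ∑ _i : Fin s, (L - 1) := Finset.sum_le_sum (fun i _ => h1 i)
          _ = s * (L - 1) := by rw [Finset.sum_const, Finset.card_univ, Fintype.card_fin, smul_eq_mul]
      rcases Nat.eq_zero_or_pos s with hs0 | hspos
      · have h6 : s * (L - 1) = 0 := by rw [hs0, zero_mul]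
        omega
      · have h5 : s * (L - 1) = (s - 1) * (L - 1) + (L - 1) := by
          obtain ⟨s', rfl⟩ : ∃ s', s = s' + 1 := ⟨s - 1, by omega⟩
          rw [Nat.add_sub_cancel]; ring
        omega
    obtain ⟨i, hi⟩ := hex
    let t : Fin s → ℕ := fun j => if j = i then L / deg i else 0
    let u : Fin s → ℕ := fun j => e j - t j
    have htle : ∀ j, t j ≤ e j := by
      intro j
      simp only [t]
      split_ifs with h
      · rw [h]; exact hi
      · exact Nat.zero_le _
    have htsum : ∑ j, t j * deg j = L := by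
      simp only [t, ite_mul, zero_mul, Finset.sum_ite_eq', Finset.mem_univ, if_true]
      exact hq i
    have husum : ∑ j, u j * deg j = n := by
      have : ∑ j, e j * deg j = ∑ j, t j * deg j + ∑ j, u j * deg j := by
        rw [← Finset.sum_add_distrib]
        refine Finset.sum_congr rfl fun j _ => ?_
        rw [← add_mul]; congr 1
        have := htle j; simp only [u]; omega
      omega
    have hprod : ∏ j, f j ^ e j = (∏ j, f j ^ u j) * ∏ j, f j ^ t j := by
      rw [← Finset.prod_mul_distrib]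
      refine Finset.prod_congr rfl fun j _ => ?_
      rw [← pow_add]; congr 1
      have := htle j; simp only [u]; omega
    rw [hprod]
    refine Submodule.mul_mem_mul ?_ ?_
    · have := hmon u; rwa [husum] at this
    · have := hmon t; rwa [htsum] at this
  · rw [Submodule.mul_le]
    intro a ha b hb
    exact SetLike.mul_mem_graded ha hb

theorem H7_S13165 {R A : Type u} [CommRing R] [CommRing A] [Algebra R A] (𝒜 : ℕ → Submodule R A) [GradedAlgebra 𝒜]
    {s : ℕ} (f : Fin s → A) (deg : Fin s → ℕ) (hdeg : ∀ i, 0 < deg i) (hf : ∀ i, f i ∈ 𝒜 (deg i))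
    (hgen : Algebra.adjoin R (Set.range f) = ⊤) (a : ℕ) (ha : s - 1 ≤ a) (k : ℕ) :
    𝒜 (k * (a * Finset.univ.lcm deg)) = 𝒜 (a * Finset.univ.lcm deg) ^ k := by
  classical
  set L := Finset.univ.lcm deg with hL
  have hpow : ∀ d j : ℕ, 𝒜 d ^ j ≤ 𝒜 (j * d) := by
    intro d j
    induction j with
    | zero =>
      rw [pow_zero, zero_mul, Submodule.one_le]
      exact SetLike.one_mem_graded 𝒜
    | succ j ih =>
      rw [pow_succ, Submodule.mul_le]
      intro x hx y hy
      have := SetLike.mul_mem_graded (ih hx) hy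
      have e : j * d + d = (j + 1) * d := by ring
      rwa [e] at this
  have hstep : ∀ n, (s - 1) * (L - 1) ≤ n → ∀ j, 𝒜 (n + j * L) = 𝒜 n * 𝒜 L ^ j := by
    intro n hn j
    induction j with
    | zero => rw [zero_mul, add_zero, pow_zero, mul_one]
    | succ j ih =>
      have e : n + (j + 1) * L = (n + j * L) + L := by ring
      rw [e, H7_S13164 𝒜 f deg hdeg hf hgen (n + j * L) (le_trans hn (Nat.le_add_right _ _)), ih,
        pow_succ, mul_assoc]
  induction k with
  | zero =>
    rw [zero_mul, pow_zero]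
    apply le_antisymm
    · intro r hr
      have := H7_graded_span 𝒜 f deg hf hgen 0 r hr
      rw [Submodule.one_eq_span]
      refine Submodule.span_mono ?_ this
      rintro x ⟨e, he, rfl⟩
      have he0 : ∀ i, e i = 0 := by
        intro i
        have h1 : e i * deg i = 0 :=
          (Finset.sum_eq_zero_iff_of_nonneg (fun _ _ => Nat.zero_le _)).1 he i (Finset.mem_univ i)
        rcases Nat.mul_eq_zero.1 h1 with h | h
        · exact h
        · exact absurd h (hdeg i).ne'
      simp [he0]
    · rw [Submodule.one_le]; exact SetLike.one_mem_graded 𝒜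
  | succ k ih =>
    apply le_antisymm
    · have hbound : (s - 1) * (L - 1) ≤ a * L := Nat.mul_le_mul ha (Nat.sub_le _ _)
      have e : (k + 1) * (a * L) = a * L + (k * a) * L := by ring
      rw [e, hstep (a * L) hbound (k * a), pow_succ', mul_comm k a, pow_mul]
      exact mul_le_mul' le_rfl (pow_le_pow_left' (hpow L a) k)
    · exact hpow _ _

end Groth.Agent.Lib.helper7
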