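import Mathlib

universe u

namespace Groth.Agent.Lib.helper7

section
variable {R A : Type u} [CommRing R] [CommRing A] [Algebra R A] (𝒜 : ℕ → Submodule R A) [GradedAlgebra 𝒜]
  {σ : Type*} [Fintype σ] (f : σ → A) (deg : σ → ℕ)

def H7_GenBy : Prop := ∀ n, ∀ r ∈ 𝒜 n, r ∈ Submodule.span R
  {x | ∃ c ∈ 𝒜 0, ∃ e : σ → ℕ, ∑ i, e i * deg i = n ∧ x = c * ∏ i, f i ^ e i}

theorem H7_mon_mem (hf : ∀ i, f i ∈ 𝒜 (deg i)) (e : σ → ℕ) : ∏ i, f i ^ e i ∈ 𝒜 (∑ i, e i * deg i) := by
  have := SetLike.prod_pow_mem_graded 𝒜 deg f (F := Finset.univ) e (fun i _ => hf i)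
  simpa [smul_eq_mul] using this

theorem H7_cmon_mem (hf : ∀ i, f i ∈ 𝒜 (deg i)) (c : A) (hc : c ∈ 𝒜 0) (e : σ → ℕ) :
    c * ∏ i, f i ^ e i ∈ 𝒜 (∑ i, e i * deg i) := by
  have := SetLike.mul_mem_graded hc (H7_mon_mem 𝒜 f deg hf e)
  rwa [zero_add] at this

theorem H7_genBy_of_adjoin (hf : ∀ i, f i ∈ 𝒜 (deg i))
    (hgen : Algebra.adjoin (𝒜 0) (Set.range f) = ⊤) : H7_GenBy 𝒜 f deg := by
  classical
  intro n r hr
  have hr' : r ∈ (MvPolynomial.aeval f : MvPolynomial σ (𝒜 0) →ₐ[𝒜 0] A).range := by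
    rw [← Algebra.adjoin_range_eq_range_aeval, hgen]; trivial
  obtain ⟨p, hp⟩ := hr'
  have hp' : MvPolynomial.aeval f p = r := hp
  subst hp'
  have h1 : MvPolynomial.aeval f p = GradedAlgebra.proj 𝒜 n (MvPolynomial.aeval f p) := by
    rw [GradedAlgebra.proj_apply, DirectSum.decompose_of_mem_same 𝒜 hr]
  have h2 : MvPolynomial.aeval f p
      = ∑ s ∈ p.support, ((MvPolynomial.coeff s p : 𝒜 0) : A) * ∏ i, f i ^ s i := by
    conv_lhs => rw [MvPolynomial.as_sum p]
    rw [map_sum]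
    refine Finset.sum_congr rfl fun s _ => ?_
    rw [MvPolynomial.aeval_monomial, Finsupp.prod_fintype _ _ (fun i => pow_zero _)]
    rfl
  rw [h1, h2, map_sum]
  refine Submodule.sum_mem _ fun s _ => ?_
  rw [GradedAlgebra.proj_apply]
  have hmem := H7_cmon_mem 𝒜 f deg hf ((MvPolynomial.coeff s p : 𝒜 0) : A)
    (MvPolynomial.coeff s p).2 (fun i => s i)
  by_cases hs : ∑ i, s i * deg i = n
  · rw [DirectSum.decompose_of_mem_same 𝒜 (hs ▸ hmem)]
    exact Submodule.subset_span ⟨_, (MvPolynomial.coeff s p).2, fun i => s i, hs, rfl⟩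
  · rw [DirectSum.decompose_of_mem_ne 𝒜 hmem hs]
    exact Submodule.zero_mem _

theorem H7_core1 (hdeg : ∀ i, 0 < deg i) (hf : ∀ i, f i ∈ 𝒜 (deg i)) (hH : H7_GenBy 𝒜 f deg)
    (L : ℕ) (hLpos : 0 < L) (hdvd : ∀ i, deg i ∣ L) (n : ℕ)
    (hn : (Fintype.card σ - 1) * (L - 1) ≤ n) :
    𝒜 (n + L) = 𝒜 n * 𝒜 L := by
  classical
  have hq : ∀ i, (L / deg i) * deg i = L := fun i => Nat.div_mul_cancel (hdvd i)
  apply le_antisymm
  · intro r hr
    refine Submodule.span_le.2 ?_ (hH _ r hr)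
    rintro x ⟨c, hc, e, he, rfl⟩
    have hex : ∃ i, L / deg i ≤ e i := by
      by_contra hcon
      push Not at hcon
      have h1 : ∀ i, e i * deg i ≤ L - 1 := by
        intro i
        have h2 : e i ≤ L / deg i - 1 := by have := hcon i; omega
        calc e i * deg i ≤ (L / deg i - 1) * deg i := Nat.mul_le_mul_right _ h2
          _ = L - deg i := by rw [Nat.sub_mul, hq i, one_mul]
          _ ≤ L - 1 := by have := hdeg i; omega
      have h4 : ∑ i, e i * deg i ≤ Fintype.card σ * (L - 1) := by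
        calc ∑ i, e i * deg i ≤ ∑ _i : σ, (L - 1) := Finset.sum_le_sum (fun i _ => h1 i)
          _ = Fintype.card σ * (L - 1) := by rw [Finset.sum_const, Finset.card_univ, smul_eq_mul]
      rcases Nat.eq_zero_or_pos (Fintype.card σ) with hs0 | hspos
      · have h6 : Fintype.card σ * (L - 1) = 0 := by rw [hs0, zero_mul]
        omega
      · have h5 : Fintype.card σ * (L - 1) = (Fintype.card σ - 1) * (L - 1) + (L - 1) := by
          obtain ⟨s', hs'⟩ : ∃ s', Fintype.card σ = s' + 1 := ⟨Fintype.card σ - 1, by omega⟩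
          rw [hs', Nat.add_sub_cancel]; ring
        omega
    obtain ⟨i, hi⟩ := hex
    let t : σ → ℕ := fun j => if j = i then L / deg i else 0
    let u : σ → ℕ := fun j => e j - t j
    have htle : ∀ j, t j ≤ e j := by
      intro j
      simp only [t]
      split_ifs with h
      · rw [h]; exact hi
      · exact Nat.zero_le _
    have htsum : ∑ j, t j * deg j = L := by
      simp only [t, ite_mul, zero_mul, Finset.sum_ite_eq', Finset.mem_univ, if_true]
      exact hq i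
    have husum : ∑ j, u j * deg j = n := by
      have : ∑ j, e j * deg j = ∑ j, t j * deg j + ∑ j, u j * deg j := by
        rw [← Finset.sum_add_distrib]
        refine Finset.sum_congr rfl fun j _ => ?_
        rw [← add_mul]; congr 1
        have := htle j; simp only [u]; omega
      omega
    have hprod : c * ∏ j, f j ^ e j = (c * ∏ j, f j ^ u j) * ∏ j, f j ^ t j := by
      rw [mul_assoc, ← Finset.prod_mul_distrib]
      congr 1
      refine Finset.prod_congr rfl fun j _ => ?_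
      rw [← pow_add]; congr 1
      have := htle j; simp only [u]; omega
    rw [hprod]
    refine Submodule.mul_mem_mul ?_ ?_
    · have := H7_cmon_mem 𝒜 f deg hf c hc u; rwa [husum] at this
    · have := H7_mon_mem 𝒜 f deg hf t; rwa [htsum] at this
  · rw [Submodule.mul_le]
    intro a ha b hb
    exact SetLike.mul_mem_graded ha hb

theorem H7_graded_pow_le (d j : ℕ) : 𝒜 d ^ j ≤ 𝒜 (j * d) := by
  induction j with
  | zero =>
    rw [pow_zero, zero_mul, Submodule.one_le]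
    exact SetLike.one_mem_graded 𝒜
  | succ j ih =>
    rw [pow_succ, Submodule.mul_le]
    intro x hx y hy
    have := SetLike.mul_mem_graded (ih hx) hy
    have e : j * d + d = (j + 1) * d := by ring
    rwa [e] at this

theorem H7_core2 (hdeg : ∀ i, 0 < deg i) (hf : ∀ i, f i ∈ 𝒜 (deg i)) (hH : H7_GenBy 𝒜 f deg)
    (L : ℕ) (hLpos : 0 < L) (hdvd : ∀ i, deg i ∣ L) (a : ℕ) (ha : Fintype.card σ - 1 ≤ a) (k : ℕ) :
    𝒜 ((k + 1) * (a * L)) = 𝒜 (a * L) ^ (k + 1) := by
  have hstep : ∀ n, (Fintype.card σ - 1) * (L - 1) ≤ n → ∀ j, 𝒜 (n + j * L) = 𝒜 n * 𝒜 L ^ j := by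
    intro n hn j
    induction j with
    | zero => rw [zero_mul, add_zero, pow_zero, mul_one]
    | succ j ih =>
      have e : n + (j + 1) * L = (n + j * L) + L := by ring
      rw [e, H7_core1 𝒜 f deg hdeg hf hH L hLpos hdvd (n + j * L)
        (le_trans hn (Nat.le_add_right _ _)), ih, pow_succ, mul_assoc]
  apply le_antisymm
  · have hbound : (Fintype.card σ - 1) * (L - 1) ≤ a * L := Nat.mul_le_mul ha (Nat.sub_le _ _)
    have e : (k + 1) * (a * L) = a * L + (k * a) * L := by ring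
    rw [e, hstep (a * L) hbound (k * a), pow_succ', mul_comm k a, pow_mul]
    exact mul_le_mul' le_rfl (pow_le_pow_left' (H7_graded_pow_le 𝒜 L a) k)
  · exact H7_graded_pow_le 𝒜 _ _

end

theorem H7_S4393 {R A : Type u} [CommRing R] [CommRing A] [Algebra R A] (𝒜 : ℕ → Submodule R A)
    [GradedAlgebra 𝒜] [Algebra.FiniteType (𝒜 0) A] :
    ∃ h : ℕ, 0 < h ∧ ∀ m : ℕ, 0 < m → 𝒜 (m * h) = (𝒜 h : Submodule R A) ^ m := by
  classical
  obtain ⟨T, hT, hTdeg⟩ := GradedAlgebra.exists_finset_adjoin_eq_top_and_homogeneous_ne_zero 𝒜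
  choose! dg hdg0 hdg using hTdeg
  let f : T → A := fun i => i.1
  let deg : T → ℕ := fun i => dg i.1
  have hdeg : ∀ i, 0 < deg i := fun i => Nat.pos_of_ne_zero (hdg0 i.1 i.2)
  have hf : ∀ i, f i ∈ 𝒜 (deg i) := fun i => hdg i.1 i.2
  have hgen : Algebra.adjoin (𝒜 0) (Set.range f) = ⊤ := by
    have : Set.range f = (T : Set A) := by
      ext x; simp [f]
    rw [this]; exact hT
  have hH := H7_genBy_of_adjoin 𝒜 f deg hf hgen
  set L := Finset.univ.lcm deg with hL
  have hLpos : 0 < L := by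
    apply Nat.pos_of_ne_zero
    rw [hL, Ne, Finset.lcm_eq_zero_iff]
    rintro ⟨i, -, hi⟩
    exact (hdeg i).ne' hi
  have hdvd : ∀ i, deg i ∣ L := fun i => Finset.dvd_lcm (Finset.mem_univ i)
  refine ⟨(Fintype.card T + 1) * L, Nat.mul_pos (Nat.succ_pos _) hLpos, fun m hm => ?_⟩
  obtain ⟨k, rfl⟩ : ∃ k, m = k + 1 := ⟨m - 1, by omega⟩
  exact H7_core2 𝒜 f deg hdeg hf hH L hLpos hdvd (Fintype.card T + 1) (by omega) k

end Groth.Agent.Lib.helper7
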