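import Mathlib
import Groth.Agent.Lib.helper7.GradedGen2

universe u

namespace Groth.Agent.Lib.helper7

section
variable {R A : Type u} [CommRing R] [CommRing A] [Algebra R A] (𝒜 : ℕ → Submodule R A) [GradedAlgebra 𝒜]
  {M : Type u} [AddCommGroup M] [Module R M] [Module A M] [IsScalarTower R A M]
  (ℳ : ℕ → Submodule R M) [DirectSum.Decomposition ℳ] [SetLike.GradedSMul 𝒜 ℳ]

/-- n-th component as an additive map -/
noncomputable def H7_comp (n : ℕ) : M →+ M where
  toFun := fun y => ((DirectSum.decompose ℳ y) n : M)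
  map_zero' := by simp
  map_add' := by intro a b; simp [DirectSum.decompose_add]

theorem H7_comp_same (n : ℕ) {y : M} (hy : y ∈ ℳ n) : H7_comp ℳ n y = y := by
  simp only [H7_comp, AddMonoidHom.coe_mk, ZeroHom.coe_mk]
  rw [DirectSum.decompose_of_mem_same ℳ hy]

theorem H7_comp_ne (n : ℕ) {i : ℕ} {y : M} (hy : y ∈ ℳ i) (hne : i ≠ n) : H7_comp ℳ n y = 0 := by
  simp only [H7_comp, AddMonoidHom.coe_mk, ZeroHom.coe_mk]
  rw [DirectSum.decompose_of_mem_ne ℳ hy hne]

theorem H7_mod_gens {τ : Type*} [Fintype τ] (m : τ → M) (d : τ → ℕ) (hm : ∀ j, m j ∈ ℳ (d j))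
    (hspan : Submodule.span A (Set.range m) = ⊤) (n : ℕ) (x : M) (hx : x ∈ ℳ n) :
    x ∈ Submodule.span R {y | ∃ j, ∃ a ∈ 𝒜 (n - d j), d j ≤ n ∧ y = a • m j} := by
  classical
  have hx' : x ∈ Submodule.span A (Set.range m) := by rw [hspan]; trivial
  obtain ⟨a, rfl⟩ := (Submodule.mem_span_range_iff_exists_fun A).1 hx'
  have h1 : ∀ j, a j • m j = ∑ i ∈ (DirectSum.decompose 𝒜 (a j)).support,
      ((DirectSum.decompose 𝒜 (a j) i : A)) • m j := by
    intro j
    conv_lhs => rw [← DirectSum.sum_support_decompose 𝒜 (a j)]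
    rw [Finset.sum_smul]
  have h2 : ∑ j, a j • m j = H7_comp ℳ n (∑ j, a j • m j) := (H7_comp_same ℳ n hx).symm
  rw [h2, map_sum]
  refine Submodule.sum_mem _ (fun j _ => ?_)
  rw [h1 j, map_sum]
  refine Submodule.sum_mem _ (fun i _ => ?_)
  have hmem : ((DirectSum.decompose 𝒜 (a j) i : A)) • m j ∈ ℳ (i + d j) :=
    SetLike.GradedSMul.smul_mem (A := 𝒜) (B := ℳ) (i := i) (j := d j)
      (SetLike.coe_mem (DirectSum.decompose 𝒜 (a j) i)) (hm j)
  by_cases hi : i + d j = n
  · rw [H7_comp_same ℳ n (hi ▸ hmem)]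
    refine Submodule.subset_span ⟨j, _, ?_, by omega, rfl⟩
    have : n - d j = i := by omega
    rw [this]; exact SetLike.coe_mem _
  · rw [H7_comp_ne ℳ n hmem hi]
    exact Submodule.zero_mem _

theorem H7_exists_homog_gens [Module.Finite A M] :
    ∃ (τ : Type) (_ : Fintype τ) (m : τ → M) (d : τ → ℕ), (∀ j, m j ∈ ℳ (d j)) ∧
      Submodule.span A (Set.range m) = ⊤ := by
  classical
  obtain ⟨t, g, hg⟩ := Module.Finite.exists_fin (R := A) (M := M)
  let N : ℕ := Finset.univ.sup (fun j : Fin t => (DirectSum.decompose ℳ (g j)).support.sup id)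
  refine ⟨Fin t × Fin (N + 1), inferInstance, fun p => (DirectSum.decompose ℳ (g p.1) p.2.val : M),
    fun p => p.2.val, fun p => SetLike.coe_mem _, ?_⟩
  rw [eq_top_iff, ← hg, Submodule.span_le]
  rintro _ ⟨j, rfl⟩
  rw [← DirectSum.sum_support_decompose ℳ (g j)]
  refine Submodule.sum_mem _ (fun i hi => ?_)
  have hiN : i < N + 1 := by
    have h1 : i ≤ (DirectSum.decompose ℳ (g j)).support.sup id := Finset.le_sup (f := id) hi
    have h2 : (DirectSum.decompose ℳ (g j)).support.sup id ≤ N :=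
      Finset.le_sup (f := fun j : Fin t => (DirectSum.decompose ℳ (g j)).support.sup id)
        (Finset.mem_univ j)
    omega
  exact Submodule.subset_span ⟨(j, ⟨i, hiN⟩), rfl⟩

end

theorem H7_S4392 {R A : Type u} [CommRing R] [CommRing A] [Algebra R A] (𝒜 : ℕ → Submodule R A) [GradedAlgebra 𝒜] [Algebra.FiniteType (𝒜 0) A]
    {M : Type u} [AddCommGroup M] [Module R M] [Module A M] [IsScalarTower R A M] (ℳ : ℕ → Submodule R M) [DirectSum.Decomposition ℳ] [SetLike.GradedSMul 𝒜 ℳ] [Module.Finite A M] :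
    ∃ (n₁ h : ℕ), 0 < h ∧ ∀ n : ℕ, n₁ ≤ n → ℳ (n + h) = (𝒜 h : Submodule R A) • (ℳ n : Submodule R M) := by
  classical
  obtain ⟨T, hT, hTdeg⟩ := GradedAlgebra.exists_finset_adjoin_eq_top_and_homogeneous_ne_zero 𝒜
  choose! dg hdg0 hdg using hTdeg
  let f : T → A := fun i => i.1
  let deg : T → ℕ := fun i => dg i.1
  have hdeg : ∀ i, 0 < deg i := fun i => Nat.pos_of_ne_zero (hdg0 i.1 i.2)
  have hf : ∀ i, f i ∈ 𝒜 (deg i) := fun i => hdg i.1 i.2
  have hgen : Algebra.adjoin (𝒜 0) (Set.range f) = ⊤ := by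
    have : Set.range f = (T : Set A) := by
      ext x; simp [f]
    rw [this]; exact hT
  have hH := H7_genBy_of_adjoin 𝒜 f deg hf hgen
  set L := Finset.univ.lcm deg with hL
  have hLpos : 0 < L := by
    apply Nat.pos_of_ne_zero
    rw [hL, Ne, Finset.lcm_eq_zero_iff]
    rintro ⟨i, -, hi⟩
    exact (hdeg i).ne' hi
  have hdvd : ∀ i, deg i ∣ L := fun i => Finset.dvd_lcm (Finset.mem_univ i)
  obtain ⟨τ, _, m, d, hm, hspan⟩ := H7_exists_homog_gens (A := A) ℳ
  let D : ℕ := Finset.univ.sup d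
  have hD : ∀ j, d j ≤ D := fun j => Finset.le_sup (f := d) (Finset.mem_univ j)
  refine ⟨D + (Fintype.card T - 1) * (L - 1), L, hLpos, fun n hn => ?_⟩
  apply le_antisymm
  · intro x hx
    refine Submodule.span_le.2 ?_ (H7_mod_gens 𝒜 ℳ m d hm hspan (n + L) x hx)
    rintro y ⟨j, a, ha, hj, rfl⟩
    have hdj : d j ≤ n := le_trans (hD j) (by omega)
    have e1 : n + L - d j = (n - d j) + L := by omega
    rw [e1, H7_core1 𝒜 f deg hdeg hf hH L hLpos hdvd (n - d j) (by have := hD j; omega)] at ha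
    refine Submodule.mul_induction_on ha (fun b hb c hc => ?_) (fun u v hu hv => ?_)
    · rw [mul_comm, mul_smul]
      refine Submodule.smul_mem_smul hc ?_
      have := SetLike.GradedSMul.smul_mem (A := 𝒜) (B := ℳ) hb (hm j)
      have e2 : n - d j + d j = n := by omega
      change b • m j ∈ ℳ (n - d j + d j) at this
      rwa [e2] at this
    · rw [add_smul]; exact add_mem hu hv
  · rw [Submodule.smul_le]
    intro a ha x hx
    have := SetLike.GradedSMul.smul_mem (A := 𝒜) (B := ℳ) ha hx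
    change a • x ∈ ℳ (L + n) at this
    rwa [add_comm] at this

end Groth.Agent.Lib.helper7
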