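import Mathlib
import Groth.Agent.Lib.helper7.GradedMod

universe u

namespace Groth.Agent.Lib.helper7

theorem H7_gradeZero_tower {A S : Type u} [CommRing A] [CommRing S] [Algebra A S]
    (𝒜 : ℕ → Submodule A S) [GradedAlgebra 𝒜] : IsScalarTower A (𝒜 0) S :=
  ⟨fun a b c => by
    change ((a • b : 𝒜 0) : S) * c = a • ((b : S) * c)
    rw [Submodule.coe_smul, smul_mul_assoc]⟩

theorem H7_S9617 {A S : Type u} [CommRing A] [CommRing S] [Algebra A S] (𝒜 : ℕ → Submodule A S) [GradedAlgebra 𝒜]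
    (h0 : ∀ s ∈ 𝒜 0, s ∈ Set.range (algebraMap A S)) [Algebra.FiniteType A S]
    (M : Type u) [AddCommGroup M] [Module A M] [Module S M] [IsScalarTower A S M] [Module.Finite S M] (ℳ : ℕ → Submodule A M) [DirectSum.Decomposition ℳ] [SetLike.GradedSMul 𝒜 ℳ] (n : ℕ) :
    Module.Finite A (ℳ n) := by
  classical
  have _ := H7_gradeZero_tower 𝒜
  have _ : Algebra.FiniteType (𝒜 0) S := Algebra.FiniteType.of_restrictScalars_finiteType A (𝒜 0) S
  obtain ⟨T, hT, hTdeg⟩ := GradedAlgebra.exists_finset_adjoin_eq_top_and_homogeneous_ne_zero 𝒜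
  choose! dg hdg0 hdg using hTdeg
  let f : T → S := fun i => i.1
  let deg : T → ℕ := fun i => dg i.1
  have hdeg : ∀ i, 0 < deg i := fun i => Nat.pos_of_ne_zero (hdg0 i.1 i.2)
  have hf : ∀ i, f i ∈ 𝒜 (deg i) := fun i => hdg i.1 i.2
  have hgen : Algebra.adjoin (𝒜 0) (Set.range f) = ⊤ := by
    have : Set.range f = (T : Set S) := by
      ext x; simp [f]
    rw [this]; exact hT
  have hH := H7_genBy_of_adjoin 𝒜 f deg hf hgen
  obtain ⟨τ, _, m, d, hm, hspan⟩ := H7_exists_homog_gens (A := S) ℳ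
  let g : τ × (T → Fin (n + 1)) → M := fun p => (∏ i, f i ^ (p.2 i : ℕ)) • m p.1
  let Z : Set M := g '' {p | d p.1 ≤ n ∧ ∑ i, (p.2 i : ℕ) * deg i = n - d p.1}
  have hZfin : Z.Finite := (Set.toFinite _).image g
  have hZmem : ∀ z ∈ Z, z ∈ ℳ n := by
    rintro z ⟨p, ⟨hp1, hp2⟩, rfl⟩
    have h1 := H7_mon_mem 𝒜 f deg hf (fun i => (p.2 i : ℕ))
    have h2 := SetLike.GradedSMul.smul_mem (A := 𝒜) (B := ℳ) h1 (hm p.1)
    change (∏ i, f i ^ (p.2 i : ℕ)) • m p.1 ∈ ℳ (∑ i, (p.2 i : ℕ) * deg i + d p.1) at h2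
    have e : ∑ i, (p.2 i : ℕ) * deg i + d p.1 = n := by omega
    rwa [e] at h2
  have hle : ℳ n ≤ Submodule.span A Z := by
    intro x hx
    refine Submodule.span_le.2 ?_ (H7_mod_gens 𝒜 ℳ m d hm hspan n x hx)
    rintro y ⟨j, a, ha, hj, rfl⟩
    have ha' := hH _ a ha
    refine Submodule.span_induction (p := fun a _ => a • m j ∈ Submodule.span A Z) ?_ ?_ ?_ ?_ ha'
    · rintro _ ⟨c, hc, e, he, rfl⟩
      obtain ⟨a', rfl⟩ := h0 c hc
      have hei : ∀ i, e i < n + 1 := by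
        intro i
        have h1 : e i * deg i ≤ ∑ i, e i * deg i :=
          Finset.single_le_sum (f := fun i => e i * deg i) (fun _ _ => Nat.zero_le _) (Finset.mem_univ i)
        have h2 : e i ≤ e i * deg i := Nat.le_mul_of_pos_right _ (hdeg i)
        omega
      have : (algebraMap A S a' * ∏ i, f i ^ e i) • m j =
          a' • g (j, fun i => ⟨e i, hei i⟩) := by
        simp only [g]
        rw [mul_smul, algebraMap_smul]
      rw [this]
      refine Submodule.smul_mem _ _ (Submodule.subset_span ⟨(j, fun i => ⟨e i, hei i⟩), ⟨hj, ?_⟩, rfl⟩)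
      exact he
    · rw [zero_smul]; exact Submodule.zero_mem _
    · intro u v _ _ hu hv; rw [add_smul]; exact add_mem hu hv
    · intro r u _ hu; rw [smul_assoc]; exact Submodule.smul_mem _ _ hu
  have heq : ℳ n = Submodule.span A Z := le_antisymm hle (Submodule.span_le.2 hZmem)
  have hfg : (ℳ n).FG := by
    rw [heq]; exact Submodule.fg_span hZfin
  exact Module.Finite.iff_fg.2 hfg

end Groth.Agent.Lib.helper7
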