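import Mathlib
universe u v
open DirectSum
namespace Groth.Agent.Lib.helper7

section
variable {R : Type u} {A : Type v} [CommRing R] [CommRing A]
    [Algebra R A] (𝒜 : ℕ → Submodule R A) [GradedRing 𝒜]

lemma H7_gpa_single (I : Ideal A) (hI : I.IsHomogeneous 𝒜)
    (hIirr : I ≤ (HomogeneousIdeal.irrelevant 𝒜).toIdeal) (q : Ideal A) (hq : ¬ I ≤ q) :
    ∃ (z : A) (n : ℕ), 0 < n ∧ z ∈ 𝒜 n ∧ z ∈ I ∧ z ∉ q := by
  classical
  obtain ⟨x, hxI, hxq⟩ := SetLike.not_le_iff_exists.1 hq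
  have hex : ∃ i, (DirectSum.decompose 𝒜 x i : A) ∉ q := by
    by_contra hcon
    push Not at hcon
    apply hxq
    rw [← DirectSum.sum_support_decompose 𝒜 x]
    exact q.sum_mem (fun i _ => hcon i)
  obtain ⟨i, hi⟩ := hex
  refine ⟨(DirectSum.decompose 𝒜 x i : A), i, ?_, SetLike.coe_mem _, hI i hxI, hi⟩
  rcases Nat.eq_zero_or_pos i with h0 | h0
  · exfalso
    apply hi
    have := hIirr hxI
    rw [HomogeneousIdeal.mem_iff, HomogeneousIdeal.mem_irrelevant_iff, GradedRing.proj_apply] at this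
    rw [h0, this]
    exact q.zero_mem
  · exact h0

theorem H7_gpa (I : Ideal A) (hI : I.IsHomogeneous 𝒜)
    (hIirr : I ≤ (HomogeneousIdeal.irrelevant 𝒜).toIdeal) (P : Finset (Ideal A))
    (hP : ∀ p ∈ P, p.IsPrime ∧ ¬ I ≤ p) :
    ∃ (z : A) (n : ℕ), 0 < n ∧ z ∈ 𝒜 n ∧ z ∈ I ∧ ∀ p ∈ P, z ∉ p := by
  classical
  induction P using Finset.strongInduction with
  | H P ih =>
    rcases P.eq_empty_or_nonempty with hemp | ⟨q0, hq0⟩
    · subst hemp
      exact ⟨0, 1, Nat.one_pos, Submodule.zero_mem _, I.zero_mem, by simp⟩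
    set P0 := P.erase q0 with hP0
    rcases P0.eq_empty_or_nonempty with hemp0 | hne0
    · obtain ⟨z, n, hn, hz, hzI, hzq⟩ := H7_gpa_single 𝒜 I hI hIirr q0 (hP q0 hq0).2
      refine ⟨z, n, hn, hz, hzI, fun p hp => ?_⟩
      have : p = q0 := by
        by_contra hne
        have : p ∈ P0 := Finset.mem_erase.2 ⟨hne, hp⟩
        rw [hemp0] at this
        exact absurd this (Finset.notMem_empty _)
      rw [this]; exact hzq
    have ih' : ∀ q ∈ P, ∃ (z : A) (n : ℕ), 0 < n ∧ z ∈ 𝒜 n ∧ z ∈ I ∧ ∀ p ∈ P.erase q, z ∉ p :=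
      fun q hq => ih (P.erase q) (Finset.erase_ssubset hq)
        (fun p hp => hP p (Finset.mem_of_mem_erase hp))
    choose! x n hn hx hxI hxav using ih'
    by_cases hcase : ∃ q ∈ P, x q ∉ q
    · obtain ⟨q, hq, hxq⟩ := hcase
      refine ⟨x q, n q, hn q hq, hx q hq, hxI q hq, fun p hp => ?_⟩
      by_cases hpq : p = q
      · rw [hpq]; exact hxq
      · exact hxav q hq p (Finset.mem_erase.2 ⟨hpq, hp⟩)
    push Not at hcase
    have hP0P : ∀ q ∈ P0, q ∈ P := fun q hq => Finset.mem_of_mem_erase hq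
    set y := ∏ q ∈ P0, x q with hy
    set v := ∑ q ∈ P0, n q with hv
    set u := n q0 with hu
    have hupos : 0 < u := hn q0 hq0
    have hvpos : 0 < v := Finset.sum_pos (fun q hq => hn q (hP0P q hq)) hne0
    have hyv : y ∈ 𝒜 v := SetLike.prod_mem_graded 𝒜 n x (fun q hq => hx q (hP0P q hq))
    have hq0prime : q0.IsPrime := (hP q0 hq0).1
    have hyq0 : y ∉ q0 := by
      intro hmem
      rw [hy, Ideal.IsPrime.prod_mem_iff] at hmem
      obtain ⟨q, hq, hxq⟩ := hmem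
      have hqne : q0 ≠ q := fun h => (Finset.mem_erase.1 hq).1 h.symm
      exact hxav q (hP0P q hq) q0 (Finset.mem_erase.2 ⟨hqne, hq0⟩) hxq
    have hyq : ∀ q ∈ P0, y ∈ q := by
      intro q hq
      rw [hy, ← Finset.mul_prod_erase P0 x hq]
      exact q.mul_mem_right _ (hcase q (hP0P q hq))
    have hyI : y ∈ I := by
      obtain ⟨q, hq⟩ := hne0
      rw [hy, ← Finset.mul_prod_erase P0 x hq]
      exact I.mul_mem_right _ (hxI q (hP0P q hq))
    refine ⟨x q0 ^ v + y ^ u, u * v, Nat.mul_pos hupos hvpos, ?_, ?_, ?_⟩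
    · apply Submodule.add_mem
      · have := SetLike.pow_mem_graded v (hx q0 hq0)
        rwa [smul_eq_mul, mul_comm] at this
      · have := SetLike.pow_mem_graded u hyv
        rwa [smul_eq_mul] at this
    · exact I.add_mem (Ideal.pow_mem_of_mem I (hxI q0 hq0) v hvpos) (Ideal.pow_mem_of_mem I hyI u hupos)
    · intro p hp hz
      by_cases hpq : p = q0
      · subst hpq
        have h1 : x p ^ v ∈ p := Ideal.pow_mem_of_mem p (hcase p hq0) v hvpos
        have h2 : y ^ u ∈ p := (Ideal.add_mem_iff_right p h1).1 hz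
        exact hyq0 (hq0prime.mem_of_pow_mem u h2)
      · have hp0 : p ∈ P0 := Finset.mem_erase.2 ⟨hpq, hp⟩
        have h1 : y ^ u ∈ p := Ideal.pow_mem_of_mem p (hyq p hp0) u hupos
        have h2 : x q0 ^ v ∈ p := (Ideal.add_mem_iff_left p h1).1 hz
        exact hxav q0 hq0 p hp0 ((hP p hp).1.mem_of_pow_mem v h2)

theorem H7_S15708 (J : Ideal A) (hJ : J.IsHomogeneous 𝒜) (P : Finset (Ideal A))
    (hP : ∀ p ∈ P, p.IsPrime ∧ ¬ (HomogeneousIdeal.irrelevant 𝒜).toIdeal ≤ p ∧ ¬ J ≤ p) :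
    ∃ (z : A) (n : ℕ), 0 < n ∧ z ∈ 𝒜 n ∧ z ∈ J ∧ ∀ p ∈ P, z ∉ p := by
  obtain ⟨z, n, hn, hz, hzI, hav⟩ := H7_gpa 𝒜 (J * (HomogeneousIdeal.irrelevant 𝒜).toIdeal)
    (hJ.mul (HomogeneousIdeal.irrelevant 𝒜).isHomogeneous) Ideal.mul_le_right P
    (fun p hp => ⟨(hP p hp).1, fun h => by
      rcases (hP p hp).1.mul_le.1 h with h1 | h1
      · exact (hP p hp).2.2 h1
      · exact (hP p hp).2.1 h1⟩)
  exact ⟨z, n, hn, hz, Ideal.mul_le_left hzI, hav⟩

end
end Groth.Agent.Lib.helper7
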