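import Mathlib

set_option autoImplicit false
universe u v

namespace Groth.Agent.Lib.helper7

open TensorProduct

theorem H7_grass_bot (A : Type u) [CommRing A] (P : Type v) [AddCommGroup P] [Module A P]
    [Module.Finite A P] [Module.Projective A P] (k : ℕ)
    (hk : ∀ p : PrimeSpectrum A, Module.rankAtStalk (R := A) P p = k) :
    (∃ N : Module.Grassmannian A P k, N.toSubmodule = ⊥) ∧
      ∀ N : Module.Grassmannian A P k, N.toSubmodule = ⊥ := by
  constructor
  · let e : (P ⧸ (⊥ : Submodule A P)) ≃ₗ[A] P := Submodule.quotEquivOfEqBot ⊥ rfl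
    refine ⟨⟨⊥, Module.Finite.equiv e.symm, Module.Projective.of_equiv e.symm, ?_⟩, rfl⟩
    intro p
    rw [Module.rankAtStalk_eq_of_equiv e, hk p]
  · intro N
    obtain ⟨s, hs⟩ := Module.projective_lifting_property N.toSubmodule.mkQ LinearMap.id
      (Submodule.mkQ_surjective _)
    have hex : Function.Exact N.toSubmodule.subtype N.toSubmodule.mkQ :=
      LinearMap.exact_subtype_mkQ _
    obtain ⟨e, he1, he2⟩ := (hex.splitSurjectiveEquiv (Submodule.injective_subtype _) ⟨s, hs⟩)
    have hfin : Module.Finite A N.toSubmodule :=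
      Module.Finite.of_surjective ((LinearMap.fst A N.toSubmodule (P ⧸ N.toSubmodule)) ∘ₗ e.toLinearMap)
        ((LinearMap.fst_surjective (R := A) (M := N.toSubmodule) (M₂ := P ⧸ N.toSubmodule)).comp e.surjective)
    have hproj : Module.Projective A N.toSubmodule := by
      refine Module.Projective.of_split N.toSubmodule.subtype
        ((LinearMap.fst A N.toSubmodule (P ⧸ N.toSubmodule)) ∘ₗ e.toLinearMap) ?_
      rw [he1]
      ext x
      simp
    have hrank := Module.rankAtStalk_prod (R := A) N.toSubmodule (P ⧸ N.toSubmodule)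
    have hrank2 := Module.rankAtStalk_eq_of_equiv e
    have h0 : Module.rankAtStalk (R := A) N.toSubmodule = 0 := by
      ext p
      have h1 := congrFun hrank p
      have h2 := congrFun hrank2 p
      have h3 := N.rankAtStalk_eq p
      have h4 := hk p
      simp only [Pi.add_apply] at h1
      simp only [Pi.zero_apply]
      omega
    have hsub : Subsingleton N.toSubmodule := Module.rankAtStalk_eq_zero_iff_subsingleton.1 h0
    exact Submodule.subsingleton_iff_eq_bot.1 hsub

end Groth.Agent.Lib.helper7
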