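import Mathlib
import Groth.Prelude.Def_W4c2invhilbsl2HJ

set_option autoImplicit false

namespace Groth.Agent.Lib.helper7

/-- The Hirzebruch–Jung recursion with arbitrary initial values. -/
def H7_hjSeq (l : List ℤ) (x y : ℤ) : ℕ → ℤ
  | 0 => x
  | 1 => y
  | j + 2 => l.getD j 0 * H7_hjSeq l x y (j + 1) - H7_hjSeq l x y j

theorem H7_hjSeq_zero (l : List ℤ) (x y : ℤ) : H7_hjSeq l x y 0 = x := rfl
theorem H7_hjSeq_one (l : List ℤ) (x y : ℤ) : H7_hjSeq l x y 1 = y := rfl
theorem H7_hjSeq_add_two (l : List ℤ) (x y : ℤ) (j : ℕ) :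
    H7_hjSeq l x y (j + 2) = l.getD j 0 * H7_hjSeq l x y (j + 1) - H7_hjSeq l x y j := rfl

theorem H7_hjP_eq (c : List ℤ) (i : ℕ) : W4c2invhilbsl2.hjP c i = H7_hjSeq c 0 1 i := by
  induction i using Nat.twoStepInduction with
  | zero => rfl
  | one => rfl
  | more n h1 h2 => rw [W4c2invhilbsl2.hjP, H7_hjSeq_add_two, h1, h2]

theorem H7_hjQ_eq (c : List ℤ) (i : ℕ) : W4c2invhilbsl2.hjQ c i = H7_hjSeq c (-1) 0 i := by
  induction i using Nat.twoStepInduction with
  | zero => rfl
  | one => rfl
  | more n h1 h2 => rw [W4c2invhilbsl2.hjQ, H7_hjSeq_add_two, h1, h2]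

theorem H7_hjSeq_linear (l : List ℤ) (a b x y x' y' : ℤ) (i : ℕ) :
    H7_hjSeq l (a * x + b * x') (a * y + b * y') i =
      a * H7_hjSeq l x y i + b * H7_hjSeq l x' y' i := by
  induction i using Nat.twoStepInduction with
  | zero => rfl
  | one => rfl
  | more n h1 h2 => rw [H7_hjSeq_add_two, H7_hjSeq_add_two, H7_hjSeq_add_two, h1, h2]; ring

theorem H7_hjSeq_cons_succ (c : ℤ) (l : List ℤ) (x y : ℤ) (j : ℕ) :
    H7_hjSeq (c :: l) x y (j + 1) = H7_hjSeq l y (c * y - x) j := by
  induction j using Nat.twoStepInduction with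
  | zero => rfl
  | one =>
    show (c :: l).getD 0 0 * H7_hjSeq (c :: l) x y 1 - H7_hjSeq (c :: l) x y 0 = c * y - x
    simp [H7_hjSeq_zero, H7_hjSeq_one]
  | more n h1 h2 =>
    show (c :: l).getD (n + 1) 0 * H7_hjSeq (c :: l) x y (n + 1 + 1) - H7_hjSeq (c :: l) x y (n + 1) =
      l.getD n 0 * H7_hjSeq l y (c * y - x) (n + 1) - H7_hjSeq l y (c * y - x) n
    rw [h1, h2]
    simp

theorem H7_hjVal_gt_one : ∀ (l : List ℤ), l ≠ [] → (∀ x ∈ l, (2 : ℤ) ≤ x) → 1 < HJFrac.hjVal l := by
  intro l
  induction l with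
  | nil => intro h; exact absurd rfl h
  | cons c l ih =>
    intro _ hall
    have hc : (2 : ℚ) ≤ c := by exact_mod_cast hall c (List.mem_cons_self ..)
    by_cases hl : l = []
    · subst hl
      simp only [HJFrac.hjVal, inv_zero, sub_zero]
      linarith
    · have h1 := ih hl (fun x hx => hall x (List.mem_cons_of_mem _ hx))
      simp only [HJFrac.hjVal]
      have h2 : (HJFrac.hjVal l)⁻¹ < 1 := inv_lt_one_of_one_lt₀ h1
      linarith

/-- Main structural statement about the HJ recursion. -/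
theorem H7_hjSeq_main : ∀ (l : List ℤ), l ≠ [] → (∀ x ∈ l, (2 : ℤ) ≤ x) → ∀ (x y : ℤ), 0 < y →
    (x : ℚ) / y = HJFrac.hjVal l →
    (∀ j, j ≤ l.length → H7_hjSeq l x y (j + 1) < H7_hjSeq l x y j) ∧
    H7_hjSeq l x y (l.length + 1) = 0 ∧
    (H7_hjSeq l x y l.length : ℤ) = Int.gcd x y := by
  intro l
  induction l with
  | nil => intro h; exact absurd rfl h
  | cons c l ih =>
    intro _ hall x y hy hxy
    have hc : (2 : ℤ) ≤ c := hall c (List.mem_cons_self ..)
    have hyq : (0 : ℚ) < y := by exact_mod_cast hy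
    by_cases hl : l = []
    · subst hl
      simp only [HJFrac.hjVal, inv_zero, sub_zero] at hxy
      have hx : x = c * y := by
        have : (x : ℚ) = c * y := by rw [← hxy]; field_simp
        exact_mod_cast this
      subst hx
      refine ⟨?_, ?_, ?_⟩
      · intro j hj
        simp only [List.length_cons, List.length_nil, zero_add] at hj
        interval_cases j
        · show y < c * y
          nlinarith
        · show [c].getD 0 0 * y - c * y < y
          simp; exact hy
      · show [c].getD 0 0 * y - c * y = 0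
        simp
      · show y = ((Int.gcd (c * y) y : ℕ) : ℤ)
        rw [Int.gcd_mul_left_left, Int.natCast_natAbs, abs_of_pos hy]
    · have hall' : ∀ x ∈ l, (2 : ℤ) ≤ x := fun x hx => hall x (List.mem_cons_of_mem _ hx)
      have hv := H7_hjVal_gt_one l hl hall'
      have hvpos : 0 < HJFrac.hjVal l := by linarith
      simp only [HJFrac.hjVal] at hxy
      set z : ℤ := c * y - x with hz
      have hzq : (z : ℚ) / y = (HJFrac.hjVal l)⁻¹ := by
        rw [hz]; push_cast
        rw [sub_div, mul_div_assoc, div_self hyq.ne', mul_one, hxy]; ring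
      have hinvpos : 0 < (HJFrac.hjVal l)⁻¹ := inv_pos.mpr hvpos
      have hinvlt : (HJFrac.hjVal l)⁻¹ < 1 := inv_lt_one_of_one_lt₀ hv
      have hzposq : (0 : ℚ) < z := by
        have : (0 : ℚ) < (z : ℚ) / y := by rw [hzq]; exact hinvpos
        exact (div_pos_iff_of_pos_right hyq).mp this
      have hzpos : 0 < z := by exact_mod_cast hzposq
      have hzlt : z < y := by
        have : (z : ℚ) / y < 1 := by rw [hzq]; exact hinvlt
        have : (z : ℚ) < y := by rwa [div_lt_one hyq] at this
        exact_mod_cast this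
      have hyz : (y : ℚ) / z = HJFrac.hjVal l := by
        have : (y : ℚ) / z = ((z : ℚ) / y)⁻¹ := by rw [inv_div]
        rw [this, hzq, inv_inv]
      obtain ⟨h1, h2, h3⟩ := ih hl hall' y z hzpos hyz
      have hxgt : y < x := by
        have hgt := H7_hjVal_gt_one (c :: l) (List.cons_ne_nil _ _) hall
        simp only [HJFrac.hjVal] at hgt
        rw [← hxy] at hgt
        have : (y : ℚ) < x := by rwa [lt_div_iff₀ hyq, one_mul] at hgt
        exact_mod_cast this
      refine ⟨?_, ?_, ?_⟩
      · intro j hj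
        rcases j with _ | j
        · exact hxgt
        · rw [H7_hjSeq_cons_succ, H7_hjSeq_cons_succ]
          exact h1 j (by simpa using hj)
      · rw [List.length_cons, H7_hjSeq_cons_succ]
        exact h2
      · rw [List.length_cons, H7_hjSeq_cons_succ, h3]
        congr 1
        have : Int.gcd y z = Int.gcd y x := by
          rw [hz]
          rw [show c * y - x = -x + y * c by ring, Int.gcd_add_mul_left_right, Int.gcd_neg]
        rw [this, Int.gcd_comm]

end Groth.Agent.Lib.helper7

namespace Groth.Agent.Lib.helper7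

theorem H7_getD_range_map (l : ℕ) (b : ℕ → ℤ) (j : ℕ) (hj : j < l) :
    ((List.range l).map fun i => b (i + 1)).getD j 0 = b (j + 1) := by
  rw [List.getD_eq_getElem _ _ (by simpa using hj)]
  simp

/-- Constancy of the "Wronskian" of two solutions of the same three-term recursion. -/
theorem H7_wronskian (l : ℕ) (b μ ν : ℕ → ℤ)
    (hμ : ∀ i, 1 ≤ i → i ≤ l → b i * μ i = μ (i - 1) + μ (i + 1))
    (hν : ∀ i, 1 ≤ i → i ≤ l → b i * ν i = ν (i - 1) + ν (i + 1)) :
    ∀ i, i ≤ l → μ i * ν (i + 1) - μ (i + 1) * ν i = μ 0 * ν 1 - μ 1 * ν 0 := by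
  intro i
  induction i with
  | zero => intro _; ring
  | succ i ih =>
    intro hi
    rw [← ih (by omega)]
    have h1 := hμ (i + 1) (by omega) hi
    have h2 := hν (i + 1) (by omega) hi
    simp only [Nat.add_sub_cancel] at h1 h2
    have e1 : μ (i + 1 + 1) = b (i + 1) * μ (i + 1) - μ i := by linarith
    have e2 : ν (i + 1 + 1) = b (i + 1) * ν (i + 1) - ν i := by linarith
    rw [e1, e2]; ring

/-- The HJ sequence attached to `n/r` with digit function `b`. -/
theorem H7_hjSeq_rec (l : ℕ) (b : ℕ → ℤ) (x y : ℤ) :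
    ∀ i, 1 ≤ i → i ≤ l →
      b i * H7_hjSeq ((List.range l).map fun i => b (i + 1)) x y i =
        H7_hjSeq ((List.range l).map fun i => b (i + 1)) x y (i - 1) +
          H7_hjSeq ((List.range l).map fun i => b (i + 1)) x y (i + 1) := by
  intro i hi1 hil
  obtain ⟨j, rfl⟩ := Nat.exists_eq_add_of_le hi1
  have e : 1 + j + 1 = j + 2 := by ring
  have e' : 1 + j - 1 = j := by omega
  have e'' : 1 + j = j + 1 := by ring
  rw [e, e', H7_hjSeq_add_two, H7_getD_range_map l b j (by omega), e'']
  ring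

end Groth.Agent.Lib.helper7
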