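import Mathlib
import Groth.Agent.Lib.helper7.HJ

set_option autoImplicit false

namespace Groth.Agent.Lib.helper7

/-- Core best-approximation lemma (lower bound). -/
theorem H7_core_lower (P' P T' T α β x ρ : ℤ) (hP'0 : 0 ≤ P') (hPP : P' < P) (hT0 : 0 ≤ T)
    (hTT : T < T') (hx : x = α * P' + β * P) (hρ : ρ = α * T' + β * T) (hx0 : 0 < x) (hxP : x < P)
    (hρ0 : 0 ≤ ρ) : T' ≤ ρ := by
  subst hx hρ
  rcases lt_trichotomy β 0 with hβ | hβ | hβ
  · -- β ≤ -1
    have hα : 1 ≤ α := by
      by_contra h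
      push Not at h
      have h1 : α ≤ 0 := by omega
      have : α * P' + β * P ≤ 0 := by
        have := mul_nonpos_of_nonpos_of_nonneg h1 hP'0
        have := mul_nonpos_of_nonpos_of_nonneg hβ.le (le_trans hP'0 hPP.le)
        linarith
      linarith
    -- α P' > -β P ≥ -β P' so α > -β
    have h2 : -β < α := by
      by_contra h
      push Not at h
      have h3 : α * P' ≤ -β * P' := mul_le_mul_of_nonneg_right h hP'0
      have h4 : -β * P' ≤ -β * P := mul_le_mul_of_nonneg_left hPP.le (by linarith)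
      nlinarith
    have h5 : (-β + 1) ≤ α := by omega
    have h6 : (-β + 1) * T' ≤ α * T' := mul_le_mul_of_nonneg_right h5 (by linarith)
    have h7 : -β * T ≤ -β * T' := mul_le_mul_of_nonneg_left hTT.le (by linarith)
    nlinarith
  · subst hβ
    simp only [zero_mul, add_zero] at *
    have hα : 1 ≤ α := by
      by_contra h
      push Not at h
      have h1 : α ≤ 0 := by omega
      have := mul_nonpos_of_nonpos_of_nonneg h1 hP'0
      linarith
    have : 1 * T' ≤ α * T' := mul_le_mul_of_nonneg_right hα (by linarith)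
    linarith
  · -- β ≥ 1
    have hβ1 : 1 ≤ β := by omega
    have hα : α ≤ -1 := by
      by_contra h
      push Not at h
      have h1 : 0 ≤ α := by omega
      have h2 : 0 ≤ α * P' := mul_nonneg h1 hP'0
      have h3 : 1 * P ≤ β * P := mul_le_mul_of_nonneg_right hβ1 (le_trans hP'0 hPP.le)
      linarith
    -- ρ ≥ 0: β T ≥ -α T' > ...
    exfalso
    have hT'pos : 0 < T' := lt_of_le_of_lt hT0 hTT
    have h4 : -α < β := by
      by_contra h
      push Not at h
      have h5 : β * T ≤ -α * T := mul_le_mul_of_nonneg_right h hT0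
      have h6 : -α * T < -α * T' ∨ T = T' := by
        left
        exact mul_lt_mul_of_pos_left hTT (by linarith)
      rcases h6 with h6 | h6
      · nlinarith
      · linarith
    have h7 : -α ≤ β - 1 := by omega
    have h8 : -α * P ≤ (β - 1) * P := mul_le_mul_of_nonneg_right h7 (le_trans hP'0 hPP.le)
    have h9 : -α * P' < -α * P := mul_lt_mul_of_pos_left hPP (by linarith)
    nlinarith

/-- Core best-approximation lemma (upper bound). -/
theorem H7_core_upper (P' P T' T α β x ρ : ℤ) (hP'0 : 0 ≤ P') (hPP : P' < P) (hT0 : 0 ≤ T)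
    (hTT : T < T') (hx : x = α * P' + β * P) (hρ : ρ = α * T' + β * T) (hx0 : 0 < x) (hxP : x < P)
    (hρ0 : ρ < 0) : ρ ≤ -(T' - T) := by
  subst hx hρ
  have hT'pos : 0 < T' := lt_of_le_of_lt hT0 hTT
  have hPpos : 0 < P := lt_of_le_of_lt hP'0 hPP
  rcases lt_trichotomy α 0 with hα | hα | hα
  · -- α ≤ -1
    have hβ : 1 ≤ β := by
      by_contra h
      push Not at h
      have h1 : β ≤ 0 := by omega
      have := mul_nonpos_of_nonpos_of_nonneg hα.le hP'0
      have := mul_nonpos_of_nonpos_of_nonneg h1 hPpos.le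
      linarith
    -- x < P: (β - 1) P < -α P'
    have h1 : β - 1 < -α := by
      by_contra h
      push Not at h
      have h2 : -α * P ≤ (β - 1) * P := mul_le_mul_of_nonneg_right h hPpos.le
      have h3 : -α * P' ≤ -α * P := mul_le_mul_of_nonneg_left hPP.le (by linarith)
      nlinarith
    have h4 : β - 1 ≤ -α - 1 := by omega
    have h5 : (β - 1) * T ≤ (-α - 1) * T := mul_le_mul_of_nonneg_right h4 hT0
    have h6 : (-α - 1) * T ≤ (-α - 1) * T' := mul_le_mul_of_nonneg_left hTT.le (by linarith)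
    nlinarith
  · subst hα
    simp only [zero_mul, zero_add] at *
    exfalso
    have hβ : 1 ≤ β := by
      by_contra h
      push Not at h
      have h1 : β ≤ 0 := by omega
      have := mul_nonpos_of_nonpos_of_nonneg h1 hPpos.le
      linarith
    have := mul_nonneg (by linarith : (0 : ℤ) ≤ β) hT0
    linarith
  · -- α ≥ 1
    exfalso
    have hα1 : 1 ≤ α := by omega
    rcases le_or_gt 0 β with hβ | hβ
    · have := mul_nonneg (by linarith : (0 : ℤ) ≤ α) hT'pos.le
      have := mul_nonneg hβ hT0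
      linarith
    · -- β ≤ -1, x > 0 → α P' > -β P → α > -β
      have h2 : -β < α := by
        by_contra h
        push Not at h
        have h3 : α * P' ≤ -β * P' := mul_le_mul_of_nonneg_right h hP'0
        have h4 : -β * P' ≤ -β * P := mul_le_mul_of_nonneg_left hPP.le (by linarith)
        nlinarith
      have h5 : -β + 1 ≤ α := by omega
      have h6 : (-β + 1) * T' ≤ α * T' := mul_le_mul_of_nonneg_right h5 hT'pos.le
      have h7 : -β * T ≤ -β * T' := mul_le_mul_of_nonneg_left hTT.le (by linarith)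
      nlinarith

/-- The determinant of consecutive `(P, Q)` pairs is `1`. -/
theorem H7_hjPQ_det (c : List ℤ) (j : ℕ) :
    W4c2invhilbsl2.hjP c j * W4c2invhilbsl2.hjQ c (j + 1) -
      W4c2invhilbsl2.hjP c (j + 1) * W4c2invhilbsl2.hjQ c j = 1 := by
  induction j with
  | zero => simp [W4c2invhilbsl2.hjP, W4c2invhilbsl2.hjQ]
  | succ j ih =>
    have e1 : W4c2invhilbsl2.hjP c (j + 1 + 1) =
        c.getD j 0 * W4c2invhilbsl2.hjP c (j + 1) - W4c2invhilbsl2.hjP c j := by
      rw [W4c2invhilbsl2.hjP]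
    have e2 : W4c2invhilbsl2.hjQ c (j + 1 + 1) =
        c.getD j 0 * W4c2invhilbsl2.hjQ c (j + 1) - W4c2invhilbsl2.hjQ c j := by
      rw [W4c2invhilbsl2.hjQ]
    rw [e1, e2]
    linear_combination ih

/-- `P` is strictly increasing (and nonnegative) along the digits. -/
theorem H7_hjP_mono (c : List ℤ) (hdig : ∀ x ∈ c, (2 : ℤ) ≤ x) :
    ∀ j, j ≤ c.length → 0 ≤ W4c2invhilbsl2.hjP c j ∧
      W4c2invhilbsl2.hjP c j < W4c2invhilbsl2.hjP c (j + 1) := by
  intro j
  induction j with
  | zero => intro _; simp [W4c2invhilbsl2.hjP]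
  | succ j ih =>
    intro hj
    obtain ⟨h0, h1⟩ := ih (by omega)
    refine ⟨by linarith, ?_⟩
    have e1 : W4c2invhilbsl2.hjP c (j + 1 + 1) =
        c.getD j 0 * W4c2invhilbsl2.hjP c (j + 1) - W4c2invhilbsl2.hjP c j := by
      rw [W4c2invhilbsl2.hjP]
    have hd : (2 : ℤ) ≤ c.getD j 0 := by
      rw [List.getD_eq_getElem _ _ (by omega)]
      exact hdig _ (List.getElem_mem _)
    rw [e1]
    have : 2 * W4c2invhilbsl2.hjP c (j + 1) ≤ c.getD j 0 * W4c2invhilbsl2.hjP c (j + 1) :=
      mul_le_mul_of_nonneg_right hd (by linarith)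
    linarith

end Groth.Agent.Lib.helper7
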