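import Mathlib
import Groth.Agent.Lib.helper7.HJ2
import Groth.Agent.S15735
import Groth.Agent.S15733

set_option autoImplicit false

namespace Groth.Agent.Lib.helper7

/-- Exponent analysis for monomials of weight `(nᵢ, 0)` (three-variable form). -/
theorem H7_expo_claim (p q m : ℕ) (hp : 0 < p) (hpq : p < q) (hcop : Nat.Coprime p q) (hm : 0 < m)
    (hnt : ¬ (q - p ∣ m)) (c : List ℤ) (hc : W4c2invhilbsl2.IsHJDigits p q m c) (i : ℕ)
    (hi : 1 ≤ i) (hir : i ≤ c.length) :
    0 ≤ W4c2invhilbsl2.nN p q m c i ∧ 0 ≤ W4c2invhilbsl2.eE p q m c i ∧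
    0 ≤ W4c2invhilbsl2.lL p q m c i ∧
    (m : ℤ) ∣ W4c2invhilbsl2.lL p q m c i - W4c2invhilbsl2.eE p q m c i ∧
    ∀ d0 D1 D2 : ℕ, (d0 : ℤ) - (p : ℤ) * D1 + (q : ℤ) * D2 = W4c2invhilbsl2.nN p q m c i →
      (m : ℤ) ∣ (D1 : ℤ) - D2 →
      W4c2invhilbsl2.nN p q m c i ≤ d0 ∨
        (W4c2invhilbsl2.eE p q m c i ≤ D1 ∧ W4c2invhilbsl2.lL p q m c i ≤ D2) := by
  obtain ⟨hA, _, hC, hD0, hDr, hDr1⟩ := Groth.Agent.S15735.result p q m hp hpq hcop hm hnt c hc
  have hS33 := Groth.Agent.S15733.result p q m hp hpq hcop hm hnt c hc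
  set r := c.length with hr
  set R : ℤ := (q : ℤ) - p with hR
  have hRpos : 0 < R := by
    have : (p : ℤ) < q := by exact_mod_cast hpq
    rw [hR]; linarith
  set N := W4c2invhilbsl2.nN p q m c i with hN
  set E := W4c2invhilbsl2.eE p q m c i with hE
  set Lv := W4c2invhilbsl2.lL p q m c i with hLv
  set Pv := W4c2invhilbsl2.hjP c i with hPv
  have hanti : ∀ b a, a ≤ b → b ≤ r + 1 →
      W4c2invhilbsl2.nN p q m c b ≤ W4c2invhilbsl2.nN p q m c a := by
    intro b
    induction b with
    | zero => intro a ha _; rw [show a = 0 by omega]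
    | succ b ih =>
      intro a ha hb
      rcases Nat.eq_or_lt_of_le ha with h | h
      · rw [h]
      · exact le_trans (hC b (by omega)).le (ih a (by omega) (by omega))
  have hN0 : 0 ≤ N := by
    have := hanti (r + 1) i (by omega) le_rfl
    rw [hDr1] at this; exact this
  have hNR : N < R := by
    have h1 := hanti i 1 hi (by omega)
    have h2 := hC 0 (by omega)
    rw [hD0] at h2
    simp only [zero_add] at h2
    linarith
  have hEL : E - Lv = (m : ℤ) * Pv := by
    simp only [hE, hLv, W4c2invhilbsl2.eE, W4c2invhilbsl2.lL, hPv]; push_cast; ring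
  have hNdef : N = R * Lv - (p : ℤ) * m * Pv := by
    have : N = -(p : ℤ) * E + (q : ℤ) * Lv := rfl
    rw [this, hR]
    have : E = Lv + (m : ℤ) * Pv := by linarith
    rw [this]; ring
  have hPv1 : 1 ≤ Pv := by
    have hmono := H7_hjP_mono c hc.1
    have : ∀ j, 1 ≤ j → j ≤ r + 1 → 1 ≤ W4c2invhilbsl2.hjP c j := by
      intro j hj1
      induction j with
      | zero => omega
      | succ j ih =>
        intro hj
        rcases Nat.eq_zero_or_pos j with h0 | h0
        · subst h0; simp [W4c2invhilbsl2.hjP]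
        · have := ih (by omega) (by omega)
          have := (hmono j (by omega)).2
          linarith
    exact this i hi (by omega)
  have hpm0 : (0 : ℤ) ≤ (p : ℤ) * m := by positivity
  have hLv0 : 0 ≤ Lv := by
    by_contra h
    push Not at h
    have h1 : R * Lv ≤ R * (-1) := mul_le_mul_of_nonneg_left (by linarith) hRpos.le
    have h2 : 0 ≤ (p : ℤ) * m * Pv := mul_nonneg hpm0 (by linarith)
    linarith
  have hE0 : 0 ≤ E := by
    have : 0 ≤ (m : ℤ) * Pv := mul_nonneg (by positivity) (by linarith)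
    linarith
  refine ⟨hN0, hE0, hLv0, ⟨-Pv, by linarith⟩, ?_⟩
  intro d0 D1 D2 hfst hsnd
  by_cases hcase : N ≤ d0
  · exact Or.inl hcase
  · right
    push Not at hcase
    obtain ⟨u, hu⟩ := hsnd
    have hd0eq : (d0 : ℤ) = N + (p : ℤ) * m * u - R * D2 := by
      have : (D1 : ℤ) = D2 + m * u := by linarith
      rw [hR]; rw [this] at hfst; linarith
    have hd0nn : (0 : ℤ) ≤ d0 := Int.natCast_nonneg _
    have hd2nn : (0 : ℤ) ≤ D2 := Int.natCast_nonneg _
    have hd1nn : (0 : ℤ) ≤ D1 := Int.natCast_nonneg _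
    have hmpos : (0 : ℤ) < m := by exact_mod_cast hm
    have hu1 : 1 ≤ u := by
      by_contra h
      push Not at h
      have hu0 : u ≤ 0 := by omega
      have h1 : (p : ℤ) * m * u ≤ 0 := mul_nonpos_of_nonneg_of_nonpos hpm0 hu0
      rcases Nat.eq_zero_or_pos D2 with h2 | h2
      · rw [h2] at hd0eq hu
        push_cast at hd0eq hu
        have h3 : (m : ℤ) * u ≤ 0 := mul_nonpos_of_nonneg_of_nonpos hmpos.le hu0
        have h4 : (m : ℤ) * u = 0 := by linarith
        have h5 : u = 0 := by
          rcases mul_eq_zero.mp h4 with h | h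
          · exact absurd h hmpos.ne'
          · exact h
        rw [h5] at hd0eq
        linarith
      · have h3 : (1 : ℤ) ≤ D2 := by exact_mod_cast h2
        have h4 : R * 1 ≤ R * D2 := mul_le_mul_of_nonneg_left h3 hRpos.le
        linarith
    have huP : Pv ≤ u := by
      by_contra h
      push Not at h
      have hi1 : 1 < i := by
        by_contra h'
        have : i = 1 := by omega
        rw [hPv, this] at h
        simp [W4c2invhilbsl2.hjP] at h
        omega
      have h1 := hS33 i hi1 hir u (by omega) h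
      have h2 : Int.emod ((p : ℤ) * m * u + N) R = d0 := by
        show ((p : ℤ) * m * u + N) % R = d0
        have : (p : ℤ) * m * u + N = d0 + R * D2 := by linarith
        rw [this, Int.add_mul_emod_self_left]
        exact Int.emod_eq_of_lt hd0nn (by linarith)
      rw [← hN, h2] at h1
      have h3 : 0 ≤ Int.emod ((p : ℤ) * m * u) R := Int.emod_nonneg _ hRpos.ne'
      linarith
    have hd2L : Lv ≤ D2 := by
      have h1 : (p : ℤ) * m * Pv ≤ (p : ℤ) * m * u := mul_le_mul_of_nonneg_left huP hpm0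
      have h2 : R * (Lv - 1) < R * D2 := by linarith
      have h3 : Lv - 1 < D2 := lt_of_mul_lt_mul_left h2 hRpos.le
      linarith
    have hd1E : E ≤ D1 := by
      have h1 : (m : ℤ) * Pv ≤ (m : ℤ) * u := mul_le_mul_of_nonneg_left huP hmpos.le
      linarith
    exact ⟨hd1E, hd2L⟩

end Groth.Agent.Lib.helper7
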