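import Mathlib
import Groth.Agent.Lib.helper7.HJ2
import Groth.Agent.S15734
import Groth.Agent.S15735

set_option autoImplicit false

namespace Groth.Agent.Lib.helper7

open W4c2invhilbsl2

/-- Basic facts on the Hirzebruch–Jung exponents `nᵢ, eᵢ, lᵢ`. -/
theorem H7_HJ_basic (p q m : ℕ) (hp : 0 < p) (hpq : p < q) (hcop : Nat.Coprime p q) (hm : 0 < m)
    (hnt : ¬ (q - p ∣ m)) (c : List ℤ) (hc : IsHJDigits p q m c) (i : ℕ) (hi : 1 ≤ i)
    (hir : i ≤ c.length) :
    0 ≤ nN p q m c i ∧ nN p q m c i < nN p q m c (i - 1) ∧ nN p q m c (i - 1) ≤ (q : ℤ) - p ∧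
    1 ≤ hjP c i ∧ eE p q m c i - lL p q m c i = (m : ℤ) * hjP c i ∧
    nN p q m c i = ((q : ℤ) - p) * lL p q m c i - (p : ℤ) * m * hjP c i ∧
    0 ≤ lL p q m c i ∧ 1 ≤ eE p q m c i := by
  obtain ⟨hA, _, hC, hD0, hDr, hDr1⟩ := Groth.Agent.S15735.result p q m hp hpq hcop hm hnt c hc
  set r := c.length with hr
  set R : ℤ := (q : ℤ) - p with hR
  have hRpos : 0 < R := by
    have : (p : ℤ) < q := by exact_mod_cast hpq
    rw [hR]; linarith
  set N := nN p q m c i with hN
  set E := eE p q m c i with hE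
  set Lv := lL p q m c i with hLv
  set Pv := hjP c i with hPi
  have hanti : ∀ b a, a ≤ b → b ≤ r + 1 → nN p q m c b ≤ nN p q m c a := by
    intro b
    induction b with
    | zero => intro a ha _; rw [show a = 0 by omega]
    | succ b ih =>
      intro a ha hb
      rcases Nat.eq_or_lt_of_le ha with h | h
      · rw [h]
      · exact le_trans (hC b (by omega)).le (ih a (by omega) (by omega))
  have hN0 : 0 ≤ N := by
    have := hanti (r + 1) i (by omega) le_rfl
    rw [hDr1] at this; exact this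
  have hNN' : N < nN p q m c (i - 1) := by
    have := hC (i - 1) (by omega)
    rwa [show i - 1 + 1 = i by omega] at this
  have hN'R : nN p q m c (i - 1) ≤ R := by
    have := hanti (i - 1) 0 (by omega) (by omega)
    rwa [hD0] at this
  have hEL : E - Lv = (m : ℤ) * Pv := by
    simp only [hE, hLv, eE, lL, hPi]; push_cast; ring
  have hNdef : N = R * Lv - (p : ℤ) * m * Pv := by
    have : N = -(p : ℤ) * E + (q : ℤ) * Lv := rfl
    rw [this, hR]
    have : E = Lv + (m : ℤ) * Pv := by linarith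
    rw [this]; ring
  have hPi1 : 1 ≤ Pv := by
    have hmono := H7_hjP_mono c hc.1
    have : ∀ j, 1 ≤ j → j ≤ r + 1 → 1 ≤ hjP c j := by
      intro j hj1
      induction j with
      | zero => omega
      | succ j ih =>
        intro hj
        rcases Nat.eq_zero_or_pos j with h0 | h0
        · subst h0; simp [hjP]
        · have := ih (by omega) (by omega)
          have := (hmono j (by omega)).2
          linarith
    exact this i hi (by omega)
  have hpm0 : (0 : ℤ) ≤ (p : ℤ) * m := by positivity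
  have hLv0 : 0 ≤ Lv := by
    by_contra h
    push Not at h
    have h1 : R * Lv ≤ R * (-1) := mul_le_mul_of_nonneg_left (by linarith) hRpos.le
    have h2 : 0 ≤ (p : ℤ) * m * Pv := mul_nonneg hpm0 (by linarith)
    linarith
  have hE1 : 1 ≤ E := by
    have h1 : (1 : ℤ) ≤ m := by exact_mod_cast hm
    have : (1 : ℤ) * 1 ≤ (m : ℤ) * Pv := mul_le_mul h1 hPi1 (by norm_num) (by positivity)
    linarith
  exact ⟨hN0, hNN', hN'R, hPi1, hEL, hNdef, hLv0, hE1⟩

/-- The key domination property: a nonzero lattice point `(b, c')` of the cone whose torus weight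
is smaller than `nᵢ₋₁` dominates `(eᵢ, lᵢ)`. -/
theorem H7_HJ_key (p q m : ℕ) (hp : 0 < p) (hpq : p < q) (hcop : Nat.Coprime p q) (hm : 0 < m)
    (hnt : ¬ (q - p ∣ m)) (c : List ℤ) (hc : IsHJDigits p q m c) (i : ℕ) (hi : 1 ≤ i)
    (hir : i ≤ c.length) (b c' : ℕ) (hne : b ≠ 0 ∨ c' ≠ 0) (hdiv : (m : ℤ) ∣ (b : ℤ) - c')
    (h0 : 0 ≤ (q : ℤ) * c' - (p : ℤ) * b)
    (hlt : (q : ℤ) * c' - (p : ℤ) * b < nN p q m c (i - 1)) :
    eE p q m c i ≤ b ∧ lL p q m c i ≤ c' := by
  obtain ⟨hN0, hNN', hN'R, hPi1, hEL, hNdef, hLv0, hE1⟩ :=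
    H7_HJ_basic p q m hp hpq hcop hm hnt c hc i hi hir
  obtain ⟨hA, _, hC, hD0, hDr, hDr1⟩ := Groth.Agent.S15735.result p q m hp hpq hcop hm hnt c hc
  obtain ⟨_, hS34⟩ := Groth.Agent.S15734.result p q m hp hpq hcop hm hnt c hc
  set R : ℤ := (q : ℤ) - p with hR
  have hRpos : 0 < R := by
    have : (p : ℤ) < q := by exact_mod_cast hpq
    rw [hR]; linarith
  set N := nN p q m c i with hN
  set E := eE p q m c i with hE
  set Lv := lL p q m c i with hLv
  set Pv := hjP c i with hPi
  set g : ℤ := (gcdK p q m : ℤ) with hg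
  set B : ℤ := (bB p q m : ℤ) with hB
  set T : ℤ := (tT p q m : ℤ) with hT
  have hgpos : 0 < g := by
    have := hC c.length le_rfl
    rw [hDr, hDr1] at this
    exact this
  have hRgB : R = g * B := by
    have h1 : gcdK p q m * bB p q m = q - p := by
      rw [bB, gcdK]
      exact Nat.mul_div_cancel' (Nat.gcd_dvd_right m (q - p))
    have h2 : ((q - p : ℕ) : ℤ) = (q : ℤ) - p := by
      rw [Nat.cast_sub hpq.le]
    rw [hR, ← h2, ← h1]; push_cast; rfl
  have hgT : g * T = R * ((alpha p q m : ℤ) + 1) - (p : ℤ) * m := by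
    have h1 := hA 1 (by omega)
    have h2 : nN p q m c 1 = R * ((alpha p q m : ℤ) + 1) - (p : ℤ) * m := by
      simp only [nN, eE, lL, hjP, hjQ, hR]; push_cast; ring
    rw [h2] at h1
    rw [h1]; simp [hjP, hjQ]
  have hpm0 : (0 : ℤ) ≤ (p : ℤ) * m := by positivity
  set n : ℤ := (q : ℤ) * c' - (p : ℤ) * b with hn
  have hnR : n < R := lt_of_lt_of_le hlt hN'R
  obtain ⟨j, hj⟩ := hdiv
  have hbj : (b : ℤ) = c' + (m : ℤ) * j := by linarith
  have hnj : n = R * c' - (p : ℤ) * m * j := by
    rw [hn, hbj, hR]; ring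
  have hj1 : 1 ≤ j := by
    by_contra hcon
    push Not at hcon
    have hj0 : j ≤ 0 := by omega
    have h1 : (p : ℤ) * m * j ≤ 0 := mul_nonpos_of_nonneg_of_nonpos hpm0 hj0
    rcases Nat.eq_zero_or_pos c' with hc0 | hc0
    · subst hc0
      have hb0 : (b : ℤ) ≤ 0 := by
        rw [hbj]
        have : (m : ℤ) * j ≤ 0 := mul_nonpos_of_nonneg_of_nonpos (by positivity) hj0
        simpa using this
      have : b = 0 := by omega
      rcases hne with h | h
      · exact h this
      · exact h rfl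
    · have h2 : (1 : ℤ) ≤ c' := by exact_mod_cast hc0
      have h3 : R * 1 ≤ R * c' := mul_le_mul_of_nonneg_left h2 hRpos.le
      linarith
  have hjP : Pv ≤ j := by
    by_contra hcon
    push Not at hcon
    have hi1 : 1 < i := by
      rcases Nat.eq_or_lt_of_le hi with h | h
      · exfalso
        rw [hPi, ← h] at hcon
        simp [W4c2invhilbsl2.hjP] at hcon
        omega
      · exact h
    obtain ⟨hlow, _⟩ := hS34 i hi1 hir j (by omega) hcon
    have hρdef : Int.emod (T * j) B = T * j - B * (T * j / B) := Int.emod_def _ _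
    set ρ := Int.emod (T * j) B with hρ
    set y := T * j / B with hy
    have hBpos : 0 < B := by
      rcases lt_trichotomy B 0 with h | h | h
      · have := mul_neg_of_pos_of_neg hgpos h
        rw [← hRgB] at this; linarith
      · rw [h, mul_zero] at hRgB; linarith
      · exact h
    have hρ0 : 0 ≤ ρ := Int.emod_nonneg _ hBpos.ne'
    have hρB : ρ < B := Int.emod_lt_of_pos _ hBpos
    have hA' := hA (i - 1) (by omega)
    set ν' := T * hjP c (i - 1) - B * hjQ c (i - 1) with hν'
    have hdivg : nN p q m c (i - 1) / g = ν' := by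
      rw [hA', Int.mul_ediv_cancel_left _ hgpos.ne']
    rw [hdivg] at hlow
    -- n = R z + g ρ
    set z : ℤ := (c' : ℤ) - ((alpha p q m : ℤ) + 1) * j + y with hz
    have hnz : n = R * z + g * ρ := by
      have e1 : g * T * j = R * y + g * ρ := by
        rw [hρdef, hRgB]; ring
      have e2 : g * T * j = R * ((alpha p q m : ℤ) + 1) * j - (p : ℤ) * m * j := by
        rw [hgT]; ring
      rw [hnj, hz]
      linarith
    have hgρ0 : 0 ≤ g * ρ := mul_nonneg hgpos.le hρ0
    have hgρR : g * ρ < R := by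
      rw [hRgB]; exact mul_lt_mul_of_pos_left hρB hgpos
    have hz0 : z = 0 := by
      rcases lt_trichotomy z 0 with h | h | h
      · have : R * z ≤ R * (-1) := mul_le_mul_of_nonneg_left (by omega) hRpos.le
        linarith
      · exact h
      · have : R * 1 ≤ R * z := mul_le_mul_of_nonneg_left (by omega) hRpos.le
        linarith
    rw [hz0, mul_zero, zero_add] at hnz
    have : nN p q m c (i - 1) ≤ n := by
      rw [hA', hnz]
      exact mul_le_mul_of_nonneg_left hlow hgpos.le
    linarith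
  have hLc : Lv ≤ c' := by
    have h1 : (p : ℤ) * m * Pv ≤ (p : ℤ) * m * j := mul_le_mul_of_nonneg_left hjP hpm0
    have h2 : R * Lv < R * ((c' : ℤ) + 1) := by
      have : R * Lv = N + (p : ℤ) * m * Pv := by rw [hNdef]; ring
      rw [this]
      have : R * ((c' : ℤ) + 1) = n + (p : ℤ) * m * j + R := by rw [hnj]; ring
      rw [this]
      have : N < R := lt_of_lt_of_le hNN' hN'R
      linarith
    have := lt_of_mul_lt_mul_left h2 hRpos.le
    omega
  refine ⟨?_, hLc⟩
  have h1 : (m : ℤ) * Pv ≤ (m : ℤ) * j := mul_le_mul_of_nonneg_left hjP (by positivity)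
  linarith

end Groth.Agent.Lib.helper7
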