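import Mathlib

set_option autoImplicit false

namespace Groth.Agent.Lib.helper7

section generic

variable {k A : Type*} [Field k] [CommRing A] [Algebra k A] (x0 x1 x2 : A) (p q m N' N E Lv : ℕ)
  (s : k)

/-- Main lemma: a monomial `x1^b x2^c` of non-negative torus weight `a` (and trivial character)
is proportional to `x0^a`, unless `x0^a = 0`. -/
theorem H7_L_main (hE : 0 < E) (hwt : (N : ℤ) = (q : ℤ) * Lv - (p : ℤ) * E)
    (hmEL : (m : ℤ) ∣ (E : ℤ) - Lv)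
    (F1 : x0 ^ N' = 0) (F2 : x1 ^ E * x2 ^ Lv = algebraMap k A s * x0 ^ N)
    (F3 : ∀ u v w : ℕ, (u ≠ 0 ∨ v ≠ 0 ∨ w ≠ 0) → (u : ℤ) - (p : ℤ) * v + (q : ℤ) * w = 0 →
      (m : ℤ) ∣ (v : ℤ) - w → x0 ^ u * x1 ^ v * x2 ^ w = 0)
    (KEY : ∀ b c : ℕ, (b ≠ 0 ∨ c ≠ 0) → (m : ℤ) ∣ (b : ℤ) - c → 0 ≤ (q : ℤ) * c - (p : ℤ) * b →
      (q : ℤ) * c - (p : ℤ) * b < N' → E ≤ b ∧ Lv ≤ c) :
    ∀ n b c a : ℕ, b + c = n → (a : ℤ) = (q : ℤ) * c - (p : ℤ) * b → (m : ℤ) ∣ (b : ℤ) - c →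
      x0 ^ a = 0 ∨ ∃ l : k, x1 ^ b * x2 ^ c = algebraMap k A l * x0 ^ a := by
  intro n
  induction n using Nat.strong_induction_on with
  | _ n ih =>
    intro b c a hn ha hdiv
    by_cases haN' : N' ≤ a
    · left
      obtain ⟨t, rfl⟩ := Nat.exists_eq_add_of_le haN'
      rw [pow_add, F1, zero_mul]
    push Not at haN'
    by_cases hbc : b = 0 ∧ c = 0
    · right
      obtain ⟨rfl, rfl⟩ := hbc
      have : a = 0 := by
        have : (a : ℤ) = 0 := by rw [ha]; simp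
        exact_mod_cast this
      subst this
      exact ⟨1, by simp⟩
    have hbc' : b ≠ 0 ∨ c ≠ 0 := by
      by_contra h
      push Not at h
      exact hbc h
    have ha0 : 0 ≤ (q : ℤ) * c - (p : ℤ) * b := by rw [← ha]; positivity
    have halt : (q : ℤ) * c - (p : ℤ) * b < N' := by rw [← ha]; exact_mod_cast haN'
    obtain ⟨hEb, hLc⟩ := KEY b c hbc' hdiv ha0 halt
    obtain ⟨b', rfl⟩ := Nat.exists_eq_add_of_le hEb
    obtain ⟨c', rfl⟩ := Nat.exists_eq_add_of_le hLc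
    have hdiv' : (m : ℤ) ∣ (b' : ℤ) - c' := by
      obtain ⟨u1, hu1⟩ := hdiv
      obtain ⟨u2, hu2⟩ := hmEL
      refine ⟨u1 - u2, ?_⟩
      push_cast at hu1
      rw [mul_sub, ← hu1, ← hu2]; ring
    have e1 : x1 ^ (E + b') * x2 ^ (Lv + c') = algebraMap k A s * x0 ^ N * (x1 ^ b' * x2 ^ c') := by
      rw [← F2, pow_add, pow_add]; ring
    by_cases haN : N ≤ a
    · obtain ⟨a', rfl⟩ := Nat.exists_eq_add_of_le haN
      have ha' : (a' : ℤ) = (q : ℤ) * c' - (p : ℤ) * b' := by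
        push_cast at ha; linarith
      rcases ih (b' + c') (by omega) b' c' a' rfl ha' hdiv' with h0 | ⟨l, hl⟩
      · left
        rw [pow_add, h0, mul_zero]
      · right
        refine ⟨s * l, ?_⟩
        rw [e1, hl, map_mul, pow_add]; ring
    · push Not at haN
      obtain ⟨u, hu⟩ := Nat.exists_eq_add_of_lt haN
      right
      refine ⟨0, ?_⟩
      have hz : x0 ^ (u + 1) * x1 ^ b' * x2 ^ c' = 0 := by
        apply F3 (u + 1) b' c' (Or.inl (by omega))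
        · push_cast at ha hu ⊢
          have : (N : ℤ) = a + u + 1 := by exact_mod_cast hu
          linarith
        · exact hdiv'
      rw [e1, hu, map_zero, zero_mul]
      have : x0 ^ (a + u + 1) = x0 ^ a * x0 ^ (u + 1) := by rw [← pow_add, add_assoc]
      rw [this]
      calc algebraMap k A s * (x0 ^ a * x0 ^ (u + 1)) * (x1 ^ b' * x2 ^ c')
          = algebraMap k A s * x0 ^ a * (x0 ^ (u + 1) * x1 ^ b' * x2 ^ c') := by ring
        _ = 0 := by rw [hz, mul_zero]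

/-- Comparison of two monomials of the same weight, first exponent ordered. -/
theorem H7_L_cmp_le (hp : 0 < p) (hpq : p < q) (hN'R : (N' : ℤ) ≤ (q : ℤ) - p)
    (hE : 0 < E) (hwt : (N : ℤ) = (q : ℤ) * Lv - (p : ℤ) * E)
    (hmEL : (m : ℤ) ∣ (E : ℤ) - Lv)
    (F1 : x0 ^ N' = 0) (F2 : x1 ^ E * x2 ^ Lv = algebraMap k A s * x0 ^ N)
    (F3 : ∀ u v w : ℕ, (u ≠ 0 ∨ v ≠ 0 ∨ w ≠ 0) → (u : ℤ) - (p : ℤ) * v + (q : ℤ) * w = 0 →
      (m : ℤ) ∣ (v : ℤ) - w → x0 ^ u * x1 ^ v * x2 ^ w = 0)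
    (KEY : ∀ b c : ℕ, (b ≠ 0 ∨ c ≠ 0) → (m : ℤ) ∣ (b : ℤ) - c → 0 ≤ (q : ℤ) * c - (p : ℤ) * b →
      (q : ℤ) * c - (p : ℤ) * b < N' → E ≤ b ∧ Lv ≤ c)
    (d0 d1 d2 e0 e1 e2 : ℕ) (hle : d0 ≤ e0)
    (hw1 : (d0 : ℤ) - (p : ℤ) * d1 + (q : ℤ) * d2 = (e0 : ℤ) - (p : ℤ) * e1 + (q : ℤ) * e2)
    (hw2 : (m : ℤ) ∣ ((d1 : ℤ) - d2) - ((e1 : ℤ) - e2)) :
    ∃ l : k, x0 ^ d0 * x1 ^ d1 * x2 ^ d2 = algebraMap k A l * (x0 ^ e0 * x1 ^ e1 * x2 ^ e2) ∨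
      x0 ^ e0 * x1 ^ e1 * x2 ^ e2 = algebraMap k A l * (x0 ^ d0 * x1 ^ d1 * x2 ^ d2) := by
  obtain ⟨a, rfl⟩ := Nat.exists_eq_add_of_le hle
  push_cast at hw1
  have hx0big : ∀ t : ℕ, (q : ℤ) - p ≤ t → x0 ^ t = 0 := by
    intro t ht
    have : N' ≤ t := by
      have : (N' : ℤ) ≤ t := le_trans hN'R ht
      exact_mod_cast this
    obtain ⟨u, rfl⟩ := Nat.exists_eq_add_of_le this
    rw [pow_add, F1, zero_mul]
  rcases le_total d1 e1 with h1 | h1 <;> rcases le_total d2 e2 with h2 | h2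
  · -- (i) e = d + δ
    obtain ⟨v, rfl⟩ := Nat.exists_eq_add_of_le h1
    obtain ⟨w, rfl⟩ := Nat.exists_eq_add_of_le h2
    push_cast at hw1 hw2
    by_cases hz : a = 0 ∧ v = 0 ∧ w = 0
    · obtain ⟨rfl, rfl, rfl⟩ := hz
      exact ⟨1, Or.inl (by simp)⟩
    · have hz' : a ≠ 0 ∨ v ≠ 0 ∨ w ≠ 0 := by
        by_contra h
        push Not at h
        exact hz h
      have hdv : (m : ℤ) ∣ (v : ℤ) - w := by
        obtain ⟨u, hu⟩ := hw2
        exact ⟨-u, by linarith⟩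
      have h0 := F3 a v w hz' (by linarith) hdv
      refine ⟨0, Or.inr ?_⟩
      rw [map_zero, zero_mul]
      calc x0 ^ (d0 + a) * x1 ^ (d1 + v) * x2 ^ (d2 + w)
          = (x0 ^ d0 * x1 ^ d1 * x2 ^ d2) * (x0 ^ a * x1 ^ v * x2 ^ w) := by
            rw [pow_add, pow_add, pow_add]; ring
        _ = 0 := by rw [h0, mul_zero]
  · -- (iii) d1 ≤ e1, e2 ≤ d2
    obtain ⟨v, rfl⟩ := Nat.exists_eq_add_of_le h1
    obtain ⟨w, rfl⟩ := Nat.exists_eq_add_of_le h2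
    push_cast at hw1 hw2
    by_cases hw0 : w = 0
    · subst hw0
      -- reduces to (i)
      by_cases hz : a = 0 ∧ v = 0
      · obtain ⟨rfl, rfl⟩ := hz
        exact ⟨1, Or.inl (by simp)⟩
      · have hz' : a ≠ 0 ∨ v ≠ 0 ∨ (0 : ℕ) ≠ 0 := by
          by_contra h
          push Not at h
          exact hz ⟨h.1, h.2.1⟩
        have hdv : (m : ℤ) ∣ (v : ℤ) - (0 : ℕ) := by
          obtain ⟨u, hu⟩ := hw2
          exact ⟨-u, by push_cast at hu ⊢; linarith⟩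
        have h0 := F3 a v 0 hz' (by push_cast at hw1 ⊢; linarith) hdv
        refine ⟨0, Or.inr ?_⟩
        rw [map_zero, zero_mul]
        calc x0 ^ (d0 + a) * x1 ^ (d1 + v) * x2 ^ e2
            = (x0 ^ d0 * x1 ^ d1 * x2 ^ e2) * (x0 ^ a * x1 ^ v * x2 ^ 0) := by
              rw [pow_add, pow_add, pow_zero]; ring
          _ = 0 := by rw [h0, mul_zero]
    · have hw1' : 1 ≤ (w : ℤ) := by
        have : 1 ≤ w := Nat.one_le_iff_ne_zero.mpr hw0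
        exact_mod_cast this
      have hbig : (q : ℤ) - p ≤ a := by
        have e : (a : ℤ) = (p : ℤ) * v + (q : ℤ) * w := by linarith
        have h3 : (0 : ℤ) ≤ (p : ℤ) * v := by positivity
        have h4 : (q : ℤ) * 1 ≤ (q : ℤ) * w := mul_le_mul_of_nonneg_left hw1' (by positivity)
        have h5 : (0 : ℤ) ≤ p := by positivity
        linarith
      have h0 := hx0big a hbig
      refine ⟨0, Or.inr ?_⟩
      rw [map_zero, zero_mul, pow_add, h0]; ring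
  · -- (iv) e1 ≤ d1, d2 ≤ e2
    obtain ⟨b, rfl⟩ := Nat.exists_eq_add_of_le h1
    obtain ⟨w, rfl⟩ := Nat.exists_eq_add_of_le h2
    push_cast at hw1 hw2
    have h3 : (0 : ℤ) ≤ (p : ℤ) * b := by positivity
    have h4 : (0 : ℤ) ≤ (q : ℤ) * w := by positivity
    have h5 : (0 : ℤ) ≤ a := by positivity
    have e : (a : ℤ) + (p : ℤ) * b + (q : ℤ) * w = 0 := by linarith
    have ha : (a : ℤ) = 0 := by linarith
    have hb : (p : ℤ) * b = 0 := by linarith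
    have hw : (q : ℤ) * w = 0 := by linarith
    have ha' : a = 0 := by exact_mod_cast ha
    have hb' : b = 0 := by
      rcases mul_eq_zero.mp hb with h6 | h6
      · have : p = 0 := by exact_mod_cast h6
        omega
      · exact_mod_cast h6
    have hw' : w = 0 := by
      rcases mul_eq_zero.mp hw with h6 | h6
      · have : q = 0 := by exact_mod_cast h6
        omega
      · exact_mod_cast h6
    subst ha' hb' hw'
    exact ⟨1, Or.inl (by simp)⟩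
  · -- (ii) e1 ≤ d1, e2 ≤ d2
    obtain ⟨b, rfl⟩ := Nat.exists_eq_add_of_le h1
    obtain ⟨c, rfl⟩ := Nat.exists_eq_add_of_le h2
    push_cast at hw1 hw2
    have ha : (a : ℤ) = (q : ℤ) * c - (p : ℤ) * b := by linarith
    have hdv : (m : ℤ) ∣ (b : ℤ) - c := by
      obtain ⟨u, hu⟩ := hw2
      exact ⟨u, by linarith⟩
    rcases H7_L_main x0 x1 x2 p q m N' N E Lv s hE hwt hmEL F1 F2 F3 KEY (b + c) b c a rfl ha hdv
      with h0 | ⟨l, hl⟩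
    · refine ⟨0, Or.inr ?_⟩
      rw [map_zero, zero_mul, pow_add, h0]; ring
    · refine ⟨l, Or.inl ?_⟩
      calc x0 ^ d0 * x1 ^ (e1 + b) * x2 ^ (e2 + c)
          = x0 ^ d0 * x1 ^ e1 * x2 ^ e2 * (x1 ^ b * x2 ^ c) := by rw [pow_add, pow_add]; ring
        _ = algebraMap k A l * (x0 ^ (d0 + a) * x1 ^ e1 * x2 ^ e2) := by
            rw [hl, pow_add]; ring

/-- Comparison of two monomials of the same weight. -/
theorem H7_L_cmp (hp : 0 < p) (hpq : p < q) (hN'R : (N' : ℤ) ≤ (q : ℤ) - p)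
    (hE : 0 < E) (hwt : (N : ℤ) = (q : ℤ) * Lv - (p : ℤ) * E)
    (hmEL : (m : ℤ) ∣ (E : ℤ) - Lv)
    (F1 : x0 ^ N' = 0) (F2 : x1 ^ E * x2 ^ Lv = algebraMap k A s * x0 ^ N)
    (F3 : ∀ u v w : ℕ, (u ≠ 0 ∨ v ≠ 0 ∨ w ≠ 0) → (u : ℤ) - (p : ℤ) * v + (q : ℤ) * w = 0 →
      (m : ℤ) ∣ (v : ℤ) - w → x0 ^ u * x1 ^ v * x2 ^ w = 0)
    (KEY : ∀ b c : ℕ, (b ≠ 0 ∨ c ≠ 0) → (m : ℤ) ∣ (b : ℤ) - c → 0 ≤ (q : ℤ) * c - (p : ℤ) * b →
      (q : ℤ) * c - (p : ℤ) * b < N' → E ≤ b ∧ Lv ≤ c)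
    (d0 d1 d2 e0 e1 e2 : ℕ)
    (hw1 : (d0 : ℤ) - (p : ℤ) * d1 + (q : ℤ) * d2 = (e0 : ℤ) - (p : ℤ) * e1 + (q : ℤ) * e2)
    (hw2 : (m : ℤ) ∣ ((d1 : ℤ) - d2) - ((e1 : ℤ) - e2)) :
    ∃ l : k, x0 ^ d0 * x1 ^ d1 * x2 ^ d2 = algebraMap k A l * (x0 ^ e0 * x1 ^ e1 * x2 ^ e2) ∨
      x0 ^ e0 * x1 ^ e1 * x2 ^ e2 = algebraMap k A l * (x0 ^ d0 * x1 ^ d1 * x2 ^ d2) := by
  rcases le_total d0 e0 with h | h
  · exact H7_L_cmp_le x0 x1 x2 p q m N' N E Lv s hp hpq hN'R hE hwt hmEL F1 F2 F3 KEY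
      d0 d1 d2 e0 e1 e2 h hw1 hw2
  · have hw2' : (m : ℤ) ∣ ((e1 : ℤ) - e2) - ((d1 : ℤ) - d2) := by
      obtain ⟨u, hu⟩ := hw2
      exact ⟨-u, by linarith⟩
    obtain ⟨l, hl | hl⟩ := H7_L_cmp_le x0 x1 x2 p q m N' N E Lv s hp hpq hN'R hE hwt hmEL F1 F2 F3
      KEY e0 e1 e2 d0 d1 d2 h hw1.symm hw2'
    · exact ⟨l, Or.inr hl⟩
    · exact ⟨l, Or.inl hl⟩

end generic

end Groth.Agent.Lib.helper7
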