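import Mathlib
import Groth.Prelude.Def_W4c2invhilbsl2

set_option autoImplicit false

namespace Groth.Agent.Lib.helper7

open MvPolynomial

/-- Induction principle for weighted homogeneous polynomials: reduce to monomials. -/
theorem H7_wh_induction {σ M k : Type*} [AddCommMonoid M] [CommSemiring k] (w : σ → M) (ν : M)
    (PP : MvPolynomial σ k → Prop) (h0 : PP 0) (hadd : ∀ f g, PP f → PP g → PP (f + g))
    (hmono : ∀ d : σ →₀ ℕ, Finsupp.weight w d = ν → ∀ r : k, PP (monomial d r))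
    (f : MvPolynomial σ k) (hf : f ∈ weightedHomogeneousSubmodule k w ν) : PP f := by
  classical
  rw [← MvPolynomial.support_sum_monomial_coeff f]
  apply Finset.sum_induction _ PP hadd h0
  intro d hd
  apply hmono
  exact hf (MvPolynomial.mem_support_iff.mp hd)

theorem H7_weight_sub {σ M : Type*} [AddCommGroup M] (w : σ → M) (d e : σ →₀ ℕ) (he : e ≤ d) :
    Finsupp.weight w (d - e) = Finsupp.weight w d - Finsupp.weight w e := by
  have h : d - e + e = d := tsub_add_cancel_of_le he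
  have := congrArg (Finsupp.weight w) h
  rw [map_add] at this
  rw [← this]; abel

theorem H7_monomial_sub_mul {σ k : Type*} [CommSemiring k] (d e : σ →₀ ℕ) (he : e ≤ d) (r : k) :
    monomial d r = monomial (d - e) r * monomial e 1 := by
  rw [monomial_mul, mul_one, tsub_add_cancel_of_le he]

/-- First component of the `wt5` weight. -/
theorem H7_wt5_fst (p q m : ℕ) (d : Fin 5 →₀ ℕ) :
    (Finsupp.weight (W4c2invhilbsl2.wt5 p q m) d).1 =
      (d 0 : ℤ) - (p : ℤ) * ((d 1 : ℤ) + d 2) + (q : ℤ) * ((d 3 : ℤ) + d 4) := by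
  rw [Finsupp.weight_eq_sum, Fin.sum_univ_five]
  have h0 : W4c2invhilbsl2.wt5 p q m 0 = ((1 : ℤ), (0 : ZMod m)) := rfl
  have h1 : W4c2invhilbsl2.wt5 p q m 1 = (-(p : ℤ), (-1 : ZMod m)) := rfl
  have h2 : W4c2invhilbsl2.wt5 p q m 2 = (-(p : ℤ), (-1 : ZMod m)) := rfl
  have h3 : W4c2invhilbsl2.wt5 p q m 3 = ((q : ℤ), (1 : ZMod m)) := rfl
  have h4 : W4c2invhilbsl2.wt5 p q m 4 = ((q : ℤ), (1 : ZMod m)) := rfl
  rw [h0, h1, h2, h3, h4]
  simp only [Prod.fst_add, Prod.smul_fst]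
  simp only [nsmul_eq_mul, mul_one, mul_neg]
  ring

/-- Second component of the `wt5` weight. -/
theorem H7_wt5_snd (p q m : ℕ) (d : Fin 5 →₀ ℕ) :
    (Finsupp.weight (W4c2invhilbsl2.wt5 p q m) d).2 =
      (((d 3 : ℤ) + d 4 - ((d 1 : ℤ) + d 2) : ℤ) : ZMod m) := by
  rw [Finsupp.weight_eq_sum, Fin.sum_univ_five]
  have h0 : W4c2invhilbsl2.wt5 p q m 0 = ((1 : ℤ), (0 : ZMod m)) := rfl
  have h1 : W4c2invhilbsl2.wt5 p q m 1 = (-(p : ℤ), (-1 : ZMod m)) := rfl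
  have h2 : W4c2invhilbsl2.wt5 p q m 2 = (-(p : ℤ), (-1 : ZMod m)) := rfl
  have h3 : W4c2invhilbsl2.wt5 p q m 3 = ((q : ℤ), (1 : ZMod m)) := rfl
  have h4 : W4c2invhilbsl2.wt5 p q m 4 = ((q : ℤ), (1 : ZMod m)) := rfl
  rw [h0, h1, h2, h3, h4]
  simp only [Prod.snd_add, Prod.smul_snd]
  simp only [nsmul_eq_mul, mul_one, mul_neg, mul_zero, zero_add]
  push_cast
  ring

/-- Extensionality for weights in `ℤ × ZMod m`. -/
theorem H7_wt5_eq_iff (p q m : ℕ) (d : Fin 5 →₀ ℕ) (a : ℤ) (c : ℤ) :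
    Finsupp.weight (W4c2invhilbsl2.wt5 p q m) d = (a, (c : ZMod m)) ↔
      ((d 0 : ℤ) - (p : ℤ) * ((d 1 : ℤ) + d 2) + (q : ℤ) * ((d 3 : ℤ) + d 4) = a ∧
        (m : ℤ) ∣ ((d 3 : ℤ) + d 4 - ((d 1 : ℤ) + d 2)) - c) := by
  rw [Prod.ext_iff, H7_wt5_fst, H7_wt5_snd]
  simp only
  rw [ZMod.intCast_eq_intCast_iff_dvd_sub]
  constructor
  · rintro ⟨h1, h2⟩
    refine ⟨h1, ?_⟩
    have := (dvd_neg (α := ℤ)).mpr h2
    rwa [neg_sub] at this
  · rintro ⟨h1, h2⟩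
    refine ⟨h1, ?_⟩
    have := (dvd_neg (α := ℤ)).mpr h2
    rwa [neg_sub] at this

end Groth.Agent.Lib.helper7
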