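import Mathlib
import Groth.Agent.Lib.helper7.Wt

set_option autoImplicit false

namespace Groth.Agent.Lib.helper7

open MvPolynomial

theorem H7_monomial5 {k : Type*} [CommSemiring k] (d : Fin 5 →₀ ℕ) (r : k) :
    (monomial d r : MvPolynomial (Fin 5) k) =
      C r * (X 0 ^ d 0 * X 1 ^ d 1 * X 2 ^ d 2 * X 3 ^ d 3 * X 4 ^ d 4) := by
  rw [monomial_eq, Finsupp.prod_fintype _ _ (by intro i; simp), Fin.prod_univ_five]

theorem H7_monomial3 {k : Type*} [CommSemiring k] (d : Fin 3 →₀ ℕ) (r : k) :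
    (monomial d r : MvPolynomial (Fin 3) k) =
      C r * (X 0 ^ d 0 * X 1 ^ d 1 * X 2 ^ d 2) := by
  rw [monomial_eq, Finsupp.prod_fintype _ _ (by intro i; simp), Fin.prod_univ_three]

section generic

variable {A : Type*} [CommRing A] (x y z : A) (p g m : ℕ)

theorem H7_gL1 (a0 a1 a2 t : ℕ) :
    x ^ (a0 + (g + 1) * t) * y ^ a1 * z ^ a2 - x ^ a0 * y ^ (a1 + t) * z ^ (a2 + t) ∈
      Ideal.span {x ^ (g + 1) - y * z} := by
  rw [Ideal.mem_span_singleton]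
  have h1 : (x ^ (g + 1) - y * z) ∣ (x ^ (g + 1)) ^ t - (y * z) ^ t := sub_dvd_pow_sub_pow _ _ t
  have e : x ^ (a0 + (g + 1) * t) * y ^ a1 * z ^ a2 - x ^ a0 * y ^ (a1 + t) * z ^ (a2 + t) =
      (x ^ a0 * y ^ a1 * z ^ a2) * ((x ^ (g + 1)) ^ t - (y * z) ^ t) := by
    rw [pow_add, pow_add, pow_add, pow_mul, mul_pow]; ring
  rw [e]
  exact Dvd.dvd.mul_left h1 _

theorem H7_gL2 (a0 a1 a2 b0 b1 b2 : ℕ)
    (h1 : (a0 : ℤ) - (p : ℤ) * a1 + ((p + g + 1 : ℕ) : ℤ) * a2 =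
      (b0 : ℤ) - (p : ℤ) * b1 + ((p + g + 1 : ℕ) : ℤ) * b2)
    (h2 : (a1 : ℤ) - a2 = (b1 : ℤ) - b2) :
    x ^ a0 * y ^ a1 * z ^ a2 - x ^ b0 * y ^ b1 * z ^ b2 ∈ Ideal.span {x ^ (g + 1) - y * z} := by
  push_cast at h1
  rcases le_total a1 b1 with hle | hle
  · obtain ⟨t, rfl⟩ := Nat.exists_eq_add_of_le hle
    have hb2 : b2 = a2 + t := by push_cast at h2; omega
    subst hb2
    have ha0 : a0 = b0 + (g + 1) * t := by
      push_cast at h1
      have : (a0 : ℤ) = b0 + (g + 1) * t := by linarith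
      exact_mod_cast this
    subst ha0
    exact H7_gL1 x y z g b0 a1 a2 t
  · obtain ⟨t, rfl⟩ := Nat.exists_eq_add_of_le hle
    have ha2 : a2 = b2 + t := by push_cast at h2; omega
    subst ha2
    have hb0 : b0 = a0 + (g + 1) * t := by
      push_cast at h1
      have : (b0 : ℤ) = a0 + (g + 1) * t := by linarith
      exact_mod_cast this
    subst hb0
    have := H7_gL1 x y z g a0 b1 b2 t
    rw [← Ideal.neg_mem_iff] at this
    rwa [neg_sub] at this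

theorem H7_gL3 (a0 a1 a2 b0 b1 b2 s : ℕ)
    (h1 : (a0 : ℤ) - (p : ℤ) * a1 + ((p + g + 1 : ℕ) : ℤ) * a2 =
      (b0 : ℤ) - (p : ℤ) * b1 + ((p + g + 1 : ℕ) : ℤ) * b2)
    (h2 : ((a1 : ℤ) - a2) - ((b1 : ℤ) - b2) = (m : ℤ) * s) :
    x ^ a0 * y ^ a1 * z ^ a2 - x ^ b0 * y ^ b1 * z ^ b2 * (x ^ (m * p) * y ^ m) ^ s ∈
      Ideal.span {x ^ (g + 1) - y * z} := by
  have e : x ^ b0 * y ^ b1 * z ^ b2 * (x ^ (m * p) * y ^ m) ^ s =
      x ^ (b0 + m * p * s) * y ^ (b1 + m * s) * z ^ b2 := by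
    rw [mul_pow, ← pow_mul, ← pow_mul, pow_add, pow_add]; ring
  rw [e]
  apply H7_gL2 x y z p g
  · push_cast at h1 ⊢; linarith
  · push_cast; linarith

end generic

end Groth.Agent.Lib.helper7
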