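import Mathlib
import Groth.Agent.Lib.helper7.Mono3

set_option autoImplicit false

namespace Groth.Agent.Lib.helper7

open MvPolynomial

/-- If the images of any two monomials of weight `ν` are proportional, the weight piece of the
quotient has rank at most one. -/
theorem H7_rank_piece_le_one {σ : Type*} (k : Type*) [Field k] {M : Type*} [AddCommMonoid M]
    (w : σ → M) (I : Ideal (MvPolynomial σ k)) (ν : M)
    (h : ∀ d e : σ →₀ ℕ, Finsupp.weight w d = ν → Finsupp.weight w e = ν →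
      ∃ c : k, Ideal.Quotient.mkₐ k I (monomial d 1) = c • Ideal.Quotient.mkₐ k I (monomial e 1) ∨
        Ideal.Quotient.mkₐ k I (monomial e 1) = c • Ideal.Quotient.mkₐ k I (monomial d 1)) :
    Module.rank k (W4c2invhilbsl2.piece k w I ν) ≤ 1 := by
  classical
  set mk := Ideal.Quotient.mkₐ k I with hmk
  rw [rank_submodule_le_one_iff']
  by_cases hall : ∀ d : σ →₀ ℕ, Finsupp.weight w d = ν → mk (monomial d 1) = 0
  · refine ⟨0, ?_⟩
    rintro _ ⟨f, hf, rfl⟩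
    show mk f ∈ _
    apply H7_wh_induction w ν (fun f => mk f ∈ Submodule.span k {(0 : _)}) ?_ ?_ ?_ f hf
    · simp
    · intro f1 f2 h1 h2
      rw [map_add]; exact Submodule.add_mem _ h1 h2
    · intro d hd r
      have : monomial d r = r • monomial d (1 : k) := by
        rw [smul_monomial, smul_eq_mul, mul_one]
      rw [this, map_smul, hall d hd, smul_zero]
      exact Submodule.zero_mem _
  · push Not at hall
    obtain ⟨d₀, hd₀, hne⟩ := hall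
    refine ⟨mk (monomial d₀ 1), ?_⟩
    rintro _ ⟨f, hf, rfl⟩
    show mk f ∈ _
    apply H7_wh_induction w ν
      (fun f => mk f ∈ Submodule.span k {mk (monomial d₀ 1)}) ?_ ?_ ?_ f hf
    · simp
    · intro f1 f2 h1 h2
      rw [map_add]; exact Submodule.add_mem _ h1 h2
    · intro d hd r
      have : monomial d r = r • monomial d (1 : k) := by
        rw [smul_monomial, smul_eq_mul, mul_one]
      rw [this, map_smul]
      apply Submodule.smul_mem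
      obtain ⟨c, hc | hc⟩ := h d d₀ hd hd₀
      · rw [hc]
        exact Submodule.smul_mem _ _ (Submodule.mem_span_singleton_self _)
      · have hc0 : c ≠ 0 := by
          intro h0
          rw [h0, zero_smul] at hc
          exact hne hc
        have h6 : mk (monomial d 1) = c⁻¹ • mk (monomial d₀ 1) := by
          rw [hc, smul_smul, inv_mul_cancel₀ hc0, one_smul]
        rw [h6]
        exact Submodule.smul_mem _ _ (Submodule.mem_span_singleton_self _)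

/-- Arithmetic of exponents of two monomials `x^d0 y^d1 z^d2`, `x^e0 y^e1 z^e2` with
`d0, e0 < gcd(m, q - p)`, the same torus weight and the same character mod `m`. -/
theorem H7_J_arith (p g0 m : ℕ) (hm : 0 < m) (hcop : Nat.Coprime p (p + g0 + 1))
    (d0 d1 d2 e0 e1 e2 : ℕ)
    (hn : (e0 : ℤ) - (p : ℤ) * e1 + ((p : ℤ) + g0 + 1) * e2 =
      (d0 : ℤ) - (p : ℤ) * d1 + ((p : ℤ) + g0 + 1) * d2)
    (hc : (m : ℤ) ∣ ((e1 : ℤ) - e2) - ((d1 : ℤ) - d2))
    (hd0 : d0 < Nat.gcd m (g0 + 1)) (he0 : e0 < Nat.gcd m (g0 + 1)) :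
    d0 = e0 ∧ ∃ s : ℤ, (e2 : ℤ) - d2 = (p : ℤ) * ((m / Nat.gcd m (g0 + 1) : ℕ) : ℤ) * s ∧
      (e1 : ℤ) - d1 = ((m / Nat.gcd m (g0 + 1) : ℕ) : ℤ) * ((p : ℤ) + g0 + 1) * s := by
  set gg := Nat.gcd m (g0 + 1) with hgg
  have hggpos : 0 < gg := Nat.gcd_pos_of_pos_left _ hm
  set a := m / gg with ha
  set b := (g0 + 1) / gg with hb
  have hma : m = gg * a := (Nat.mul_div_cancel' (Nat.gcd_dvd_left m (g0 + 1))).symm
  have hrb : g0 + 1 = gg * b := (Nat.mul_div_cancel' (Nat.gcd_dvd_right m (g0 + 1))).symm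
  have hcopab : Nat.Coprime a b := Nat.coprime_div_gcd_div_gcd hggpos
  have hcoppr : Nat.Coprime p (g0 + 1) := by
    have : Nat.Coprime p (p + (g0 + 1)) := by rwa [← add_assoc]
    exact Nat.coprime_self_add_right.mp this
  have hMA : (m : ℤ) = (gg : ℤ) * a := by exact_mod_cast hma
  have hRB : ((g0 : ℤ) + 1) = (gg : ℤ) * b := by exact_mod_cast hrb
  have hGGpos : (0 : ℤ) < gg := by exact_mod_cast hggpos
  have hGGM : (gg : ℤ) ∣ (m : ℤ) := ⟨a, hMA⟩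
  have hGGR : (gg : ℤ) ∣ ((g0 : ℤ) + 1) := ⟨b, hRB⟩
  have h1 : (gg : ℤ) ∣ (d0 : ℤ) - e0 := by
    have e : (d0 : ℤ) - e0 = -((p : ℤ) * (((e1 : ℤ) - e2) - ((d1 : ℤ) - d2))) +
        ((g0 : ℤ) + 1) * ((e2 : ℤ) - d2) := by linarith
    rw [e]
    exact dvd_add ((dvd_neg (α := ℤ)).mpr (Dvd.dvd.mul_left (hGGM.trans hc) _))
      (Dvd.dvd.mul_right hGGR _)
  have hde : d0 = e0 := by
    have h2 : ((d0 : ℤ) - e0).natAbs < (gg : ℤ).natAbs := by
      rw [Int.natAbs_natCast]; omega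
    have := Int.eq_zero_of_dvd_of_natAbs_lt_natAbs h1 h2
    omega
  subst hde
  refine ⟨rfl, ?_⟩
  set Δ : ℤ := ((e1 : ℤ) - e2) - ((d1 : ℤ) - d2) with hΔ
  have h3 : (p : ℤ) * Δ = ((g0 : ℤ) + 1) * ((e2 : ℤ) - d2) := by rw [hΔ]; linarith
  have hRΔ : ((g0 : ℤ) + 1) ∣ Δ := by
    have hd : ((g0 : ℤ) + 1) ∣ (p : ℤ) * Δ := ⟨_, h3⟩
    apply Int.dvd_of_dvd_mul_right_of_gcd_one hd
    have : Int.gcd ((g0 + 1 : ℕ) : ℤ) (p : ℤ) = 1 := by
      rw [Int.gcd_natCast_natCast]; exact hcoppr.symm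
    simpa using this
  obtain ⟨u, hu⟩ := hc
  obtain ⟨w, hw⟩ := hRΔ
  have h4 : (a : ℤ) * u = (b : ℤ) * w := by
    have : (gg : ℤ) * ((a : ℤ) * u) = (gg : ℤ) * ((b : ℤ) * w) := by
      rw [← mul_assoc, ← mul_assoc, ← hMA, ← hRB, ← hu, ← hw]
    exact mul_left_cancel₀ hGGpos.ne' this
  have hbu : (b : ℤ) ∣ u := by
    have hd : (b : ℤ) ∣ (a : ℤ) * u := ⟨w, h4⟩
    apply Int.dvd_of_dvd_mul_right_of_gcd_one hd
    rw [Int.gcd_natCast_natCast]; exact hcopab.symm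
  obtain ⟨s, hs⟩ := hbu
  have hΔs : Δ = (m : ℤ) * b * s := by rw [hu, hs]; ring
  have hE2 : (e2 : ℤ) - d2 = (p : ℤ) * a * s := by
    have : ((g0 : ℤ) + 1) * ((e2 : ℤ) - d2) = ((g0 : ℤ) + 1) * ((p : ℤ) * a * s) := by
      rw [← h3, hΔs, hMA, hRB]; ring
    exact mul_left_cancel₀ (by positivity) this
  refine ⟨s, hE2, ?_⟩
  have : (e1 : ℤ) - d1 = Δ + ((e2 : ℤ) - d2) := by rw [hΔ]; ring
  rw [this, hΔs, hE2, hMA]
  have : (gg : ℤ) * a * b * s = a * ((g0 : ℤ) + 1) * s := by rw [hRB]; ring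
  rw [this]; ring

section generic

variable {A : Type*} [CommRing A] (x y z : A)

/-- Two monomials as in `H7_J_arith` differ by a power of `y^(aq) z^(ap)`. -/
theorem H7_gJ (p g0 m : ℕ) (hm : 0 < m) (hcop : Nat.Coprime p (p + g0 + 1))
    (d0 d1 d2 e0 e1 e2 : ℕ)
    (hn : (e0 : ℤ) - (p : ℤ) * e1 + ((p : ℤ) + g0 + 1) * e2 =
      (d0 : ℤ) - (p : ℤ) * d1 + ((p : ℤ) + g0 + 1) * d2)
    (hc : (m : ℤ) ∣ ((e1 : ℤ) - e2) - ((d1 : ℤ) - d2))
    (hd0 : d0 < Nat.gcd m (g0 + 1)) (he0 : e0 < Nat.gcd m (g0 + 1)) :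
    ∃ t : ℕ,
      x ^ e0 * y ^ e1 * z ^ e2 = x ^ d0 * y ^ d1 * z ^ d2 *
        (y ^ (m / Nat.gcd m (g0 + 1) * (p + g0 + 1)) * z ^ (m / Nat.gcd m (g0 + 1) * p)) ^ t ∨
      x ^ d0 * y ^ d1 * z ^ d2 = x ^ e0 * y ^ e1 * z ^ e2 *
        (y ^ (m / Nat.gcd m (g0 + 1) * (p + g0 + 1)) * z ^ (m / Nat.gcd m (g0 + 1) * p)) ^ t := by
  obtain ⟨hde, s, hE2, hE1⟩ := H7_J_arith p g0 m hm hcop d0 d1 d2 e0 e1 e2 hn hc hd0 he0
  subst hde
  set a := m / Nat.gcd m (g0 + 1) with ha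
  rcases le_total 0 s with hpos | hneg
  · obtain ⟨s0, rfl⟩ := Int.eq_ofNat_of_zero_le hpos
    have he1 : e1 = d1 + a * (p + g0 + 1) * s0 := by
      have : (e1 : ℤ) = d1 + (a : ℤ) * ((p : ℤ) + g0 + 1) * s0 := by linarith
      exact_mod_cast this
    have he2 : e2 = d2 + a * p * s0 := by
      have : (e2 : ℤ) = d2 + (a : ℤ) * p * s0 := by linarith
      exact_mod_cast this
    refine ⟨s0, Or.inl ?_⟩
    rw [he1, he2]
    simp only [mul_pow, ← pow_mul, pow_add]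
    ring
  · obtain ⟨s0, hs0⟩ := Int.eq_ofNat_of_zero_le (neg_nonneg.mpr hneg)
    have hss : s = -(s0 : ℤ) := by linarith
    have hd1 : d1 = e1 + a * (p + g0 + 1) * s0 := by
      have : (d1 : ℤ) = e1 + (a : ℤ) * ((p : ℤ) + g0 + 1) * s0 := by rw [hss] at hE1; linarith
      exact_mod_cast this
    have hd2 : d2 = e2 + a * p * s0 := by
      have : (d2 : ℤ) = e2 + (a : ℤ) * p * s0 := by rw [hss] at hE2; linarith
      exact_mod_cast this
    refine ⟨s0, Or.inr ?_⟩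
    rw [hd1, hd2]
    simp only [mul_pow, ← pow_mul, pow_add]
    ring

end generic

end Groth.Agent.Lib.helper7
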