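import Mathlib
import Groth.Agent.Lib.helper7.HJ4
import Groth.Agent.Lib.helper7.LGen
import Groth.Agent.Lib.helper7.Mono4

set_option autoImplicit false

namespace Groth.Agent.Lib.helper7

open W4c2invhilbsl2 MvPolynomial

/-- First component of the `wt3` weight. -/
theorem H7_wt3_fst (p q m : ℕ) (d : Fin 3 →₀ ℕ) :
    (Finsupp.weight (wt3 p q m) d).1 = (d 0 : ℤ) - (p : ℤ) * d 1 + (q : ℤ) * d 2 := by
  rw [Finsupp.weight_eq_sum, Fin.sum_univ_three]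
  have h0 : wt3 p q m 0 = ((1 : ℤ), (0 : ZMod m)) := rfl
  have h1 : wt3 p q m 1 = (-(p : ℤ), (-1 : ZMod m)) := rfl
  have h2 : wt3 p q m 2 = ((q : ℤ), (1 : ZMod m)) := rfl
  rw [h0, h1, h2]
  simp only [Prod.fst_add, Prod.smul_fst]
  simp only [nsmul_eq_mul, mul_one, mul_neg]
  ring

/-- Second component of the `wt3` weight. -/
theorem H7_wt3_snd (p q m : ℕ) (d : Fin 3 →₀ ℕ) :
    (Finsupp.weight (wt3 p q m) d).2 = (((d 2 : ℤ) - d 1 : ℤ) : ZMod m) := by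
  rw [Finsupp.weight_eq_sum, Fin.sum_univ_three]
  have h0 : wt3 p q m 0 = ((1 : ℤ), (0 : ZMod m)) := rfl
  have h1 : wt3 p q m 1 = (-(p : ℤ), (-1 : ZMod m)) := rfl
  have h2 : wt3 p q m 2 = ((q : ℤ), (1 : ZMod m)) := rfl
  rw [h0, h1, h2]
  simp only [Prod.snd_add, Prod.smul_snd]
  simp only [nsmul_eq_mul, mul_one, mul_neg, mul_zero, zero_add]
  push_cast
  ring

/-- Each weight piece of `k[X₀,X₁,X₂] ⧸ L⁽ⁱ⁾ₛ` has dimension at most one. -/
theorem H7_idealL_rank (k : Type*) [Field k] (p q m : ℕ) (hp : 0 < p) (hpq : p < q)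
    (hcop : Nat.Coprime p q) (hm : 0 < m) (hnt : ¬ (q - p ∣ m)) (c : List ℤ)
    (hc : IsHJDigits p q m c) (i : ℕ) (hi : 1 ≤ i) (hir : i ≤ c.length) (s : k)
    (ν : ℤ × ZMod m) :
    Module.rank k (piece k (wt3 p q m) (idealL k p q m c i s) ν) ≤ 1 := by
  classical
  obtain ⟨hN0, hNN', hN'R, hPi1, hEL, hNdef, hLv0, hE1⟩ :=
    H7_HJ_basic p q m hp hpq hcop hm hnt c hc i hi hir
  have hKEY := H7_HJ_key p q m hp hpq hcop hm hnt c hc i hi hir
  set w := wt3 p q m with hw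
  set I := idealL k p q m c i s with hI
  set mk := Ideal.Quotient.mkₐ k I with hmk
  set x0 := mk (X 0) with hx0
  set x1 := mk (X 1) with hx1
  set x2 := mk (X 2) with hx2
  set N' := (nN p q m c (i - 1)).toNat with hN'
  set N := (nN p q m c i).toNat with hN
  set E := (eE p q m c i).toNat with hE
  set Lv := (lL p q m c i).toNat with hLv
  have cN' : (N' : ℤ) = nN p q m c (i - 1) := Int.toNat_of_nonneg (by linarith)
  have cN : (N : ℤ) = nN p q m c i := Int.toNat_of_nonneg hN0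
  have cE : (E : ℤ) = eE p q m c i := Int.toNat_of_nonneg (by linarith)
  have cL : (Lv : ℤ) = lL p q m c i := Int.toNat_of_nonneg hLv0
  have hmemL : ∀ y ∈ ({X 0 ^ N', C s * X 0 ^ N - X 1 ^ E * X 2 ^ Lv} :
      Set (MvPolynomial (Fin 3) k)), mk y = 0 := by
    intro y hy
    rw [hmk, Ideal.Quotient.mkₐ_eq_mk, Ideal.Quotient.eq_zero_iff_mem, hI, idealL]
    exact Ideal.mem_sup_left (Ideal.subset_span hy)
  have hmemK : ∀ d : Fin 3 →₀ ℕ, d ≠ 0 → Finsupp.weight w d = 0 → mk (monomial d 1) = 0 := by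
    intro d hd hwd
    rw [hmk, Ideal.Quotient.mkₐ_eq_mk, Ideal.Quotient.eq_zero_iff_mem, hI, idealL]
    exact Ideal.mem_sup_right (Ideal.subset_span ⟨d, hd, hwd, rfl⟩)
  have F1 : x0 ^ N' = 0 := by
    have := hmemL (X 0 ^ N') (by simp)
    simpa using this
  have F2 : x1 ^ E * x2 ^ Lv = algebraMap k _ s * x0 ^ N := by
    have := hmemL (C s * X 0 ^ N - X 1 ^ E * X 2 ^ Lv) (by simp)
    rw [map_sub, sub_eq_zero, map_mul, map_mul, map_pow, map_pow, map_pow] at this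
    rw [← this, hmk]
    rfl
  have hμ : ∀ d : Fin 3 →₀ ℕ, mk (monomial d 1) = x0 ^ d 0 * x1 ^ d 1 * x2 ^ d 2 := by
    intro d
    rw [H7_monomial3 d 1]
    simp only [map_mul, map_pow, map_one, one_mul]
    rfl
  have F3 : ∀ u v w' : ℕ, (u ≠ 0 ∨ v ≠ 0 ∨ w' ≠ 0) →
      (u : ℤ) - (p : ℤ) * v + (q : ℤ) * w' = 0 → (m : ℤ) ∣ (v : ℤ) - w' →
      x0 ^ u * x1 ^ v * x2 ^ w' = 0 := by
    intro u v w' hne h1 h2
    set d : Fin 3 →₀ ℕ := Finsupp.single 0 u + Finsupp.single 1 v + Finsupp.single 2 w' with hd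
    have d0 : d 0 = u := by simp [hd]
    have d1 : d 1 = v := by simp [hd]
    have d2 : d 2 = w' := by simp [hd]
    have hdne : d ≠ 0 := by
      intro h
      rw [h] at d0 d1 d2
      simp only [Finsupp.coe_zero, Pi.zero_apply] at d0 d1 d2
      omega
    have hwd : Finsupp.weight w d = 0 := by
      apply Prod.ext
      · rw [H7_wt3_fst, d0, d1, d2]; exact h1
      · rw [H7_wt3_snd, d1, d2]
        show (((w' : ℤ) - v : ℤ) : ZMod m) = 0
        rw [ZMod.intCast_zmod_eq_zero_iff_dvd]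
        obtain ⟨t, ht⟩ := h2
        exact ⟨-t, by linarith⟩
    have := hmemK d hdne hwd
    rw [hμ, d0, d1, d2] at this
    exact this
  have KEY : ∀ b c' : ℕ, (b ≠ 0 ∨ c' ≠ 0) → (m : ℤ) ∣ (b : ℤ) - c' →
      0 ≤ (q : ℤ) * c' - (p : ℤ) * b → (q : ℤ) * c' - (p : ℤ) * b < N' → E ≤ b ∧ Lv ≤ c' := by
    intro b c' hne hdv h0 hlt
    rw [cN'] at hlt
    obtain ⟨h1, h2⟩ := hKEY b c' hne hdv h0 hlt
    rw [← cE] at h1
    rw [← cL] at h2
    exact ⟨by exact_mod_cast h1, by exact_mod_cast h2⟩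
  have hN'R' : (N' : ℤ) ≤ (q : ℤ) - p := by rw [cN']; exact hN'R
  have hEpos : 0 < E := by
    have : (1 : ℤ) ≤ E := by rw [cE]; exact hE1
    exact_mod_cast this
  have hwt : (N : ℤ) = (q : ℤ) * Lv - (p : ℤ) * E := by
    rw [cN, cL, cE]
    show -(p : ℤ) * eE p q m c i + (q : ℤ) * lL p q m c i = _
    ring
  have hmEL : (m : ℤ) ∣ (E : ℤ) - Lv := by
    rw [cE, cL, hEL]; exact Dvd.intro _ rfl
  apply H7_rank_piece_le_one
  intro d e hd he
  have hw1 : (d 0 : ℤ) - (p : ℤ) * d 1 + (q : ℤ) * d 2 =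
      (e 0 : ℤ) - (p : ℤ) * e 1 + (q : ℤ) * e 2 := by
    have hfd := congrArg Prod.fst hd
    have hfe := congrArg Prod.fst he
    rw [H7_wt3_fst] at hfd hfe
    rw [hfd, hfe]
  have hw2 : (m : ℤ) ∣ ((d 1 : ℤ) - d 2) - ((e 1 : ℤ) - e 2) := by
    have hsd := congrArg Prod.snd hd
    have hse := congrArg Prod.snd he
    rw [H7_wt3_snd] at hsd hse
    have := hsd.trans hse.symm
    rw [ZMod.intCast_eq_intCast_iff_dvd_sub] at this
    obtain ⟨t, ht⟩ := this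
    exact ⟨t, by linarith⟩
  obtain ⟨l, hl | hl⟩ := H7_L_cmp x0 x1 x2 p q m N' N E Lv s hp hpq hN'R' hEpos hwt hmEL F1 F2 F3
    KEY (d 0) (d 1) (d 2) (e 0) (e 1) (e 2) hw1 hw2
  · refine ⟨l, Or.inl ?_⟩
    rw [hμ d, hμ e, hl]
    exact (Algebra.smul_def l (x0 ^ e 0 * x1 ^ e 1 * x2 ^ e 2)).symm
  · refine ⟨l, Or.inr ?_⟩
    rw [hμ d, hμ e, hl]
    exact (Algebra.smul_def l (x0 ^ d 0 * x1 ^ d 1 * x2 ^ d 2)).symm

end Groth.Agent.Lib.helper7
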