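import Mathlib

universe u v

namespace Groth.Agent.Lib.helper7

theorem H7_harb_setup (P : Type u) [DecidableEq P] (ι : Type v) [Fintype ι] (inc : P → ι → Prop) (h : ℕ) (hh : 0 < h) (hd : 2 ≤ Fintype.card ι) (hfin : ∀ i j : ι, i ≠ j → {p : P | inc p i ∧ inc p j}.Finite) (hcount : ∀ i j : ι, i ≠ j → {p : P | inc p i ∧ inc p j}.ncard = h) (hnone : ∀ p : P, ∃ i : ι, ¬ inc p i) :
    ∃ (T : Finset P) (A : ι → Finset P), Nat.card {p : P // 2 ≤ Nat.card {j : ι // inc p j}} = T.card ∧
      (∀ i p, p ∈ A i ↔ p ∈ T ∧ inc p i) ∧ (∀ i j, i ≠ j → (A i ∩ A j).card = h) ∧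
      (∀ i, h + 1 ≤ (A i).card) := by
  classical
  let T : Finset P := Finset.univ.biUnion (fun ij : ι × ι => if hj : ij.1 ≠ ij.2 then (hfin ij.1 ij.2 hj).toFinset else ∅)
  have hmc : ∀ p, Nat.card {j : ι // inc p j} = (Finset.univ.filter (fun j => inc p j)).card := by
    intro p
    rw [Nat.card_eq_fintype_card, Fintype.card_subtype]
  have hT : ∀ p, p ∈ T ↔ 2 ≤ Nat.card {j : ι // inc p j} := by
    intro p
    rw [hmc]
    simp only [T, Finset.mem_biUnion, Finset.mem_univ, true_and]
    constructor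
    · rintro ⟨⟨i, j⟩, hj⟩
      by_cases hij : i ≠ j
      · rw [dif_pos hij, Set.Finite.mem_toFinset] at hj
        show 1 < _
        rw [Finset.one_lt_card]
        exact ⟨i, by simpa using hj.1, j, by simpa using hj.2, hij⟩
      · rw [dif_neg hij] at hj; simp at hj
    · intro h2
      have h2' : 1 < (Finset.univ.filter (fun j => inc p j)).card := h2
      rw [Finset.one_lt_card] at h2'
      obtain ⟨i, hi, j, hj, hij⟩ := h2'
      refine ⟨(i, j), ?_⟩
      rw [dif_pos hij, Set.Finite.mem_toFinset]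
      exact ⟨by simpa using hi, by simpa using hj⟩
  have hT2 : ∀ p i j, i ≠ j → inc p i → inc p j → p ∈ T := by
    intro p i j hij hi hj
    simp only [T, Finset.mem_biUnion, Finset.mem_univ, true_and]
    refine ⟨(i, j), ?_⟩
    rw [dif_pos hij, Set.Finite.mem_toFinset]
    exact ⟨hi, hj⟩
  have hA : ∀ i p, p ∈ T.filter (fun p => inc p i) ↔ p ∈ T ∧ inc p i := by
    intro i p; rw [Finset.mem_filter]
  have hAA : ∀ i j, i ≠ j → ((T.filter (fun p => inc p i)) ∩ (T.filter (fun p => inc p j))).card = h := by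
    intro i j hij
    rw [← hcount i j hij, Set.ncard_eq_toFinset_card _ (hfin i j hij)]
    congr 1
    ext p
    simp only [Finset.mem_inter, Finset.mem_filter, Set.Finite.mem_toFinset, Set.mem_ofPred_eq]
    constructor
    · rintro ⟨⟨_, h1⟩, ⟨_, h2⟩⟩; exact ⟨h1, h2⟩
    · rintro ⟨h1, h2⟩; exact ⟨⟨hT2 p i j hij h1 h2, h1⟩, ⟨hT2 p i j hij h1 h2, h2⟩⟩
  refine ⟨T, fun i => T.filter (fun p => inc p i), ?_, hA, hAA, ?_⟩
  · rw [← Nat.card_eq_finsetCard]
    apply Nat.card_congr
    refine Equiv.subtypeEquivRight ?_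
    intro p
    exact (hT p).symm
  · intro i
    by_contra hlt
    push Not at hlt
    have hle : (T.filter (fun p => inc p i)).card ≤ h := by omega
    have hsub : ∀ j, j ≠ i → T.filter (fun p => inc p i) ⊆ T.filter (fun p => inc p j) := by
      intro j hji
      have h1 : (T.filter (fun p => inc p i)) ∩ (T.filter (fun p => inc p j)) = T.filter (fun p => inc p i) := by
        apply Finset.eq_of_subset_of_card_le Finset.inter_subset_left
        rw [hAA i j hji.symm]; exact hle
      rw [← h1]; exact Finset.inter_subset_right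
    obtain ⟨j, hji⟩ : ∃ j, j ≠ i := by
      have : 1 < Fintype.card ι := hd
      rw [Fintype.one_lt_card_iff] at this
      obtain ⟨a, b, hab⟩ := this
      by_cases ha : a = i
      · exact ⟨b, by rw [← ha]; exact hab.symm⟩
      · exact ⟨a, ha⟩
    have hne : (T.filter (fun p => inc p i)).Nonempty := by
      rw [← Finset.card_pos]
      have := hAA i j hji.symm
      have h2 : ((T.filter (fun p => inc p i)) ∩ (T.filter (fun p => inc p j))).card ≤ (T.filter (fun p => inc p i)).card :=
        Finset.card_le_card Finset.inter_subset_left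
      omega
    obtain ⟨p, hp⟩ := hne
    obtain ⟨i', hi'⟩ := hnone p
    by_cases hii : i' = i
    · rw [hii] at hi'; exact hi' ((hA i p).1 hp).2
    · exact hi' ((hA i' p).1 (hsub i' hii hp)).2

end Groth.Agent.Lib.helper7
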