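import Mathlib

universe u
open Polynomial

namespace Groth.Agent.Lib.helper7

theorem H7_isUnit_mk_iff {R : Type u} [CommRing R] (I : Ideal R) (x : R) :
    IsUnit (Ideal.Quotient.mk I x) ↔ ∃ y, x * y - 1 ∈ I := by
  constructor
  · intro h
    obtain ⟨u, hu⟩ := h.exists_right_inv
    obtain ⟨y, rfl⟩ := Ideal.Quotient.mk_surjective u
    refine ⟨y, ?_⟩
    rw [← Ideal.Quotient.eq_zero_iff_mem, map_sub, map_mul, hu, map_one, sub_self]
  · rintro ⟨y, hy⟩
    apply IsUnit.of_mul_eq_one (Ideal.Quotient.mk I y)
    rw [← Ideal.Quotient.eq_zero_iff_mem, map_sub, map_mul, map_one, sub_eq_zero] at hy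
    exact hy

theorem H7_mem_pi_ideal {J : Type u} {A : J → Type u} [∀ j, CommRing (A j)] (I : ∀ j, Ideal (A j))
    (x : ∀ j, A j) : x ∈ (⨅ j, Ideal.comap (Pi.evalRingHom A j) (I j)) ↔ ∀ j, x j ∈ I j := by
  simp [Ideal.mem_iInf, Ideal.mem_comap]

theorem H7_eval_pi {J : Type u} {A : J → Type u} [∀ j, CommRing (A j)] (F : (∀ j, A j)[X])
    (a : ∀ j, A j) (j : J) : (F.eval a) j = (F.map (Pi.evalRingHom A j)).eval (a j) := by
  have := Polynomial.eval_map_apply (p := F) (Pi.evalRingHom A j) a
  rw [Pi.evalRingHom_apply] at this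
  rw [this]; rfl

theorem H7_hens_pi_of_forall {J : Type u} {A : J → Type u} [∀ j, CommRing (A j)] (I : ∀ j, Ideal (A j))
    (h : ∀ j, HenselianRing (A j) (I j)) :
    HenselianRing (∀ j, A j) (⨅ j, Ideal.comap (Pi.evalRingHom A j) (I j)) := by
  constructor
  · intro x hx
    rw [H7_mem_pi_ideal] at hx
    rw [Ideal.mem_jacobson_bot]
    intro y
    rw [Pi.isUnit_iff]
    intro j
    have := (h j).jac (hx j)
    rw [Ideal.mem_jacobson_bot] at this
    exact this (y j)
  · intro F hF a₀ h1 h2
    rw [H7_mem_pi_ideal] at h1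
    rw [H7_isUnit_mk_iff] at h2
    obtain ⟨b, hb⟩ := h2
    rw [H7_mem_pi_ideal] at hb
    have hroot : ∀ j, ∃ a : A j, (F.map (Pi.evalRingHom A j)).IsRoot a ∧ a - a₀ j ∈ I j := by
      intro j
      apply (h j).is_henselian _ (hF.map _) (a₀ j)
      · rw [← H7_eval_pi]; exact h1 j
      · rw [H7_isUnit_mk_iff]
        refine ⟨b j, ?_⟩
        rw [Polynomial.derivative_map, ← H7_eval_pi]
        exact hb j
    choose a ha1 ha2 using hroot
    refine ⟨a, ?_, ?_⟩
    · show F.eval a = 0
      funext j
      rw [H7_eval_pi]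
      exact ha1 j
    · rw [H7_mem_pi_ideal]
      exact ha2

theorem H7_hens_of_pi {J : Type u} {A : J → Type u} [∀ j, CommRing (A j)] (I : ∀ j, Ideal (A j))
    (h : HenselianRing (∀ j, A j) (⨅ j, Ideal.comap (Pi.evalRingHom A j) (I j))) (j : J) :
    HenselianRing (A j) (I j) := by
  classical
  have hjac : I j ≤ Ideal.jacobson ⊥ := by
    intro x hx
    rw [Ideal.mem_jacobson_bot]
    intro y
    have hX : (Pi.single j x : ∀ i, A i) ∈ (⨅ j, Ideal.comap (Pi.evalRingHom A j) (I j)) := by
      rw [H7_mem_pi_ideal]
      intro i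
      by_cases hi : i = j
      · subst hi; simpa using hx
      · rw [Pi.single_eq_of_ne hi]; exact zero_mem _
    have := h.jac hX
    rw [Ideal.mem_jacobson_bot] at this
    have h3 := this (Pi.single j y)
    rw [Pi.isUnit_iff] at h3
    simpa using h3 j
  refine ⟨hjac, ?_⟩
  intro f hf a₀ h1 h2
  by_cases hd : f.natDegree = 0
  · -- f = 1, so the ring is trivial
    have hf1 : f = 1 := by
      rw [Polynomial.eq_C_of_natDegree_eq_zero hd]
      have : f.coeff 0 = 1 := by
        have := hf.coeff_natDegree
        rwa [hd] at this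
      rw [this, C_1]
    rw [hf1, eval_one] at h1
    have : (1 : A j) ∈ Ideal.jacobson ⊥ := hjac h1
    rw [Ideal.mem_jacobson_bot] at this
    have h4 := this (-1)
    have h5 : (1 : A j) * -1 + 1 = 0 := by ring
    rw [h5] at h4
    have : Subsingleton (A j) := subsingleton_of_zero_eq_one (isUnit_zero_iff.1 h4)
    exact ⟨a₀, Subsingleton.elim _ _, by rw [sub_self]; exact zero_mem _⟩
  · set d := f.natDegree with hdd
    let G : ∀ i, (A i)[X] := fun i => X ^ (d - 1) * (X - 1)
    have hGmonic : ∀ i, (G i).Monic := by
      intro i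
      exact (monic_X_pow _).mul (monic_X_sub_C 1)
    have hGdeg : ∀ i, Nontrivial (A i) → (G i).natDegree = d := by
      intro i _
      have h6 : (X - 1 : (A i)[X]) = X - C 1 := by rw [C_1]
      show (X ^ (d - 1) * (X - 1) : (A i)[X]).natDegree = d
      rw [h6, ((monic_X_pow (d - 1)).natDegree_mul (monic_X_sub_C (1 : A i))), natDegree_X_pow,
        natDegree_X_sub_C]
      omega
    let c : ℕ → ∀ i, A i := fun n => Function.update (fun i => (G i).coeff n) j (f.coeff n)
    let F : (∀ i, A i)[X] := ∑ n ∈ Finset.range (d + 1), monomial n (c n)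
    have hc0 : ∀ n, d < n → c n = 0 := by
      intro n hn
      funext i
      by_cases hi : i = j
      · subst hi
        simp only [c, Function.update_self]
        exact coeff_eq_zero_of_natDegree_lt hn
      · simp only [c, Function.update_of_ne hi, Pi.zero_apply]
        rcases subsingleton_or_nontrivial (A i) with hs | hs
        · exact Subsingleton.elim _ _
        · exact coeff_eq_zero_of_natDegree_lt (by rw [hGdeg i hs]; exact hn)
    have hFc : ∀ n, F.coeff n = c n := by
      intro n
      simp only [F, finset_sum_coeff, coeff_monomial]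
      rw [Finset.sum_ite_eq' (Finset.range (d + 1)) n]
      split_ifs with hn
      · rfl
      · rw [Finset.mem_range] at hn
        exact (hc0 n (by omega)).symm
    have hFj : F.map (Pi.evalRingHom A j) = f := by
      ext n
      rw [coeff_map, hFc]
      simp [c]
    have hFi : ∀ i, i ≠ j → F.map (Pi.evalRingHom A i) = G i := by
      intro i hi
      ext n
      rw [coeff_map, hFc]
      simp [c, Function.update_of_ne hi]
    have hFmonic : F.Monic := by
      apply monic_of_natDegree_le_of_coeff_eq_one d
      · rw [natDegree_le_iff_coeff_eq_zero]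
        intro n hn
        rw [hFc, hc0 n hn]
      · rw [hFc]
        funext i
        by_cases hi : i = j
        · subst hi
          simp only [c, Function.update_self, Pi.one_apply]
          exact hf.coeff_natDegree
        · simp only [c, Function.update_of_ne hi, Pi.one_apply]
          rcases subsingleton_or_nontrivial (A i) with hs | hs
          · exact Subsingleton.elim _ _
          · have := (hGmonic i).coeff_natDegree
            rwa [hGdeg i hs] at this
    rw [H7_isUnit_mk_iff] at h2
    obtain ⟨b, hb⟩ := h2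
    let a₀' : ∀ i, A i := Function.update (fun _ => 1) j a₀
    let b' : ∀ i, A i := Function.update (fun _ => 1) j b
    have hG1 : ∀ i, (G i).eval 1 = 0 := by
      intro i
      simp [G]
    have hG1' : ∀ i, (derivative (G i)).eval 1 = 1 := by
      intro i
      simp [G, derivative_mul]
    have h7 : F.eval a₀' ∈ (⨅ j, Ideal.comap (Pi.evalRingHom A j) (I j)) := by
      rw [H7_mem_pi_ideal]
      intro i
      rw [H7_eval_pi]
      by_cases hi : i = j
      · subst hi
        rw [hFj]
        simpa [a₀'] using h1
      · rw [hFi i hi]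
        simp only [a₀', Function.update_of_ne hi]
        rw [hG1 i]
        exact zero_mem _
    have h8 : IsUnit (Ideal.Quotient.mk (⨅ j, Ideal.comap (Pi.evalRingHom A j) (I j))
        ((derivative F).eval a₀')) := by
      rw [H7_isUnit_mk_iff]
      refine ⟨b', ?_⟩
      rw [H7_mem_pi_ideal]
      intro i
      show ((derivative F).eval a₀') i * b' i - 1 ∈ I i
      rw [H7_eval_pi, ← Polynomial.derivative_map]
      by_cases hi : i = j
      · subst hi
        rw [hFj]
        simpa [a₀', b'] using hb
      · rw [hFi i hi]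
        simp only [a₀', b', Function.update_of_ne hi]
        rw [hG1' i, one_mul, sub_self]
        exact zero_mem _
    obtain ⟨a, ha1, ha2⟩ := h.is_henselian F hFmonic a₀' h7 h8
    refine ⟨a j, ?_, ?_⟩
    · show f.eval (a j) = 0
      have : (F.eval a) j = 0 := by
        have : F.eval a = 0 := ha1
        rw [this]; rfl
      rw [H7_eval_pi, hFj] at this
      exact this
    · rw [H7_mem_pi_ideal] at ha2
      have := ha2 j
      simpa [a₀'] using this

end Groth.Agent.Lib.helper7
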