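import Mathlib

universe u

namespace Groth.Agent.Lib.helper7

open scoped Topology

theorem H7_lc_factor {K L : Type u} [Field K] [Field L] [Algebra K L] {M : Type*}
    (a : (L ≃ₐ[K] L) → M) (hlc : IsLocallyConstant a) :
    ∃ E : IntermediateField K L, FiniteDimensional K E ∧ ∀ τ ∈ E.fixingSubgroup, a τ = a 1 := by
  have hopen : IsOpen {σ | a σ = a 1} := hlc.isOpen_fiber (a 1)
  have hmem : {σ | a σ = a 1} ∈ 𝓝 (1 : L ≃ₐ[K] L) := hopen.mem_nhds rfl
  rw [krullTopology_mem_nhds_one_iff] at hmem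
  obtain ⟨E, hE, hsub⟩ := hmem
  exact ⟨E, hE, fun τ hτ => hsub hτ⟩

theorem H7_exists_lift {K L : Type u} [Field K] [Field L] [Algebra K L] [Normal K L]
    (E : IntermediateField K L) (s : E →ₐ[K] L) :
    ∃ σ : L ≃ₐ[K] L, (σ : L →ₐ[K] L).comp E.val = s := by
  let σ₀ : L →ₐ[K] L := s.liftNormal L
  refine ⟨AlgEquiv.ofBijective σ₀ (AlgHom.normal_bijective K L L σ₀), ?_⟩
  ext x
  have := s.liftNormal_commutes L x
  simpa using this

/-- common setup -/
theorem H7_galois_setup {K L : Type u} [Field K] [Field L] [Algebra K L] [Normal K L] {M : Type*}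
    (E : IntermediateField K L) (a : (L ≃ₐ[K] L) → M)
    (hcoset : ∀ σ : L ≃ₐ[K] L, ∀ τ ∈ E.fixingSubgroup, a (σ * τ) = a σ) :
    ∃ (abar : (E →ₐ[K] L) → M) (lift : (E →ₐ[K] L) → (L ≃ₐ[K] L)),
      (∀ s, ((lift s : L ≃ₐ[K] L) : L →ₐ[K] L).comp E.val = s) ∧
      (∀ σ : L ≃ₐ[K] L, a σ = abar ((σ : L →ₐ[K] L).comp E.val)) := by
  choose lift hlift using H7_exists_lift E
  refine ⟨fun s => a (lift s), lift, hlift, ?_⟩
  intro σ
  set s := (σ : L →ₐ[K] L).comp E.val with hs
  have hτ : (lift s)⁻¹ * σ ∈ E.fixingSubgroup := by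
    rw [IntermediateField.mem_fixingSubgroup_iff]
    intro x hx
    have h1 : (lift s) x = σ x := by
      have := congrArg (fun f => f ⟨x, hx⟩) (hlift s)
      simpa [hs] using this
    show (lift s)⁻¹ (σ x) = x
    rw [← h1]
    exact (lift s).symm_apply_apply x
  have := hcoset (lift s) _ hτ
  rw [mul_inv_cancel_left] at this
  exact this

theorem H7_dedekind {K L : Type u} [Field K] [Field L] [Algebra K L]
    (E : IntermediateField K L) [FiniteDimensional K E] (c : (E →ₐ[K] L) → L)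
    (hc : ∃ s, c s ≠ 0) : ∃ x : E, ∑ s : E →ₐ[K] L, c s * s x ≠ 0 := by
  classical
  by_contra hno
  push Not at hno
  have hli : LinearIndependent L (fun s : E →ₐ[K] L => (⇑s : E → L)) := by
    have h0 := linearIndependent_monoidHom E L
    have hinj : Function.Injective (fun s : E →ₐ[K] L => ((s : E →+* L) : E →* L)) := by
      intro s t hst
      ext x
      exact congrArg (fun f : E →* L => f x) hst
    exact h0.comp _ hinj
  rw [Fintype.linearIndependent_iff] at hli
  obtain ⟨s₀, hs₀⟩ := hc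
  apply hs₀
  apply hli c
  funext x
  simp only [Finset.sum_apply, Pi.smul_apply, smul_eq_mul, Pi.zero_apply]
  exact hno x

theorem H7_hilbert90_mul (K L : Type u) [Field K] [Field L]
    [Algebra K L] [Normal K L] (a : (L ≃ₐ[K] L) → Lˣ)
    (ha : ∀ σ τ : L ≃ₐ[K] L, a (σ * τ) = a σ * σ • a τ) (hlc : IsLocallyConstant a) :
    ∃ c : Lˣ, ∀ σ : L ≃ₐ[K] L, a σ = c⁻¹ * σ • c := by
  classical
  have ha1 : a 1 = 1 := by
    have := ha 1 1
    rw [one_mul, one_smul] at this
    exact (mul_eq_left.1 this.symm)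
  obtain ⟨E, hE, hfix⟩ := H7_lc_factor a hlc
  have hcoset : ∀ σ : L ≃ₐ[K] L, ∀ τ ∈ E.fixingSubgroup, a (σ * τ) = a σ := by
    intro σ τ hτ
    rw [ha, hfix τ hτ, ha1, smul_one, mul_one]
  obtain ⟨abar, lift, hlift, habar⟩ := H7_galois_setup E a hcoset
  obtain ⟨x, hx⟩ := H7_dedekind E (fun s => ((abar s : Lˣ) : L))
    ⟨(1 : L ≃ₐ[K] L).toAlgHom.comp E.val, (abar _).ne_zero⟩
  set b : L := ∑ s : E →ₐ[K] L, ((abar s : Lˣ) : L) * s x with hb
  have hρ : ∀ ρ : L ≃ₐ[K] L, ρ b = ((a ρ)⁻¹ : Lˣ) * b := by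
    intro ρ
    let e : (E →ₐ[K] L) ≃ (E →ₐ[K] L) :=
      { toFun := fun s => (ρ : L →ₐ[K] L).comp s
        invFun := fun s => (ρ.symm : L →ₐ[K] L).comp s
        left_inv := fun s => by ext y; simp
        right_inv := fun s => by ext y; simp }
    have hkey : ∀ s, ((abar (e s) : Lˣ) : L) = ((a ρ : Lˣ) : L) * ρ ((abar s : Lˣ) : L) := by
      intro s
      have h1 : abar (e s) = a (ρ * lift s) := by
        rw [habar (ρ * lift s)]
        congr 1
        ext y
        have := congrArg (fun f => f y) (hlift s)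
        simp only [AlgHom.coe_comp, Function.comp_apply] at this
        show ρ (s y) = (ρ * lift s) (E.val y)
        rw [AlgEquiv.mul_apply]
        congr 1
        exact this.symm
      have h2 : abar s = a (lift s) := by
        rw [habar (lift s), hlift s]
      rw [h1, ha, ← h2]
      simp [Units.smul_def]
    have hes : ∀ s : E →ₐ[K] L, (e s) x = ρ (s x) := fun s => rfl
    calc ρ b = ∑ s : E →ₐ[K] L, ρ ((abar s : Lˣ) : L) * ρ (s x) := by
          rw [hb, map_sum]
          simp only [map_mul]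
      _ = ∑ s : E →ₐ[K] L, (((a ρ)⁻¹ : Lˣ) : L) * (((abar (e s) : Lˣ) : L) * (e s) x) := by
          apply Finset.sum_congr rfl
          intro s _
          rw [hkey s, hes s, ← mul_assoc, ← mul_assoc, ← Units.val_mul, inv_mul_cancel,
            Units.val_one, one_mul]
      _ = (((a ρ)⁻¹ : Lˣ) : L) * ∑ s : E →ₐ[K] L, ((abar (e s) : Lˣ) : L) * (e s) x := by
          rw [Finset.mul_sum]
      _ = (((a ρ)⁻¹ : Lˣ) : L) * b := by
          rw [Equiv.sum_comp e (fun s' : E →ₐ[K] L => ((abar s' : Lˣ) : L) * s' x)]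
  refine ⟨(Units.mk0 b hx)⁻¹, ?_⟩
  intro σ
  ext
  rw [inv_inv, Units.val_mul, Units.val_mk0]
  have h3 : ((σ • (Units.mk0 b hx)⁻¹ : Lˣ) : L) = (σ b)⁻¹ := by
    simp [Units.smul_def]
  rw [h3, hρ σ]
  have hbne : b ≠ 0 := hx
  have hane : ((a σ : Lˣ) : L) ≠ 0 := (a σ).ne_zero
  rw [Units.val_inv_eq_inv_val]
  field_simp

theorem H7_hilbert90_add (K L : Type u) [Field K] [Field L] [Algebra K L]
    [Normal K L] (a : (L ≃ₐ[K] L) → L)
    (ha : ∀ σ τ : L ≃ₐ[K] L, a (σ * τ) = a σ + σ (a τ)) (hlc : IsLocallyConstant a) :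
    ∃ y : L, ∀ σ : L ≃ₐ[K] L, a σ = σ y - y := by
  classical
  have ha1 : a 1 = 0 := by
    have := ha 1 1
    rw [one_mul, AlgEquiv.one_apply] at this
    exact (add_eq_left.1 this.symm)
  obtain ⟨E, hE, hfix⟩ := H7_lc_factor a hlc
  have hcoset : ∀ σ : L ≃ₐ[K] L, ∀ τ ∈ E.fixingSubgroup, a (σ * τ) = a σ := by
    intro σ τ hτ
    rw [ha, hfix τ hτ, ha1, map_zero, add_zero]
  obtain ⟨abar, lift, hlift, habar⟩ := H7_galois_setup E a hcoset
  obtain ⟨x, hx⟩ := H7_dedekind E (fun _ => (1 : L))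
    ⟨(1 : L ≃ₐ[K] L).toAlgHom.comp E.val, one_ne_zero⟩
  simp only [one_mul] at hx
  set t : L := ∑ s : E →ₐ[K] L, s x with ht
  set b : L := ∑ s : E →ₐ[K] L, abar s * s x with hb
  have hperm : ∀ ρ : L ≃ₐ[K] L, ∃ e : (E →ₐ[K] L) ≃ (E →ₐ[K] L),
      ∀ s, e s = (ρ : L →ₐ[K] L).comp s := by
    intro ρ
    exact ⟨{ toFun := fun s => (ρ : L →ₐ[K] L).comp s
             invFun := fun s => (ρ.symm : L →ₐ[K] L).comp s
             left_inv := fun s => by ext y; simp
             right_inv := fun s => by ext y; simp }, fun s => rfl⟩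
  have hρt : ∀ ρ : L ≃ₐ[K] L, ρ t = t := by
    intro ρ
    obtain ⟨e, he⟩ := hperm ρ
    calc ρ t = ∑ s : E →ₐ[K] L, (e s) x := by
          rw [ht, map_sum]
          apply Finset.sum_congr rfl
          intro s _
          rw [he s]; rfl
      _ = t := by rw [Equiv.sum_comp e (fun s' : E →ₐ[K] L => s' x)]
  have hρb : ∀ ρ : L ≃ₐ[K] L, ρ b = b - a ρ * t := by
    intro ρ
    obtain ⟨e, he⟩ := hperm ρ
    have hkey : ∀ s, abar (e s) = a ρ + ρ (abar s) := by
      intro s
      have h1 : abar (e s) = a (ρ * lift s) := by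
        rw [habar (ρ * lift s), he s]
        congr 1
        ext y
        have := congrArg (fun f => f y) (hlift s)
        simp only [AlgHom.coe_comp, Function.comp_apply] at this
        show ρ (s y) = (ρ * lift s) (E.val y)
        rw [AlgEquiv.mul_apply]
        congr 1
        exact this.symm
      have h2 : abar s = a (lift s) := by
        rw [habar (lift s), hlift s]
      rw [h1, ha, ← h2]
    have hes : ∀ s : E →ₐ[K] L, (e s) x = ρ (s x) := fun s => by rw [he s]; rfl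
    calc ρ b = ∑ s : E →ₐ[K] L, ρ (abar s) * ρ (s x) := by
          rw [hb, map_sum]
          simp only [map_mul]
      _ = ∑ s : E →ₐ[K] L, (abar (e s) * (e s) x - a ρ * (e s) x) := by
          apply Finset.sum_congr rfl
          intro s _
          rw [hkey s, hes s]
          ring
      _ = (∑ s : E →ₐ[K] L, abar (e s) * (e s) x) - a ρ * ∑ s : E →ₐ[K] L, (e s) x := by
          rw [Finset.sum_sub_distrib, Finset.mul_sum]
      _ = b - a ρ * t := by
          rw [Equiv.sum_comp e (fun s' : E →ₐ[K] L => abar s' * s' x),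
            Equiv.sum_comp e (fun s' : E →ₐ[K] L => s' x)]
  refine ⟨-(b / t), ?_⟩
  intro σ
  rw [map_neg, map_div₀, hρb σ, hρt σ]
  field_simp
  ring

end Groth.Agent.Lib.helper7
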