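import Mathlib

open scoped TensorProduct
universe u v w

namespace Groth.Agent.Lib.helper7

theorem H7_idem_zero {R : Type u} [CommRing R]
    [ConnectedSpace (PrimeSpectrum R)] {A : Type v} [Ring A] [Algebra R A]
    [Module.Projective R A] [Module.Finite R A]
    (e : A) (he : IsIdempotentElem e) (R' : Type w) [CommRing R'] [Nontrivial R'] [Algebra R R']
    (h0 : (1 : R') ⊗ₜ[R] e = (0 : R' ⊗[R] A)) : e = 0 := by
  classical
  let φ : A →ₗ[R] A := LinearMap.mulLeft R e
  have hφφ : ∀ a, φ (φ a) = φ a := by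
    intro a
    simp only [φ, LinearMap.mulLeft_apply]
    rw [← mul_assoc, he.eq]
  let M : Submodule R A := LinearMap.range φ
  let ι : M →ₗ[R] A := M.subtype
  let π : A →ₗ[R] M := φ.rangeRestrict
  have hπι : π ∘ₗ ι = LinearMap.id := by
    ext ⟨m, a, rfl⟩
    simp only [LinearMap.comp_apply, LinearMap.id_apply, π, ι, Submodule.subtype_apply]
    exact hφφ a
  have hproj : Module.Projective R M := Module.Projective.of_split ι π hπι
  have hfin : Module.Finite R M := Module.Finite.range φ
  have hfp : Module.FinitePresentation R M := Module.finitePresentation_of_projective R M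
  -- base change is trivial
  have hsub : Subsingleton (R' ⊗[R] M) := by
    have hzero : LinearMap.lTensor R' ι = 0 := by
      apply TensorProduct.ext'
      rintro r ⟨m, a, rfl⟩
      simp only [LinearMap.lTensor_tmul, LinearMap.zero_apply, ι, Submodule.subtype_apply]
      have : r ⊗ₜ[R] φ a = ((1 : R') ⊗ₜ[R] e) * (r ⊗ₜ[R] a) := by
        rw [Algebra.TensorProduct.tmul_mul_tmul, one_mul]
        rfl
      rw [this, h0, zero_mul]
    refine ⟨fun x y => ?_⟩
    have hx : ∀ z : R' ⊗[R] M, z = 0 := by
      intro z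
      have h1 : LinearMap.lTensor R' π (LinearMap.lTensor R' ι z) = z := by
        rw [← LinearMap.comp_apply, ← LinearMap.lTensor_comp, hπι, LinearMap.lTensor_id,
          LinearMap.id_apply]
      rw [← h1, hzero, LinearMap.zero_apply, map_zero]
    rw [hx x, hx y]
  obtain ⟨q⟩ := (inferInstance : Nonempty (PrimeSpectrum R'))
  have h1 : Module.rankAtStalk (R' ⊗[R] M) q = 0 := by
    rw [Module.rankAtStalk_eq_zero_of_subsingleton]; rfl
  rw [Module.rankAtStalk_baseChange] at h1
  have hconst : ∀ p : PrimeSpectrum R, Module.rankAtStalk (R := R) M p = 0 := by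
    intro p
    rw [← h1]
    exact (Module.isLocallyConstant_rankAtStalk (R := R) (M := M)).apply_eq_of_preconnectedSpace _ _
  have hM : Subsingleton M := by
    rw [← Module.rankAtStalk_eq_zero_iff_subsingleton (R := R)]
    ext p
    exact hconst p
  have hmem : e ∈ M := ⟨1, by simp [φ]⟩
  have := Subsingleton.elim (⟨e, hmem⟩ : M) 0
  exact congrArg Subtype.val this

theorem H7_S19804 {R : Type u} [CommRing R]
    [ConnectedSpace (PrimeSpectrum R)] {A : Type v} [Ring A] [Algebra R A] [IsAzumaya R A]
    (e : A) (he : IsIdempotentElem e) (R' : Type w) [CommRing R'] [Nontrivial R'] [Algebra R R'] :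
    ((1 : R') ⊗ₜ[R] e = (0 : R' ⊗[R] A) → e = 0) ∧ ((1 : R') ⊗ₜ[R] e = (1 : R' ⊗[R] A) → e = 1) := by
  refine ⟨fun h => H7_idem_zero e he R' h, fun h => ?_⟩
  have h2 : (1 : R') ⊗ₜ[R] (1 - e) = (0 : R' ⊗[R] A) := by
    rw [TensorProduct.tmul_sub, h, Algebra.TensorProduct.one_def, sub_self]
  have := H7_idem_zero (1 - e) he.one_sub R' h2
  exact (sub_eq_zero.1 this).symm

end Groth.Agent.Lib.helper7
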