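import Mathlib

universe u
open Polynomial

namespace Groth.Agent.Lib.helper7

theorem H7_S19333_mp {A B : Type u} [CommRing A] [CommRing B] [Algebra A B] (x : B)
    (hx : x ∈ integralClosure A B) (K : Type u) [Field K] (R : ValuationSubring K) (φ : B →+* K)
    (h : ∀ a : A, φ (algebraMap A B a) ∈ R) : φ x ∈ R := by
  obtain ⟨p, hp, hpx⟩ := hx
  let ψ : A →+* R := (φ.comp (algebraMap A B)).codRestrict R.toSubring h
  have hint : IsIntegral R (φ x) := by
    refine ⟨p.map ψ, hp.map ψ, ?_⟩
    rw [Polynomial.eval₂_map]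
    have : (algebraMap R K).comp ψ = φ.comp (algebraMap A B) := by
      ext a; rfl
    rw [this, ← Polynomial.hom_eval₂, hpx, map_zero]
  obtain ⟨y, hy⟩ := IsIntegrallyClosed.isIntegral_iff.1 hint
  rw [← hy]
  exact y.2

theorem H7_S19333_mpr {A B : Type u} [CommRing A] [CommRing B] [Algebra A B] (x : B)
    (hx : x ∉ integralClosure A B) :
    ∃ (K : Type u) (_ : Field K) (R : ValuationSubring K) (φ : B →+* K),
      (∀ a : A, φ (algebraMap A B a) ∈ R) ∧ φ x ∉ R := by
  classical
  -- the multiplicative set of monic evaluations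
  let S : Submonoid B :=
    { carrier := {b | ∃ f : A[X], f.Monic ∧ aeval x f = b}
      one_mem' := ⟨1, monic_one, by simp⟩
      mul_mem' := by
        rintro _ _ ⟨f, hf, rfl⟩ ⟨g, hg, rfl⟩
        exact ⟨f * g, hf.mul hg, by simp⟩ }
  have h0 : Disjoint ((⊥ : Ideal B) : Set B) (S : Set B) := by
    rw [Set.disjoint_left]
    rintro b hb ⟨f, hf, hfb⟩
    have hb0 : b = 0 := hb
    apply hx
    exact ⟨f, hf, by rw [← aeval_def, hfb, hb0]⟩
  obtain ⟨q, hq, -, hqS⟩ := Ideal.exists_le_prime_disjoint (⊥ : Ideal B) S h0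
  have hdom : IsDomain (B ⧸ q) := Ideal.Quotient.isDomain q
  let K := FractionRing (B ⧸ q)
  let φ : B →+* K := (algebraMap (B ⧸ q) K).comp (Ideal.Quotient.mk q)
  have hφ0 : ∀ b, φ b = 0 ↔ b ∈ q := by
    intro b
    show algebraMap (B ⧸ q) K (Ideal.Quotient.mk q b) = 0 ↔ _
    rw [map_eq_zero_iff _ (IsFractionRing.injective (B ⧸ q) K), Ideal.Quotient.eq_zero_iff_mem]
  have hmonic : ∀ f : A[X], f.Monic → φ (aeval x f) ≠ 0 := by
    intro f hf h
    rw [hφ0] at h
    exact Set.disjoint_left.1 hqS h ⟨f, hf, rfl⟩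
  set y := φ x with hy
  have hy0 : y ≠ 0 := by
    have := hmonic X monic_X
    simpa using this
  let ι : A →+* K := φ.comp (algebraMap A B)
  let T : Subring K := Subring.closure (Set.range ι ∪ {y⁻¹})
  have hT : ∀ t ∈ T, ∃ g : A[X], eval₂ ι y⁻¹ g = t := by
    intro t ht
    induction ht using Subring.closure_induction with
    | mem t ht =>
      rcases ht with ⟨a, rfl⟩ | ht
      · exact ⟨C a, by simp⟩
      · rw [Set.mem_singleton_iff] at ht
        exact ⟨X, by simp [ht]⟩
    | zero => exact ⟨0, by simp⟩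
    | one => exact ⟨1, by simp⟩
    | add s t _ _ hs ht =>
      obtain ⟨g, rfl⟩ := hs
      obtain ⟨g', rfl⟩ := ht
      exact ⟨g + g', by simp⟩
    | neg s _ hs =>
      obtain ⟨g, rfl⟩ := hs
      exact ⟨-g, by simp⟩
    | mul s t _ _ hs ht =>
      obtain ⟨g, rfl⟩ := hs
      obtain ⟨g', rfl⟩ := ht
      exact ⟨g * g', by simp⟩
  have hyinvT : y⁻¹ ∈ T := Subring.subset_closure (Or.inr rfl)
  have hI : Ideal.span {(⟨y⁻¹, hyinvT⟩ : T)} ≠ ⊤ := by
    intro htop
    rw [Ideal.span_singleton_eq_top] at htop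
    obtain ⟨⟨t, ht⟩, hmul⟩ := htop.exists_right_inv
    have hmul' : y⁻¹ * t = 1 := congrArg Subtype.val hmul
    have hty : t = y := by
      have h9 : y * (y⁻¹ * t) = y * 1 := by rw [hmul']
      rw [← mul_assoc, mul_inv_cancel₀ hy0, one_mul, mul_one] at h9
      exact h9
    obtain ⟨g, hg⟩ := hT t ht
    rw [hty] at hg
    -- y = g(y⁻¹); so y^(N+1) = (reflect N g)(y)
    set N := g.natDegree with hN
    have : Invertible y := invertibleOfNonzero hy0
    have h1 := Polynomial.eval₂_reflect_mul_pow ι y N (reflect N g)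
      (by
        have := natDegree_reflect_le (N := N) (p := g)
        rwa [max_self] at this)
    rw [reflect_reflect, invOf_eq_inv, hg] at h1
    -- h1 : y * y ^ N = eval₂ ι y (reflect N g)
    set f : A[X] := X ^ (N + 1) - reflect N g with hf
    have hfm : f.Monic := by
      apply monic_X_pow_sub
      have := natDegree_reflect_le (N := N) (p := g)
      rw [max_self] at this
      exact lt_of_le_of_lt degree_le_natDegree (by exact_mod_cast Nat.lt_succ_of_le this)
    apply hmonic f hfm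
    have h2 : φ (aeval x f) = eval₂ ι y f := by
      rw [aeval_def, Polynomial.hom_eval₂]
    rw [h2, hf, eval₂_sub, eval₂_pow, eval₂_X, ← h1, pow_succ]
    ring
  obtain ⟨V, hTV, hnon⟩ := Ideal.image_subset_nonunits_valuationSubring _ hI
  refine ⟨K, inferInstance, V, φ, ?_, ?_⟩
  · intro a
    apply hTV
    exact Subring.subset_closure (Or.inl ⟨a, rfl⟩)
  · have h3 : y⁻¹ ∈ V.nonunits := by
      apply hnon
      exact ⟨⟨y⁻¹, hyinvT⟩, Ideal.subset_span rfl, rfl⟩
    rw [ValuationSubring.inv_mem_nonunits_iff] at h3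
    exact h3.resolve_left hy0

theorem H7_S19333 {A B : Type u} [CommRing A]
    [CommRing B] [Algebra A B] (x : B) :
    x ∈ integralClosure A B ↔
      ∀ (K : Type u) [Field K] (R : ValuationSubring K) (φ : B →+* K),
        (∀ a : A, φ (algebraMap A B a) ∈ R) → φ x ∈ R := by
  constructor
  · intro hx K _ R φ h
    exact H7_S19333_mp x hx K R φ h
  · intro h
    by_contra hx
    obtain ⟨K, hK, R, φ, h1, h2⟩ := H7_S19333_mpr x hx
    exact h2 (h K R φ h1)

end Groth.Agent.Lib.helper7
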