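import Mathlib

universe u

namespace Groth.Agent.Lib.helper7

theorem H7_inv_loc (A : Type u) [CommRing A]
    (M : Type u) [AddCommGroup M] [Module A M] [Module.Invertible A M] (p : PrimeSpectrum A) :
    ∃ N : Submodule A M, (∀ a ∈ p.asIdeal, ∀ m : M, a • m ∈ N) ∧
      (∀ a ∉ p.asIdeal, ∀ m ∉ N, a • m ∉ N) ∧ (∃ m, m ∉ N) ∧
      (∀ m ∉ N, Submodule.span (Localization.AtPrime p.asIdeal)
        {LocalizedModule.mkLinearMap p.asIdeal.primeCompl M m} = ⊤) := by
  classical
  have hfree : Module.Free (Localization.AtPrime p.asIdeal)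
      (LocalizedModule p.asIdeal.primeCompl M) := Module.free_of_flat_of_isLocalRing
  obtain ⟨e⟩ := Module.Invertible.free_iff_linearEquiv.1 hfree
  let ι := LocalizedModule.mkLinearMap p.asIdeal.primeCompl M
  let ψ : M →ₗ[A] Localization.AtPrime p.asIdeal :=
    (e.toLinearMap.restrictScalars A).comp ι
  let mx := IsLocalRing.maximalIdeal (Localization.AtPrime p.asIdeal)
  refine ⟨Submodule.comap ψ (mx.restrictScalars A), ?_, ?_, ?_, ?_⟩
  · intro a ha m
    simp only [Submodule.mem_comap, map_smul, Submodule.restrictScalars_mem]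
    rw [Algebra.smul_def]
    apply Ideal.mul_mem_right
    rw [IsLocalization.AtPrime.to_map_mem_maximal_iff _ p.asIdeal]
    exact ha
  · intro a ha m hm
    simp only [Submodule.mem_comap, map_smul, Submodule.restrictScalars_mem] at hm ⊢
    rw [Algebra.smul_def]
    intro h
    rcases (IsLocalRing.maximalIdeal.isMaximal _).isPrime.mem_or_mem h with h1 | h1
    · rw [IsLocalization.AtPrime.to_map_mem_maximal_iff _ p.asIdeal] at h1
      exact ha h1
    · exact hm h1
  · obtain ⟨⟨m, t⟩, hmt⟩ := IsLocalizedModule.mk'_surjective p.asIdeal.primeCompl ι (e.symm 1)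
    refine ⟨m, ?_⟩
    simp only [Submodule.mem_comap, Submodule.restrictScalars_mem]
    have h1 : ψ m = algebraMap A _ (t : A) := by
      have h2 : ι m = (t : A) • (e.symm 1) := by
        rw [← hmt]
        simp only [Function.uncurry_apply_pair]
        rw [← Submonoid.smul_def, IsLocalizedModule.mk'_cancel']
      change e (ι m) = _
      rw [h2, algebraMap_smul (Localization.AtPrime p.asIdeal) (t : A) (e.symm 1)
        |>.symm, map_smul, LinearEquiv.apply_symm_apply, smul_eq_mul, mul_one]
    rw [h1]
    change _ ∉ IsLocalRing.maximalIdeal _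
    rw [IsLocalization.AtPrime.to_map_mem_maximal_iff _ p.asIdeal]
    exact fun h => t.2 h
  · intro m hm
    simp only [Submodule.mem_comap, Submodule.restrictScalars_mem] at hm
    have hu : IsUnit (e (ι m)) := by
      by_contra h
      exact hm ((IsLocalRing.mem_maximalIdeal _).2 h)
    obtain ⟨u, hu⟩ := hu
    rw [eq_top_iff]
    intro y _
    rw [Submodule.mem_span_singleton]
    refine ⟨e y * (u⁻¹ : (Localization.AtPrime p.asIdeal)ˣ), ?_⟩
    apply e.injective
    rw [map_smul]
    change _ • e (ι m) = _
    rw [← hu, smul_eq_mul, mul_assoc, Units.inv_mul, mul_one]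

theorem H7_mod_avoid (A : Type u) [CommRing A]
    (M : Type u) [AddCommGroup M] [Module A M] (N : PrimeSpectrum A → Submodule A M)
    (h1 : ∀ p : PrimeSpectrum A, ∀ a ∈ p.asIdeal, ∀ m : M, a • m ∈ N p)
    (h2 : ∀ p : PrimeSpectrum A, ∀ a ∉ p.asIdeal, ∀ m ∉ N p, a • m ∉ N p)
    (h3 : ∀ p : PrimeSpectrum A, ∃ m, m ∉ N p) :
    ∀ P : Finset (PrimeSpectrum A), ∃ s : M, ∀ p ∈ P, s ∉ N p := by
  classical
  intro P
  induction P using Finset.strongInduction with
  | H P ih =>
    rcases P.eq_empty_or_nonempty with rfl | hne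
    · exact ⟨0, by simp⟩
    · obtain ⟨q, hq⟩ := P.exists_minimal hne
      obtain ⟨s, hs⟩ := ih (P.erase q) (Finset.erase_ssubset hq.1)
      by_cases hsq : s ∈ N q
      · -- choose a
        have hex : ∀ p ∈ P.erase q, ∃ a : A, a ∈ p.asIdeal ∧ a ∉ q.asIdeal := by
          intro p hp
          have hpP := Finset.mem_of_mem_erase hp
          have hpq := Finset.ne_of_mem_erase hp
          by_contra hcon
          push Not at hcon
          have hle : p ≤ q := by
            rw [← PrimeSpectrum.asIdeal_le_asIdeal]
            exact fun a ha => hcon a ha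
          exact hpq (le_antisymm hle (hq.2 hpP hle))
        choose! af haf using hex
        let a : A := ∏ p ∈ P.erase q, af p
        have haq : a ∉ q.asIdeal := by
          intro h
          obtain ⟨p, hp, hp2⟩ := (q.isPrime.prod_mem_iff).1 h
          exact (haf p hp).2 hp2
        have hap : ∀ p ∈ P.erase q, a ∈ p.asIdeal := by
          intro p hp
          exact Ideal.prod_mem _ hp (haf p hp).1
        obtain ⟨sq, hsq'⟩ := h3 q
        refine ⟨s + a • sq, ?_⟩
        intro p hp
        by_cases hpq : p = q
        · subst hpq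
          intro h
          have : a • sq ∈ N p := by
            have := sub_mem h hsq
            simpa using this
          exact h2 p a haq sq hsq' this
        · have hp' : p ∈ P.erase q := Finset.mem_erase.2 ⟨hpq, hp⟩
          intro h
          apply hs p hp'
          have := sub_mem h (h1 p a (hap p hp') sq)
          simpa using this
      · refine ⟨s, ?_⟩
        intro p hp
        by_cases hpq : p = q
        · subst hpq; exact hsq
        · exact hs p (Finset.mem_erase.2 ⟨hpq, hp⟩)

theorem H7_S8666 (A : Type u) [CommRing A]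
    (M : Type u) [AddCommGroup M] [Module A M] [Module.Invertible A M] (ι : Type) [Finite ι] (p : ι → PrimeSpectrum A) :
    ∃ s : M, ∀ i : ι, Submodule.span (Localization.AtPrime (p i).asIdeal)
      {LocalizedModule.mkLinearMap (p i).asIdeal.primeCompl M s} = ⊤ := by
  classical
  have := Fintype.ofFinite ι
  choose N hN1 hN2 hN3 hN4 using H7_inv_loc A M
  obtain ⟨s, hs⟩ := H7_mod_avoid A M N hN1 hN2 hN3 (Finset.univ.image p)
  exact ⟨s, fun i => hN4 (p i) s (hs (p i) (Finset.mem_image_of_mem p (Finset.mem_univ i)))⟩

end Groth.Agent.Lib.helper7
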