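import Mathlib
set_option autoImplicit false
universe u v w
open TensorProduct

namespace Groth.Agent.Lib.helper7

theorem H7_S16358 (p : ℕ) [Fact p.Prime]
    (k : Type u) [Field k] [CharP k p] [PerfectRing k p]
    (M : Type v) [AddCommGroup M] [Module (WittVector p k) M]
    [Module.Free (WittVector p k) M] [Module.Finite (WittVector p k) M]
    (G : Type w) [Group G] [Finite G] (ρ : Representation (WittVector p k) G M) :
    Function.Injective
      (LinearMap.lTensor (WittVector p k ⧸ Ideal.span {(p : WittVector p k)}) ρ.invariants.subtype) := by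
  classical
  have hp0 : (p : WittVector p k) ≠ 0 := WittVector.p_nonzero p k
  rw [injective_iff_map_eq_zero]
  intro z hz
  obtain ⟨m, rfl⟩ := TensorProduct.mk_surjective (WittVector p k) ρ.invariants
    (WittVector p k ⧸ Ideal.span {(p : WittVector p k)}) Ideal.Quotient.mk_surjective z
  rw [TensorProduct.mk_apply, LinearMap.lTensor_tmul] at hz
  have h1 : (m : M) ∈ LinearMap.ker (TensorProduct.mk (WittVector p k)
      (WittVector p k ⧸ Ideal.span {(p : WittVector p k)}) M 1) := by
    rw [LinearMap.mem_ker]; exact hz
  rw [LinearMap.ker_tensorProductMk] at h1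
  rw [Submodule.ideal_span_singleton_smul, Submodule.mem_smul_pointwise_iff_exists] at h1
  obtain ⟨m', -, hm'⟩ := h1
  have hinv : m' ∈ ρ.invariants := by
    rw [Representation.mem_invariants]
    intro g
    have hg := (Representation.mem_invariants ρ (m : M)).1 m.2 g
    rw [← hm', map_smul] at hg
    exact smul_right_injective M hp0 hg
  have hm : m = (p : WittVector p k) • (⟨m', hinv⟩ : ρ.invariants) := by
    apply Subtype.ext
    exact hm'.symm
  rw [TensorProduct.mk_apply, hm, ← TensorProduct.smul_tmul]
  have : ((p : WittVector p k) • (1 : WittVector p k ⧸ Ideal.span {(p : WittVector p k)})) = 0 := by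
    rw [Algebra.smul_def, mul_one]
    exact Ideal.Quotient.eq_zero_iff_mem.2 (Ideal.mem_span_singleton_self _)
  rw [this, TensorProduct.zero_tmul]

end Groth.Agent.Lib.helper7
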