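import Mathlib

set_option autoImplicit false
universe u v w

namespace Groth.Agent.Lib.helper7

theorem H7_S15122
    (R : Type u) (A : Type v) (B : Type w) [CommRing R] [CommRing A] [CommRing B] [Algebra R A] [Algebra R B]
    [Algebra A B] [IsScalarTower R A B]
    (𝒜 : ℕ → Submodule R A) [GradedAlgebra 𝒜] (ℬ : ℕ → Submodule R B) [GradedAlgebra ℬ]
    (σ : A) (hσ0 : σ ∈ 𝒜 0) [IsLocalization.Away σ B]
    (ι : 𝒜 →+*ᵍ ℬ) (hι : ∀ a : A, ι a = algebraMap A B a) :
    (HomogeneousIdeal.irrelevant 𝒜).map ι = HomogeneousIdeal.irrelevant ℬ := by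
  classical
  apply le_antisymm
  · rw [HomogeneousIdeal.map_le_iff_le_comap, HomogeneousIdeal.irrelevant_le]
    intro i hi x hx
    show ι x ∈ HomogeneousIdeal.irrelevant ℬ
    exact HomogeneousIdeal.mem_irrelevant_of_mem ℬ hi (ι.map_mem hx)
  · rw [HomogeneousIdeal.irrelevant_le]
    intro i hi b hb
    replace hb : b ∈ ℬ i := hb
    show b ∈ Ideal.map ι (HomogeneousIdeal.irrelevant 𝒜).toIdeal
    obtain ⟨n, a, hab⟩ := IsLocalization.Away.surj σ b
    have hs0 : algebraMap A B σ ∈ ℬ 0 := by rw [← hι]; exact ι.map_mem hσ0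
    have hsn : algebraMap A B σ ^ n ∈ ℬ 0 := by
      have := SetLike.pow_mem_graded n hs0
      simpa using this
    have hmem : b * algebraMap A B σ ^ n ∈ ℬ i := by
      have := SetLike.mul_mem_graded hb hsn
      simpa using this
    have h1 : ι ((DirectSum.decompose 𝒜 a i : 𝒜 i) : A) = b * algebraMap A B σ ^ n := by
      rw [GradedRingHom.map_directSumDecompose, hι, ← hab, DirectSum.decompose_of_mem_same ℬ hmem]
    have hu : IsUnit (algebraMap A B σ ^ n) := (IsLocalization.Away.algebraMap_isUnit σ).pow n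
    obtain ⟨c, hc⟩ := hu.exists_right_inv
    have hb' : b = ι ((DirectSum.decompose 𝒜 a i : 𝒜 i) : A) * c := by
      rw [h1, mul_assoc, hc, mul_one]
    rw [hb']
    apply Ideal.mul_mem_right
    apply Ideal.mem_map_of_mem
    exact HomogeneousIdeal.mem_irrelevant_of_mem 𝒜 hi (DirectSum.decompose 𝒜 a i).2

end Groth.Agent.Lib.helper7
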