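import Mathlib

set_option autoImplicit false

namespace Groth.Agent.Lib.helper7

open Polynomial

/-- if `X^d - 1` splits over `K` and `d ≠ 0` in `K`, there is a primitive `d`-th root of unity -/
theorem H7_exists_primitiveRoot (K : Type*) [Field K] (d : ℕ) (hd : 0 < d) (hdK : (d : K) ≠ 0)
    (hs : (X ^ d - 1 : K[X]).Splits) : ∃ ζ : K, IsPrimitiveRoot ζ d := by
  classical
  have : NeZero d := ⟨hd.ne'⟩
  rw [← card_rootsOfUnity_eq_iff_exists_isPrimitiveRoot]
  apply le_antisymm (card_rootsOfUnity K d)
  have hsep : (X ^ d - 1 : K[X]).Separable := by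
    have := separable_X_pow_sub_C (1 : K) hdK one_ne_zero
    rwa [map_one] at this
  have hcard : Multiset.card (nthRoots d (1 : K)) = d := by
    rw [nthRoots, map_one, splits_iff_card_roots.mp hs]
    have := natDegree_X_pow_sub_C (R := K) (n := d) (r := 1)
    rwa [map_one] at this
  have hnodup : (nthRoots d (1 : K)).Nodup := by
    rw [nthRoots, map_one]
    exact nodup_roots hsep
  refine le_of_eq ?_
  calc d = Multiset.card (nthRoots d (1 : K)) := hcard.symm
    _ = Fintype.card { x // x ∈ nthRoots d (1 : K) } := by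
        rw [Fintype.card_of_subtype (nthRoots d (1 : K)).toFinset (by simp)]
        rw [Multiset.toFinset_card_of_nodup hnodup]
    _ = Nat.card { x // x ∈ nthRoots d (1 : K) } := Nat.card_eq_fintype_card.symm
    _ = Nat.card (rootsOfUnity d K) := (Nat.card_congr (rootsOfUnityEquivNthRoots K d)).symm

end Groth.Agent.Lib.helper7
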