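import Mathlib
import Groth.Agent.Lib.helper7.PrimRoot

set_option autoImplicit false

namespace Groth.Agent.Lib.helper7

open Polynomial

theorem H7_ker_prod_le {K : Type*} [Field K] {V : Type*} [AddCommGroup V] [Module K V]
    (T : Module.End K V) (W : Submodule K V) (S : Finset K)
    (h : ∀ a ∈ S, LinearMap.ker (aeval T (X - C a)) ≤ W) :
    LinearMap.ker (aeval T (∏ a ∈ S, (X - C a))) ≤ W := by
  classical
  induction S using Finset.induction_on with
  | empty =>
    intro v hv
    simp only [Finset.prod_empty, map_one, LinearMap.mem_ker, Module.End.one_apply] at hv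
    rw [hv]; exact W.zero_mem
  | insert a S ha ih =>
    rw [Finset.prod_insert ha]
    have hcop : IsCoprime (X - C a) (∏ b ∈ S, (X - C b)) := by
      apply IsCoprime.prod_right
      intro b hb
      apply isCoprime_X_sub_C_of_isUnit_sub
      exact (sub_ne_zero_of_ne (fun hab : a = b => ha (hab ▸ hb))).isUnit
    rw [← sup_ker_aeval_eq_ker_aeval_mul_of_coprime T hcop]
    exact sup_le (h a (Finset.mem_insert_self a S))
      (ih (fun b hb => h b (Finset.mem_insert_of_mem hb)))

theorem H7_isometry_sq (K : Type*) [Field K] (V : Type*) [AddCommGroup V] [Module K V]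
    (q : QuadraticForm K V) (hq : q.Anisotropic) (T : Module.End K V)
    (hT : ∀ x, q (T x) = q x) (n : ℕ) (hn : 0 < n) (ζ : K) (hζ : IsPrimitiveRoot ζ n)
    (hTn : T ^ n = 1) : T ^ 2 = 1 := by
  set W : Submodule K V := LinearMap.ker (T ^ 2 - 1) with hW
  have hroot : ∀ a ∈ nthRootsFinset n (1 : K), LinearMap.ker (aeval T (X - C a)) ≤ W := by
    intro a _ v hv
    simp only [LinearMap.mem_ker, map_sub, aeval_X, aeval_C, LinearMap.sub_apply,
      Module.algebraMap_end_apply] at hv
    have hTv : T v = a • v := sub_eq_zero.mp hv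
    have h1 := hT v
    rw [hTv, QuadraticMap.map_smul, smul_eq_mul] at h1
    have h2 : (a * a - 1) * q v = 0 := by rw [sub_mul, one_mul, h1, sub_self]
    rw [hW, LinearMap.mem_ker, LinearMap.sub_apply, pow_two, Module.End.mul_apply,
      Module.End.one_apply, hTv, map_smul, hTv, smul_smul]
    rcases mul_eq_zero.mp h2 with h | h
    · rw [sub_eq_zero.mp h, one_smul, sub_self]
    · rw [hq v h, smul_zero, sub_self]
  have hall := H7_ker_prod_le T W _ hroot
  rw [← X_pow_sub_one_eq_prod hn hζ] at hall
  have htop : LinearMap.ker (aeval T (X ^ n - 1 : K[X])) = ⊤ := by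
    rw [LinearMap.ker_eq_top]
    simp only [map_sub, map_pow, aeval_X, map_one, hTn, sub_self]
  rw [htop] at hall
  ext v
  have : v ∈ W := hall trivial
  rw [hW, LinearMap.mem_ker, LinearMap.sub_apply] at this
  exact sub_eq_zero.mp this

end Groth.Agent.Lib.helper7
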