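import Mathlib

universe u
open scoped TensorProduct

namespace Groth.Agent.Lib.helper7

theorem H7_bc_commute (k : Type u) [Field k] (V : Type u) [AddCommGroup V] [Module k V]
    (R : Type u) [CommRing R] [Algebra k R] (h : Module.End R (R ⊗[k] V))
    {X a : Module.End k V} (ha : a ∈ Algebra.adjoin k {X}) (hX : Commute h (X.baseChange R)) :
    Commute h (a.baseChange R) := by
  have h1 : (Module.End.baseChangeHom k R V) a ∈
      Algebra.adjoin k {Module.End.baseChangeHom k R V X} := by
    rw [← Set.image_singleton, ← AlgHom.map_adjoin]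
    exact ⟨a, ha, rfl⟩
  exact Algebra.commute_of_mem_adjoin_singleton_of_commute h1 hX

theorem H7_jc_mem (k : Type u) [Field k] [PerfectField k]
    (V : Type u) [AddCommGroup V] [Module k V] [FiniteDimensional k V]
    (X Y N : Module.End k V) (hY : Y.IsSemisimple) (hN : IsNilpotent N) (hc : Commute Y N)
    (hX : X = Y + N) : Y ∈ Algebra.adjoin k {X} ∧ N ∈ Algebra.adjoin k {X} := by
  obtain ⟨n₀, hn₀, s₀, hs₀, hn₀_nil, hs₀_ss, h₀⟩ := X.exists_isNilpotent_isSemisimple
  have hc0 : Commute n₀ s₀ := by
    have h1 : Commute X s₀ := Algebra.commute_of_mem_adjoin_self hs₀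
    exact (Algebra.commute_of_mem_adjoin_singleton_of_commute hn₀ h1.symm).symm
  have := Module.End.isNilpotent_isSemisimple_unique hN hY hn₀_nil hs₀_ss hc.symm hc0
    (by rw [← h₀, hX, add_comm])
  rw [this.1, this.2]
  exact ⟨hs₀, hn₀⟩

theorem H7_S15838 (k : Type u) [Field k] [PerfectField k]
    (V : Type u) [AddCommGroup V] [Module k V] [FiniteDimensional k V]
    (R : Type u) [CommRing R] [Algebra k R] (h : Module.End R (R ⊗[k] V)) :
    (∀ (g t u : Module.End k V), IsUnit g → t.IsSemisimple → IsNilpotent (u - 1) → Commute t u → g = t * u →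
      (Commute h (g.baseChange R) ↔ Commute h (t.baseChange R) ∧ Commute h (u.baseChange R))) ∧
    (∀ (X Y N : Module.End k V), Y.IsSemisimple → IsNilpotent N → Commute Y N → X = Y + N →
      (Commute h (X.baseChange R) ↔ Commute h (Y.baseChange R) ∧ Commute h (N.baseChange R))) := by
  have part2 : ∀ (X Y N : Module.End k V), Y.IsSemisimple → IsNilpotent N → Commute Y N → X = Y + N →
      (Commute h (X.baseChange R) ↔ Commute h (Y.baseChange R) ∧ Commute h (N.baseChange R)) := by
    intro X Y N hY hN hc hX
    obtain ⟨h1, h2⟩ := H7_jc_mem k V X Y N hY hN hc hX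
    constructor
    · intro hh
      exact ⟨H7_bc_commute k V R h h1 hh, H7_bc_commute k V R h h2 hh⟩
    · rintro ⟨ha, hb⟩
      rw [hX, LinearMap.baseChange_add]
      exact ha.add_right hb
  refine ⟨?_, part2⟩
  intro g t u hg ht hu hc hgt
  have hcN : Commute t (t * (u - 1)) := (Commute.refl t).mul_right (hc.sub_right (Commute.one_right t))
  have hNn : IsNilpotent (t * (u - 1)) :=
    (hc.sub_right (Commute.one_right t)).isNilpotent_mul_left hu
  have hgX : g = t + t * (u - 1) := by rw [hgt]; noncomm_ring
  have key := part2 g t (t * (u - 1)) ht hNn hcN hgX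
  have htu : IsUnit t := by
    rw [hgt] at hg
    exact ((hc.isUnit_mul_iff).1 hg).1
  obtain ⟨tu, rfl⟩ := htu
  have e1 : ((tu⁻¹ : (Module.End k V)ˣ) : Module.End k V).baseChange R * (tu : Module.End k V).baseChange R = 1 := by
    rw [← LinearMap.baseChange_mul, Units.inv_mul, LinearMap.baseChange_one]
  have e2 : (tu : Module.End k V).baseChange R * ((tu⁻¹ : (Module.End k V)ˣ) : Module.End k V).baseChange R = 1 := by
    rw [← LinearMap.baseChange_mul, Units.mul_inv, LinearMap.baseChange_one]
  constructor
  · intro hh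
    have h1 := (key.1 hh).1
    refine ⟨h1, ?_⟩
    have hu' : u = ((tu⁻¹ : (Module.End k V)ˣ) : Module.End k V) * g := by
      rw [hgt, ← mul_assoc, Units.inv_mul, one_mul]
    have h3 : Commute h (((tu⁻¹ : (Module.End k V)ˣ) : Module.End k V).baseChange R) := by
      have := h1.eq
      unfold Commute SemiconjBy
      calc h * ((tu⁻¹ : (Module.End k V)ˣ) : Module.End k V).baseChange R
          = (((tu⁻¹ : (Module.End k V)ˣ) : Module.End k V).baseChange R * (tu : Module.End k V).baseChange R) * h * ((tu⁻¹ : (Module.End k V)ˣ) : Module.End k V).baseChange R := by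
            rw [e1, one_mul]
        _ = ((tu⁻¹ : (Module.End k V)ˣ) : Module.End k V).baseChange R * (h * (tu : Module.End k V).baseChange R) * ((tu⁻¹ : (Module.End k V)ˣ) : Module.End k V).baseChange R := by
            rw [this]; simp only [mul_assoc]
        _ = ((tu⁻¹ : (Module.End k V)ˣ) : Module.End k V).baseChange R * h := by
            rw [mul_assoc, mul_assoc, e2, mul_one]
    rw [hu', LinearMap.baseChange_mul]
    exact h3.mul_right hh
  · rintro ⟨ha, hb⟩
    rw [hgt, LinearMap.baseChange_mul]
    exact ha.mul_right hb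

end Groth.Agent.Lib.helper7
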