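import Mathlib

set_option autoImplicit false
universe u

namespace Groth.Agent.Lib.helper7

open Cardinal

theorem H7_alg_of_small_gens {k L : Type u} [Field k] [Field L] [Algebra k L]
    (s : Set L) (hs : Algebra.adjoin k s = ⊤) (hcard : Cardinal.mk s < Cardinal.mk k) :
    Algebra.IsAlgebraic k L := by
  classical
  by_cases hfin : s.Finite
  · have hft : Algebra.FiniteType k L := ⟨⟨hfin.toFinset, by rw [Set.Finite.coe_toFinset]; exact hs⟩⟩
    have := finite_of_finite_type_of_isJacobsonRing k L
    exact Algebra.IsAlgebraic.of_finite k L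
  · have hinf : s.Infinite := hfin
    have hs_inf : ℵ₀ ≤ Cardinal.mk s := by
      rw [Cardinal.aleph0_le_mk_iff]
      exact Set.infinite_coe_iff.mpr hinf
    have hne : Nonempty s := hinf.nonempty.to_subtype
    have hsurj : Function.Surjective (MvPolynomial.aeval (R := k) (fun x : s => (x : L))) := by
      rw [← AlgHom.range_eq_top, ← Algebra.adjoin_range_eq_range_aeval, Subtype.range_coe, hs]
    have hrank : Module.rank k L ≤ Cardinal.mk s := by
      have h1 := LinearMap.rank_le_of_surjective
        (MvPolynomial.aeval (R := k) (fun x : s => (x : L))).toLinearMap hsurj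
      rw [MvPolynomial.rank_eq_lift, Cardinal.mk_finsupp_nat, Cardinal.lift_id, max_eq_left hs_inf]
        at h1
      exact h1
    constructor
    intro x
    by_contra hx
    have hx' : Transcendental k x := hx
    have h2 := hx'.linearIndependent_sub_inv.cardinal_lift_le_rank
    rw [Cardinal.lift_id, Cardinal.lift_id] at h2
    exact absurd (lt_of_le_of_lt (h2.trans hrank) hcard) (lt_irrefl _)


/-- residue field of a maximal ideal is algebraic -/
theorem H7_quot_alg_of_small_gens {k S : Type u} [Field k] [CommRing S] [Algebra k S]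
    (s : Set S) (hs : Algebra.adjoin k s = ⊤) (hcard : Cardinal.mk s < Cardinal.mk k)
    (m : Ideal S) [m.IsMaximal] : Algebra.IsAlgebraic k (S ⧸ m) := by
  letI := Ideal.Quotient.field m
  apply H7_alg_of_small_gens ((Ideal.Quotient.mkₐ k m) '' s)
  · rw [Algebra.adjoin_image, hs, Algebra.map_top, AlgHom.range_eq_top]
    exact Ideal.Quotient.mkₐ_surjective k m
  · exact lt_of_le_of_lt Cardinal.mk_image_le hcard

theorem H7_S2059 {k S : Type u} [Field k] [CommRing S] [Algebra k S]
    (s : Set S) (hs : Algebra.adjoin k s = ⊤) (hcard : Cardinal.mk s < Cardinal.mk k) :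
    (∀ (m : Ideal S) [m.IsMaximal], Algebra.IsAlgebraic k (S ⧸ m)) ∧ IsJacobsonRing S := by
  classical
  refine ⟨fun m _ => H7_quot_alg_of_small_gens s hs hcard m, ?_⟩
  by_cases hfin : s.Finite
  · have hft : Algebra.FiniteType k S := ⟨⟨hfin.toFinset, by rw [Set.Finite.coe_toFinset]; exact hs⟩⟩
    exact isJacobsonRing_of_finiteType (A := k) (B := S)
  have hinf : s.Infinite := hfin
  have hs_inf : ℵ₀ ≤ Cardinal.mk s := by
    rw [Cardinal.aleph0_le_mk_iff]
    exact Set.infinite_coe_iff.mpr hinf
  rw [isJacobsonRing_iff_prime_eq]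
  intro P hP
  apply le_antisymm _ Ideal.le_jacobson
  intro f hf
  by_contra hfP
  -- the domain D = S/P and its localization at f
  set fbar : S ⧸ P := Ideal.Quotient.mk P f with hfbar
  have hfbar0 : fbar ≠ 0 := by
    rw [hfbar, Ne, Ideal.Quotient.eq_zero_iff_mem]; exact hfP
  have hle : Submonoid.powers fbar ≤ nonZeroDivisors (S ⧸ P) :=
    Submonoid.powers_le.mpr (mem_nonZeroDivisors_of_ne_zero hfbar0)
  have hinjD : Function.Injective (algebraMap (S ⧸ P) (Localization.Away fbar)) :=
    IsLocalization.injective _ hle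
  have hnt : Nontrivial (Localization.Away fbar) := hinjD.nontrivial
  obtain ⟨M, hM⟩ := Ideal.exists_maximal (Localization.Away fbar)
  let ψ : S →ₐ[k] (Localization.Away fbar ⧸ M) :=
    (Ideal.Quotient.mkₐ k M).comp
      ((IsScalarTower.toAlgHom k (S ⧸ P) (Localization.Away fbar)).comp (Ideal.Quotient.mkₐ k P))
  have hψ : ∀ a : S, ψ a = Ideal.Quotient.mk M (algebraMap (S ⧸ P) (Localization.Away fbar)
      (Ideal.Quotient.mk P a)) := fun a => rfl
  letI := Ideal.Quotient.field M
  have hψf : ψ f ≠ 0 := by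
    rw [hψ]
    have hu : IsUnit (algebraMap (S ⧸ P) (Localization.Away fbar) fbar) :=
      IsLocalization.Away.algebraMap_isUnit fbar
    exact (hu.map (Ideal.Quotient.mk M)).ne_zero
  have hgen : Algebra.adjoin k (ψ '' s ∪ {(ψ f)⁻¹}) = ⊤ := by
    rw [eq_top_iff]
    rintro y -
    obtain ⟨z, rfl⟩ := Ideal.Quotient.mk_surjective y
    obtain ⟨⟨a, ⟨_, n, rfl⟩⟩, hz⟩ := IsLocalization.surj (Submonoid.powers fbar) z
    obtain ⟨a0, rfl⟩ := Ideal.Quotient.mk_surjective a
    simp only at hz
    have h1 : Ideal.Quotient.mk M z * (ψ f) ^ n = ψ a0 := by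
      rw [hψ, hψ, ← map_pow, ← map_mul, ← map_pow, hz]
    have h2 : Ideal.Quotient.mk M z = ψ a0 * ((ψ f)⁻¹) ^ n := by
      rw [← h1, mul_assoc, ← mul_pow, mul_inv_cancel₀ hψf, one_pow, mul_one]
    rw [h2]
    apply Subalgebra.mul_mem
    · have h3 : ψ a0 ∈ Algebra.adjoin k (ψ '' s) := by
        rw [Algebra.adjoin_image, hs, Algebra.map_top]
        exact ⟨a0, rfl⟩
      exact Algebra.adjoin_mono Set.subset_union_left h3
    · apply Subalgebra.pow_mem
      exact Algebra.subset_adjoin (Set.mem_union_right _ rfl)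
  have hcard' : Cardinal.mk (ψ '' s ∪ {(ψ f)⁻¹} : Set (Localization.Away fbar ⧸ M)) <
      Cardinal.mk k := by
    refine lt_of_le_of_lt ?_ hcard
    refine (Cardinal.mk_union_le _ _).trans ?_
    rw [Cardinal.mk_singleton]
    refine (add_le_add_left Cardinal.mk_image_le 1).trans ?_
    rw [Cardinal.add_one_eq hs_inf]
  have halg : Algebra.IsAlgebraic k (Localization.Away fbar ⧸ M) :=
    H7_alg_of_small_gens _ hgen hcard'
  have hfield : IsField ψ.range := Subalgebra.isField_of_algebraic ψ.range
  have hmax : (RingHom.ker ψ).IsMaximal := by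
    letI := hfield.toField
    have h1 := RingHom.ker_isMaximal_of_surjective (ψ.rangeRestrict : S →+* ψ.range)
      ψ.rangeRestrict_surjective
    have h2 : RingHom.ker (ψ.rangeRestrict : S →+* ψ.range) = RingHom.ker ψ := by
      ext a
      simp only [RingHom.mem_ker]
      constructor
      · intro h
        have := congrArg Subtype.val h
        exact this
      · intro h
        exact Subtype.ext h
    rwa [h2] at h1
  have hPm : P ≤ RingHom.ker ψ := by
    intro a ha
    rw [RingHom.mem_ker, hψ, Ideal.Quotient.eq_zero_iff_mem.mpr ha, map_zero, map_zero]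
  have hfm : f ∈ RingHom.ker ψ := by
    rw [Ideal.jacobson, Ideal.mem_sInf] at hf
    exact hf ⟨hPm, hmax⟩
  exact hψf hfm

end Groth.Agent.Lib.helper7
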