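import Mathlib
open MvPolynomial

theorem H7_kaehler_sep (K L : Type*) [Field K] [Field L] [Algebra K L]
    (n : ℕ) (a : Fin n → L) (ha : IsTranscendenceBasis K a)
    (hsep : Algebra.IsSeparable ↥(IntermediateField.adjoin K (Set.range a)) L) :
    Module.finrank L (Ω[L⁄K]) = n := by
  have hx : AlgebraicIndependent K a := ha.1
  let e := hx.aevalEquivField
  let algPF : Algebra (MvPolynomial (Fin n) K) (IntermediateField.adjoin K (Set.range a)) :=
    (e.toAlgHom.toRingHom.comp (algebraMap (MvPolynomial (Fin n) K) (FractionRing (MvPolynomial (Fin n) K)))).toAlgebra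
  let algPL : Algebra (MvPolynomial (Fin n) K) L := (aeval a).toAlgebra
  have t1 : IsScalarTower (MvPolynomial (Fin n) K) (IntermediateField.adjoin K (Set.range a)) L := by
    refine IsScalarTower.of_algebraMap_eq (fun p => ?_)
    have := hx.aevalEquivField_algebraMap_apply_coe p
    simp only [RingHom.algebraMap_toAlgebra]
    exact this.symm
  have t2 : IsScalarTower K (MvPolynomial (Fin n) K) L := by
    refine IsScalarTower.of_algebraMap_eq (fun p => ?_)
    simp only [RingHom.algebraMap_toAlgebra]
    simp
  have t3 : IsScalarTower K (MvPolynomial (Fin n) K) (IntermediateField.adjoin K (Set.range a)) := by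
    refine IsScalarTower.of_algebraMap_eq (fun p => ?_)
    simp only [RingHom.algebraMap_toAlgebra]
    change _ = e (algebraMap _ _ (algebraMap K (MvPolynomial (Fin n) K) p))
    rw [← IsScalarTower.algebraMap_apply K (MvPolynomial (Fin n) K) (FractionRing (MvPolynomial (Fin n) K)), e.commutes]
  have loc : IsLocalization (nonZeroDivisors (MvPolynomial (Fin n) K)) (IntermediateField.adjoin K (Set.range a)) := by
    refine IsLocalization.isLocalization_of_algEquiv (nonZeroDivisors (MvPolynomial (Fin n) K))
      (AlgEquiv.ofRingEquiv (f := e.toRingEquiv) (fun x => ?_) : FractionRing (MvPolynomial (Fin n) K) ≃ₐ[MvPolynomial (Fin n) K] _)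
    rfl
  have e1 : Algebra.FormallyEtale (MvPolynomial (Fin n) K) (IntermediateField.adjoin K (Set.range a)) :=
    Algebra.FormallyEtale.of_isLocalization (nonZeroDivisors (MvPolynomial (Fin n) K))
  have e2 : Algebra.FormallyEtale (IntermediateField.adjoin K (Set.range a)) L :=
    Algebra.FormallyEtale.of_isSeparable _ L
  have e3 : Algebra.FormallyEtale (MvPolynomial (Fin n) K) L :=
    Algebra.FormallyEtale.comp (MvPolynomial (Fin n) K) (IntermediateField.adjoin K (Set.range a)) L
  have eq := KaehlerDifferential.tensorKaehlerEquivOfFormallyEtale K (MvPolynomial (Fin n) K) L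
  rw [← eq.finrank_eq, Module.finrank_baseChange, Module.finrank_eq_card_basis (KaehlerDifferential.mvPolynomialBasis K (Fin n))]
  simp
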