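import Mathlib
import Groth.Prelude.Def_W4c2quivmodsheafKron

set_option autoImplicit false

open Module

namespace Groth.Agent.Lib.helper7

variable {K : Type*} [Field K] {V W : Type*}
  [AddCommGroup V] [Module K V] [AddCommGroup W] [Module K W] {n : ℕ}

/-- The map `V^n → W`, `(v_j) ↦ ∑ f_j v_j`. -/
noncomputable def H7_sumMap (f : Fin n → (V →ₗ[K] W)) : (Fin n → V) →ₗ[K] W :=
  ∑ j, (f j) ∘ₗ (LinearMap.proj j)

theorem H7_sumMap_apply (f : Fin n → (V →ₗ[K] W)) (v : Fin n → V) :
    H7_sumMap f v = ∑ j, f j (v j) := by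
  simp [H7_sumMap]

/-- The map `V → W^n`, `v ↦ (f_j v)`. -/
noncomputable def H7_piMap (f : Fin n → (V →ₗ[K] W)) : V →ₗ[K] (Fin n → W) :=
  LinearMap.pi f

theorem H7_piMap_apply (f : Fin n → (V →ₗ[K] W)) (v : V) (j : Fin n) :
    H7_piMap f v j = f j v := rfl

theorem H7_finrank_pi_const [FiniteDimensional K V] :
    finrank K (Fin n → V) = n * finrank K V := by
  rw [Module.finrank_pi_fintype]
  simp

theorem H7_isSubrep_iff (f : Fin n → (V →ₗ[K] W)) (V' : Submodule K V) (W' : Submodule K W) :
    KronMod.IsSubrep f V' W' ↔ ∀ j, ∀ v ∈ V', f j v ∈ W' := by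
  unfold KronMod.IsSubrep
  constructor
  · intro h j v hv
    exact h j (Submodule.mem_map_of_mem hv)
  · intro h j w hw
    obtain ⟨v, hv, rfl⟩ := hw
    exact h j v hv

theorem H7_isSubrep_top_range (f : Fin n → (V →ₗ[K] W)) :
    KronMod.IsSubrep f ⊤ (LinearMap.range (H7_sumMap f)) := by
  classical
  rw [H7_isSubrep_iff]
  intro j v _
  refine ⟨Pi.single j v, ?_⟩
  rw [H7_sumMap_apply, Finset.sum_eq_single j]
  · simp
  · intro b _ hb
    simp [Pi.single_eq_of_ne hb]
  · intro h
    exact absurd (Finset.mem_univ j) h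

theorem H7_isSubrep_ker_bot (f : Fin n → (V →ₗ[K] W)) :
    KronMod.IsSubrep f (LinearMap.ker (H7_piMap f)) ⊥ := by
  rw [H7_isSubrep_iff]
  intro j v hv
  rw [LinearMap.mem_ker] at hv
  have := congrFun hv j
  rw [H7_piMap_apply] at this
  rw [Submodule.mem_bot]
  exact this

/-- If the sum map is injective then `n * dim V' ≤ dim W'` for every subrepresentation. -/
theorem H7_mul_finrank_le_of_sumMap_injective [FiniteDimensional K V] [FiniteDimensional K W]
    (f : Fin n → (V →ₗ[K] W)) (hinj : Function.Injective (H7_sumMap f))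
    (V' : Submodule K V) (W' : Submodule K W) (h : KronMod.IsSubrep f V' W') :
    n * finrank K V' ≤ finrank K W' := by
  rw [H7_isSubrep_iff] at h
  let g : (Fin n → V') →ₗ[K] W' :=
    LinearMap.codRestrict W' ((H7_sumMap f) ∘ₗ (LinearMap.pi fun j => V'.subtype ∘ₗ LinearMap.proj j))
      (by
        intro v
        simp only [LinearMap.coe_comp, Function.comp_apply]
        rw [H7_sumMap_apply]
        apply Submodule.sum_mem
        intro j _
        exact h j _ (by simp))
  have hg : Function.Injective g := by
    intro a b hab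
    have h1 : (g a : W) = g b := by rw [hab]
    simp only [g, LinearMap.codRestrict_apply, LinearMap.coe_comp, Function.comp_apply] at h1
    have h2 := hinj h1
    funext j
    have h3 := congrFun h2 j
    simp only [LinearMap.pi_apply, LinearMap.coe_comp, Function.comp_apply, LinearMap.proj_apply,
      Submodule.subtype_apply] at h3
    exact Subtype.ext h3
  have := LinearMap.finrank_le_finrank_of_injective hg
  rwa [H7_finrank_pi_const] at this

/-- If the pi map is injective then `dim V' ≤ n * dim W'` for every subrepresentation. -/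
theorem H7_finrank_le_mul_of_piMap_injective [FiniteDimensional K V] [FiniteDimensional K W]
    (f : Fin n → (V →ₗ[K] W)) (hinj : Function.Injective (H7_piMap f))
    (V' : Submodule K V) (W' : Submodule K W) (h : KronMod.IsSubrep f V' W') :
    finrank K V' ≤ n * finrank K W' := by
  rw [H7_isSubrep_iff] at h
  let g : V' →ₗ[K] (Fin n → W') :=
    LinearMap.pi fun j => LinearMap.codRestrict W' (f j ∘ₗ V'.subtype) (fun v => h j v.1 v.2)
  have hg : Function.Injective g := by
    intro a b hab
    apply Subtype.ext
    apply hinj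
    funext j
    have h1 := congrFun hab j
    have h2 : ((g a j : W') : W) = g b j := by rw [h1]
    rw [H7_piMap_apply, H7_piMap_apply]
    simpa [g] using h2
  have := LinearMap.finrank_le_finrank_of_injective hg
  rwa [H7_finrank_pi_const] at this

end Groth.Agent.Lib.helper7
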