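import Mathlib
import Groth.Prelude.Def_W4c2quivmodsheafKron
import Groth.Agent.Lib.helper7.Kron

set_option autoImplicit false
universe u v w

open Module

namespace Groth.Agent.Lib.helper7

theorem H7_exists_smul_of_finrank_one {K : Type*} {V : Type*} [Field K] [AddCommGroup V] [Module K V]
    (S : Submodule K V) (hS : Module.finrank K S = 1) (s₀ : V) (hs₀ : s₀ ∈ S) (hne : s₀ ≠ 0)
    (s : V) (hs : s ∈ S) : ∃ c : K, c • s₀ = s := by
  have h := (finrank_eq_one_iff_of_nonzero' (⟨s₀, hs₀⟩ : S)
    (by simpa [Subtype.ext_iff] using hne)).1 hS ⟨s, hs⟩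
  obtain ⟨c, hc⟩ := h
  exact ⟨c, congrArg Subtype.val hc⟩

theorem H7_S15566 (K : Type u) [Field K] [Infinite K] (V : Type v) (W : Type w)
    [AddCommGroup V] [Module K V] [FiniteDimensional K V]
    [AddCommGroup W] [Module K W] [FiniteDimensional K W]
    (n : ℕ) (f : Fin n → (V →ₗ[K] W))
    (hV : Module.finrank K V = 2) (hW : Module.finrank K W = 2)
    (hf : KronMod.IsSemistable f) :
    ∃ z : Fin n → K, Function.Bijective ((∑ j, z j • f j : V →ₗ[K] W) : V → W) := by
  classical
  by_contra hcon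
  push Not at hcon
  have hVnt : Nontrivial V := Module.nontrivial_of_finrank_pos (R := K) (by omega)
  have hWnt : Nontrivial W := Module.nontrivial_of_finrank_pos (R := K) (by omega)
  set N : Submodule K (V →ₗ[K] W) := Submodule.span K (Set.range f) with hNdef
  have hfN : ∀ j, f j ∈ N := fun j => Submodule.subset_span ⟨j, rfl⟩
  have hN : ∀ h ∈ N, ∃ x, x ≠ 0 ∧ h x = 0 := by
    intro h hh
    obtain ⟨z, rfl⟩ := (Submodule.mem_span_range_iff_exists_fun K).1 hh
    have h1 := hcon z
    have h2 : ¬ Function.Injective (∑ j, z j • f j : V →ₗ[K] W) := by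
      intro hinj
      exact h1 ⟨hinj, (LinearMap.injective_iff_surjective_of_finrank_eq_finrank
        (hV.trans hW.symm)).1 hinj⟩
    rw [← LinearMap.ker_eq_bot] at h2
    obtain ⟨x, hx, hx0⟩ := Submodule.exists_mem_ne_zero_of_ne_bot h2
    exact ⟨x, hx0, hx⟩
  -- S1
  have S1 : ∀ v : V, v ≠ 0 → ∃ j, f j v ≠ 0 := by
    intro v hv
    by_contra hall
    push Not at hall
    have hsub : KronMod.IsSubrep f (K ∙ v) ⊥ := by
      rw [H7_isSubrep_iff]
      intro j x hx
      obtain ⟨c, rfl⟩ := Submodule.mem_span_singleton.1 hx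
      rw [map_smul, hall j, smul_zero]; exact Submodule.zero_mem _
    have := hf.2 (K ∙ v) ⊥ hsub
      (fun h => hv ((Submodule.span_singleton_eq_bot).1 h.1))
      (fun h => bot_ne_top h.2)
    rw [finrank_span_singleton hv, finrank_bot, hV, hW] at this
    omega
  -- S2
  have S2 : ∀ W' : Submodule K W, W' ≠ ⊤ → ∃ j v, f j v ∉ W' := by
    intro W' hW'
    by_contra hall
    push Not at hall
    have hsub : KronMod.IsSubrep f ⊤ W' := by
      rw [H7_isSubrep_iff]
      intro j x _
      exact hall j x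
    have := hf.2 ⊤ W' hsub
      (fun h => top_ne_bot h.1)
      (fun h => hW' h.2)
    rw [finrank_top, hV, hW] at this
    apply hW'
    apply Submodule.eq_top_of_finrank_eq
    have hle := Submodule.finrank_le W'
    omega
  obtain ⟨v₀, hv₀⟩ := exists_ne (0 : V)
  obtain ⟨j₀, hj₀⟩ := S1 v₀ hv₀
  set g := f j₀ with hgdef
  have hg : g ∈ N := hfN j₀
  obtain ⟨v, hv, hgv⟩ := hN g hg
  set M := LinearMap.range g with hMdef
  have hsum := LinearMap.finrank_range_add_finrank_ker g
  have hk : 0 < finrank K (LinearMap.ker g) :=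
    Module.finrank_pos_iff_exists_ne_zero.2 ⟨⟨v, hgv⟩, by simpa [Subtype.ext_iff] using hv⟩
  have hr : 0 < finrank K (LinearMap.range g) :=
    Module.finrank_pos_iff_exists_ne_zero.2 ⟨⟨g v₀, LinearMap.mem_range_self g v₀⟩,
      by simpa [Subtype.ext_iff] using hj₀⟩
  have hker1 : finrank K (LinearMap.ker g) = 1 := by omega
  have hrange1 : finrank K M = 1 := by
    show finrank K (LinearMap.range g) = 1
    omega
  have F1 : ∀ x, g x = 0 → ∃ c : K, c • v = x := fun x hx =>
    H7_exists_smul_of_finrank_one (LinearMap.ker g) hker1 v hgv hv x hx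
  have F2 : ∀ x, g x ≠ 0 → ∀ y, ∃ a b : K, y = a • v + b • x := by
    intro x hx y
    obtain ⟨b, hb⟩ := H7_exists_smul_of_finrank_one M hrange1 (g x) (LinearMap.mem_range_self g x) hx
      (g y) (LinearMap.mem_range_self g y)
    obtain ⟨a, ha⟩ := F1 (y - b • x) (by rw [map_sub, map_smul, hb, sub_self])
    exact ⟨a, b, by rw [ha]; abel⟩
  have hC : ∀ h ∈ N, h v = 0 ∨ ∀ y, h y ∈ M := by
    intro h hh
    by_cases hv0 : h v = 0
    · exact Or.inl hv0
    right
    have key : ∀ t : K, t ≠ 0 → ∃ x, g x ≠ 0 ∧ g x + t • h x = 0 := by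
      intro t ht
      obtain ⟨x, hx0, hx⟩ := hN (g + t • h) (N.add_mem hg (N.smul_mem t hh))
      have hx2 : g x + t • h x = 0 := by simpa using hx
      refine ⟨x, ?_, hx2⟩
      intro hgx
      have hx' : t • h x = 0 := by simpa [hgx] using hx2
      have hhx : h x = 0 := by
        rcases smul_eq_zero.1 hx' with h1 | h1
        · exact absurd h1 ht
        · exact h1
      obtain ⟨c, hc⟩ := F1 x hgx
      have hc0 : c ≠ 0 := by
        rintro rfl
        exact hx0 (by simpa using hc.symm)
      have : c • h v = 0 := by rw [← map_smul, hc, hhx]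
      rcases smul_eq_zero.1 this with h1 | h1
      · exact hc0 h1
      · exact hv0 h1
    obtain ⟨x, hgx, hx⟩ := key 1 one_ne_zero
    obtain ⟨t₂, ht₂⟩ := Infinite.exists_notMem_finset ({0, 1} : Finset K)
    have ht20 : t₂ ≠ 0 := by
      intro h0; apply ht₂; rw [h0]; simp
    have ht21 : t₂ ≠ 1 := by
      intro h0; apply ht₂; rw [h0]; simp
    obtain ⟨x', hgx', hx'⟩ := key t₂ ht20
    obtain ⟨a, b, hab⟩ := F2 x hgx x'
    have hhx : h x = - g x := by
      have : g x + h x = 0 := by simpa using hx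
      exact eq_neg_of_add_eq_zero_right this
    have e1 : g x' = b • g x := by
      rw [hab, map_add, map_smul, map_smul, hgv, smul_zero, zero_add]
    have e2 : h x' = a • h v - b • g x := by
      rw [hab, map_add, map_smul, map_smul, hhx, smul_neg, sub_eq_add_neg]
    have e3 : (t₂ * a) • h v = (b * (t₂ - 1)) • g x := by
      rw [e1, e2] at hx'
      have : (t₂ * a) • h v - (b * (t₂ - 1)) • g x = b • g x + t₂ • (a • h v - b • g x) := by
        module
      rw [← sub_eq_zero, this, hx']
    have ha : a ≠ 0 := by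
      rintro rfl
      have h0 : (b * (t₂ - 1)) • g x = 0 := by rw [← e3]; simp
      rcases smul_eq_zero.1 h0 with h1 | h1
      · rcases mul_eq_zero.1 h1 with h2 | h2
        · exact hgx' (by rw [e1, h2, zero_smul])
        · exact ht21 (sub_eq_zero.1 h2)
      · exact hgx h1
    have hvM : h v ∈ M := by
      have : h v = ((t₂ * a)⁻¹ * (b * (t₂ - 1))) • g x := by
        rw [mul_smul, ← e3, smul_smul, inv_mul_cancel₀ (mul_ne_zero ht20 ha), one_smul]
      rw [this]; exact M.smul_mem _ (LinearMap.mem_range_self g x)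
    intro y
    obtain ⟨a', b', hy⟩ := F2 x hgx y
    rw [hy, map_add, map_smul, map_smul, hhx]
    exact M.add_mem (M.smul_mem _ hvM) (M.smul_mem _ (M.neg_mem (LinearMap.mem_range_self g x)))
  have hD : (∀ h ∈ N, h v = 0) ∨ (∀ h ∈ N, ∀ y, h y ∈ M) := by
    by_contra hne
    push Not at hne
    obtain ⟨⟨h₁, hh₁, h₁v⟩, ⟨h₂, hh₂, y, h₂y⟩⟩ := hne
    have c1 : ∀ y, h₁ y ∈ M := (hC h₁ hh₁).resolve_left h₁v
    have c2 : h₂ v = 0 := (hC h₂ hh₂).resolve_right (fun hall => h₂y (hall y))
    rcases hC (h₁ + h₂) (N.add_mem hh₁ hh₂) with h3 | h3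
    · apply h₁v
      have : h₁ v + h₂ v = 0 := by simpa using h3
      rwa [c2, add_zero] at this
    · apply h₂y
      have h4 := h3 y
      have : h₂ y = (h₁ + h₂) y - h₁ y := by simp
      rw [this]
      exact M.sub_mem h4 (c1 y)
  rcases hD with h1 | h2
  · obtain ⟨j, hj⟩ := S1 v hv
    exact hj (h1 (f j) (hfN j))
  · have hMtop : M ≠ ⊤ := by
      intro htop
      have : finrank K M = finrank K W := by rw [htop, finrank_top]
      omega
    obtain ⟨j, y, hjy⟩ := S2 M hMtop
    exact hjy (h2 (f j) (hfN j) y)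

end Groth.Agent.Lib.helper7
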