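import Mathlib
import Groth.Prelude.Def_W4c2quivmodsheafKron

set_option autoImplicit false

open Module

namespace Groth.Agent.Lib.helper7

variable {K : Type*} [Field K] {V W : Type*}
  [AddCommGroup V] [Module K V] [AddCommGroup W] [Module K W] {n : ℕ}

/-- The common shape of semistability and stability. -/
def H7_Q (r : ℕ → ℕ → Prop) (f : Fin n → (V →ₗ[K] W)) : Prop :=
  0 < Module.finrank K V + Module.finrank K W ∧
  ∀ (V' : Submodule K V) (W' : Submodule K W), KronMod.IsSubrep f V' W' →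
    ¬ (V' = ⊥ ∧ W' = ⊥) → ¬ (V' = ⊤ ∧ W' = ⊤) →
    r (Module.finrank K W * Module.finrank K V') (Module.finrank K V * Module.finrank K W')

theorem H7_isSemistable_iff (f : Fin n → (V →ₗ[K] W)) :
    KronMod.IsSemistable f ↔ H7_Q (· ≤ ·) f := Iff.rfl

theorem H7_isStable_iff (f : Fin n → (V →ₗ[K] W)) :
    KronMod.IsStable f ↔ H7_Q (· < ·) f := Iff.rfl

/-- The arithmetic symmetry used for duality. -/
def H7_Sym (r : ℕ → ℕ → Prop) : Prop :=
  ∀ a b v w : ℕ, a ≤ v → b ≤ w → (r (w * a) (v * b) ↔ r (v * (w - b)) (w * (v - a)))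

theorem H7_sym_le : H7_Sym (· ≤ ·) := by
  intro a b v w ha hb
  have h1 : v * b ≤ v * w := Nat.mul_le_mul_left v hb
  have h2 : w * a ≤ w * v := Nat.mul_le_mul_left w ha
  have h3 : w * v = v * w := mul_comm w v
  rw [Nat.mul_sub, Nat.mul_sub]
  constructor <;> intro h <;> omega

theorem H7_sym_lt : H7_Sym (· < ·) := by
  intro a b v w ha hb
  have h1 : v * b ≤ v * w := Nat.mul_le_mul_left v hb
  have h2 : w * a ≤ w * v := Nat.mul_le_mul_left w ha
  have h3 : w * v = v * w := mul_comm w v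
  rw [Nat.mul_sub, Nat.mul_sub]
  constructor <;> intro h <;> omega

variable [FiniteDimensional K V] [FiniteDimensional K W]

theorem H7_eq_bot_iff_finrank (S : Submodule K V) : S = ⊥ ↔ Module.finrank K S = 0 :=
  Submodule.finrank_eq_zero.symm

theorem H7_eq_top_iff_finrank (S : Submodule K V) :
    S = ⊤ ↔ Module.finrank K S = Module.finrank K V :=
  ⟨fun h => by rw [h, finrank_top], fun h => Submodule.eq_top_of_finrank_eq h⟩

theorem H7_Q_dual_of_Q (r : ℕ → ℕ → Prop) (hr : H7_Sym r) (f : Fin n → (V →ₗ[K] W))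
    (h : H7_Q r f) : H7_Q r (fun j => (f j).dualMap) := by
  obtain ⟨hpos, hall⟩ := h
  refine ⟨by rw [Subspace.dual_finrank_eq, Subspace.dual_finrank_eq]; omega, ?_⟩
  intro W'' V'' hsub hbot htop
  rw [Subspace.dual_finrank_eq, Subspace.dual_finrank_eq]
  have hV := Subspace.finrank_add_finrank_dualCoannihilator_eq V''
  have hW := Subspace.finrank_add_finrank_dualCoannihilator_eq W''
  have hsub' : KronMod.IsSubrep f V''.dualCoannihilator W''.dualCoannihilator := by
    intro j
    rintro _ ⟨x, hx, rfl⟩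
    rw [SetLike.mem_coe] at hx
    rw [Submodule.mem_dualCoannihilator] at hx ⊢
    intro φ hφ
    have : (f j).dualMap φ ∈ V'' := hsub j ⟨φ, hφ, rfl⟩
    have := hx _ this
    simpa [LinearMap.dualMap_apply] using this
  have hb' : ¬ (V''.dualCoannihilator = ⊥ ∧ W''.dualCoannihilator = ⊥) := by
    rintro ⟨h1, h2⟩
    apply htop
    rw [H7_eq_bot_iff_finrank] at h1 h2
    rw [H7_eq_top_iff_finrank, H7_eq_top_iff_finrank, Subspace.dual_finrank_eq,
      Subspace.dual_finrank_eq]
    omega
  have ht' : ¬ (V''.dualCoannihilator = ⊤ ∧ W''.dualCoannihilator = ⊤) := by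
    rintro ⟨h1, h2⟩
    apply hbot
    rw [H7_eq_top_iff_finrank] at h1 h2
    rw [H7_eq_bot_iff_finrank, H7_eq_bot_iff_finrank]
    omega
  have key := hall _ _ hsub' hb' ht'
  have e1 : Module.finrank K W'' = Module.finrank K W - Module.finrank K W''.dualCoannihilator := by
    omega
  have e2 : Module.finrank K V'' = Module.finrank K V - Module.finrank K V''.dualCoannihilator := by
    omega
  rw [e1, e2]
  exact (hr _ _ _ _ (by omega) (by omega)).mp key

theorem H7_Q_of_Q_dual (r : ℕ → ℕ → Prop) (hr : H7_Sym r) (f : Fin n → (V →ₗ[K] W))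
    (h : H7_Q r (fun j => (f j).dualMap)) : H7_Q r f := by
  obtain ⟨hpos, hall⟩ := h
  rw [Subspace.dual_finrank_eq, Subspace.dual_finrank_eq] at hpos
  refine ⟨by omega, ?_⟩
  intro V' W' hsub hbot htop
  have hV := Subspace.finrank_add_finrank_dualAnnihilator_eq V'
  have hW := Subspace.finrank_add_finrank_dualAnnihilator_eq W'
  have hsub' : KronMod.IsSubrep (fun j => (f j).dualMap) W'.dualAnnihilator V'.dualAnnihilator := by
    intro j
    rintro _ ⟨φ, hφ, rfl⟩
    rw [SetLike.mem_coe] at hφ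
    rw [Submodule.mem_dualAnnihilator] at hφ ⊢
    intro x hx
    rw [LinearMap.dualMap_apply]
    exact hφ _ (hsub j ⟨x, hx, rfl⟩)
  have hb' : ¬ (W'.dualAnnihilator = ⊥ ∧ V'.dualAnnihilator = ⊥) := by
    rintro ⟨h1, h2⟩
    apply htop
    rw [H7_eq_bot_iff_finrank] at h1 h2
    rw [H7_eq_top_iff_finrank, H7_eq_top_iff_finrank]
    omega
  have ht' : ¬ (W'.dualAnnihilator = ⊤ ∧ V'.dualAnnihilator = ⊤) := by
    rintro ⟨h1, h2⟩
    apply hbot
    rw [H7_eq_top_iff_finrank, Subspace.dual_finrank_eq] at h1 h2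
    rw [H7_eq_bot_iff_finrank, H7_eq_bot_iff_finrank]
    omega
  have key := hall _ _ hsub' hb' ht'
  rw [Subspace.dual_finrank_eq, Subspace.dual_finrank_eq] at key
  have e1 : Module.finrank K W'.dualAnnihilator = Module.finrank K W - Module.finrank K W' := by
    omega
  have e2 : Module.finrank K V'.dualAnnihilator = Module.finrank K V - Module.finrank K V' := by
    omega
  rw [e1, e2] at key
  exact (hr _ _ _ _ (by omega) (by omega)).mpr key

end Groth.Agent.Lib.helper7
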