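import Mathlib

namespace Groth.Agent.Lib.helper7

theorem H7_sat_extend {L : Type} [AddCommGroup L] [Module.Finite ℤ L] [Module.Free ℤ L]
    (N : Submodule ℤ L) (hsat : ∀ (c : ℤ) (x : L), c ≠ 0 → c • x ∈ N → x ∈ N)
    (ψ : Module.Dual ℤ ↥N) : ∃ φ : Module.Dual ℤ L, φ ∘ₗ N.subtype = ψ := by
  classical
  have htf : Module.IsTorsionFree ℤ (L ⧸ N) := by
    constructor
    intro r hr
    rw [isSMulRegular_iff_right_eq_zero_of_smul]
    intro m hm
    obtain ⟨x, rfl⟩ := Submodule.Quotient.mk_surjective N m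
    rw [← Submodule.Quotient.mk_smul, Submodule.Quotient.mk_eq_zero] at hm
    rw [Submodule.Quotient.mk_eq_zero]
    exact hsat r x hr.ne_zero hm
  have hfree : Module.Free ℤ (L ⧸ N) := Module.free_of_finite_type_torsion_free'
  obtain ⟨s, hs⟩ := Module.projective_lifting_property N.mkQ (LinearMap.id : (L ⧸ N) →ₗ[ℤ] (L ⧸ N))
    (Submodule.mkQ_surjective N)
  have hmem : ∀ x : L, ((LinearMap.id : L →ₗ[ℤ] L) - s ∘ₗ N.mkQ) x ∈ N := by
    intro x
    rw [← Submodule.Quotient.mk_eq_zero, LinearMap.sub_apply, LinearMap.id_apply,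
      LinearMap.comp_apply, Submodule.Quotient.mk_sub]
    have := LinearMap.congr_fun hs (N.mkQ x)
    rw [LinearMap.comp_apply, LinearMap.id_apply] at this
    rw [← Submodule.mkQ_apply N (s (N.mkQ x)), this, Submodule.mkQ_apply, sub_self]
  let rl : L →ₗ[ℤ] N := LinearMap.codRestrict N ((LinearMap.id : L →ₗ[ℤ] L) - s ∘ₗ N.mkQ) hmem
  refine ⟨ψ ∘ₗ rl, ?_⟩
  ext x
  rw [LinearMap.comp_apply, LinearMap.comp_apply]
  congr 1
  apply Subtype.ext
  show ((LinearMap.id : L →ₗ[ℤ] L) - s ∘ₗ N.mkQ) (x : L) = x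
  rw [LinearMap.sub_apply, LinearMap.id_apply, LinearMap.comp_apply, Submodule.mkQ_apply,
    (Submodule.Quotient.mk_eq_zero N).2 x.2, map_zero, sub_zero]

theorem H7_lattice_FI {L : Type} [AddCommGroup L] [Module.Finite ℤ L] [Module.Free ℤ L]
    (B : LinearMap.BilinForm ℤ L) (hsymm : B.IsSymm) (hpos : ∀ x, x ≠ 0 → 0 < B x x)
    (A : Submodule ℤ L) (y : L) :
    ∃ d : ℤ, d ≠ 0 ∧ ∃ a ∈ A, d • y - a ∈ B.orthogonal A := by
  classical
  let b := Module.Free.chooseBasis ℤ A
  let ι := Module.Free.ChooseBasisIndex ℤ A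
  let G : Matrix ι ι ℤ := Matrix.of fun i j => B (b i : L) (b j : L)
  have hGsymm : G.transpose = G := by
    ext i j
    exact hsymm.eq _ _
  have hdet : G.det ≠ 0 := by
    intro h0
    obtain ⟨v, hv, hGv⟩ := Matrix.exists_mulVec_eq_zero_iff.2 h0
    apply hv
    set z : A := ∑ i, v i • b i with hz
    have h1 : (z : L) = ∑ i, v i • (b i : L) := by
      rw [hz]; simp
    have hzb : ∀ j, B (z : L) (b j : L) = 0 := by
      intro j
      rw [h1, map_sum, LinearMap.sum_apply]
      have : ∑ i, B (v i • (b i : L)) (b j : L) = (Matrix.mulVec G v) j := by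
        rw [Matrix.mulVec, dotProduct]
        apply Finset.sum_congr rfl
        intro i _
        rw [map_smul, LinearMap.smul_apply, smul_eq_mul, mul_comm, hsymm.eq]
        rfl
      rw [this, hGv]
      rfl
    have hzz : B (z : L) (z : L) = 0 := by
      have : B (z : L) (z : L) = B (z : L) (∑ i, v i • (b i : L)) := by rw [← h1]
      rw [this, map_sum]
      apply Finset.sum_eq_zero
      intro i _
      rw [map_smul, hzb, smul_zero]
    have hz0 : (z : L) = 0 := by
      by_contra hne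
      exact absurd hzz (ne_of_gt (hpos _ hne))
    have hz0' : z = 0 := Subtype.ext hz0
    have := Fintype.linearIndependent_iff.1 b.linearIndependent v (by rw [← hz, hz0'])
    funext i
    exact this i
  refine ⟨G.det, hdet, ?_⟩
  let u : ι → ℤ := fun j => B y (b j : L)
  let w : ι → ℤ := Matrix.mulVec G.adjugate u
  refine ⟨((∑ i, w i • b i : A) : L), (∑ i, w i • b i : A).2, ?_⟩
  have hbj : ∀ j, B (G.det • y - ((∑ i, w i • b i : A) : L)) (b j : L) = 0 := by
    intro j
    rw [map_sub, LinearMap.sub_apply, map_smul, LinearMap.smul_apply, sub_eq_zero]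
    have h1 : ((∑ i, w i • b i : A) : L) = ∑ i, w i • (b i : L) := by simp
    rw [h1, map_sum, LinearMap.sum_apply]
    have h2 : ∑ i, B (w i • (b i : L)) (b j : L) = (Matrix.mulVec G.transpose w) j := by
      rw [Matrix.mulVec, dotProduct]
      apply Finset.sum_congr rfl
      intro i _
      rw [map_smul, LinearMap.smul_apply, smul_eq_mul, mul_comm]
      rfl
    rw [h2, hGsymm]
    show _ = (Matrix.mulVec G (Matrix.mulVec G.adjugate u)) j
    rw [Matrix.mulVec_mulVec, Matrix.mul_adjugate, Matrix.smul_mulVec, Matrix.one_mulVec]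
    rfl
  rw [LinearMap.BilinForm.mem_orthogonal_iff]
  intro a' ha'
  rw [hsymm.eq]
  have hlin : (B (G.det • y - ((∑ i, w i • b i : A) : L))).comp A.subtype = 0 :=
    b.ext (fun j => hbj j)
  exact LinearMap.congr_fun hlin ⟨a', ha'⟩

end Groth.Agent.Lib.helper7
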