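import Mathlib

universe u

namespace Groth.Agent.Lib.helper7

theorem H7_hs_coeff_mul_mem {R : Type u} [CommRing R] (I I' : Ideal R) (x y : HahnSeries ℤ R)
    (hx : ∀ i, x.coeff i ∈ I) (hy : ∀ i, y.coeff i ∈ I') (i : ℤ) : (x * y).coeff i ∈ I * I' := by
  rw [HahnSeries.coeff_mul]
  apply Ideal.sum_mem
  intro ij _
  exact Ideal.mul_mem_mul (hx _) (hy _)

theorem H7_hs_coeff_pow_mem {R : Type u} [CommRing R] (I : Ideal R) (x : HahnSeries ℤ R)
    (hx : ∀ i, x.coeff i ∈ I) (K : ℕ) (i : ℤ) : (x ^ K).coeff i ∈ I ^ K := by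
  induction K generalizing i with
  | zero => simp
  | succ K ih =>
    rw [pow_succ, pow_succ]
    exact H7_hs_coeff_mul_mem _ _ _ _ ih hx i

theorem H7_ofPS_coeff {R : Type u} [CommRing R] (π : PowerSeries R) (i : ℤ) :
    (HahnSeries.ofPowerSeries ℤ R π).coeff i =
      if 0 ≤ i then PowerSeries.coeff i.toNat π else 0 := by
  split_ifs with h
  · obtain ⟨n, rfl⟩ := Int.eq_ofNat_of_zero_le h
    rw [Int.toNat_natCast]
    exact HahnSeries.ofPowerSeries_apply_coeff π n
  · rw [HahnSeries.ofPowerSeries_apply, HahnSeries.embDomain_of_notMem_range]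
    rintro ⟨n, hn⟩
    apply h
    rw [← hn]
    simp

theorem H7_cube_nilp {B : Type u} [CommRing B] (d : B) (h3 : d ^ 3 = d) (K : ℕ) (hK : d ^ K = 0) :
    d = 0 := by
  have h : ∀ j : ℕ, d = d * (d ^ 2) ^ j := by
    intro j
    induction j with
    | zero => simp
    | succ j ih =>
      calc d = d * (d ^ 2) ^ j := ih
        _ = d ^ 3 * (d ^ 2) ^ j := by rw [h3]
        _ = d * (d ^ 2) ^ (j + 1) := by ring
  rw [h K, ← pow_mul, mul_comm 2 K, pow_mul, hK]
  simp

theorem H7_ps_idem_mod {R : Type u} [CommRing R] (J : Ideal R) (π : PowerSeries R)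
    (h : ∀ n, PowerSeries.coeff n (π * π - π) ∈ J) :
    (PowerSeries.coeff 0 π * PowerSeries.coeff 0 π - PowerSeries.coeff 0 π ∈ J) ∧
    ∀ n, 0 < n → PowerSeries.coeff n π ∈ J := by
  set c := PowerSeries.coeff 0 π with hc
  have hc2 : c * c - c ∈ J := by
    have := h 0
    rw [map_sub, PowerSeries.coeff_mul] at this
    simpa [hc] using this
  refine ⟨hc2, ?_⟩
  intro n
  induction n using Nat.strong_induction_on with
  | _ n ih =>
    intro hn
    obtain ⟨m, rfl⟩ : ∃ m, n = m + 1 := ⟨n - 1, by omega⟩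
    have h1 := h (m + 1)
    rw [map_sub, PowerSeries.coeff_mul,
      Finset.Nat.sum_antidiagonal_eq_sum_range_succ
        (fun i j => PowerSeries.coeff i π * PowerSeries.coeff j π),
      Finset.sum_range_succ, Finset.sum_range_succ'] at h1
    simp only [Nat.sub_zero, Nat.sub_self] at h1
    have hmid : ∑ i ∈ Finset.range m, PowerSeries.coeff (i + 1) π * PowerSeries.coeff (m + 1 - (i + 1)) π ∈ J := by
      apply Ideal.sum_mem
      intro i hi
      rw [Finset.mem_range] at hi
      exact Ideal.mul_mem_right _ _ (ih (i + 1) (by omega) (by omega))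
    set a := PowerSeries.coeff (m + 1) π with ha
    -- h1 : mid + c * a + a * c - a ∈ J
    have h2 : (1 - 2 * c) * a ∈ J := by
      have h3 := J.sub_mem hmid h1
      have e : ∑ i ∈ Finset.range m, PowerSeries.coeff (i + 1) π * PowerSeries.coeff (m + 1 - (i + 1)) π -
          (∑ i ∈ Finset.range m, PowerSeries.coeff (i + 1) π * PowerSeries.coeff (m + 1 - (i + 1)) π +
            c * a + a * c - a) = (1 - 2 * c) * a := by ring
      rwa [e] at h3
    have h4 : (1 - 2 * c) * ((1 - 2 * c) * a) ∈ J := Ideal.mul_mem_left _ _ h2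
    have h5 : 4 * a * (c * c - c) ∈ J := Ideal.mul_mem_left _ _ hc2
    have e2 : a = (1 - 2 * c) * ((1 - 2 * c) * a) - 4 * a * (c * c - c) := by ring
    rw [e2]
    exact J.sub_mem h4 h5

theorem H7_idem_coeff_nilp {R : Type u} [CommRing R] (e : LaurentSeries R) (he : IsIdempotentElem e)
    (i : ℤ) (hi : i ≠ 0) : IsNilpotent (e.coeff i) := by
  rw [nilpotent_iff_mem_prime]
  intro p hp
  let φ : R →ₙ+* R ⧸ p := ((Ideal.Quotient.mk p : R →+* R ⧸ p) : R →ₙ+* R ⧸ p)
  set e' : HahnSeries ℤ (R ⧸ p) := e.map φ with he'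
  have hidem : e' * e' = e' := by
    rw [he', ← HahnSeries.map_mul, he.eq]
  have hdom : IsDomain (R ⧸ p) := Ideal.Quotient.isDomain p
  have h01 : e' = 0 ∨ e' = 1 := by
    have : e' * (e' - 1) = 0 := by rw [mul_sub, hidem, mul_one, sub_self]
    rcases mul_eq_zero.1 this with h | h
    · exact Or.inl h
    · exact Or.inr (sub_eq_zero.1 h)
  have hcoeff : e'.coeff i = Ideal.Quotient.mk p (e.coeff i) := rfl
  have : e'.coeff i = 0 := by
    rcases h01 with h | h
    · rw [h]; rfl
    · rw [h, HahnSeries.coeff_one, if_neg hi]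
  rw [hcoeff] at this
  exact Ideal.Quotient.eq_zero_iff_mem.1 this

theorem H7_S15749 (R : Type u) [CommRing R]
    (e : LaurentSeries R) (he : IsIdempotentElem e) :
    ∃! r : R, IsIdempotentElem r ∧ HahnSeries.C r = e := by
  classical
  have hex : ∃ r : R, IsIdempotentElem r ∧ HahnSeries.C r = e := by
    set n := e.order with hn
    set J : Ideal R := Ideal.span ((fun i => e.coeff i) '' ((Finset.Ico n 0 : Finset ℤ) : Set ℤ)) with hJ
    have hJfg : J.FG := by
      refine ⟨(Finset.Ico n 0).image (fun i => e.coeff i), ?_⟩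
      rw [Finset.coe_image]
    have hJnil : J ≤ nilradical R := by
      rw [hJ, Ideal.span_le]
      rintro x ⟨i, hi, rfl⟩
      rw [Finset.mem_coe, Finset.mem_Ico] at hi
      exact mem_nilradical.2 (H7_idem_coeff_nilp e he i (by omega))
    obtain ⟨K, hK⟩ := hJfg.isNilpotent_iff_le_nilradical.2 hJnil
    have hneg : ∀ i : ℤ, i < 0 → e.coeff i ∈ J := by
      intro i hi
      rcases lt_or_ge i n with h | h
      · rw [HahnSeries.coeff_eq_zero_of_lt_order h]; exact zero_mem _
      · apply Ideal.subset_span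
        exact ⟨i, by rw [Finset.mem_coe, Finset.mem_Ico]; exact ⟨h, hi⟩, rfl⟩
    set π : PowerSeries R := PowerSeries.mk (fun m => e.coeff (m : ℤ)) with hπ
    set P : LaurentSeries R := HahnSeries.ofPowerSeries ℤ R π with hP
    set N : LaurentSeries R := e - P with hN
    have hNcoeff : ∀ i, N.coeff i ∈ J := by
      intro i
      rw [hN, HahnSeries.coeff_sub, hP, H7_ofPS_coeff]
      split_ifs with h
      · rw [hπ, PowerSeries.coeff_mk, Int.toNat_of_nonneg h, sub_self]; exact zero_mem _
      · rw [sub_zero]; exact hneg i (by omega)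
    have hPP : ∀ i, (P * P - P).coeff i ∈ J := by
      intro i
      have e1 : P * P - P = N * (N + 1 - 2 • e) := by
        have hPe : P = e - N := by rw [hN]; ring
        have hee : e * e = e := he.eq
        rw [hPe]
        have : (e - N) * (e - N) - (e - N) = (e * e - e) + N * (N + 1 - 2 • e) := by ring
        rw [this, hee, sub_self, zero_add]
      rw [e1]
      have := H7_hs_coeff_mul_mem J ⊤ N (N + 1 - 2 • e) hNcoeff (fun _ => Submodule.mem_top) i
      rwa [Ideal.mul_top] at this
    have hπJ : ∀ m, PowerSeries.coeff m (π * π - π) ∈ J := by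
      intro m
      have : (HahnSeries.ofPowerSeries ℤ R (π * π - π)) = P * P - P := by
        rw [map_sub, map_mul]
      rw [← HahnSeries.ofPowerSeries_apply_coeff (Γ := ℤ), this]
      exact hPP _
    obtain ⟨hc2, hpos⟩ := H7_ps_idem_mod J π hπJ
    have hc0 : PowerSeries.coeff 0 π = e.coeff 0 := by
      rw [hπ, PowerSeries.coeff_mk]; rfl
    rw [hc0] at hc2
    have hallJ : ∀ i : ℤ, i ≠ 0 → e.coeff i ∈ J := by
      intro i hi
      rcases lt_or_gt_of_ne hi with h | h
      · exact hneg i h
      · obtain ⟨m, rfl⟩ := Int.eq_ofNat_of_zero_le h.le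
        have := hpos m (by omega)
        rwa [hπ, PowerSeries.coeff_mk] at this
    -- lift the idempotent
    set c := e.coeff 0 with hc
    have hker : ∀ x ∈ RingHom.ker (Ideal.Quotient.mk J), IsNilpotent x := by
      intro x hx
      rw [Ideal.mk_ker] at hx
      exact mem_nilradical.1 (hJnil hx)
    have hidc : IsIdempotentElem (Ideal.Quotient.mk J c) := by
      show Ideal.Quotient.mk J c * Ideal.Quotient.mk J c = Ideal.Quotient.mk J c
      rw [← map_mul, ← sub_eq_zero, ← map_sub]
      exact Ideal.Quotient.eq_zero_iff_mem.2 hc2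
    obtain ⟨r, hr, hrc⟩ := exists_isIdempotentElem_eq_of_ker_isNilpotent (Ideal.Quotient.mk J) hker
      (Ideal.Quotient.mk J c) ⟨c, rfl⟩ hidc
    have hrcJ : c - r ∈ J := by
      rw [← Ideal.Quotient.eq_zero_iff_mem, map_sub, hrc, sub_self]
    refine ⟨r, hr, ?_⟩
    set s : LaurentSeries R := HahnSeries.C r with hs
    have hss : s * s = s := by
      rw [hs, ← map_mul, hr.eq]
    have hee : e * e = e := he.eq
    set d := e - s with hd
    have hd3 : d ^ 3 = d := by
      rw [hd]
      linear_combination (e + 1 - 3 * s) * hee + (3 * e - s - 1) * hss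
    have hdJ : ∀ i, d.coeff i ∈ J := by
      intro i
      rw [hd, HahnSeries.coeff_sub, hs, HahnSeries.C_apply, HahnSeries.coeff_single]
      split_ifs with h
      · rw [h]; exact hrcJ
      · rw [sub_zero]; exact hallJ i h
    have hdK : d ^ K = 0 := by
      ext i
      have := H7_hs_coeff_pow_mem J d hdJ K i
      rw [hK] at this
      simpa using this
    have hd0 := H7_cube_nilp d hd3 K hdK
    rw [hd, sub_eq_zero] at hd0
    exact hd0.symm
  obtain ⟨r, hr, hre⟩ := hex
  refine ⟨r, ⟨hr, hre⟩, ?_⟩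
  rintro r' ⟨_, hr'⟩
  exact HahnSeries.C_injective (hr'.trans hre.symm)

end Groth.Agent.Lib.helper7
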