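import Mathlib

universe u

namespace Groth.Agent.Lib.helper7

/-- per-prime analysis of a product `f * g = 1` of Laurent series -/
theorem H7_unit_prime_local {R : Type u} [CommRing R] (f g : LaurentSeries R) (hfg : f * g = 1)
    (p : Ideal R) [hp : p.IsPrime] :
    ∃ n : ℤ, (f.coeff n * g.coeff (-n) - 1 ∈ p) ∧ (∀ i < n, f.coeff i ∈ p) ∧
      (∀ j < -n, g.coeff j ∈ p) := by
  let φ : R →ₙ+* R ⧸ p := ((Ideal.Quotient.mk p : R →+* R ⧸ p) : R →ₙ+* R ⧸ p)
  set f' : HahnSeries ℤ (R ⧸ p) := f.map φ with hf'
  set g' : HahnSeries ℤ (R ⧸ p) := g.map φ with hg'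
  have hdom : IsDomain (R ⧸ p) := Ideal.Quotient.isDomain p
  have hone : (1 : HahnSeries ℤ R).map φ = (1 : HahnSeries ℤ (R ⧸ p)) := by
    ext i
    show (Ideal.Quotient.mk p) ((1 : HahnSeries ℤ R).coeff i) = _
    rw [HahnSeries.coeff_one, HahnSeries.coeff_one]
    split_ifs <;> simp
  have hprod : f' * g' = 1 := by
    rw [hf', hg', ← HahnSeries.map_mul, hfg, hone]
  have hf0 : f' ≠ 0 := by
    rintro h
    rw [h, zero_mul] at hprod
    exact zero_ne_one hprod
  have hg0 : g' ≠ 0 := by
    rintro h
    rw [h, mul_zero] at hprod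
    exact zero_ne_one hprod
  have hord : f'.order + g'.order = 0 := by
    rw [← HahnSeries.order_mul hf0 hg0, hprod, HahnSeries.order_one]
  have hlead : f'.coeff f'.order * g'.coeff g'.order = 1 := by
    rw [← HahnSeries.leadingCoeff_eq, ← HahnSeries.leadingCoeff_eq, ← HahnSeries.leadingCoeff_mul,
      hprod, HahnSeries.leadingCoeff_one]
  have hgo : g'.order = -f'.order := by omega
  refine ⟨f'.order, ?_, ?_, ?_⟩
  · rw [← Ideal.Quotient.eq_zero_iff_mem, map_sub, map_mul, map_one, sub_eq_zero]
    rw [hgo] at hlead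
    exact hlead
  · intro i hi
    rw [← Ideal.Quotient.eq_zero_iff_mem]
    exact HahnSeries.coeff_eq_zero_of_lt_order (x := f') hi
  · intro j hj
    rw [← Ideal.Quotient.eq_zero_iff_mem]
    rw [← hgo] at hj
    exact HahnSeries.coeff_eq_zero_of_lt_order (x := g') hj

theorem H7_unit_laurent_exists (R : Type u) [CommRing R]
    [IsReduced R] [Nontrivial R] (hconn : ∀ e : R, IsIdempotentElem e → e = 0 ∨ e = 1)
    (f g : LaurentSeries R) (hfg : f * g = 1) :
    ∃ n : ℤ, IsUnit (f.coeff n) ∧ ∀ i < n, f.coeff i = 0 := by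
  have hloc := fun (p : Ideal R) (hp : p.IsPrime) => H7_unit_prime_local f g hfg p
  set ε : ℤ → R := fun i => f.coeff i * g.coeff (-i) with hε
  -- each ε i is idempotent
  have hidem : ∀ i, IsIdempotentElem (ε i) := by
    intro i
    show ε i * ε i = ε i
    rw [← sub_eq_zero]
    apply IsReduced.eq_zero
    rw [nilpotent_iff_mem_prime]
    intro p hp
    obtain ⟨n, h1, h2, h3⟩ := hloc p hp
    have e1 : ε i * ε i - ε i = ε i * (ε i - 1) := by ring
    rw [e1]
    rcases lt_trichotomy i n with h | h | h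
    · exact Ideal.mul_mem_right _ _ (Ideal.mul_mem_right _ _ (h2 i h))
    · rw [h]; exact Ideal.mul_mem_left _ _ h1
    · exact Ideal.mul_mem_right _ _ (Ideal.mul_mem_left _ _ (h3 (-i) (by omega)))
  obtain ⟨p₀, hp₀⟩ := Ideal.exists_maximal R
  have hp₀' : p₀.IsPrime := hp₀.isPrime
  obtain ⟨n, h1, h2, h3⟩ := hloc p₀ hp₀'
  have hεn : ε n = 1 := by
    rcases hconn (ε n) (hidem n) with h | h
    · exfalso
      have : ε n - 1 ∈ p₀ := h1
      rw [h, zero_sub] at this
      exact hp₀'.ne_top ((Ideal.eq_top_iff_one _).2 (by simpa using p₀.neg_mem this))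
    · exact h
  refine ⟨n, IsUnit.of_mul_eq_one _ hεn, ?_⟩
  intro i hi
  apply IsReduced.eq_zero
  rw [nilpotent_iff_mem_prime]
  intro p hp
  obtain ⟨n', h1', h2', h3'⟩ := hloc p hp
  have hnn : n' = n := by
    by_contra hne
    have hmem : ε n ∈ p := by
      rcases lt_or_gt_of_ne hne with h | h
      · exact Ideal.mul_mem_left _ _ (h3' (-n) (by omega))
      · exact Ideal.mul_mem_right _ _ (h2' n h)
    rw [hεn] at hmem
    exact hp.ne_top ((Ideal.eq_top_iff_one _).2 hmem)
  rw [hnn] at h2'
  exact h2' i hi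

theorem H7_S15750 (R : Type u) [CommRing R]
    [IsReduced R] [Nontrivial R] (hconn : ∀ e : R, IsIdempotentElem e → e = 0 ∨ e = 1)
    (f : (LaurentSeries R)ˣ) :
    ∃! p : ℤ × (PowerSeries R)ˣ,
      (f : LaurentSeries R) = HahnSeries.single p.1 (1 : R) * HahnSeries.ofPowerSeries ℤ R (p.2 : PowerSeries R) := by
  obtain ⟨n, hun, hlow⟩ := H7_unit_laurent_exists R hconn (f : LaurentSeries R) ((f⁻¹ : (LaurentSeries R)ˣ) : LaurentSeries R)
    (by simp)
  have hne : (f : LaurentSeries R).coeff n ≠ 0 := hun.ne_zero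
  have hf0 : (f : LaurentSeries R) ≠ 0 := HahnSeries.ne_zero_of_coeff_ne_zero hne
  have hord : (f : LaurentSeries R).order = n := by
    apply le_antisymm (HahnSeries.order_le_of_coeff_ne_zero hne)
    by_contra hlt
    push Not at hlt
    exact (fun h => hf0 (HahnSeries.coeff_order_eq_zero.1 h)) (hlow _ hlt)
  have hu : IsUnit (LaurentSeries.powerSeriesPart (f : LaurentSeries R)) := by
    rw [PowerSeries.isUnit_iff_constantCoeff, ← PowerSeries.coeff_zero_eq_constantCoeff_apply,
      LaurentSeries.powerSeriesPart_coeff, hord]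
    simpa using hun
  -- uniqueness helper
  have huniq : ∀ (m : ℤ) (u : (PowerSeries R)ˣ),
      (f : LaurentSeries R) = HahnSeries.single m (1 : R) * HahnSeries.ofPowerSeries ℤ R (u : PowerSeries R) →
      (f : LaurentSeries R).coeff m ≠ 0 ∧ ∀ i < m, (f : LaurentSeries R).coeff i = 0 := by
    intro m u hfu
    have hc : ∀ i : ℤ, (f : LaurentSeries R).coeff (i + m) =
        (HahnSeries.ofPowerSeries ℤ R (u : PowerSeries R)).coeff i := by
      intro i
      rw [hfu, HahnSeries.coeff_single_mul_add, one_mul]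
    constructor
    · have := hc 0
      rw [zero_add] at this
      rw [this]
      have h0 : (HahnSeries.ofPowerSeries ℤ R (u : PowerSeries R)).coeff ((0 : ℕ) : ℤ) =
          PowerSeries.coeff 0 (u : PowerSeries R) := HahnSeries.ofPowerSeries_apply_coeff _ 0
      rw [Nat.cast_zero] at h0
      rw [h0, PowerSeries.coeff_zero_eq_constantCoeff_apply]
      exact (PowerSeries.isUnit_iff_constantCoeff.1 u.isUnit).ne_zero
    · intro i hi
      have := hc (i - m)
      rw [sub_add_cancel] at this
      rw [this, HahnSeries.ofPowerSeries_apply, HahnSeries.embDomain_of_notMem_range]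
      rintro ⟨k, hk⟩
      have : (k : ℤ) = i - m := hk
      omega
  refine ⟨(n, hu.unit), ?_, ?_⟩
  · show (f : LaurentSeries R) = HahnSeries.single n (1 : R) *
      HahnSeries.ofPowerSeries ℤ R (LaurentSeries.powerSeriesPart (f : LaurentSeries R))
    rw [← hord]
    exact (LaurentSeries.single_order_mul_powerSeriesPart _).symm
  · rintro ⟨m, u⟩ hmu
    have hm := huniq m u hmu
    have hmn : m = n := by
      rcases lt_trichotomy m n with h | h | h
      · exact absurd (hlow m h) hm.1
      · exact h
      · exact absurd (hm.2 n h) hne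
    subst hmn
    have hself : (f : LaurentSeries R) = HahnSeries.single m (1 : R) *
      HahnSeries.ofPowerSeries ℤ R (LaurentSeries.powerSeriesPart (f : LaurentSeries R)) := by
      rw [← hord]
      exact (LaurentSeries.single_order_mul_powerSeriesPart _).symm
    have hcancel : HahnSeries.ofPowerSeries ℤ R (u : PowerSeries R) =
        HahnSeries.ofPowerSeries ℤ R (LaurentSeries.powerSeriesPart (f : LaurentSeries R)) := by
      have h1 : HahnSeries.single (-m) (1 : R) * (f : LaurentSeries R) =
          HahnSeries.ofPowerSeries ℤ R (u : PowerSeries R) := by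
        conv_lhs => rw [hmu]
        rw [← mul_assoc, HahnSeries.single_mul_single]
        simp
      have h2 : HahnSeries.single (-m) (1 : R) * (f : LaurentSeries R) =
          HahnSeries.ofPowerSeries ℤ R (LaurentSeries.powerSeriesPart (f : LaurentSeries R)) := by
        conv_lhs => rw [hself]
        rw [← mul_assoc, HahnSeries.single_mul_single]
        simp
      rw [← h1, h2]
    have huu : (u : PowerSeries R) = LaurentSeries.powerSeriesPart (f : LaurentSeries R) :=
      HahnSeries.ofPowerSeries_injective hcancel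
    ext
    · rfl
    · exact congrArg (PowerSeries.coeff _) huu

end Groth.Agent.Lib.helper7
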