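import Mathlib

set_option autoImplicit false

open Module Submodule

/-- Between two nested subspaces there is a subspace of any intermediate dimension. -/
theorem H7_exists_submodule_between {k E : Type*} [Field k] [AddCommGroup E] [Module k E]
    [FiniteDimensional k E] (A B : Submodule k E) (hAB : A ≤ B) (n : ℕ)
    (h1 : finrank k A ≤ n) (h2 : n ≤ finrank k B) :
    ∃ V : Submodule k E, A ≤ V ∧ V ≤ B ∧ finrank k V = n := by
  induction hd : n - finrank k A generalizing A with
  | zero => exact ⟨A, le_rfl, hAB, by omega⟩
  | succ d ih =>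
    have hlt : finrank k A < finrank k B := by omega
    have hne : A ≠ B := by rintro rfl; omega
    have hAB' : A < B := lt_of_le_of_ne hAB hne
    obtain ⟨x, hxB, hxA⟩ := SetLike.exists_of_lt hAB'
    have hfr : finrank k (A ⊔ span k {x} : Submodule k E) = finrank k A + 1 :=
      finrank_sup_span_singleton hxA
    obtain ⟨V, hV1, hV2, hV3⟩ := ih (A ⊔ span k {x})
      (sup_le hAB ((span_singleton_le_iff_mem x B).mpr hxB)) (by omega) (by omega)
    exact ⟨V, le_sup_left.trans hV1, hV2, hV3⟩
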