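import Mathlib
import Groth.Agent.Lib.helper7.FinLen

set_option autoImplicit false
universe u v

namespace Groth.Agent.Lib.helper7

open IsLocalRing

theorem H7_S16104
    (A : Type u) (B : Type v) [CommRing A] [CommRing B] [IsLocalRing A] [IsLocalRing B]
    [IsNoetherianRing A] [IsNoetherianRing B] (φ : A →+* B) [IsLocalHom φ]
    (h1 : Function.Surjective ((Ideal.Quotient.mk (IsLocalRing.maximalIdeal B ^ 2)).comp φ))
    (hlen : ∀ n : ℕ, Module.length A (A ⧸ IsLocalRing.maximalIdeal A ^ (n + 1)) =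
      Module.length B (B ⧸ IsLocalRing.maximalIdeal B ^ (n + 1))) (n : ℕ) :
    Function.Surjective ((Ideal.Quotient.mk (IsLocalRing.maximalIdeal B ^ (n + 1))).comp φ) ∧
      RingHom.ker ((Ideal.Quotient.mk (IsLocalRing.maximalIdeal B ^ (n + 1))).comp φ) =
        IsLocalRing.maximalIdeal A ^ (n + 1) := by
  classical
  set mA := maximalIdeal A with hmA
  set mB := maximalIdeal B with hmB
  -- h1 reformulated
  have h1' : ∀ b : B, ∃ a : A, b - φ a ∈ mB ^ 2 := by
    intro b
    obtain ⟨a, ha⟩ := h1 (Ideal.Quotient.mk _ b)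
    refine ⟨a, ?_⟩
    rw [← Ideal.Quotient.eq]
    exact ha.symm
  have hmap_le : Ideal.map φ mA ≤ mB := by
    rw [Ideal.map_le_iff_le_comap]
    intro a ha
    exact map_nonunit φ a ha
  have hle1 : mB ≤ Ideal.map φ mA ⊔ mB • mB := by
    intro b hb
    obtain ⟨a, ha⟩ := h1' b
    have hsq : mB ^ 2 ≤ mB := Ideal.pow_le_self (by norm_num)
    have hφa : φ a ∈ mB := by
      have : φ a = b - (b - φ a) := by ring
      rw [this]; exact Ideal.sub_mem _ hb (hsq ha)
    have haA : a ∈ mA := by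
      by_contra hna
      have hu : IsUnit a := by
        by_contra hnu
        exact hna ((mem_maximalIdeal a).2 hnu)
      exact (mem_maximalIdeal _).1 hφa (hu.map φ)
    have : b = φ a + (b - φ a) := by ring
    rw [this]
    refine Submodule.add_mem_sup (Ideal.mem_map_of_mem φ haA) ?_
    rw [smul_eq_mul, ← pow_two]; exact ha
  have hmBfg : (mB : Submodule B B).FG := IsNoetherian.noetherian mB
  have hjac : mB ≤ Ideal.jacobson ⊥ := by
    rw [hmB, IsLocalRing.jacobson_eq_maximalIdeal ⊥ bot_ne_top]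
  have hmap_eq : Ideal.map φ mA = mB :=
    le_antisymm hmap_le (Submodule.le_of_le_smul_of_le_jacobson_bot hmBfg hjac hle1)
  have hpow : ∀ k : ℕ, Ideal.map φ (mA ^ k) = mB ^ k := by
    intro k; rw [Ideal.map_pow, hmap_eq]
  -- one-step approximation
  have h1'' : ∀ b : B, ∃ a : A, b - φ a ∈ mB := by
    intro b
    obtain ⟨a, ha⟩ := h1' b
    exact ⟨a, Ideal.pow_le_self (by norm_num) ha⟩
  have hstep : ∀ k : ℕ, ∀ y ∈ Ideal.map φ (mA ^ k), ∃ a ∈ mA ^ k, y - φ a ∈ mB ^ (k + 1) := by
    intro k y hy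
    induction hy using Submodule.span_induction with
    | mem y hy =>
      obtain ⟨x, hx, rfl⟩ := hy
      exact ⟨x, hx, by simp⟩
    | zero => exact ⟨0, Ideal.zero_mem _, by simp⟩
    | add y z _ _ hy hz =>
      obtain ⟨a, ha, hya⟩ := hy
      obtain ⟨a', ha', hza⟩ := hz
      refine ⟨a + a', Ideal.add_mem _ ha ha', ?_⟩
      have : y + z - φ (a + a') = (y - φ a) + (z - φ a') := by rw [map_add]; ring
      rw [this]; exact Ideal.add_mem _ hya hza
    | smul b' y _ hy =>
      obtain ⟨a, ha, hya⟩ := hy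
      obtain ⟨a', ha'⟩ := h1'' b'
      refine ⟨a' * a, Ideal.mul_mem_left _ _ ha, ?_⟩
      have hφa : φ a ∈ mB ^ k := by rw [← hpow k]; exact Ideal.mem_map_of_mem φ ha
      have : b' • y - φ (a' * a) = (b' - φ a') * φ a + b' * (y - φ a) := by
        rw [map_mul, smul_eq_mul]; ring
      rw [this]
      refine Ideal.add_mem _ ?_ (Ideal.mul_mem_left _ _ hya)
      rw [pow_succ']
      exact Ideal.mul_mem_mul ha' hφa
  have happrox : ∀ k : ℕ, ∀ b : B, ∃ a : A, b - φ a ∈ mB ^ k := by
    intro k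
    induction k with
    | zero => intro b; exact ⟨0, by simp⟩
    | succ k ih =>
      intro b
      obtain ⟨a, ha⟩ := ih b
      rw [← hpow k] at ha
      obtain ⟨a₂, _, ha₂⟩ := hstep k _ ha
      refine ⟨a + a₂, ?_⟩
      have : b - φ (a + a₂) = b - φ a - φ a₂ := by rw [map_add]; ring
      rw [this]; exact ha₂
  have hsurj : Function.Surjective ((Ideal.Quotient.mk (mB ^ (n + 1))).comp φ) := by
    intro c
    obtain ⟨b, rfl⟩ := Ideal.Quotient.mk_surjective c
    obtain ⟨a, ha⟩ := happrox (n + 1) b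
    refine ⟨a, ?_⟩
    rw [RingHom.comp_apply]
    exact (Ideal.Quotient.eq.2 ha).symm
  refine ⟨hsurj, ?_⟩
  -- kernel
  set ψ : A →+* (B ⧸ mB ^ (n + 1)) := (Ideal.Quotient.mk (mB ^ (n + 1))).comp φ with hψ
  have hker_ge : mA ^ (n + 1) ≤ RingHom.ker ψ := by
    intro a ha
    rw [RingHom.mem_ker, hψ, RingHom.comp_apply, Ideal.Quotient.eq_zero_iff_mem, ← hpow (n + 1)]
    exact Ideal.mem_map_of_mem φ ha
  apply le_antisymm _ hker_ge
  letI algAC : Algebra A (B ⧸ mB ^ (n + 1)) := ψ.toAlgebra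
  have hlenAC : Module.length A (B ⧸ mB ^ (n + 1)) = Module.length (B ⧸ mB ^ (n + 1)) (B ⧸ mB ^ (n + 1)) :=
    Module.length_eq_of_surjective (S := A) (R := B ⧸ mB ^ (n + 1)) (M := B ⧸ mB ^ (n + 1)) hsurj
  have hlenBC : Module.length B (B ⧸ mB ^ (n + 1)) = Module.length (B ⧸ mB ^ (n + 1)) (B ⧸ mB ^ (n + 1)) :=
    Module.length_eq_of_surjective (S := B) (R := B ⧸ mB ^ (n + 1)) (M := B ⧸ mB ^ (n + 1))
      Ideal.Quotient.mk_surjective
  have hle : (mA ^ (n + 1) : Submodule A A) ≤ LinearMap.ker (Algebra.linearMap A (B ⧸ mB ^ (n + 1))) := by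
    intro a ha
    rw [LinearMap.mem_ker, Algebra.linearMap_apply]
    exact hker_ge ha
  let π : (A ⧸ mA ^ (n + 1)) →ₗ[A] (B ⧸ mB ^ (n + 1)) :=
    Submodule.liftQ (mA ^ (n + 1)) (Algebra.linearMap A (B ⧸ mB ^ (n + 1))) hle
  have hπsurj : Function.Surjective π := by
    intro c
    obtain ⟨a, ha⟩ := hsurj c
    exact ⟨Submodule.Quotient.mk a, ha⟩
  have hadd := Module.length_eq_add_of_exact (LinearMap.ker π).subtype π
    (Submodule.subtype_injective _) hπsurj (LinearMap.exact_subtype_ker_map π)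
  have hfin : Module.length A (A ⧸ mA ^ (n + 1)) ≠ ⊤ := by
    rw [Module.length_ne_top_iff]
    haveI : mA.IsMaximal := by rw [hmA]; infer_instance
    refine H7_finlen_of_pow_smul mA (IsNoetherian.noetherian mA) _ (n + 1) ?_
    rw [eq_bot_iff]
    intro x hx
    refine Submodule.smul_induction_on hx ?_ ?_
    · intro r hr y _
      obtain ⟨a, rfl⟩ := Submodule.Quotient.mk_surjective _ y
      rw [Submodule.mem_bot, ← Submodule.Quotient.mk_smul, Submodule.Quotient.mk_eq_zero,
        smul_eq_mul]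
      exact Ideal.mul_mem_right _ _ hr
    · intro y z hy hz
      exact Submodule.add_mem _ hy hz
  have hker0 : Module.length A (LinearMap.ker π) = 0 := by
    have e1 : Module.length A (B ⧸ mB ^ (n + 1)) = Module.length A (A ⧸ mA ^ (n + 1)) := by
      rw [hlenAC, ← hlenBC]; exact (hlen n).symm
    rw [e1] at hadd
    generalize Module.length A (A ⧸ mA ^ (n + 1)) = L at hadd hfin
    generalize Module.length A (LinearMap.ker π) = X at hadd
    cases L with
    | top => exact absurd rfl hfin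
    | coe l =>
      cases X with
      | top => simp at hadd
      | coe x =>
        have : (l : ℕ∞) = ((x + l : ℕ) : ℕ∞) := by exact_mod_cast hadd
        have h' : l = x + l := by exact_mod_cast this
        have : x = 0 := by omega
        rw [this]; rfl
  have hsub : Subsingleton (LinearMap.ker π) := Module.length_eq_zero_iff.1 hker0
  have hkerbot : LinearMap.ker π = ⊥ := Submodule.subsingleton_iff_eq_bot.1 hsub
  intro a ha
  have hπa : π (Submodule.Quotient.mk a) = 0 := by
    show (Algebra.linearMap A (B ⧸ mB ^ (n + 1))) a = 0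
    rw [Algebra.linearMap_apply]
    exact ha
  have : (Submodule.Quotient.mk a : A ⧸ mA ^ (n + 1)) ∈ LinearMap.ker π := hπa
  rw [hkerbot, Submodule.mem_bot, Submodule.Quotient.mk_eq_zero] at this
  exact this

end Groth.Agent.Lib.helper7
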