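import Mathlib
import Groth.Prelude.Def_Models
import Groth.Agent.S2171

set_option autoImplicit false

namespace Groth.Agent.Lib.helper7

open Finset Models

variable {n : ℕ} (T : Models.NumericalType n)

/-- an integer vector killed by `a` is a real multiple of `m` -/
theorem H7_ker_a_real (x : Fin n → ℤ) (hx : T.a.mulVec x = 0) :
    ∃ q : ℝ, (fun i => (x i : ℝ)) = q • (fun i => (T.m i : ℝ)) := by
  have hcast : ∀ v : Fin n → ℤ, (T.a.map (Int.cast : ℤ → ℝ)).mulVec (fun i => (v i : ℝ)) =
      fun i => ((T.a.mulVec v i : ℤ) : ℝ) := by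
    intro v
    funext i
    simp only [Matrix.mulVec, dotProduct, Matrix.map_apply]
    push_cast
    rfl
  have h := Groth.Agent.S2171.result (T.a.map (Int.cast : ℤ → ℝ)) (fun i => (T.m i : ℝ))
    (T.symm.map _) (fun i j hij => by
      rw [Matrix.map_apply]; exact_mod_cast T.offDiag_nonneg i j hij)
    (fun i => by exact_mod_cast T.m_pos i)
    (by rw [hcast, T.mulVec_m]; funext i; simp)
    (fun I h1 h2 => by
      obtain ⟨i, hi, j, hj, hij⟩ := T.connected I h1 h2
      exact ⟨i, hi, j, hj, by rw [Matrix.map_apply]; exact_mod_cast hij⟩)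
    (fun i => (x i : ℝ))
  apply h.2.mp
  rw [hcast, hx]
  simp

theorem H7_picMatrix_mulVec (x : Fin n → ℤ) (i : Fin n) :
    T.w i * (T.picMatrix.mulVec x) i = (T.a.mulVec x) i := by
  simp only [Matrix.mulVec, dotProduct, Finset.mul_sum]
  refine Finset.sum_congr rfl fun j _ => ?_
  show T.w i * (T.a i j / T.w i * x j) = T.a i j * x j
  rw [← mul_assoc, Int.mul_ediv_cancel' (T.w_dvd i j)]

theorem H7_picMatrix_ker (x : Fin n → ℤ) (hx : T.picMatrix.mulVec x = 0) : T.a.mulVec x = 0 := by
  funext i
  rw [← H7_picMatrix_mulVec, hx]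
  simp

theorem H7_picMatrix_m : T.picMatrix.mulVec T.m = 0 := by
  funext i
  have h := H7_picMatrix_mulVec T T.m i
  rw [T.mulVec_m] at h
  simp only [Pi.zero_apply] at h ⊢
  exact (mul_eq_zero.mp h).resolve_left (T.w_pos i).ne'

theorem H7_S2178 : Module.finrank ℤ T.Pic = 1 := by
  classical
  set B := Matrix.mulVecLin T.picMatrix with hB
  have hn := T.pos
  let i0 : Fin n := ⟨0, hn⟩
  -- rank-nullity twice
  have h1 := Submodule.finrank_quotient_add_finrank (LinearMap.range B)
  have h2 := Submodule.finrank_quotient_add_finrank (LinearMap.ker B)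
  have h3 : Module.finrank ℤ ((Fin n → ℤ) ⧸ LinearMap.ker B) =
      Module.finrank ℤ (LinearMap.range B) := LinearEquiv.finrank_eq B.quotKerEquivRange
  rw [Module.finrank_fin_fun] at h1 h2
  -- kernel has rank one
  have h4 : Module.finrank ℤ (LinearMap.ker B) = 1 := by
    let φ : LinearMap.ker B →ₗ[ℤ] ℤ := (LinearMap.proj i0) ∘ₗ (LinearMap.ker B).subtype
    have hφinj : Function.Injective φ := by
      rw [← LinearMap.ker_eq_bot, LinearMap.ker_eq_bot']
      rintro ⟨x, hx⟩ hφx
      have hx' : T.picMatrix.mulVec x = 0 := by simpa [hB] using hx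
      obtain ⟨q, hq⟩ := H7_ker_a_real T x (H7_picMatrix_ker T x hx')
      have hx0 : x i0 = 0 := hφx
      have hq0 : q = 0 := by
        have := congrFun hq i0
        simp only [Pi.smul_apply, smul_eq_mul, hx0, Int.cast_zero] at this
        have hm0 : (T.m i0 : ℝ) ≠ 0 := by exact_mod_cast (T.m_pos i0).ne'
        exact (mul_eq_zero.mp this.symm).resolve_right hm0
      apply Subtype.ext
      funext i
      have := congrFun hq i
      simp only [Pi.smul_apply, smul_eq_mul, hq0, zero_mul] at this
      exact_mod_cast this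
    have e1 : LinearMap.ker B ≃ₗ[ℤ] LinearMap.range φ := LinearEquiv.ofInjective φ hφinj
    have hne : (LinearMap.range φ : Ideal ℤ) ≠ ⊥ := by
      intro hbot
      have hm : T.m ∈ LinearMap.ker B := by
        rw [LinearMap.mem_ker, hB, Matrix.mulVecLin_apply]
        exact H7_picMatrix_m T
      have : φ ⟨T.m, hm⟩ ∈ LinearMap.range φ := ⟨_, rfl⟩
      rw [hbot, Submodule.mem_bot] at this
      exact (T.m_pos i0).ne' this
    have e2 : ℤ ≃ₗ[ℤ] (LinearMap.range φ : Ideal ℤ) := Ideal.isoBaseOfIsPrincipal hne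
    rw [LinearEquiv.finrank_eq e1, ← LinearEquiv.finrank_eq e2, Module.finrank_self]
  have h5 : Module.finrank ℤ T.Pic + Module.finrank ℤ (LinearMap.range B) = n := h1
  omega

end Groth.Agent.Lib.helper7
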