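import Mathlib

set_option autoImplicit false
universe u

namespace Groth.Agent.Lib.helper7

theorem H7_mono_alt (R : Type u) [CommRing R] (r : ℕ) (a : Fin r →₀ ℕ) (c : R)
    (ha : (a.sum fun _ e => e) ≤ r) :
    ∑ J : Finset (Fin r), (-1 : R) ^ J.card *
      MvPolynomial.eval (fun j => if j ∈ J then (-1 : R) else 0) (MvPolynomial.monomial a c) =
    if a = ∑ i : Fin r, Finsupp.single i 1 then c else 0 := by
  classical
  have h1 : ∀ J : Finset (Fin r), (-1 : R) ^ J.card *
      MvPolynomial.eval (fun j => if j ∈ J then (-1 : R) else 0) (MvPolynomial.monomial a c) =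
      c * ((∏ i ∈ J, (-(-1 : R) ^ (a i))) * ∏ i ∈ Finset.univ \ J, (0 : R) ^ (a i)) := by
    intro J
    rw [MvPolynomial.eval_monomial, Finsupp.prod_fintype _ _ (fun i => by simp)]
    have h2 : ∏ i : Fin r, (if i ∈ J then (-1 : R) else 0) ^ (a i) =
        (∏ i ∈ J, (-1 : R) ^ (a i)) * ∏ i ∈ Finset.univ \ J, (0 : R) ^ (a i) := by
      rw [← Finset.prod_sdiff (Finset.subset_univ J), mul_comm]
      congr 1
      · apply Finset.prod_congr rfl
        intro i hi
        rw [if_pos hi]
      · apply Finset.prod_congr rfl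
        intro i hi
        rw [if_neg (Finset.mem_sdiff.mp hi).2]
    rw [h2]
    have h3 : ∏ i ∈ J, (-(-1 : R) ^ (a i)) = (-1 : R) ^ J.card * ∏ i ∈ J, (-1 : R) ^ (a i) := by
      rw [← Finset.prod_const, ← Finset.prod_mul_distrib]
      apply Finset.prod_congr rfl
      intro i _
      ring
    rw [h3]
    ring
  rw [Finset.sum_congr rfl (fun J _ => h1 J), ← Finset.mul_sum]
  have h4 := Finset.prod_add (fun i : Fin r => (-(-1 : R) ^ (a i))) (fun i => (0 : R) ^ (a i)) Finset.univ
  rw [Finset.powerset_univ] at h4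
  rw [← h4]
  by_cases hex : ∃ i, a i = 0
  · obtain ⟨i, hi⟩ := hex
    have : ∏ i : Fin r, (-(-1 : R) ^ (a i) + (0 : R) ^ (a i)) = 0 := by
      apply Finset.prod_eq_zero (Finset.mem_univ i)
      rw [hi]; simp
    rw [this, mul_zero, if_neg]
    intro h
    have := congrArg (fun f => f i) h
    simp only [Finsupp.coe_finsetSum, Finset.sum_apply] at this
    rw [hi] at this
    simp at this
  · push Not at hex
    have hall : a = ∑ i : Fin r, Finsupp.single i 1 := by
      ext i
      simp only [Finsupp.coe_finsetSum, Finset.sum_apply]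
      rw [Finset.sum_eq_single i (fun j _ hj => by simp [Finsupp.single_apply, hj])
        (fun h => absurd (Finset.mem_univ i) h)]
      simp only [Finsupp.single_eq_same]
      by_contra hne
      have h5 : ∀ j, 1 ≤ a j := fun j => Nat.one_le_iff_ne_zero.mpr (hex j)
      have h6 : (a.sum fun _ e => e) = ∑ j, a j := Finsupp.sum_fintype _ _ (fun _ => rfl)
      have h7 : ∑ j : Fin r, a j > ∑ j : Fin r, 1 := by
        apply Finset.sum_lt_sum (fun j _ => h5 j)
        exact ⟨i, Finset.mem_univ i, by have := h5 i; omega⟩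
      simp at h7
      omega
    rw [if_pos hall]
    have : ∏ i : Fin r, (-(-1 : R) ^ (a i) + (0 : R) ^ (a i)) = 1 := by
      apply Finset.prod_eq_one
      intro i _
      have : a i = 1 := by
        rw [hall]
        simp only [Finsupp.coe_finsetSum, Finset.sum_apply]
        rw [Finset.sum_eq_single i (fun j _ hj => by simp [Finsupp.single_apply, hj])
          (fun h => absurd (Finset.mem_univ i) h)]
        simp
      rw [this]; simp
    rw [this, mul_one]

end Groth.Agent.Lib.helper7
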