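import Mathlib

universe u v w
open scoped BigOperators

namespace Groth.Agent.Lib.helper7

section
variable {A : Type u} [CommRing A] {N : Type w} [AddCommGroup N] [Module A N]

def H7_mx {r : ℕ} {M : Fin r → Type v} (i : Fin r) (U Y V : ∀ k, M k) : ∀ k, M k :=
  fun k => if k < i then U k else if k = i then Y k else V k

lemma H7_mx_zero {r : ℕ} {M : Fin (r+1) → Type v} (U Y V : ∀ k, M k) :
    H7_mx (0 : Fin (r+1)) U Y V = Fin.cons (Y 0) (fun k' : Fin r => V k'.succ) := by
  funext k
  refine Fin.cases ?_ (fun k' => ?_) k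
  · simp [H7_mx]
  · simp [H7_mx, Fin.succ_ne_zero]

lemma H7_mx_succ {r : ℕ} {M : Fin (r+1) → Type v} (i : Fin r) (U Y V : ∀ k, M k) :
    H7_mx i.succ U Y V = Fin.cons (U 0) (H7_mx (M := fun k' : Fin r => M k'.succ) i
      (fun k' => U k'.succ) (fun k' => Y k'.succ) (fun k' => V k'.succ)) := by
  funext k
  refine Fin.cases ?_ (fun k' => ?_) k
  · simp [H7_mx, Fin.succ_pos]
  · simp [H7_mx, Fin.succ_lt_succ_iff, Fin.succ_inj]

lemma H7_tel : ∀ (r : ℕ) (M : Fin r → Type v) [∀ i, AddCommGroup (M i)] [∀ i, Module A (M i)]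
    (ψ : MultilinearMap A M N) (U V : ∀ k, M k),
    ψ U - ψ V = ∑ i, ψ (H7_mx i U (fun k => U k - V k) V) := by
  intro r
  induction r with
  | zero =>
    intro M _ _ ψ U V
    have : U = V := by funext k; exact k.elim0
    subst this; simp
  | succ r ih =>
    intro M _ _ ψ U V
    rw [Fin.sum_univ_succ]
    simp only [H7_mx_zero, H7_mx_succ]
    have hU : U = Fin.cons (U 0) (fun k' => U k'.succ) := by
      funext k; refine Fin.cases ?_ (fun k' => ?_) k <;> simp
    have hV : V = Fin.cons (V 0) (fun k' => V k'.succ) := by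
      funext k; refine Fin.cases ?_ (fun k' => ?_) k <;> simp
    have h1 := ih (fun k' => M k'.succ) (ψ.curryLeft (U 0)) (fun k' => U k'.succ) (fun k' => V k'.succ)
    simp only [MultilinearMap.curryLeft_apply] at h1
    rw [← h1]
    have h2 : ψ (Fin.cons (U 0 - V 0) (fun k' => V k'.succ)) =
        ψ (Fin.cons (U 0) (fun k' => V k'.succ)) - ψ (Fin.cons (V 0) (fun k' => V k'.succ)) := by
      have := congrArg (fun f => f (fun k' => V k'.succ)) (ψ.curryLeft.map_sub (U 0) (V 0))
      simp only [MultilinearMap.sub_apply, MultilinearMap.curryLeft_apply] at this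
      exact this
    rw [h2]
    conv_lhs => rw [hU, hV]
    abel

lemma H7_mx_smul {r : ℕ} {M : Fin r → Type v} [∀ i, AddCommGroup (M i)] [∀ i, Module A (M i)]
    (ψ : MultilinearMap A M N) (i : Fin r) (α : A) (U Y V : ∀ k, M k) :
    ψ (H7_mx i U (fun k => α • Y k) V) = α • ψ (H7_mx i U Y V) := by
  classical
  have h1 : H7_mx i U (fun k => α • Y k) V = Function.update (H7_mx i U Y V) i (α • Y i) := by
    funext k
    by_cases hk : k = i
    · subst hk; simp [H7_mx]
    · rw [Function.update_of_ne hk]; simp [H7_mx, hk]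
  have h2 : H7_mx i U Y V = Function.update (H7_mx i U Y V) i (Y i) := by
    funext k
    by_cases hk : k = i
    · subst hk; simp [H7_mx]
    · rw [Function.update_of_ne hk]
  rw [h1, MultilinearMap.map_update_smul, ← h2]

lemma H7_abs {M₀ : Type v} [AddCommGroup M₀] [Module A M₀] (α : A) (n : ℕ)
    (F : ℕ → M₀ → N) (Θ : ℕ → M₀ →ₗ[A] N) (y₀ w₀ : ℕ → M₀)
    (hF : ∀ l < n, ∀ x, F (l+1) x - F l x = α • Θ l x)
    (hw : ∀ j < n, w₀ (j+1) = w₀ j + α • y₀ j) :
    ∀ m ≤ n, ∑ j ∈ Finset.range m, F j (y₀ j) + ∑ j ∈ Finset.range m, Θ j (w₀ (j+1)) =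
      ∑ j ∈ Finset.range m, F 0 (y₀ j) + ∑ j ∈ Finset.range m, Θ j (w₀ m) := by
  have hsub : ∀ m ≤ n, ∀ x, F m x - F 0 x = ∑ j ∈ Finset.range m, α • Θ j x := by
    intro m
    induction m with
    | zero => intro _ x; simp
    | succ m ih =>
      intro hm x
      rw [Finset.sum_range_succ, ← ih (by omega) x, ← hF m (by omega) x]
      abel
  intro m
  induction m with
  | zero => intro _; simp
  | succ m ih =>
    intro hm
    have ih' := ih (by omega)
    rw [Finset.sum_range_succ, Finset.sum_range_succ, Finset.sum_range_succ, Finset.sum_range_succ]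
    have h1 : ∑ j ∈ Finset.range m, Θ j (w₀ (m + 1)) =
        ∑ j ∈ Finset.range m, Θ j (w₀ m) + ∑ j ∈ Finset.range m, α • Θ j (y₀ m) := by
      rw [← Finset.sum_add_distrib]
      refine Finset.sum_congr rfl (fun j _ => ?_)
      rw [hw m (by omega), map_add, map_smul]
    have h2 := hsub m (by omega) (y₀ m)
    rw [h1, ← h2]
    have h3 : ∑ j ∈ Finset.range m, F j (y₀ j) =
        ∑ j ∈ Finset.range m, F 0 (y₀ j) + ∑ j ∈ Finset.range m, Θ j (w₀ m) -
          ∑ j ∈ Finset.range m, Θ j (w₀ (j+1)) := by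
      rw [← ih']; abel
    rw [h3]
    abel

theorem H7_multi_main (α : A) : ∀ (r : ℕ) (M : Fin r → Type v) [∀ i, AddCommGroup (M i)]
    [∀ i, Module A (M i)] (φ : MultilinearMap A M N) (n : ℕ)
    (y w : ∀ i, ℕ → M i) (hw : ∀ i, ∀ j < n, w i (j + 1) = w i j + α • y i j),
    (∑ i : Fin r, ∑ j ∈ Finset.range n,
        φ (H7_mx i (fun k => w k (j + 1)) (fun k => y k j) (fun k => w k j))) =
      ∑ i : Fin r, ∑ j ∈ Finset.range n,
        φ (H7_mx i (fun k => w k n) (fun k => y k j) (fun k => w k 0)) := by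
  intro r
  induction r with
  | zero => intro M _ _ φ n y w hw; simp
  | succ r ih =>
    intro M _ _ φ n y w hw
    rw [Fin.sum_univ_succ, Fin.sum_univ_succ]
    simp only [H7_mx_zero, H7_mx_succ]
    -- the linear map x ↦ φ (cons x Z)
    let lin : (∀ k' : Fin r, M k'.succ) → (M 0 →ₗ[A] N) := fun Z =>
      { toFun := fun x => φ (Fin.cons x Z)
        map_add' := fun x y => φ.cons_add Z x y
        map_smul' := fun c x => φ.cons_smul Z c x }
    have hlin : ∀ Z x, lin Z x = φ (Fin.cons x Z) := fun Z x => rfl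
    let Z : Fin r → ℕ → (∀ k' : Fin r, M k'.succ) := fun i' j =>
      H7_mx (M := fun k' : Fin r => M k'.succ) i' (fun k' => w k'.succ (j + 1))
        (fun k' => y k'.succ j) (fun k' => w k'.succ j)
    let Θ : ℕ → (M 0 →ₗ[A] N) := fun j => ∑ i', lin (Z i' j)
    let F : ℕ → M 0 → N := fun j x => φ (Fin.cons x (fun k' => w k'.succ j))
    have hF : ∀ l < n, ∀ x, F (l+1) x - F l x = α • Θ l x := by
      intro l hl x
      have h1 := H7_tel r (fun k' => M k'.succ) (φ.curryLeft x) (fun k' => w k'.succ (l+1))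
        (fun k' => w k'.succ l)
      simp only [MultilinearMap.curryLeft_apply] at h1
      simp only [F, Θ]
      rw [h1, LinearMap.sum_apply, Finset.smul_sum]
      refine Finset.sum_congr rfl (fun i' _ => ?_)
      have h2 : (fun k' : Fin r => w k'.succ (l + 1) - w k'.succ l) = fun k' : Fin r => α • y k'.succ l := by
        funext k'; rw [hw k'.succ l hl]; abel
      rw [h2]
      have h3 := H7_mx_smul (φ.curryLeft x) i' α (fun k' => w k'.succ (l + 1))
        (fun k' => y k'.succ l) (fun k' => w k'.succ l)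
      simp only [MultilinearMap.curryLeft_apply] at h3
      rw [h3, hlin]
    have habs := H7_abs α n F Θ (y 0) (w 0) hF (hw 0) n le_rfl
    -- inductive hypothesis for the tail with first slot w 0 n
    have hih := ih (fun k' => M k'.succ) (φ.curryLeft (w 0 n)) n (fun k' => y k'.succ)
      (fun k' => w k'.succ) (fun (k' : Fin r) j hj => hw k'.succ j hj)
    simp only [MultilinearMap.curryLeft_apply] at hih
    rw [← hih]
    have e1 : ∑ i' : Fin r, ∑ j ∈ Finset.range n, φ (Fin.cons (w 0 (j + 1)) (Z i' j)) =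
        ∑ j ∈ Finset.range n, Θ j (w 0 (j + 1)) := by
      rw [Finset.sum_comm]
      refine Finset.sum_congr rfl (fun j _ => ?_)
      simp only [Θ]
      rw [LinearMap.sum_apply]
      rfl
    have e2 : ∑ i' : Fin r, ∑ j ∈ Finset.range n, φ (Fin.cons (w 0 n) (Z i' j)) =
        ∑ j ∈ Finset.range n, Θ j (w 0 n) := by
      rw [Finset.sum_comm]
      refine Finset.sum_congr rfl (fun j _ => ?_)
      simp only [Θ]
      rw [LinearMap.sum_apply]
      rfl
    change ∑ j ∈ Finset.range n, F j (y 0 j) +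
        ∑ i' : Fin r, ∑ j ∈ Finset.range n, φ (Fin.cons (w 0 (j + 1)) (Z i' j)) =
      ∑ j ∈ Finset.range n, F 0 (y 0 j) +
        ∑ i' : Fin r, ∑ j ∈ Finset.range n, φ (Fin.cons (w 0 n) (Z i' j))
    rw [e1, e2]
    exact habs

end

theorem H7_S13682 {A : Type u} [CommRing A] (α : A) (hα : α ∈ nonZeroDivisors A)
    {r : ℕ} (M : Fin r → Type v) (N : Type w) [∀ i, AddCommGroup (M i)] [∀ i, Module A (M i)]
    [AddCommGroup N] [Module A N] (φ : MultilinearMap A M N) (n : ℕ)
    (y w : ∀ i, ℕ → M i) (hw : ∀ i, ∀ j < n, w i (j + 1) = w i j + α • y i j) :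
    (∑ i : Fin r, ∑ j ∈ Finset.range n,
        φ (fun k => if k < i then w k (j + 1) else if k = i then y k j else w k j)) =
      ∑ i : Fin r, ∑ j ∈ Finset.range n,
        φ (fun k => if k < i then w k n else if k = i then y k j else w k 0) := by
  exact H7_multi_main α r M φ n y w hw

end Groth.Agent.Lib.helper7
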