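import Mathlib

set_option autoImplicit false
universe u v

namespace Groth.Agent.Lib.helper7

theorem H7_S15116 (k : Type u) [Field k] [CharZero k]
    (A : Type v) [CommRing A] [Algebra k A] (𝒜 : ℤ → Submodule k A) [GradedAlgebra 𝒜]
    (hpos : ∀ i : ℤ, 0 < i → 𝒜 i = ⊥)
    (D : Derivation k A A) (l : ℤ) (hl : 0 < l)
    (hD : ∀ (i : ℤ) (a : A), a ∈ 𝒜 i → D a ∈ 𝒜 (i + l))
    (hfree : ∀ m : Ideal A, m.IsMaximal → (∀ i : ℤ, i < 0 → (𝒜 i : Set A) ⊆ m) → ∃ a : A, D a ∉ m) :
    ∃ f : A, D f = 1 := by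
  classical
  set S : Set A := (⋃ i : {i : ℤ // i < 0}, (𝒜 i : Set A)) ∪ Set.range D with hS
  have hJ : Ideal.span S = ⊤ := by
    by_contra hne
    obtain ⟨m, hm, hle⟩ := Ideal.exists_le_maximal _ hne
    obtain ⟨a, ha⟩ := hfree m hm (fun i hi x hx =>
      hle (Ideal.subset_span (Or.inl (Set.mem_iUnion.2 ⟨⟨i, hi⟩, hx⟩))))
    exact ha (hle (Ideal.subset_span (Or.inr ⟨a, rfl⟩)))
  let π₀ : A →ₗ[k] A := GradedAlgebra.proj 𝒜 0
  let P : A → Prop := fun x => ∃ f ∈ 𝒜 (-l), D f = π₀ x
  have P0 : P 0 := ⟨0, Submodule.zero_mem _, by simp⟩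
  have Padd : ∀ x y, P x → P y → P (x + y) := by
    rintro x y ⟨f, hf, hfx⟩ ⟨g, hg, hgy⟩
    exact ⟨f + g, Submodule.add_mem _ hf hg, by rw [map_add, map_add, hfx, hgy]⟩
  have hπ_same : ∀ x ∈ 𝒜 0, π₀ x = x := by
    intro x hx
    show GradedAlgebra.proj 𝒜 0 x = x
    rw [GradedAlgebra.proj_apply, DirectSum.decompose_of_mem_same 𝒜 hx]
  have hπ_ne : ∀ i : ℤ, i ≠ 0 → ∀ x ∈ 𝒜 i, π₀ x = 0 := by
    intro i hi x hx
    show GradedAlgebra.proj 𝒜 0 x = 0
    rw [GradedAlgebra.proj_apply, DirectSum.decompose_of_mem_ne 𝒜 hx hi]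
  have Pne : ∀ i : ℤ, i ≠ 0 → ∀ x ∈ 𝒜 i, P x := by
    intro i hi x hx
    exact ⟨0, Submodule.zero_mem _, by rw [map_zero, hπ_ne i hi x hx]⟩
  have zero_of_pos : ∀ i : ℤ, 0 < i → ∀ x ∈ 𝒜 i, x = 0 := by
    intro i hi x hx
    rw [hpos i hi] at hx
    exact (Submodule.mem_bot k).1 hx
  -- generator case 1
  have gen1 : ∀ i : ℤ, i < 0 → ∀ s ∈ 𝒜 i, ∀ a, P (a * s) := by
    intro i hi s hs a
    refine DirectSum.Decomposition.inductionOn 𝒜 (motive := fun a => P (a * s)) ?_ ?_ ?_ a
    · simpa using P0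
    · intro e a
      by_cases he : 0 < e
      · rw [zero_of_pos e he a a.2, zero_mul]; exact P0
      · have hmem : (a : A) * s ∈ 𝒜 (e + i) := SetLike.mul_mem_graded a.2 hs
        exact Pne (e + i) (by omega) _ hmem
    · intro a b ha hb
      show P ((a + b) * s)
      rw [add_mul]; exact Padd _ _ ha hb
  have gen2 : ∀ g a, P (a * D g) := by
    intro g
    refine DirectSum.Decomposition.inductionOn 𝒜 (motive := fun g => ∀ a, P (a * D g)) ?_ ?_ ?_ g
    · intro a; simpa using P0
    · intro i g a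
      refine DirectSum.Decomposition.inductionOn 𝒜 (motive := fun a => P (a * D (g : A))) ?_ ?_ ?_ a
      · simpa using P0
      · intro e a
        have hDg : D (g : A) ∈ 𝒜 (i + l) := hD i g g.2
        have hmem : (a : A) * D (g : A) ∈ 𝒜 (e + (i + l)) := SetLike.mul_mem_graded a.2 hDg
        by_cases h0 : e + (i + l) = 0
        · rcases lt_trichotomy e 0 with he | he | he
          · have : D (g : A) = 0 := zero_of_pos (i + l) (by omega) _ hDg
            rw [this, mul_zero]; exact P0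
          · subst he
            have hDa : D (a : A) = 0 := zero_of_pos (0 + l) (by omega) _ (hD 0 a a.2)
            have hil : i = -l := by omega
            subst hil
            refine ⟨(a : A) * g, ?_, ?_⟩
            · have := SetLike.mul_mem_graded a.2 g.2
              simpa using this
            · rw [hπ_same _ (by simpa using hmem), Derivation.leibniz, hDa, smul_zero, add_zero,
                smul_eq_mul]
          · rw [zero_of_pos e he a a.2, zero_mul]; exact P0
        · exact Pne _ h0 _ hmem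
      · intro a b ha hb
        show P ((a + b) * D (g : A))
        rw [add_mul]; exact Padd _ _ ha hb
    · intro g g' hg hg' a
      rw [map_add, mul_add]; exact Padd _ _ (hg a) (hg' a)
  have key : ∀ x ∈ Ideal.span S, ∀ a, P (a * x) := by
    intro x hx
    induction hx using Submodule.span_induction with
    | mem s hs =>
      intro a
      rcases hs with hs | ⟨g, rfl⟩
      · obtain ⟨⟨i, hi⟩, hsi⟩ := Set.mem_iUnion.1 hs
        exact gen1 i hi s hsi a
      · exact gen2 g a
    | zero => intro a; simpa using P0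
    | add x y _ _ hx hy => intro a; rw [mul_add]; exact Padd _ _ (hx a) (hy a)
    | smul r x _ hx => intro a; rw [smul_eq_mul, ← mul_assoc]; exact hx (a * r)
  have h1 : P (1 * 1) := key 1 (by rw [hJ]; trivial) 1
  obtain ⟨f, -, hf⟩ := h1
  refine ⟨f, ?_⟩
  rw [hf, mul_one]
  exact hπ_same 1 (SetLike.GradedOne.one_mem)

end Groth.Agent.Lib.helper7
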