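import Mathlib
import Groth.Prelude.Def_W4c1frobunstivaNR

set_option autoImplicit false
universe u

namespace Groth.Agent.Lib.helper7

open W4c1frobunstiva

theorem H7_nrker (R : Type u) [CommRing R] [IsNoetherianRing R] [IsLocalRing R] (r s l : ℕ)
    (vv : Fin l → (Fin s → R))
    (hvv : ∀ y : Fin l → R, Fintype.linearCombination R vv y = 0 → ∀ j, IsNilpotent (y j))
    (W : Submodule R (Fin s → R)) (hWdef : W = Submodule.span R (Set.range vv))
    (φ : (Fin r → R) →ₗ[R] ((Fin s → R) ⧸ W))
    (hφ : Function.Surjective φ) :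
    W4c1frobunstiva.IsNRFree R (LinearMap.ker φ) (r + l - s) ∧
      (l = 0 → Nonempty (Module.Basis (Fin (r - s)) R (LinearMap.ker φ))) := by
  classical
  obtain ⟨φt, hφt⟩ := Module.projective_lifting_property W.mkQ φ (Submodule.mkQ_surjective W)
  let γ : (Fin l → R) →ₗ[R] (Fin s → R) := Fintype.linearCombination R vv
  have hγrange : LinearMap.range γ = W := by
    rw [hWdef]; exact Fintype.range_linearCombination R vv
  let ψ : ((Fin r → R) × (Fin l → R)) →ₗ[R] (Fin s → R) := φt.coprod γ
  have hψ : ∀ x y, ψ (x, y) = φt x + γ y := fun x y => LinearMap.coprod_apply _ _ _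
  have hφt' : ∀ x, (Submodule.Quotient.mk (φt x) : (Fin s → R) ⧸ W) = φ x :=
    fun x => congrArg (fun h => h x) hφt
  have hψsurj : Function.Surjective ψ := by
    intro v
    obtain ⟨x, hx⟩ := hφ (Submodule.Quotient.mk v)
    have h1 : v - φt x ∈ W := by
      rw [← Submodule.Quotient.mk_eq_zero, Submodule.Quotient.mk_sub, hφt' x, hx, sub_self]
    rw [← hγrange] at h1
    obtain ⟨y, hy⟩ := h1
    exact ⟨(x, y), by rw [hψ, hy]; abel⟩
  obtain ⟨σ, hσ⟩ := Module.projective_lifting_property ψ LinearMap.id hψsurj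
  have hσ' : ∀ v, ψ (σ v) = v := fun v => congrArg (fun h => h v) hσ
  set K := LinearMap.ker ψ with hK
  let ρ : ((Fin r → R) × (Fin l → R)) →ₗ[R] K :=
    LinearMap.codRestrict K (LinearMap.id - σ ∘ₗ ψ) (by
      intro e
      rw [hK, LinearMap.mem_ker, LinearMap.sub_apply, map_sub, LinearMap.comp_apply, hσ']
      simp)
  have hρval : ∀ x, (ρ x).1 = x - σ (ψ x) := fun x => rfl
  have hρ : ∀ k : K, ρ k.1 = k := by
    intro k
    apply Subtype.ext
    rw [hρval, LinearMap.mem_ker.mp k.2, map_zero, sub_zero]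
  have hproj : Module.Projective R K :=
    Module.Projective.of_split K.subtype ρ (LinearMap.ext fun k => hρ k)
  have hfree : Module.Free R K := Module.free_of_flat_of_isLocalRing
  -- rank computation
  let e : ((Fin r → R) × (Fin l → R)) ≃ₗ[R] (K × (Fin s → R)) :=
    LinearEquiv.ofLinear (ρ.prod ψ) (K.subtype.coprod σ)
      (by
        apply LinearMap.ext
        rintro ⟨k, v⟩
        have h1 : ρ (σ v) = 0 := by
          apply Subtype.ext
          rw [hρval, hσ', sub_self]
          rfl
        have h2 : ψ k.1 = 0 := LinearMap.mem_ker.mp k.2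
        change (ρ (k.1 + σ v), ψ (k.1 + σ v)) = (k, v)
        rw [map_add, map_add, hρ, h1, h2, hσ', add_zero, zero_add])
      (by
        apply LinearMap.ext
        intro x
        change (ρ x).1 + σ (ψ x) = x
        rw [hρval]
        abel)
  have hrank : Module.finrank R K = r + l - s := by
    have h1 := LinearEquiv.finrank_eq e
    rw [Module.finrank_prod, Module.finrank_prod, Module.finrank_fin_fun, Module.finrank_fin_fun,
      Module.finrank_fin_fun] at h1
    omega
  let b : Module.Basis (Fin (r + l - s)) R K := Module.finBasisOfFinrankEq R K hrank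
  -- the generators
  have hmker : ∀ k : K, k.1.1 ∈ LinearMap.ker φ := by
    intro k
    rw [LinearMap.mem_ker, ← hφt']
    have h1 : ψ k.1 = 0 := LinearMap.mem_ker.mp k.2
    have h2 : φt k.1.1 = - γ k.1.2 := by
      have : ψ (k.1.1, k.1.2) = 0 := h1
      rw [hψ] at this
      exact eq_neg_of_add_eq_zero_left this
    rw [h2, Submodule.Quotient.mk_neg, (Submodule.Quotient.mk_eq_zero _).mpr, neg_zero]
    rw [← hγrange]
    exact ⟨_, rfl⟩
  let m : Fin (r + l - s) → LinearMap.ker φ := fun i => ⟨(b i).1.1, hmker (b i)⟩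
  -- spanning
  have hspan : Submodule.span R (Set.range m) = ⊤ := by
    rw [eq_top_iff]
    rintro ⟨x, hx⟩ -
    have h1 : φt x ∈ W := by
      rw [← Submodule.Quotient.mk_eq_zero, hφt' x]
      exact LinearMap.mem_ker.mp hx
    rw [← hγrange] at h1
    obtain ⟨y, hy⟩ := h1
    have hk : (x, -y) ∈ K := by
      rw [hK, LinearMap.mem_ker, hψ, map_neg, hy]
      abel
    have hsum := b.sum_repr ⟨(x, -y), hk⟩
    have hxs : x = ∑ i, b.repr ⟨(x, -y), hk⟩ i • (b i).1.1 := by
      have h2 := congrArg (fun k : K => k.1.1) hsum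
      simp only [Submodule.coe_sum, Submodule.coe_smul, Prod.fst_sum, Prod.smul_fst] at h2
      exact h2.symm
    have hx' : (⟨x, hx⟩ : LinearMap.ker φ) = ∑ i, b.repr ⟨(x, -y), hk⟩ i • m i := by
      apply Subtype.ext
      simp only [Submodule.coe_sum, Submodule.coe_smul]
      exact hxs
    rw [hx']
    exact Submodule.sum_mem _ fun i _ => Submodule.smul_mem _ _ (Submodule.subset_span ⟨i, rfl⟩)
  -- relations
  have hrel : ∀ a : Fin (r + l - s) → R, (∑ i, a i • m i) = 0 →
      ∃ y : Fin l → R, (∀ j, IsNilpotent (y j)) ∧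
        ∀ i, a i = ∑ j, y j * (b.coord i (ρ (LinearMap.inr R (Fin r → R) (Fin l → R) (Pi.single j 1)))) := by
    intro a ha
    set z : K := ∑ i, a i • b i with hz
    have hz1 : z.1.1 = 0 := by
      have h2 := congrArg (fun k : LinearMap.ker φ => k.1) ha
      simp only [Submodule.coe_sum, Submodule.coe_smul, ZeroMemClass.coe_zero] at h2
      rw [hz]
      simp only [Submodule.coe_sum, Submodule.coe_smul, Prod.fst_sum, Prod.smul_fst]
      exact h2
    set y : Fin l → R := z.1.2 with hy
    have hzy : z.1 = LinearMap.inr R (Fin r → R) (Fin l → R) y := by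
      apply Prod.ext
      · exact hz1
      · rfl
    have hγy : γ y = 0 := by
      have h1 : ψ z.1 = 0 := LinearMap.mem_ker.mp z.2
      rw [hzy] at h1
      change ψ (0, y) = 0 at h1
      rw [hψ, map_zero, zero_add] at h1
      exact h1
    refine ⟨y, hvv y hγy, ?_⟩
    intro i
    have h1 : a i = b.coord i z := by
      rw [hz, map_sum]
      simp only [map_smul, Module.Basis.coord_apply, Module.Basis.repr_self, smul_eq_mul]
      rw [Finset.sum_eq_single i]
      · simp
      · intro i' _ hi'
        simp [Finsupp.single_apply, hi']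
      · intro h; exact absurd (Finset.mem_univ i) h
    rw [h1, ← hρ z, hzy]
    have h2 := LinearMap.pi_apply_eq_sum_univ
      ((b.coord i) ∘ₗ ρ ∘ₗ (LinearMap.inr R (Fin r → R) (Fin l → R))) y
    simp only [LinearMap.comp_apply, smul_eq_mul] at h2
    rw [h2]
    refine Finset.sum_congr rfl fun j _ => ?_
    congr 4
    funext j'
    simp [Pi.single_apply, eq_comm]
  refine ⟨⟨m, hspan, ?_⟩, ?_⟩
  · intro a ha i
    obtain ⟨y, hy, hai⟩ := hrel a ha
    rw [hai i, ← mem_nilradical]
    exact Ideal.sum_mem _ fun j _ => Ideal.mul_mem_right _ _ (mem_nilradical.mpr (hy j))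
  · intro hl
    have hli : LinearIndependent R m := by
      rw [Fintype.linearIndependent_iff]
      intro a ha i
      obtain ⟨y, -, hai⟩ := hrel a ha
      rw [hai i]
      have : IsEmpty (Fin l) := by rw [hl]; exact Fin.isEmpty
      simp
    have hrs : r + l - s = r - s := by omega
    exact ⟨(Module.Basis.mk hli hspan.ge).reindex (finCongr hrs)⟩


theorem H7_S14034 (R : Type u) [CommRing R] [IsNoetherianRing R] [IsLocalRing R] (f : R)
    (hann : ∀ a : R, a * f = 0 → IsNilpotent a) (r s l : ℕ) (hls : l ≤ s)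
    (φ : (Fin r → R) →ₗ[R]
      ((Fin s → R) ⧸ Submodule.span R (Set.range fun i : Fin l => (Pi.single (Fin.castLE hls i) f : Fin s → R))))
    (hφ : Function.Surjective φ) :
    W4c1frobunstiva.IsNRFree R (LinearMap.ker φ) (r + l - s) ∧
      (l = 0 → Nonempty (Module.Basis (Fin (r - s)) R (LinearMap.ker φ))) := by
  classical
  refine H7_nrker R r s l (fun i : Fin l => (Pi.single (Fin.castLE hls i) f : Fin s → R)) ?_ _ rfl φ hφ
  intro y hy j
  apply hann
  have h1 := congrFun hy (Fin.castLE hls j)
  rw [Fintype.linearCombination_apply, Finset.sum_apply] at h1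
  rw [Finset.sum_eq_single j] at h1
  · simpa using h1
  · intro j' _ hj'
    have hne : Fin.castLE hls j ≠ Fin.castLE hls j' := by
      intro h
      exact hj' ((Fin.castLE_injective hls) h).symm
    simp [Pi.single_eq_of_ne hne]
  · intro h; exact absurd (Finset.mem_univ j) h

end Groth.Agent.Lib.helper7
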