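import Mathlib
universe u v w
namespace Groth.Agent.Lib.helper7

theorem H7_det_blockDiagonal' {α : Type*} [Fintype α] [DecidableEq α] {m' : α → Type*}
    [∀ i, Fintype (m' i)] [∀ i, DecidableEq (m' i)] {R : Type*} [CommRing R]
    (d : ∀ i, Matrix (m' i) (m' i) R) :
    (Matrix.blockDiagonal' d).det = ∏ i, (d i).det := by
  classical
  obtain ⟨e⟩ := (Fintype.truncEquivFin α).nonempty
  let _ : LinearOrder α := LinearOrder.lift' e e.injective
  rw [(Matrix.blockTriangular_blockDiagonal' d).det_fintype]
  refine Finset.prod_congr rfl (fun k _ => ?_)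
  rw [← Matrix.det_reindex_self (Equiv.sigmaSubtype k)]
  congr 1
  ext i j
  simp only [Matrix.reindex_apply, Matrix.submatrix_apply, Matrix.toSquareBlock_def, Matrix.of_apply]
  exact Matrix.blockDiagonal'_apply_eq d k i j

theorem H7_det_pi_dep {A : Type u} [CommRing A]
    {X : Type v} [Fintype X] [DecidableEq X]
    (E : X → Type w) [∀ x, AddCommGroup (E x)] [∀ x, Module A (E x)]
    [∀ x, Module.Free A (E x)] [∀ x, Module.Finite A (E x)]
    (f : ∀ x, E x →ₗ[A] E x) :
    LinearMap.det (LinearMap.pi (fun x => (f x).comp (LinearMap.proj x))) =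
      ∏ x, LinearMap.det (f x) := by
  classical
  let b : ∀ x, Module.Basis (Module.Free.ChooseBasisIndex A (E x)) A (E x) :=
    fun x => Module.Free.chooseBasis A (E x)
  rw [← LinearMap.det_toMatrix (Pi.basis b)]
  have : LinearMap.toMatrix (Pi.basis b) (Pi.basis b)
      (LinearMap.pi (fun x => (f x).comp (LinearMap.proj x))) =
      Matrix.blockDiagonal' (fun x => LinearMap.toMatrix (b x) (b x) (f x)) := by
    ext ⟨x, i⟩ ⟨y, j⟩
    rw [Matrix.blockDiagonal'_apply']
    simp only [LinearMap.toMatrix_apply, Pi.basis_apply, Pi.basis_repr, LinearMap.pi_apply,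
      LinearMap.comp_apply, LinearMap.proj_apply]
    split_ifs with h
    · subst h
      simp
    · rw [Pi.single_eq_of_ne h, map_zero, map_zero, Finsupp.zero_apply]
  rw [this, H7_det_blockDiagonal']
  refine Finset.prod_congr rfl (fun x _ => ?_)
  rw [LinearMap.det_toMatrix]


theorem H7_norm_local (k A : Type u) [Field k] [IsAlgClosed k] [CommRing A] [Algebra k A]
    [IsLocalRing A] [Module.Finite k A] (x : A) :
    algebraMap k (IsLocalRing.ResidueField A) (Algebra.norm k x) =
      IsLocalRing.residue A x ^ Module.finrank k A := by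
  have hfin : Module.Finite k (IsLocalRing.ResidueField A) :=
    Module.Finite.of_surjective (IsScalarTower.toAlgHom k A (IsLocalRing.ResidueField A)).toLinearMap
      (IsLocalRing.residue_surjective)
  have hsurj : Function.Surjective (algebraMap k (IsLocalRing.ResidueField A)) :=
    IsAlgClosed.algebraMap_bijective_of_isIntegral.2
  obtain ⟨c, hc⟩ := hsurj (IsLocalRing.residue A x)
  have hres : IsLocalRing.residue A (algebraMap k A c) = algebraMap k (IsLocalRing.ResidueField A) c := by
    rw [IsScalarTower.algebraMap_apply k A (IsLocalRing.ResidueField A)]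
    rfl
  set n : A := x - algebraMap k A c with hn
  have hnm : n ∈ IsLocalRing.maximalIdeal A := by
    rw [← IsLocalRing.residue_eq_zero_iff, hn, map_sub, hres, hc, sub_self]
  have _ : IsArtinianRing A := IsArtinianRing.of_finite k A
  have hnil : IsNilpotent n := by
    obtain ⟨m, hm⟩ := IsArtinianRing.isNilpotent_jacobson_bot (R := A)
    rw [IsLocalRing.jacobson_eq_maximalIdeal ⊥ bot_ne_top] at hm
    refine ⟨m, ?_⟩
    have := Ideal.pow_mem_pow hnm m
    rw [hm] at this
    exact this
  have hnil2 : IsNilpotent (-(Algebra.lmul k A n)) := (hnil.map (Algebra.lmul k A)).neg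
  have hcp := hnil2.charpoly_eq_X_pow_finrank
  have hev := LinearMap.eval_charpoly (-(Algebra.lmul k A n)) c
  rw [hcp, Polynomial.eval_pow, Polynomial.eval_X] at hev
  have hu : Algebra.lmul k A x = algebraMap k (Module.End k A) c - -(Algebra.lmul k A n) := by
    rw [sub_neg_eq_add, hn, map_sub, AlgHom.commutes]; abel
  rw [Algebra.norm_apply, hu, ← hev, map_pow, hc]

theorem H7_norm_pi {k : Type u} [Field k] {X : Type v} [Fintype X] [DecidableEq X]
    (B : X → Type w) [∀ x, CommRing (B x)] [∀ x, Algebra k (B x)] [∀ x, Module.Finite k (B x)]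
    (b : ∀ x, B x) :
    Algebra.norm k b = ∏ x, Algebra.norm k (b x) := by
  rw [Algebra.norm_apply]
  have : Algebra.lmul k (∀ x, B x) b =
      LinearMap.pi (fun x => (Algebra.lmul k (B x) (b x)).comp (LinearMap.proj x)) := by
    ext c x
    simp
  rw [this, H7_det_pi_dep]
  refine Finset.prod_congr rfl (fun x _ => ?_)
  rw [Algebra.norm_apply]

theorem H7_S13117
    (k A : Type u) [Field k] [IsAlgClosed k] [CommRing A] [Algebra k A] [Module.Finite k A] (f : A) :
    Algebra.norm k f =
      ∏ᶠ φ : A →ₐ[k] k, φ f ^ Module.finrank k (Localization.AtPrime (Ideal.comap φ ⊥)) := by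
  classical
  have _ : IsArtinianRing A := IsArtinianRing.of_finite k A
  have _ : Fintype (PrimeSpectrum A) := Fintype.ofFinite _
  have hfinp : ∀ p : PrimeSpectrum A, Module.Finite k (Localization.AtPrime p.asIdeal) := fun p =>
    Module.Finite.of_surjective (Algebra.algHom k A (Localization.AtPrime p.asIdeal)).toLinearMap
      (IsArtinianRing.localization_surjective p.asIdeal.primeCompl
        (Localization.AtPrime p.asIdeal))
  let E : A ≃ₐ[k] PrimeSpectrum.PiLocalization A :=
    (PrimeSpectrum.toPiLocalizationEquiv A).restrictScalars k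
  have h1 : Algebra.norm k f = Algebra.norm k (E f) := (Algebra.norm_eq_of_algEquiv E f).symm
  rw [h1, H7_norm_pi (fun p : PrimeSpectrum A => Localization.AtPrime p.asIdeal)]
  let e : (A →ₐ[k] k) → PrimeSpectrum A := fun φ => ⟨Ideal.comap φ ⊥, inferInstance⟩
  have hmem : ∀ (φ : A →ₐ[k] k) (a : A), a - algebraMap k A (φ a) ∈ Ideal.comap φ ⊥ := by
    intro φ a
    rw [Ideal.mem_comap, Ideal.mem_bot, map_sub, AlgHom.commutes]
    simp
  have he : Function.Bijective e := by
    constructor
    · intro φ ψ h
      have h' : Ideal.comap φ (⊥ : Ideal k) = Ideal.comap ψ ⊥ := congrArg PrimeSpectrum.asIdeal h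
      apply AlgHom.ext
      intro a
      have := hmem φ a
      rw [h', Ideal.mem_comap, Ideal.mem_bot, map_sub, AlgHom.commutes] at this
      have h2 : ψ a = φ a := by simpa [sub_eq_zero] using this
      exact h2.symm
    · intro p
      have hpmax : p.asIdeal.IsMaximal := IsArtinianRing.isMaximal_of_isPrime p.asIdeal
      let _ : Field (A ⧸ p.asIdeal) := Ideal.Quotient.field p.asIdeal
      have hfinq : Module.Finite k (A ⧸ p.asIdeal) :=
        Module.Finite.of_surjective (Ideal.Quotient.mkₐ k p.asIdeal).toLinearMap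
          (Ideal.Quotient.mkₐ_surjective k p.asIdeal)
      have hbij : Function.Bijective (algebraMap k (A ⧸ p.asIdeal)) :=
        IsAlgClosed.algebraMap_bijective_of_isIntegral
      let g : k ≃ₐ[k] (A ⧸ p.asIdeal) := AlgEquiv.ofBijective (Algebra.ofId k (A ⧸ p.asIdeal)) hbij
      refine ⟨(g.symm : (A ⧸ p.asIdeal) →ₐ[k] k).comp (Ideal.Quotient.mkₐ k p.asIdeal), ?_⟩
      apply PrimeSpectrum.ext
      ext a
      show a ∈ Ideal.comap _ ⊥ ↔ a ∈ p.asIdeal
      rw [Ideal.mem_comap, Ideal.mem_bot]
      show (g.symm (Ideal.Quotient.mk p.asIdeal a)) = 0 ↔ a ∈ p.asIdeal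
      rw [map_eq_zero_iff g.symm g.symm.injective]
      exact Ideal.Quotient.eq_zero_iff_mem (I := p.asIdeal)
  rw [← finprod_eq_prod_of_fintype]
  symm
  apply finprod_eq_of_bijective e he
  intro φ
  set B := Localization.AtPrime (Ideal.comap φ (⊥ : Ideal k)) with hB
  have _ : Module.Finite k B := hfinp (e φ)
  have hloc := H7_norm_local k B (algebraMap A B f)
  have hres : IsLocalRing.residue B (algebraMap A B f) =
      algebraMap k (IsLocalRing.ResidueField B) (φ f) := by
    have h2 : algebraMap A B (f - algebraMap k A (φ f)) ∈ IsLocalRing.maximalIdeal B :=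
      (IsLocalization.AtPrime.to_map_mem_maximal_iff B (Ideal.comap φ (⊥ : Ideal k)) _).2 (hmem φ f)
    rw [← IsLocalRing.residue_eq_zero_iff, map_sub, map_sub, sub_eq_zero] at h2
    rw [h2, IsScalarTower.algebraMap_apply k B (IsLocalRing.ResidueField B),
      IsScalarTower.algebraMap_apply k A B]
    rfl
  rw [hres, ← map_pow] at hloc
  exact ((algebraMap k (IsLocalRing.ResidueField B)).injective hloc).symm

end Groth.Agent.Lib.helper7
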