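import Mathlib

set_option autoImplicit false
universe u

namespace Groth.Agent.Lib.helper7

theorem H7_S15770 (B : Type u) [CommRing B] [TopologicalSpace B]
    [IsTopologicalRing B] (hB : IsOpen {b : B | IsUnit b})
    (M M' : Type u) [AddCommGroup M] [Module B M] [Module.Finite B M] [Module.Projective B M]
    [AddCommGroup M'] [Module B M'] [Module.Finite B M'] [Module.Projective B M']
    [TopologicalSpace (M →ₗ[B] M')] [IsModuleTopology B (M →ₗ[B] M')] :
    IsOpen {f : M →ₗ[B] M' | Function.Surjective f} := by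
  classical
  rw [isOpen_iff_forall_mem_open]
  intro f₀ hf₀
  obtain ⟨g₀, hg₀⟩ := Module.projective_lifting_property f₀ LinearMap.id hf₀
  obtain ⟨n, p, i, hp, hi, hpi⟩ := Module.Finite.exists_comp_eq_id_of_projective B M'
  let E : (M →ₗ[B] M') → ((Fin n → B) →ₗ[B] (Fin n → B)) :=
    fun f => i ∘ₗ f ∘ₗ g₀ ∘ₗ p + (LinearMap.id - i ∘ₗ p)
  let φ : (M →ₗ[B] M') → B := fun f => (LinearMap.toMatrix' (E f)).det
  have hφc : Continuous φ := by
    apply Continuous.matrix_det
    refine continuous_matrix (fun j k => ?_)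
    let L : (M →ₗ[B] M') →ₗ[B] B :=
      (LinearMap.proj j ∘ₗ i) ∘ₗ (LinearMap.applyₗ (g₀ (p (Pi.single k 1))))
    have hL : Continuous L := IsModuleTopology.continuous_of_linearMap L
    have heq : (fun f => LinearMap.toMatrix' (E f) j k) =
        fun f => L f + ((LinearMap.id - i ∘ₗ p : (Fin n → B) →ₗ[B] (Fin n → B)) (Pi.single k 1)) j := by
      funext f
      rw [LinearMap.toMatrix'_apply]
      rfl
    rw [heq]
    exact hL.add continuous_const
  refine ⟨φ ⁻¹' {b | IsUnit b}, ?_, hB.preimage hφc, ?_⟩
  · intro f hf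
    have hdet : IsUnit (LinearMap.det (E f)) := by
      rw [← LinearMap.det_toMatrix']
      exact hf
    have hunit : IsUnit (E f) := (LinearMap.isUnit_iff_isUnit_det (E f)).mpr hdet
    have hsurj : Function.Surjective (E f) := ((Module.End.isUnit_iff _).mp hunit).2
    intro m'
    obtain ⟨v, hv⟩ := hsurj (i m')
    refine ⟨g₀ (p v), ?_⟩
    have hpi' : ∀ x, p (i x) = x := fun x => by
      have := congrArg (fun h => h x) hpi
      simpa using this
    have h1 := congrArg p hv
    rw [hpi'] at h1
    rw [← h1]
    change f (g₀ (p v)) = p (i (f (g₀ (p v))) + (v - i (p v)))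
    rw [map_add, map_sub, hpi', hpi', sub_self, add_zero]
  · change IsUnit (LinearMap.toMatrix' (E f₀)).det
    have hE : E f₀ = LinearMap.id := by
      apply LinearMap.ext
      intro v
      change i (f₀ (g₀ (p v))) + (v - i (p v)) = v
      have : f₀ (g₀ (p v)) = p v := by
        have := congrArg (fun h => h (p v)) hg₀
        simpa using this
      rw [this]
      abel
    rw [hE, LinearMap.toMatrix'_id, Matrix.det_one]
    exact isUnit_one

end Groth.Agent.Lib.helper7
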