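import Mathlib

set_option autoImplicit false
universe u y

namespace Groth.Agent.Lib.helper7

theorem H7_option_decomp {R : Type u} [CommRing R] {σ : Type y} (F : MvPolynomial (Option σ) R) :
    ∃ (F₀ : MvPolynomial σ R) (F₁ : MvPolynomial (Option σ) R),
      F = MvPolynomial.rename (Option.some : σ → Option σ) F₀ + MvPolynomial.X none * F₁ := by
  induction F using MvPolynomial.induction_on with
  | C r => exact ⟨MvPolynomial.C r, 0, by simp⟩
  | add f g hf hg =>
    obtain ⟨f0, f1, hf⟩ := hf
    obtain ⟨g0, g1, hg⟩ := hg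
    exact ⟨f0 + g0, f1 + g1, by rw [hf, hg, map_add]; ring⟩
  | mul_X f o hf =>
    obtain ⟨f0, f1, hf⟩ := hf
    cases o with
    | none => exact ⟨0, f, by rw [map_zero, zero_add, mul_comm]⟩
    | some s =>
      refine ⟨f0 * MvPolynomial.X s, f1 * MvPolynomial.X (some s), ?_⟩
      rw [hf, map_mul, MvPolynomial.rename_X]
      ring

end Groth.Agent.Lib.helper7
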