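import Mathlib

set_option autoImplicit false
universe u

namespace Groth.Agent.Lib.helper7

theorem H7_pradical_integral (p : ℕ) [Fact p.Prime] {A A' : Type u} [CommRing A] [CommRing A']
    (i : A →+* A') [IsPRadical i p] : i.IsIntegral := by
  intro x
  obtain ⟨n, y, hy⟩ := IsPRadical.pow_mem i p x
  letI := i.toAlgebra
  have h1 : IsIntegral A (x ^ p ^ n) := by
    rw [← hy]
    exact isIntegral_algebraMap (R := A) (A := A') (x := y)
  exact IsIntegral.of_pow (pow_pos (Fact.out : p.Prime).pos n) h1

end Groth.Agent.Lib.helper7
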