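import Mathlib

set_option autoImplicit false
universe u v

open TensorProduct

namespace Groth.Agent.Lib.helper7

theorem H7_bijective_of_pi_ff {Γ : Type*} [CommRing Γ] {ι : Type*} [Fintype ι] (O : ι → Type*)
    [∀ i, AddCommGroup (O i)] [∀ i, Module Γ (O i)] (P : Type*) [AddCommGroup P] [Module Γ P]
    [Module.FaithfullyFlat Γ P] (pr : ∀ i, P →ₗ[Γ] O i) (sg : ∀ i, O i →ₗ[Γ] P)
    (hid : ∑ i, (sg i).comp (pr i) = LinearMap.id)
    {N1 N2 : Type v} [AddCommGroup N1] [AddCommGroup N2]
    [Module Γ N1] [Module Γ N2] (φ : N1 →ₗ[Γ] N2)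
    (h : ∀ i, Function.Bijective (LinearMap.lTensor (O i) φ)) : Function.Bijective φ := by
  have hdec : ∀ (N : Type v) [AddCommGroup N] [Module Γ N] (t : P ⊗[Γ] N),
      t = ∑ i, LinearMap.rTensor N (sg i) (LinearMap.rTensor N (pr i) t) := by
    intro N _ _ t
    have h1 : LinearMap.rTensor N (∑ i, (sg i).comp (pr i)) t = t := by
      rw [hid, LinearMap.rTensor_id, LinearMap.id_apply]
    conv_lhs => rw [← h1]
    have h2 : LinearMap.rTensor N (∑ i, (sg i).comp (pr i)) =
        ∑ i, LinearMap.rTensor N ((sg i).comp (pr i)) := map_sum (LinearMap.rTensorHom N) _ _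
    rw [h2, LinearMap.sum_apply]
    refine Finset.sum_congr rfl fun i _ => ?_
    rw [LinearMap.rTensor_comp, LinearMap.comp_apply]
  rw [← Module.FaithfullyFlat.lTensor_bijective_iff_bijective Γ P]
  have hcomm1 : ∀ i t, LinearMap.rTensor N2 (pr i) (LinearMap.lTensor P φ t) =
      LinearMap.lTensor (O i) φ (LinearMap.rTensor N1 (pr i) t) := by
    intro i t
    rw [← LinearMap.comp_apply, ← LinearMap.comp_apply, LinearMap.rTensor_comp_lTensor,
      LinearMap.lTensor_comp_rTensor]
  have hcomm2 : ∀ i t, LinearMap.rTensor N2 (sg i) (LinearMap.lTensor (O i) φ t) =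
      LinearMap.lTensor P φ (LinearMap.rTensor N1 (sg i) t) := by
    intro i t
    rw [← LinearMap.comp_apply, ← LinearMap.comp_apply, LinearMap.rTensor_comp_lTensor,
      LinearMap.lTensor_comp_rTensor]
  constructor
  · rw [← LinearMap.ker_eq_bot, LinearMap.ker_eq_bot']
    intro t ht
    rw [hdec N1 t]
    refine Finset.sum_eq_zero fun i _ => ?_
    have h2 : LinearMap.lTensor (O i) φ (LinearMap.rTensor N1 (pr i) t) = 0 := by
      rw [← hcomm1, ht, map_zero]
    have h3 : LinearMap.rTensor N1 (pr i) t = 0 := by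
      apply (h i).1
      rw [h2, map_zero]
    rw [h3, map_zero]
  · intro t'
    choose v hv using fun i => (h i).2 (LinearMap.rTensor N2 (pr i) t')
    refine ⟨∑ i, LinearMap.rTensor N1 (sg i) (v i), ?_⟩
    rw [map_sum]
    conv_rhs => rw [hdec N2 t']
    refine Finset.sum_congr rfl fun i _ => ?_
    rw [← hcomm2, hv]

end Groth.Agent.Lib.helper7
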