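import Mathlib

open Polynomial

namespace Groth.Agent.Lib.helper7

theorem H7_powersum_bdd {n : ℕ} (β : Fin n → ℂ) (C : ℝ)
    (hC : ∀ r : ℕ, 1 ≤ r → ‖∑ i, β i ^ r‖ ≤ C) (i : Fin n) : ‖β i‖ ≤ 1 := by
  classical
  by_contra hgt
  push Not at hgt
  set g := β i with hg
  let S : Finset ℂ := (Finset.univ.image β).erase g
  let P : ℂ[X] := ∏ c ∈ S, (X - Polynomial.C c)
  have hPg : P.eval g ≠ 0 := by
    simp only [P, Polynomial.eval_prod, eval_sub, eval_X, eval_C]
    rw [Finset.prod_ne_zero_iff]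
    intro c hc
    have : c ≠ g := (Finset.mem_erase.1 hc).1
    exact sub_ne_zero.2 (Ne.symm this)
  have hPj : ∀ j, β j ≠ g → P.eval (β j) = 0 := by
    intro j hj
    simp only [P, Polynomial.eval_prod, eval_sub, eval_X, eval_C]
    apply Finset.prod_eq_zero (i := β j)
    · exact Finset.mem_erase.2 ⟨hj, Finset.mem_image_of_mem _ (Finset.mem_univ _)⟩
    · simp
  let m : ℕ := (Finset.univ.filter (fun j => β j = g)).card
  have hm : 1 ≤ m := by
    apply Finset.card_pos.2
    exact ⟨i, by simp [hg]⟩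
  have key : ∀ N : ℕ, ∑ l ∈ Finset.range (P.natDegree + 1), P.coeff l * (∑ j, β j ^ (N + l)) =
      (m : ℂ) * (g ^ N * P.eval g) := by
    intro N
    have h1 : ∀ l ∈ Finset.range (P.natDegree + 1), P.coeff l * (∑ j, β j ^ (N + l)) =
        ∑ j, β j ^ N * (P.coeff l * β j ^ l) := by
      intro l _
      rw [Finset.mul_sum]
      apply Finset.sum_congr rfl
      intro j _
      rw [pow_add]; ring
    rw [Finset.sum_congr rfl h1, Finset.sum_comm]
    have h2 : ∀ j ∈ (Finset.univ : Finset (Fin n)),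
        ∑ l ∈ Finset.range (P.natDegree + 1), β j ^ N * (P.coeff l * β j ^ l) =
          if β j = g then g ^ N * P.eval g else 0 := by
      intro j _
      rw [← Finset.mul_sum, ← Polynomial.eval_eq_sum_range]
      split_ifs with h
      · rw [h]
      · rw [hPj j h, mul_zero]
    rw [Finset.sum_congr rfl h2, Finset.sum_ite, Finset.sum_const_zero, add_zero, Finset.sum_const,
      nsmul_eq_mul]
  set K : ℝ := ∑ l ∈ Finset.range (P.natDegree + 1), ‖P.coeff l‖ * C with hK
  have hbound : ∀ N : ℕ, 1 ≤ N → (m : ℝ) * (‖g‖ ^ N * ‖P.eval g‖) ≤ K := by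
    intro N hN
    have := congrArg norm (key N)
    rw [norm_mul, norm_mul, norm_pow, Complex.norm_natCast] at this
    rw [← this]
    refine (norm_sum_le _ _).trans ?_
    apply Finset.sum_le_sum
    intro l _
    rw [norm_mul]
    exact mul_le_mul_of_nonneg_left (hC (N + l) (by omega)) (norm_nonneg _)
  have hpos : 0 < (m : ℝ) * ‖P.eval g‖ := by
    apply mul_pos
    · exact_mod_cast hm
    · exact norm_pos_iff.2 hPg
  obtain ⟨N, hN⟩ := pow_unbounded_of_one_lt (K / ((m : ℝ) * ‖P.eval g‖)) hgt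
  have h3 := hbound (N + 1) (by omega)
  have h4 : ‖g‖ ^ N ≤ ‖g‖ ^ (N + 1) := pow_le_pow_right₀ hgt.le (by omega)
  have h5 : K / ((m : ℝ) * ‖P.eval g‖) < ‖g‖ ^ (N + 1) := lt_of_lt_of_le hN h4
  rw [div_lt_iff₀ hpos] at h5
  nlinarith

end Groth.Agent.Lib.helper7
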