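import Mathlib
import Groth.Agent.Lib.helper7.GradedGen

universe u
open AlgebraicGeometry

namespace Groth.Agent.Lib.helper7

theorem H7_S13168 {R A : Type u} [CommRing R] [CommRing A] [Algebra R A] (𝒜 : ℕ → Submodule R A) [GradedAlgebra 𝒜]
    {s : ℕ} (f : Fin s → A) (deg : Fin s → ℕ) (hdeg : ∀ i, 0 < deg i) (hf : ∀ i, f i ∈ 𝒜 (deg i))
    (hgen : Algebra.adjoin R (Set.range f) = ⊤) (a : ℕ) (ha : 0 < a) :
    (⨆ g : 𝒜 (a * Finset.univ.lcm deg), Proj.basicOpen 𝒜 (g : A)) = ⊤ := by
  classical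
  set L := Finset.univ.lcm deg with hL
  have hLpos : 0 < L := by
    apply Nat.pos_of_ne_zero
    rw [hL, Ne, Finset.lcm_eq_zero_iff]
    rintro ⟨i, -, hi⟩
    exact (hdeg i).ne' hi
  have hdvd : ∀ i, deg i ∣ L := fun i => Finset.dvd_lcm (Finset.mem_univ i)
  rw [eq_top_iff]
  intro x _
  have hex : ∃ i, f i ∉ x.asHomogeneousIdeal := by
    by_contra hcon
    push Not at hcon
    apply x.not_irrelevant_le
    intro y hy
    have hy0 : (DirectSum.decompose 𝒜 y 0 : A) = 0 := by
      have := (HomogeneousIdeal.mem_irrelevant_iff 𝒜 y).1 hy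
      rwa [GradedRing.proj_apply] at this
    have hpos : ∀ n, 0 < n → ∀ r ∈ 𝒜 n, r ∈ x.asHomogeneousIdeal.toIdeal := by
      intro n hn r hr
      have h1 := H7_graded_span 𝒜 f deg hf hgen n r hr
      have h2 : Submodule.span R {x | ∃ e : Fin s → ℕ, ∑ i, e i * deg i = n ∧ x = ∏ i, f i ^ e i} ≤
          x.asHomogeneousIdeal.toIdeal.restrictScalars R := by
        rw [Submodule.span_le]
        rintro z ⟨e, he, rfl⟩
        have : ∃ i, 0 < e i := by
          by_contra hc
          push Not at hc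
          have : ∑ i, e i * deg i = 0 :=
            Finset.sum_eq_zero (fun i _ => by rw [Nat.le_zero.1 (hc i), zero_mul])
          omega
        obtain ⟨i, hi⟩ := this
        have hd : f i ∣ ∏ j, f j ^ e j :=
          (dvd_pow_self (f i) hi.ne').trans (Finset.dvd_prod_of_mem _ (Finset.mem_univ i))
        exact Ideal.mem_of_dvd _ hd (hcon i)
      exact h2 h1
    rw [← DirectSum.sum_support_decompose 𝒜 y]
    refine Ideal.sum_mem _ (fun n _ => ?_)
    rcases Nat.eq_zero_or_pos n with hn | hn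
    · rw [hn, hy0]; exact zero_mem _
    · exact hpos n hn _ (SetLike.coe_mem _)
  obtain ⟨i, hi⟩ := hex
  have hg : f i ^ (a * (L / deg i)) ∈ 𝒜 (a * L) := by
    have := SetLike.pow_mem_graded (a * (L / deg i)) (hf i)
    have e : (a * (L / deg i)) • deg i = a * L := by
      rw [smul_eq_mul, mul_assoc, Nat.div_mul_cancel (hdvd i)]
    rwa [e] at this
  rw [TopologicalSpace.Opens.mem_iSup]
  refine ⟨⟨_, hg⟩, ?_⟩
  rw [Proj.mem_basicOpen]
  intro hmem
  exact hi (x.isPrime.mem_of_pow_mem _ hmem)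

end Groth.Agent.Lib.helper7
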