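import Mathlib
import Groth.Prelude.Def_W4c2azumayainvolQEt

namespace Groth.Agent.Lib.helper7

universe u v

/-- Key decomposition lemma for a ring with involution whose fixed ring is `S`, given `r` with `r - lam r` a unit. -/
theorem H7_quad_decomp (S : Type u) (R : Type v) [CommRing S] [CommRing R]
    [Algebra S R] (lam : R ≃+* R) (hlam : Function.Involutive lam) (hS : RInv.IsFixedRing S R lam)
    (r : R) (hu : IsUnit (r - lam r)) :
    (∀ x : R, ∃ a b : S, x = algebraMap S R a + algebraMap S R b * r) ∧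
    (∀ a b : S, algebraMap S R a + algebraMap S R b * r = 0 → a = 0 ∧ b = 0) := by
  obtain ⟨u, hu'⟩ := hu
  have hlu : lam (u : R) = -u := by rw [hu']; simp [hlam r]
  have hluinv : lam ((u⁻¹ : Rˣ) : R) = -((u⁻¹ : Rˣ) : R) := by
    have h1 : lam ((u⁻¹ : Rˣ) : R) * lam (u : R) = 1 := by
      rw [← map_mul]; simp
    have h2 : lam ((u⁻¹ : Rˣ) : R) * u = -1 := by
      rw [hlu] at h1; linear_combination -h1
    have : lam ((u⁻¹ : Rˣ) : R) = lam ((u⁻¹ : Rˣ) : R) * u * ((u⁻¹ : Rˣ) : R) := by
      rw [mul_assoc]; simp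
    rw [this, h2]; ring
  constructor
  · intro x
    have hb : lam ((x - lam x) * ((u⁻¹ : Rˣ) : R)) = (x - lam x) * ((u⁻¹ : Rˣ) : R) := by
      rw [map_mul, map_sub, hlam x, hluinv]; ring
    obtain ⟨b, hb'⟩ := (hS.2 _).1 hb
    have ha : lam (x - algebraMap S R b * r) = x - algebraMap S R b * r := by
      have hfix : lam (algebraMap S R b) = algebraMap S R b := (hS.2 _).2 ⟨b, rfl⟩
      rw [map_sub, map_mul, hfix]
      have : algebraMap S R b * (r - lam r) = x - lam x := by
        rw [hb', ← hu', mul_assoc]; simp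
      linear_combination this
    obtain ⟨a, ha'⟩ := (hS.2 _).1 ha
    exact ⟨a, b, by rw [ha']; ring⟩
  · intro a b hab
    have hfa : lam (algebraMap S R a) = algebraMap S R a := (hS.2 _).2 ⟨a, rfl⟩
    have hfb : lam (algebraMap S R b) = algebraMap S R b := (hS.2 _).2 ⟨b, rfl⟩
    have h2 : algebraMap S R a + algebraMap S R b * lam r = 0 := by
      have := congrArg lam hab
      rwa [map_add, map_mul, hfa, hfb, map_zero] at this
    have h3 : algebraMap S R b * u = 0 := by
      rw [hu']; linear_combination hab - h2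
    have hb0 : algebraMap S R b = 0 := by
      have : algebraMap S R b = algebraMap S R b * u * ((u⁻¹ : Rˣ) : R) := by
        rw [mul_assoc]; simp
      rw [this, h3, zero_mul]
    have ha0 : algebraMap S R a = 0 := by
      rw [hb0] at hab; simpa using hab
    exact ⟨hS.1 (by rw [ha0, map_zero]), hS.1 (by rw [hb0, map_zero])⟩

end Groth.Agent.Lib.helper7
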