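import Mathlib
import Groth.Prelude.Def_W4c2azumayainvolQEt

namespace Groth.Agent.Lib.helper7

universe u v

/-- `R` is integral over the fixed ring of an involution. -/
theorem H7_fixed_integral (S : Type u) (R : Type v) [CommRing S] [CommRing R]
    [Algebra S R] (lam : R ≃+* R) (hlam : Function.Involutive lam) (hS : RInv.IsFixedRing S R lam) :
    Algebra.IsIntegral S R := by
  refine ⟨fun x => ?_⟩
  have hfix1 : lam (x + lam x) = x + lam x := by rw [map_add, hlam x]; ring
  have hfix2 : lam (x * lam x) = x * lam x := by rw [map_mul, hlam x]; ring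
  obtain ⟨s, hs⟩ := (hS.2 _).1 hfix1
  obtain ⟨n, hn⟩ := (hS.2 _).1 hfix2
  refine ⟨Polynomial.X ^ 2 - Polynomial.C s * Polynomial.X + Polynomial.C n, ?_, ?_⟩
  · have : (Polynomial.X ^ 2 - Polynomial.C s * Polynomial.X + Polynomial.C n : Polynomial S)
        = Polynomial.X ^ 2 - (Polynomial.C s * Polynomial.X - Polynomial.C n) := by ring
    rw [this]
    apply Polynomial.monic_X_pow_sub
    refine lt_of_le_of_lt (Polynomial.degree_sub_le _ _) ?_
    refine max_lt ?_ ?_
    · refine lt_of_le_of_lt (Polynomial.degree_C_mul_X_le _) (by norm_num)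
    · refine lt_of_le_of_lt (Polynomial.degree_C_le) (by norm_num)
  · simp only [Polynomial.eval₂_add, Polynomial.eval₂_sub, Polynomial.eval₂_pow, Polynomial.eval₂_X,
      Polynomial.eval₂_mul, Polynomial.eval₂_C, hs, hn]
    ring

/-- If `S` is local and the fixed ring of an involution, every maximal ideal of `R` contracts to the maximal ideal. -/
theorem H7_fixed_comap_max (S : Type u) (R : Type v) [CommRing S] [CommRing R]
    [Algebra S R] (lam : R ≃+* R) (hlam : Function.Involutive lam) (hS : RInv.IsFixedRing S R lam)
    [IsLocalRing S] (M : Ideal R) [M.IsMaximal] :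
    M.comap (algebraMap S R) = IsLocalRing.maximalIdeal S := by
  have := H7_fixed_integral S R lam hlam hS
  have : (M.comap (algebraMap S R)).IsMaximal := Ideal.isMaximal_comap_of_isIntegral_of_isMaximal M
  exact IsLocalRing.eq_maximalIdeal this

end Groth.Agent.Lib.helper7
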