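import Mathlib
import Groth.Prelude.Def_W4c2azumayainvolQEt

universe u v

namespace Groth.Agent.Lib.helper7

open TensorProduct in
/-- Over a local ring, a quadratic etale algebra has a basis `1, θ`. -/
theorem H7_quad_basis (S : Type u) (R : Type v) [CommRing S] [CommRing R]
    [Algebra S R] [IsLocalRing S] (hq : RInv.IsQuadEtale S R) :
    ∃ θ : R, (∀ x : R, ∃ a b : S, x = algebraMap S R a + algebraMap S R b * θ) ∧
    (∀ a b : S, algebraMap S R a + algebraMap S R b * θ = 0 → a = 0 ∧ b = 0) := by
  classical
  obtain ⟨hfin, hproj, hunr, hrk⟩ := hq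
  have hfree : Module.Free S R := Module.free_of_flat_of_isLocalRing
  have hrank : Module.finrank S R = 2 := by
    have := hrk (IsLocalRing.closedPoint S)
    rw [Module.rankAtStalk_eq_finrank_of_free] at this
    simpa using this
  let k := IsLocalRing.ResidueField S
  have hrk' : Module.finrank k (k ⊗[S] R) = 2 := by
    rw [Module.finrank_baseChange, hrank]
  have hnt : Nontrivial (k ⊗[S] R) := by
    apply Module.nontrivial_of_finrank_pos (R := k)
    rw [hrk']; norm_num
  have h1 : (1 : k) ⊗ₜ[S] (1 : R) ≠ 0 := by
    rw [← Algebra.TensorProduct.one_def]; exact one_ne_zero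
  obtain ⟨y, hy⟩ := exists_linearIndependent_pair_of_one_lt_finrank (R := k) (by rw [hrk']; norm_num) h1
  obtain ⟨θ, rfl⟩ := TensorProduct.mk_surjective S R k Ideal.Quotient.mk_surjective y
  rw [TensorProduct.mk_apply] at hy
  let v : Fin 2 → R := ![1, θ]
  have hv : (TensorProduct.mk S k R 1 ∘ v) = ![(1 : k) ⊗ₜ[S] (1 : R), (1 : k) ⊗ₜ[S] θ] := by
    funext i; fin_cases i <;> simp [v]
  have hli : LinearIndependent S v := by
    apply Module.IsLocalRing.linearIndependent_of_flat
    rw [hv]; exact hy
  have hsp : Submodule.span S (Set.range v) = ⊤ := by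
    have hsp' : ⊤ ≤ Submodule.span k (Set.range ![(1 : k) ⊗ₜ[S] (1 : R), (1 : k) ⊗ₜ[S] θ]) := by
      rw [hy.span_eq_top_of_card_eq_finrank' (by rw [hrk']; simp)]
    refine IsLocalRing.span_eq_top_of_tmul_eq_basis v (Module.Basis.mk hy hsp') ?_
    intro i
    rw [Module.Basis.mk_apply]
    fin_cases i <;> simp [v]
  refine ⟨θ, ?_, ?_⟩
  · intro x
    have hx : x ∈ Submodule.span S (Set.range v) := by rw [hsp]; trivial
    have : Set.range v = {1, θ} := by
      ext y
      simp only [Set.mem_range, Fin.exists_fin_two, Set.mem_insert_iff, Set.mem_singleton_iff]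
      simp [v, eq_comm]
    rw [this, Submodule.mem_span_pair] at hx
    obtain ⟨a, b, hab⟩ := hx
    exact ⟨a, b, by rw [← hab, Algebra.smul_def, Algebra.smul_def, mul_one]⟩
  · intro a b hab
    rw [LinearIndependent.pair_iff] at hli
    apply hli
    rw [← hab, Algebra.smul_def, Algebra.smul_def, mul_one]


/-- Over a local ring, a quadratic etale algebra with involution having fixed ring `S` has an
element `r` with `r - lam r` a unit. -/
theorem H7_quad_unit (S : Type u) (R : Type v) [CommRing S] [CommRing R] [Algebra S R]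
    (lam : R ≃+* R) (hlam : Function.Involutive lam) (hS : RInv.IsFixedRing S R lam)
    [IsLocalRing S] (hq : RInv.IsQuadEtale S R) : ∃ r : R, IsUnit (r - lam r) := by
  classical
  obtain ⟨θ, hsp, hli⟩ := H7_quad_basis S R hq
  have hunr : Algebra.FormallyUnramified S R := hq.2.2.1
  have hfixS : ∀ s : S, lam (algebraMap S R s) = algebraMap S R s := fun s => (hS.2 _).2 ⟨s, rfl⟩
  obtain ⟨a, b, hab⟩ := hsp (lam θ)
  have h1 : algebraMap S R (a * (1 + b)) + algebraMap S R (b * b - 1) * θ = 0 := by
    have := congrArg lam hab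
    rw [hlam θ, map_add, map_mul, hfixS, hfixS, hab] at this
    simp only [map_mul, map_add, map_sub, map_one]
    linear_combination -this
  obtain ⟨h1a, h1b⟩ := hli _ _ h1
  have hx : lam (algebraMap S R (1 + b) * θ) = algebraMap S R (1 + b) * θ := by
    rw [map_mul, hfixS, hab]
    simp only [map_mul, map_add, map_sub, map_one] at h1 ⊢
    linear_combination h1
  obtain ⟨s, hs⟩ := (hS.2 _).1 hx
  have h2 : algebraMap S R (-s) + algebraMap S R (1 + b) * θ = 0 := by rw [map_neg, hs]; ring
  obtain ⟨-, hb1⟩ := hli _ _ h2
  have hb : b = -1 := by linear_combination hb1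
  have hlθ : lam θ = algebraMap S R a - θ := by rw [hab, hb]; simp; ring
  have hfixn : lam (θ * lam θ) = θ * lam θ := by rw [map_mul, hlam θ]; ring
  obtain ⟨n, hn⟩ := (hS.2 _).1 hfixn
  have hrel : θ * θ = algebraMap S R a * θ - algebraMap S R n := by
    rw [hn, hlθ]; ring
  refine ⟨θ, ?_⟩
  by_contra hnu
  choose c0 c hc using hsp
  have huniq : ∀ (x : R) (p q : S), x = algebraMap S R p + algebraMap S R q * θ → c x = q := by
    intro x p q hx
    have h3 : algebraMap S R (c0 x - p) + algebraMap S R (c x - q) * θ = 0 := by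
      have := hc x
      simp only [map_sub]
      linear_combination hx - this
    exact sub_eq_zero.1 (hli _ _ h3).2
  let I : Ideal R := Ideal.span {θ - lam θ}
  have hI : I ≠ ⊤ := by
    intro h
    rw [Ideal.span_singleton_eq_top] at h
    exact hnu h
  let L : R →ₗ[S] (R ⧸ I) :=
    { toFun := fun x => Ideal.Quotient.mk I (algebraMap S R (c x))
      map_add' := by
        intro x y
        rw [← map_add, ← map_add]
        congr 2
        apply huniq _ (c0 x + c0 y)
        rw [map_add, map_add]
        linear_combination hc x + hc y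
      map_smul' := by
        intro t x
        have h4 : c (t • x) = t * c x := by
          apply huniq _ (t * c0 x)
          rw [map_mul, map_mul, Algebra.smul_def]
          linear_combination (algebraMap S R t) * hc x
        simp only [RingHom.id_apply]
        rw [h4, map_mul, map_mul, Algebra.smul_def]
        rfl }
  have hL : ∀ x, L x = Ideal.Quotient.mk I (algebraMap S R (c x)) := fun _ => rfl
  have hmul : ∀ x y, c (x * y) = c0 x * c y + c x * c0 y + c x * c y * a := by
    intro x y
    apply huniq _ (c0 x * c0 y - c x * c y * n)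
    simp only [map_mul, map_add, map_sub]
    linear_combination y * hc x
      + (algebraMap S R (c0 x) + algebraMap S R (c x) * θ) * hc y
      + algebraMap S R (c x) * algebraMap S R (c y) * hrel
  let D : Derivation S R (R ⧸ I) := Derivation.mk' L (by
    intro x y
    rw [hL, hL, hL, hmul]
    rw [Algebra.smul_def, Algebra.smul_def, Ideal.Quotient.algebraMap_eq, ← map_mul, ← map_mul,
      ← map_add, ← sub_eq_zero, ← map_sub, Ideal.Quotient.eq_zero_iff_mem]
    have : algebraMap S R (c0 x * c y + c x * c0 y + c x * c y * a) - (x * algebraMap S R (c y) + y * algebraMap S R (c x))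
        = (-(algebraMap S R (c x) * algebraMap S R (c y))) * (θ - lam θ) := by
      rw [hlθ]
      simp only [map_mul, map_add]
      linear_combination (-algebraMap S R (c y)) * hc x - algebraMap S R (c x) * hc y
    rw [this]
    exact I.mul_mem_left _ (Ideal.subset_span rfl))
  have hDθ : D θ = 1 := by
    show L θ = 1
    rw [hL, huniq θ 0 1 (by simp)]
    simp
  have hD0 : D θ = 0 := by
    rw [← Derivation.liftKaehlerDifferential_comp_D D θ]
    have : KaehlerDifferential.D S R θ = 0 := Subsingleton.elim _ _
    rw [this, map_zero]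
  have h10 : (1 : R ⧸ I) = 0 := by rw [← hDθ, hD0]
  have : (Ideal.Quotient.mk I) 1 = 0 := by rw [map_one]; exact h10
  rw [Ideal.Quotient.eq_zero_iff_mem] at this
  exact hI ((Ideal.eq_top_iff_one I).2 this)

end Groth.Agent.Lib.helper7
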