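import Mathlib
import Groth.Prelude.Def_W4c2azumayainvolQEt
import Groth.Agent.Lib.helper7.QuadEt2

universe u v

namespace Groth.Agent.Lib.helper7

/-- With `S` local and the fixed ring of an involution `lam`, any two maximal ideals of `R`
are conjugate. -/
theorem H7_max_two (S : Type u) (R : Type v) [CommRing S] [CommRing R]
    [Algebra S R] (lam : R ≃+* R) (hlam : Function.Involutive lam) (hS : RInv.IsFixedRing S R lam)
    [IsLocalRing S] (M N : Ideal R) [hM : M.IsMaximal] [hN : N.IsMaximal] :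
    N = M ∨ N = M.comap (lam : R →+* R) := by
  classical
  by_contra hcon
  push Not at hcon
  obtain ⟨h1, h2⟩ := hcon
  have hM' : (M.comap (lam : R →+* R)).IsMaximal :=
    Ideal.comap_isMaximal_of_surjective _ lam.surjective
  have hn1 : ¬ N ≤ M := fun hle => h1 (hN.eq_of_le hM.ne_top hle)
  have hn2 : ¬ N ≤ M.comap (lam : R →+* R) := fun hle => h2 (hN.eq_of_le hM'.ne_top hle)
  have hnu : ¬ ((N : Set R) ⊆ M ∪ M.comap (lam : R →+* R)) := by
    rw [Ideal.subset_union]; push Not; exact ⟨hn1, hn2⟩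
  obtain ⟨x, hxN, hx⟩ := Set.not_subset.1 hnu
  have hfix : lam (x * lam x) = x * lam x := by rw [map_mul, hlam x]; ring
  obtain ⟨s, hs⟩ := (hS.2 _).1 hfix
  have h3 : s ∈ N.comap (algebraMap S R) := by
    rw [Ideal.mem_comap, hs]; exact N.mul_mem_right _ hxN
  rw [H7_fixed_comap_max S R lam hlam hS N, ← H7_fixed_comap_max S R lam hlam hS M,
    Ideal.mem_comap, hs] at h3
  apply hx
  rcases hM.isPrime.mem_or_mem h3 with h4 | h4
  · exact Or.inl h4
  · exact Or.inr h4

end Groth.Agent.Lib.helper7
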