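import Mathlib
import Groth.Prelude.Def_W4c2azumayainvolQEt
import Groth.Agent.Lib.helper7.QuadEt2

universe u v w

namespace Groth.Agent.Lib.helper7

/-- Two primes of `R` over the same prime of the fixed ring are conjugate. -/
theorem H7_conj_over (S : Type u) (R : Type v) [CommRing S] [CommRing R]
    [Algebra S R] (lam : R ≃+* R) (hlam : Function.Involutive lam) (hS : RInv.IsFixedRing S R lam)
    (q q' : Ideal R) [hq : q.IsPrime] [hq' : q'.IsPrime]
    (h : q.comap (algebraMap S R) = q'.comap (algebraMap S R)) :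
    q' = q ∨ q' = q.comap (lam : R →+* R) := by
  classical
  have hint := H7_fixed_integral S R lam hlam hS
  by_contra hcon
  push Not at hcon
  obtain ⟨h1, h2⟩ := hcon
  have hq2 : (q.comap (lam : R →+* R)).IsPrime := Ideal.IsPrime.comap _
  have hc2 : (q.comap (lam : R →+* R)).comap (algebraMap S R) = q.comap (algebraMap S R) := by
    ext s
    simp only [Ideal.mem_comap, RingHom.coe_coe]
    rw [(hS.2 _).2 ⟨s, rfl⟩]
  have hn1 : ¬ q' ≤ q := by
    intro hle
    rcases lt_or_eq_of_le hle with hlt | heq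
    · have := Ideal.IsIntegral.comap_lt_comap (R := S) hlt
      rw [h] at this; exact lt_irrefl _ this
    · exact h1 heq
  have hn2 : ¬ q' ≤ q.comap (lam : R →+* R) := by
    intro hle
    rcases lt_or_eq_of_le hle with hlt | heq
    · have := Ideal.IsIntegral.comap_lt_comap (R := S) hlt
      rw [hc2, h] at this; exact lt_irrefl _ this
    · exact h2 heq
  have hnu : ¬ ((q' : Set R) ⊆ q ∪ q.comap (lam : R →+* R)) := by
    rw [Ideal.subset_union]; push Not; exact ⟨hn1, hn2⟩
  obtain ⟨x, hxN, hx⟩ := Set.not_subset.1 hnu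
  have hfix : lam (x * lam x) = x * lam x := by rw [map_mul, hlam x]; ring
  obtain ⟨s, hs⟩ := (hS.2 _).1 hfix
  have h3 : s ∈ q'.comap (algebraMap S R) := by
    rw [Ideal.mem_comap, hs]; exact q'.mul_mem_right _ hxN
  rw [← h, Ideal.mem_comap, hs] at h3
  apply hx
  rcases hq.mem_or_mem h3 with h4 | h4
  · exact Or.inl h4
  · exact Or.inr h4

end Groth.Agent.Lib.helper7
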