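import Mathlib
universe u v w
open Polynomial
namespace Groth.Agent.Lib.helper7

theorem H7_S18888 {A : Type u} {K : Type v} {L : Type w}
    [CommRing A] [IsDomain A] [UniqueFactorizationMonoid A] [Field K] [Algebra A K] [IsFractionRing A K]
    [Field L] [Algebra K L] [Algebra A L] [IsScalarTower A K L]
    (h2 : IsUnit (2 : A)) (hL : Module.finrank K L = 2)
    (d : A) (hd : Squarefree d) (y : L) (hy : y * y = algebraMap A L d)
    (hyK : y ∉ Set.range (algebraMap K L)) :
    integralClosure A L = Algebra.adjoin A {y} := by
  classical
  have hAL : ∀ a : A, algebraMap A L a = algebraMap K L (algebraMap A K a) :=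
    fun a => IsScalarTower.algebraMap_apply A K L a
  have hinjKL : Function.Injective (algebraMap K L) := (algebraMap K L).injective
  have hinjAK : Function.Injective (algebraMap A K) := IsFractionRing.injective A K
  have hyS : y ∈ Algebra.adjoin A {y} := Algebra.subset_adjoin (Set.mem_singleton y)
  apply le_antisymm
  · -- integral elements lie in A[y]
    intro z hz
    have hzint : IsIntegral A z := hz
    -- decompose z = α + β y
    have hli : LinearIndependent K ![(1 : L), y] := by
      rw [LinearIndependent.pair_iff]
      intro s t hst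
      have ht : t = 0 := by
        by_contra ht
        apply hyK
        refine ⟨-s / t, ?_⟩
        have h1 : t • y = -(s • (1 : L)) := by
          rw [eq_neg_iff_add_eq_zero, add_comm]; exact hst
        rw [Algebra.smul_def, Algebra.smul_def, mul_one] at h1
        have ht' : algebraMap K L t ≠ 0 := fun h => ht (hinjKL (by rw [h, map_zero]))
        rw [map_div₀, map_neg, ← h1, mul_div_cancel_left₀ _ ht']
      subst ht
      rw [zero_smul, add_zero, Algebra.smul_def, mul_one] at hst
      exact ⟨hinjKL (by rw [hst, map_zero]), rfl⟩
    have _ : FiniteDimensional K L := Module.finite_of_finrank_pos (by rw [hL]; norm_num)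
    have hspan : Submodule.span K (Set.range ![(1 : L), y]) = ⊤ :=
      hli.span_eq_top_of_card_eq_finrank' (by rw [hL]; rfl)
    have hzmem : z ∈ Submodule.span K (Set.range ![(1 : L), y]) := by rw [hspan]; trivial
    rw [Matrix.range_cons, Matrix.range_cons, Matrix.range_empty, Set.union_empty,
      Set.singleton_union, Submodule.mem_span_pair] at hzmem
    obtain ⟨α, β, hαβ⟩ := hzmem
    rw [Algebra.smul_def, Algebra.smul_def, mul_one] at hαβ
    -- hαβ : ι α + ι β * y = z
    have hzKint : IsIntegral K z := hzint.tower_top
    by_cases hβ : β = 0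
    · subst hβ
      rw [map_zero, zero_mul, add_zero] at hαβ
      have hαint : IsIntegral A α := by
        rw [← hαβ] at hzint
        exact (isIntegral_algebraMap_iff hinjKL).1 hzint
      obtain ⟨a, ha⟩ := IsIntegrallyClosed.isIntegral_iff.1 hαint
      rw [← hαβ, ← ha, ← hAL]
      exact Subalgebra.algebraMap_mem _ a
    · -- minimal polynomial
      set c0 : K := α ^ 2 - algebraMap A K d * β ^ 2 with hc0
      set q : K[X] := C 1 * X ^ 2 + C (-(2 * α)) * X + C c0 with hq
      have hqmonic : q.Monic := by
        rw [Polynomial.Monic, hq, Polynomial.leadingCoeff_quadratic one_ne_zero]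
      have hqdeg : q.natDegree = 2 := by
        rw [hq, Polynomial.natDegree_quadratic one_ne_zero]
      have hy2 : y * y = algebraMap K L (algebraMap A K d) := by rw [hy, hAL]
      have hqroot : Polynomial.aeval z q = 0 := by
        rw [hq]
        simp only [map_add, map_mul, Polynomial.aeval_C, map_one, map_pow, Polynomial.aeval_X,
          map_neg, one_mul]
        have hc0' : algebraMap K L c0 =
            (algebraMap K L α) ^ 2 - (y * y) * (algebraMap K L β) ^ 2 := by
          rw [hc0, map_sub, map_mul, map_pow, map_pow, hy2]
        rw [hc0', ← hαβ]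
        simp only [map_ofNat]
        ring
      have hznot : z ∉ (algebraMap K L).range := by
        rintro ⟨c, hc⟩
        apply hyK
        refine ⟨(c - α) / β, ?_⟩
        have hβ' : algebraMap K L β ≠ 0 := fun h => hβ (hinjKL (by rw [h, map_zero]))
        have h1 : algebraMap K L β * y = algebraMap K L (c - α) := by
          rw [map_sub, hc, ← hαβ]; ring
        rw [map_div₀, ← h1, mul_div_cancel_left₀ _ hβ']
      have hdeg2 : 2 ≤ (minpoly K z).natDegree := (minpoly.two_le_natDegree_iff hzKint).2 hznot
      have hmin : q = minpoly K z :=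
        Polynomial.eq_of_monic_of_dvd_of_natDegree_le (minpoly.monic hzKint) hqmonic
          (minpoly.dvd K z hqroot) (by rw [hqdeg]; exact hdeg2)
      have hmap := minpoly.isIntegrallyClosed_eq_field_fractions' K hzint
      rw [← hmin] at hmap
      have hcoeff1 : -(2 * α) = algebraMap A K ((minpoly A z).coeff 1) := by
        have := congrArg (fun p => Polynomial.coeff p 1) hmap
        simp only [Polynomial.coeff_map] at this
        rw [← this, hq]
        simp [Polynomial.coeff_X, Polynomial.coeff_C, Polynomial.coeff_X_pow]
      have hcoeff0 : c0 = algebraMap A K ((minpoly A z).coeff 0) := by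
        have := congrArg (fun p => Polynomial.coeff p 0) hmap
        simp only [Polynomial.coeff_map] at this
        rw [← this, hq]
        simp [Polynomial.coeff_X, Polynomial.coeff_C, Polynomial.coeff_X_pow]
      set a1 := (minpoly A z).coeff 1
      set a0 := (minpoly A z).coeff 0
      obtain ⟨u, hu⟩ := h2
      have h2K : (2 : K) ≠ 0 := by
        have : algebraMap A K (u : A) = 2 := by rw [hu]; exact map_ofNat _ 2
        rw [← this]
        exact (IsUnit.map (algebraMap A K) u.isUnit).ne_zero
      -- α ∈ A
      set a : A := -a1 * ((u⁻¹ : Aˣ) : A) with ha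
      have hαa : α = algebraMap A K a := by
        have h1 : algebraMap A K ((u⁻¹ : Aˣ) : A) * 2 = 1 := by
          have : algebraMap A K ((u : A)) = 2 := by rw [hu]; exact map_ofNat _ 2
          rw [← this, ← map_mul, Units.inv_mul, map_one]
        rw [ha, map_mul, map_neg, ← hcoeff1]
        have : -(-(2 * α)) * algebraMap A K ((u⁻¹ : Aˣ) : A) =
            α * (algebraMap A K ((u⁻¹ : Aˣ) : A) * 2) := by ring
        rw [this, h1, mul_one]
      -- β ∈ A
      obtain ⟨r, sden, hrel, hrs⟩ := IsFractionRing.exists_reduced_fraction (A := A) (K := K) β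
      have hβs : β * algebraMap A K (sden : A) = algebraMap A K r := by
        rw [← hrs]; exact IsLocalization.mk'_spec K r sden
      set t : A := a ^ 2 - a0 with ht
      have hdr : d * r ^ 2 = t * (sden : A) ^ 2 := by
        apply hinjAK
        rw [map_mul, map_mul, map_pow, map_pow, ← hβs, ht, map_sub, map_pow, ← hαa, ← hcoeff0, hc0]
        ring
      have hdvd : (sden : A) ^ 2 ∣ d := by
        have h1 : (sden : A) ^ 2 ∣ d * r ^ 2 := ⟨t, by rw [hdr]; ring⟩
        exact (IsRelPrime.pow (hrel.symm)).dvd_of_dvd_mul_right h1
      have hsunit : IsUnit (sden : A) := hd _ (by rw [← pow_two]; exact hdvd)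
      obtain ⟨su, hsu⟩ := hsunit
      set b : A := r * ((su⁻¹ : Aˣ) : A) with hb
      have hβb : β = algebraMap A K b := by
        have h1 : algebraMap A K (sden : A) * algebraMap A K ((su⁻¹ : Aˣ) : A) = 1 := by
          rw [← map_mul, ← hsu, Units.mul_inv, map_one]
        rw [hb, map_mul, ← hβs, mul_assoc, h1, mul_one]
      rw [← hαβ, hαa, hβb, ← hAL, ← hAL]
      exact Subalgebra.add_mem _ (Subalgebra.algebraMap_mem _ a)
        (Subalgebra.mul_mem _ (Subalgebra.algebraMap_mem _ b) hyS)
  · -- A[y] is integral
    apply Algebra.adjoin_le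
    intro x hx
    rw [Set.mem_singleton_iff] at hx
    subst hx
    refine ⟨X ^ 2 - C d, Polynomial.monic_X_pow_sub_C d (by norm_num), ?_⟩
    simp [pow_two, hy]

end Groth.Agent.Lib.helper7
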