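import Mathlib
import Groth.Prelude.Def_W4c2azumayainvolQEt
import Groth.Agent.S15573
import Groth.Agent.S15586

universe u v w
open scoped TensorProduct

namespace Groth.Agent.Lib.helper7

/-- Elements of `S' ⊗[S] R`, for `S'` a localization of `S`, are fractions. -/
theorem H7_tensor_frac (S : Type u) (R : Type v) [CommRing S] [CommRing R] [Algebra S R]
    (M : Submonoid S) (S' : Type w) [CommRing S'] [Algebra S S'] [IsLocalization M S'] :
    (∀ z : S' ⊗[S] R, ∃ (r : R) (t : M), (t : S) • z = (1 : S') ⊗ₜ[S] r) ∧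
    (∀ r₁ r₂ : R, (1 : S') ⊗ₜ[S] r₁ = (1 : S') ⊗ₜ[S] r₂ → ∃ c : M, (c : S) • r₁ = (c : S) • r₂) := by
  have hloc : IsLocalizedModule M (TensorProduct.mk S S' R 1) :=
    (isLocalizedModule_iff_isBaseChange M S' _).2 (TensorProduct.isBaseChange S R S')
  constructor
  · intro z
    obtain ⟨⟨r, t⟩, h⟩ := IsLocalizedModule.surj M (TensorProduct.mk S S' R 1) z
    exact ⟨r, t, h⟩
  · intro r₁ r₂ h
    exact IsLocalizedModule.exists_of_eq (S := M) (f := TensorProduct.mk S S' R 1) h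

/-- An involution fixing `S` as an `S`-algebra automorphism. -/
theorem H7_lamA (S : Type u) (R : Type v) [CommRing S] [CommRing R] [Algebra S R]
    (lam : R ≃+* R) (hS : RInv.IsFixedRing S R lam) :
    ∃ lamA : R ≃ₐ[S] R, lamA.toRingEquiv = lam :=
  ⟨AlgEquiv.ofRingEquiv (f := lam) (fun s => (hS.2 _).2 ⟨s, rfl⟩), rfl⟩

/-- The base-changed involution. -/
theorem H7_T_props (S : Type u) (R : Type v) [CommRing S] [CommRing R] [Algebra S R]
    (S' : Type w) [CommRing S'] [Algebra S S'] (lamA : R ≃ₐ[S] R) (hlam : Function.Involutive lamA) :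
    Function.Involutive (Algebra.TensorProduct.congr (AlgEquiv.refl : S' ≃ₐ[S] S') lamA).toRingEquiv ∧
    (∀ (a : S') (b : R), (Algebra.TensorProduct.congr (AlgEquiv.refl : S' ≃ₐ[S] S') lamA).toRingEquiv
      (a ⊗ₜ[S] b) = a ⊗ₜ[S] lamA b) ∧
    (∀ (s : S) (z : S' ⊗[S] R), (Algebra.TensorProduct.congr (AlgEquiv.refl : S' ≃ₐ[S] S') lamA).toRingEquiv
      (s • z) = s • (Algebra.TensorProduct.congr (AlgEquiv.refl : S' ≃ₐ[S] S') lamA).toRingEquiv z) := by
  refine ⟨?_, ?_, ?_⟩
  · intro z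
    induction z using TensorProduct.induction_on with
    | zero => simp
    | tmul a b => simp [hlam b]
    | add x y hx hy => rw [map_add, map_add, hx, hy]
  · intro a b; simp
  · intro s z
    exact map_smul (Algebra.TensorProduct.congr (AlgEquiv.refl : S' ≃ₐ[S] S') lamA) s z

/-- If `1 ⊗ (r - lam r)` is a unit in `S' ⊗ R` with `S'` flat, then `S' ⊗ R` is quadratic etale over `S'`. -/
theorem H7_quadEtale_baseChange (S : Type u) (R : Type v) [CommRing S] [CommRing R] [Algebra S R]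
    (S' : Type w) [CommRing S'] [Algebra S S'] [Module.Flat S S']
    (lamA : R ≃ₐ[S] R) (hlam : Function.Involutive lamA) (hS : RInv.IsFixedRing S R lamA.toRingEquiv)
    (r : R) (hr : IsUnit ((1 : S') ⊗ₜ[S] (r - lamA r))) : RInv.IsQuadEtale S' (S' ⊗[S] R) := by
  obtain ⟨hinv, hT, -⟩ := H7_T_props S R S' lamA hlam
  have hfix := Groth.Agent.S15586.result S R S' lamA hlam hS (Or.inl inferInstance)
  apply Groth.Agent.S15573.result S' (S' ⊗[S] R) _ hinv hfix
  refine ⟨(1 : S') ⊗ₜ[S] r, ?_⟩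
  rw [hT, ← TensorProduct.tmul_sub]
  exact hr

end Groth.Agent.Lib.helper7
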