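import Mathlib
import Groth.Prelude.Def_W4c2azumayainvolQEt
import Groth.Agent.Lib.helper7.QuadLoc
import Groth.Agent.S15574

universe u v w
open scoped TensorProduct

namespace Groth.Agent.Lib.helper7

/-- Witness for quadratic etaleness at a prime. -/
theorem H7_QE_witness (S : Type u) (R : Type v) [CommRing S] [CommRing R] [Algebra S R]
    (lamA : R ≃ₐ[S] R) (hlam' : Function.Involutive lamA) (hS : RInv.IsFixedRing S R lamA.toRingEquiv)
    (p : PrimeSpectrum S)
    (hp : RInv.IsQuadEtale (Localization.AtPrime p.asIdeal) (Localization.AtPrime p.asIdeal ⊗[S] R)) :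
    ∃ (r y : R) (g : S), g ∉ p.asIdeal ∧ (r - lamA r) * y = algebraMap S R g := by
  classical
  obtain ⟨hinv, hT, hTs⟩ := H7_T_props S R (Localization.AtPrime p.asIdeal) lamA hlam'
  have hfix := Groth.Agent.S15586.result S R (Localization.AtPrime p.asIdeal) lamA hlam' hS (Or.inl inferInstance)
  obtain ⟨r', hr'⟩ := Groth.Agent.S15574.result _ _ _ hinv hfix hp
  obtain ⟨hfrac, hfeq⟩ := H7_tensor_frac S R p.asIdeal.primeCompl (Localization.AtPrime p.asIdeal)
  have hunitS : ∀ t : p.asIdeal.primeCompl, ∀ z : Localization.AtPrime p.asIdeal ⊗[S] R,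
      IsUnit z → IsUnit ((t : S) • z) := by
    intro t z hz
    have h1 : (t : S) • z = algebraMap (Localization.AtPrime p.asIdeal) (Localization.AtPrime p.asIdeal ⊗[S] R)
        (algebraMap S (Localization.AtPrime p.asIdeal) t) * z := by
      rw [← IsScalarTower.algebraMap_apply]
      exact Algebra.smul_def (R := S) (A := Localization.AtPrime p.asIdeal ⊗[S] R) (t : S) z
    rw [h1]
    exact ((IsLocalization.map_units (Localization.AtPrime p.asIdeal) t).map _).mul hz
  obtain ⟨r, t, hrt⟩ := hfrac r'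
  have hw : IsUnit ((1 : Localization.AtPrime p.asIdeal) ⊗ₜ[S] (r - lamA r)) := by
    have : (1 : Localization.AtPrime p.asIdeal) ⊗ₜ[S] (r - lamA r) = (t : S) • (r' - (Algebra.TensorProduct.congr (AlgEquiv.refl : Localization.AtPrime p.asIdeal ≃ₐ[S] Localization.AtPrime p.asIdeal) lamA).toRingEquiv r') := by
      rw [smul_sub, ← hTs, hrt, hT, TensorProduct.tmul_sub]
    rw [this]
    exact hunitS t _ hr'
  obtain ⟨y', hy'⟩ := hw.exists_right_inv
  obtain ⟨y, t', hyt⟩ := hfrac y'
  have h2 : (1 : Localization.AtPrime p.asIdeal) ⊗ₜ[S] ((r - lamA r) * y) = (1 : Localization.AtPrime p.asIdeal) ⊗ₜ[S] (algebraMap S R t') := by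
    have h3 : (1 : Localization.AtPrime p.asIdeal) ⊗ₜ[S] ((r - lamA r) * y) = ((1 : Localization.AtPrime p.asIdeal) ⊗ₜ[S] (r - lamA r)) * ((1 : Localization.AtPrime p.asIdeal) ⊗ₜ[S] y) := by
      rw [Algebra.TensorProduct.tmul_mul_tmul, one_mul]
    rw [h3, ← hyt, mul_smul_comm, hy', Algebra.TensorProduct.one_def, TensorProduct.smul_tmul',
      TensorProduct.smul_tmul, Algebra.smul_def, mul_one]
  obtain ⟨c, hc⟩ := hfeq _ _ h2
  refine ⟨r, (c : S) • y, (c : S) * (t' : S), (c * t').2, ?_⟩
  rw [mul_smul_comm, hc, Algebra.smul_def, map_mul]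

/-- A witness gives quadratic etaleness at every prime not containing `g`. -/
theorem H7_QE_of_witness (S : Type u) (R : Type v) [CommRing S] [CommRing R] [Algebra S R]
    (lamA : R ≃ₐ[S] R) (hlam' : Function.Involutive lamA) (hS : RInv.IsFixedRing S R lamA.toRingEquiv)
    (r y : R) (g : S) (hg : (r - lamA r) * y = algebraMap S R g)
    (p : PrimeSpectrum S) (hgp : g ∉ p.asIdeal) :
    RInv.IsQuadEtale (Localization.AtPrime p.asIdeal) (Localization.AtPrime p.asIdeal ⊗[S] R) := by
  apply H7_quadEtale_baseChange S R (Localization.AtPrime p.asIdeal) lamA hlam' hS r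
  have h4 : ((1 : Localization.AtPrime p.asIdeal) ⊗ₜ[S] (r - lamA r)) * ((1 : Localization.AtPrime p.asIdeal) ⊗ₜ[S] y)
      = algebraMap (Localization.AtPrime p.asIdeal) (Localization.AtPrime p.asIdeal ⊗[S] R)
        (algebraMap S (Localization.AtPrime p.asIdeal) g) := by
    rw [Algebra.TensorProduct.tmul_mul_tmul, one_mul, hg,
      Algebra.TensorProduct.algebraMap_apply, Algebra.algebraMap_self, RingHom.id_apply,
      Algebra.algebraMap_eq_smul_one, Algebra.algebraMap_eq_smul_one, TensorProduct.smul_tmul]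
  have h5 : IsUnit (algebraMap (Localization.AtPrime p.asIdeal) (Localization.AtPrime p.asIdeal ⊗[S] R)
        (algebraMap S (Localization.AtPrime p.asIdeal) g)) :=
    (IsLocalization.map_units (Localization.AtPrime p.asIdeal) (⟨g, hgp⟩ : p.asIdeal.primeCompl)).map _
  rw [← h4] at h5
  exact isUnit_of_mul_isUnit_left h5

/-- The branch locus is closed: a prime containing the vanishing ideal of the branch locus is in it. -/
theorem H7_branch_closed (S : Type u) (R : Type v) [CommRing S] [CommRing R] [Algebra S R]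
    (lamA : R ≃ₐ[S] R) (hlam' : Function.Involutive lamA) (hS : RInv.IsFixedRing S R lamA.toRingEquiv)
    (p : PrimeSpectrum S)
    (hp : PrimeSpectrum.vanishingIdeal {p : PrimeSpectrum S | ¬ RInv.IsQuadEtale (Localization.AtPrime p.asIdeal) (Localization.AtPrime p.asIdeal ⊗[S] R)} ≤ p.asIdeal) :
    ¬ RInv.IsQuadEtale (Localization.AtPrime p.asIdeal) (Localization.AtPrime p.asIdeal ⊗[S] R) := by
  intro hQE
  obtain ⟨r, y, g, hgp, hg⟩ := H7_QE_witness S R lamA hlam' hS p hQE
  apply hgp
  apply hp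
  rw [PrimeSpectrum.mem_vanishingIdeal]
  intro p' hp'
  by_contra hgp'
  exact hp' (H7_QE_of_witness S R lamA hlam' hS r y g hg p' hgp')

end Groth.Agent.Lib.helper7
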