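import Mathlib

set_option autoImplicit false

namespace Groth.Agent.Lib.helper7

open QuaternionGroup

/-- A homomorphism out of the generalised quaternion group from two elements satisfying the
defining relations. -/
theorem H7_quaternion_hom {G : Type*} [Group G] (n : ℕ) (A B : G) (h1 : A ^ (2 * n) = 1)
    (h2 : B * B = A ^ n) (h3 : A * B = B * A⁻¹) :
    ∃ f : QuaternionGroup n →* G, (∀ k : ℤ, f (a (k : ZMod (2 * n))) = A ^ k) ∧
      (∀ k : ℤ, f (xa (k : ZMod (2 * n))) = B * A ^ k) := by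
  have h0 : (zmultiplesHom (Additive G) (Additive.ofMul A)) ((2 * n : ℕ) : ℤ) = 0 := by
    rw [zmultiplesHom_apply, natCast_zsmul, ← ofMul_pow, h1]; rfl
  let φ : ZMod (2 * n) →+ Additive G :=
    ZMod.lift (2 * n) ⟨zmultiplesHom (Additive G) (Additive.ofMul A), h0⟩
  let P : ZMod (2 * n) → G := fun i => Additive.toMul (φ i)
  have hPadd : ∀ i j, P (i + j) = P i * P j := by
    intro i j
    show Additive.toMul (φ (i + j)) = _
    rw [map_add]; rfl
  have hPneg : ∀ i, P (-i) = (P i)⁻¹ := by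
    intro i
    show Additive.toMul (φ (-i)) = _
    rw [map_neg]; rfl
  have hPint : ∀ k : ℤ, P (k : ZMod (2 * n)) = A ^ k := by
    intro k
    show Additive.toMul (φ (k : ZMod (2 * n))) = _
    rw [ZMod.lift_coe]
    show Additive.toMul (zmultiplesHom (Additive G) (Additive.ofMul A) k) = _
    rw [zmultiplesHom_apply, ← ofMul_zpow]; rfl
  have hPn : P (n : ZMod (2 * n)) = A ^ n := by
    have := hPint (n : ℤ)
    rw [Int.cast_natCast, zpow_natCast] at this
    exact this
  have hconj : B⁻¹ * A * B = A⁻¹ := by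
    rw [mul_assoc, h3, ← mul_assoc, inv_mul_cancel, one_mul]
  have hPB : ∀ i, P i * B = B * (P i)⁻¹ := by
    intro i
    obtain ⟨k, rfl⟩ : ∃ k : ℤ, (k : ZMod (2 * n)) = i := ⟨ZMod.cast i, ZMod.intCast_zmod_cast i⟩
    rw [hPint]
    have h4 : (B⁻¹ * A * B) ^ k = B⁻¹ * A ^ k * B := by
      have := conj_zpow (a := B⁻¹) (b := A) (i := k)
      rw [inv_inv] at this
      exact this
    rw [hconj] at h4
    have h5 : B * (A⁻¹) ^ k = A ^ k * B := by
      rw [h4, ← mul_assoc, ← mul_assoc, mul_inv_cancel, one_mul]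
    rw [← h5, inv_zpow]
  let f : QuaternionGroup n → G := fun g =>
    match g with
    | a i => P i
    | xa i => B * P i
  have hfa : ∀ i, f (a i) = P i := fun i => rfl
  have hfxa : ∀ i, f (xa i) = B * P i := fun i => rfl
  have hmul : ∀ g h : QuaternionGroup n, f (g * h) = f g * f h := by
    rintro (i | i) (j | j)
    · rw [a_mul_a, hfa, hfa, hfa, hPadd]
    · rw [a_mul_xa, hfa, hfxa, hfxa, ← mul_assoc, hPB, mul_assoc,
        show j - i = -i + j by ring, hPadd, hPneg]
    · rw [xa_mul_a, hfa, hfxa, hfxa, hPadd, mul_assoc]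
    · rw [xa_mul_xa, hfa, hfxa, hfxa, show (n : ZMod (2 * n)) + j - i = n + (-i + j) by ring,
        hPadd, hPadd, hPneg, hPn, ← h2]
      calc B * B * ((P i)⁻¹ * P j) = B * (B * (P i)⁻¹) * P j := by simp only [mul_assoc]
        _ = B * (P i * B) * P j := by rw [hPB]
        _ = B * P i * (B * P j) := by simp only [mul_assoc]
  refine ⟨MonoidHom.mk' f hmul, ?_, ?_⟩
  · intro k
    show f (a (k : ZMod (2 * n))) = _
    rw [hfa, hPint]
  · intro k
    show f (xa (k : ZMod (2 * n))) = _
    rw [hfxa, hPint]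

end Groth.Agent.Lib.helper7
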