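import Mathlib
set_option autoImplicit false
universe u

namespace Groth.Agent.Lib.helper7

theorem H7_dvr_step (A B : Type u) [CommRing A] [IsDomain A] [IsDiscreteValuationRing A] [CommRing B]
    [IsDomain B] [IsDiscreteValuationRing B] [Algebra A B] [IsLocalHom (algebraMap A B)]
    (πA : A) (hπA : Irreducible πA) (πB : B) (hπB : Irreducible πB) (e : ℕ) (w : Bˣ)
    (hw : algebraMap A B πA = w * πB ^ e)
    (m : ℕ) (b : Fin m → B)
    (hb : LinearIndependent (IsLocalRing.ResidueField A) (fun i => IsLocalRing.residue B (b i)))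
    (a : Fin m × Fin e → A)
    (hsum : ∑ ij, algebraMap A B (a ij) * (πB ^ (ij.2 : ℕ) * b ij.1) = 0) :
    ∀ ij, πA ∣ a ij := by
  classical
  have hmA : IsLocalRing.maximalIdeal A = Ideal.span {πA} :=
    (IsDiscreteValuationRing.irreducible_iff_uniformizer πA).1 hπA
  have hmB : IsLocalRing.maximalIdeal B = Ideal.span {πB} :=
    (IsDiscreteValuationRing.irreducible_iff_uniformizer πB).1 hπB
  have key : ∀ j₀ : ℕ, ∀ hj₀ : j₀ < e, ∀ i, πA ∣ a (i, ⟨j₀, hj₀⟩) := by
    intro j₀
    induction j₀ using Nat.strong_induction_on with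
    | _ j₀ ih =>
      intro hj₀ i₀
      rw [Fintype.sum_prod_type_right] at hsum
      rw [← Finset.add_sum_erase Finset.univ _ (Finset.mem_univ (⟨j₀, hj₀⟩ : Fin e))] at hsum
      have hrest : πB ^ (j₀ + 1) ∣ ∑ j ∈ Finset.univ.erase (⟨j₀, hj₀⟩ : Fin e),
          ∑ i, algebraMap A B (a (i, j)) * (πB ^ (j : ℕ) * b i) := by
        apply Finset.dvd_sum
        intro j hj
        apply Finset.dvd_sum
        intro i _
        have hjne : (j : ℕ) ≠ j₀ := fun h => (Finset.mem_erase.1 hj).1 (Fin.ext h)
        rcases Nat.lt_or_gt_of_ne hjne with hlt | hgt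
        · obtain ⟨a', ha'⟩ := ih j hlt j.2 i
          have : a (i, j) = πA * a' := ha'
          rw [this, map_mul, hw]
          have : πB ^ (j₀ + 1) ∣ πB ^ e := pow_dvd_pow _ (by omega)
          exact Dvd.dvd.mul_right (Dvd.dvd.mul_right (Dvd.dvd.mul_left this _) _) _
        · have : πB ^ (j₀ + 1) ∣ πB ^ (j : ℕ) := pow_dvd_pow _ (by omega)
          exact Dvd.dvd.mul_left (Dvd.dvd.mul_right this _) _
      have hmain : πB ^ (j₀ + 1) ∣ ∑ i, algebraMap A B (a (i, ⟨j₀, hj₀⟩)) * (πB ^ j₀ * b i) := by
        have h1 := eq_neg_of_add_eq_zero_left hsum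
        rw [h1]
        exact (dvd_neg).2 hrest
      have h2 : ∑ i, algebraMap A B (a (i, ⟨j₀, hj₀⟩)) * (πB ^ j₀ * b i) =
          πB ^ j₀ * ∑ i, algebraMap A B (a (i, ⟨j₀, hj₀⟩)) * b i := by
        rw [Finset.mul_sum]
        apply Finset.sum_congr rfl
        intro i _
        ring
      rw [h2, pow_succ, mul_dvd_mul_iff_left (pow_ne_zero _ hπB.ne_zero)] at hmain
      have h3 : IsLocalRing.residue B (∑ i, algebraMap A B (a (i, ⟨j₀, hj₀⟩)) * b i) = 0 := by
        rw [IsLocalRing.residue_eq_zero_iff, hmB, Ideal.mem_span_singleton]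
        exact hmain
      have h4 : ∑ i, IsLocalRing.residue A (a (i, ⟨j₀, hj₀⟩)) • IsLocalRing.residue B (b i) = 0 := by
        rw [← h3, map_sum]
        apply Finset.sum_congr rfl
        intro i _
        rw [Algebra.smul_def, IsLocalRing.ResidueField.algebraMap_residue, map_mul]
      have h5 := Fintype.linearIndependent_iff.1 hb (fun i => IsLocalRing.residue A (a (i, ⟨j₀, hj₀⟩))) h4 i₀
      rw [IsLocalRing.residue_eq_zero_iff, hmA, Ideal.mem_span_singleton] at h5
      exact h5
  intro ij
  exact key ij.2.1 ij.2.2 ij.1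

theorem H7_dvr_indep (A B : Type u) [CommRing A] [IsDomain A] [IsDiscreteValuationRing A] [CommRing B]
    [IsDomain B] [IsDiscreteValuationRing B] [Algebra A B] [IsLocalHom (algebraMap A B)]
    (πA : A) (hπA : Irreducible πA) (πB : B) (hπB : Irreducible πB) (e : ℕ) (w : Bˣ)
    (hw : algebraMap A B πA = w * πB ^ e)
    (m : ℕ) (b : Fin m → B)
    (hb : LinearIndependent (IsLocalRing.ResidueField A) (fun i => IsLocalRing.residue B (b i)))
    (a : Fin m × Fin e → A)
    (hsum : ∑ ij, algebraMap A B (a ij) * (πB ^ (ij.2 : ℕ) * b ij.1) = 0) :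
    ∀ ij, a ij = 0 := by
  classical
  have hφπ : algebraMap A B πA ≠ 0 := by
    rw [hw]; exact mul_ne_zero w.ne_zero (pow_ne_zero _ hπB.ne_zero)
  have hN : ∀ N : ℕ, ∀ a : Fin m × Fin e → A,
      (∑ ij, algebraMap A B (a ij) * (πB ^ (ij.2 : ℕ) * b ij.1) = 0) → ∀ ij, πA ^ N ∣ a ij := by
    intro N
    induction N with
    | zero => intro a _ ij; simp
    | succ N ih =>
      intro a ha ij
      have hstep := H7_dvr_step A B πA hπA πB hπB e w hw m b hb a ha
      choose a' ha' using hstep
      have hsum' : ∑ ij, algebraMap A B (a' ij) * (πB ^ (ij.2 : ℕ) * b ij.1) = 0 := by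
        have h1 : algebraMap A B πA * ∑ ij, algebraMap A B (a' ij) * (πB ^ (ij.2 : ℕ) * b ij.1) = 0 := by
          rw [Finset.mul_sum, ← ha]
          apply Finset.sum_congr rfl
          intro ij _
          rw [ha' ij, map_mul]; ring
        exact (mul_eq_zero.1 h1).resolve_left hφπ
      rw [ha' ij, pow_succ']
      exact mul_dvd_mul_left _ (ih a' hsum' ij)
  intro ij
  by_contra hne
  obtain ⟨k, u, hu⟩ := IsDiscreteValuationRing.eq_unit_mul_pow_irreducible hne hπA
  have h1 := hN (k + 1) a hsum ij
  rw [hu, Units.dvd_mul_left] at h1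
  have := (pow_dvd_pow_iff hπA.ne_zero hπA.not_isUnit).1 h1
  omega

theorem H7_ef_le_of_indep (A B K L : Type u) [CommRing A] [IsDomain A]
    [IsDiscreteValuationRing A] [CommRing B] [IsDomain B] [IsDiscreteValuationRing B] [Algebra A B]
    [IsLocalHom (algebraMap A B)]
    [Field K] [Field L] [Algebra A K] [IsFractionRing A K] [Algebra B L] [IsFractionRing B L]
    [Algebra K L] [Algebra A L] [IsScalarTower A K L] [IsScalarTower A B L] [FiniteDimensional K L]
    (πA : A) (hπA : Irreducible πA) (πB : B) (hπB : Irreducible πB) (e : ℕ) (w : Bˣ)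
    (hw : algebraMap A B πA = w * πB ^ e)
    (m : ℕ) (b : Fin m → B)
    (hb : LinearIndependent (IsLocalRing.ResidueField A) (fun i => IsLocalRing.residue B (b i))) :
    m * e ≤ Module.finrank K L := by
  classical
  have hinjBL : Function.Injective (algebraMap B L) := IsFractionRing.injective B L
  have hli : LinearIndependent A (fun ij : Fin m × Fin e => algebraMap B L (πB ^ (ij.2 : ℕ) * b ij.1)) := by
    rw [Fintype.linearIndependent_iff]
    intro a ha
    apply H7_dvr_indep A B πA hπA πB hπB e w hw m b hb a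
    apply hinjBL
    rw [map_zero, ← ha, map_sum]
    apply Finset.sum_congr rfl
    intro ij _
    rw [map_mul, Algebra.smul_def, IsScalarTower.algebraMap_apply A B L]
  rw [LinearIndependent.iff_fractionRing A K] at hli
  have := hli.fintype_card_le_finrank
  simpa [Fintype.card_prod] using this

theorem H7_S7132 (A B K L : Type u) [CommRing A] [IsDomain A]
    [IsDiscreteValuationRing A] [CommRing B] [IsDomain B] [IsDiscreteValuationRing B] [Algebra A B]
    (hinj : Function.Injective (algebraMap A B)) [IsLocalHom (algebraMap A B)]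
    [Field K] [Field L] [Algebra A K] [IsFractionRing A K] [Algebra B L] [IsFractionRing B L]
    [Algebra K L] [Algebra A L] [IsScalarTower A K L] [IsScalarTower A B L] [FiniteDimensional K L] :
    Module.Finite (IsLocalRing.ResidueField A) (IsLocalRing.ResidueField B) ∧
      Ideal.ramificationIdx' (IsLocalRing.maximalIdeal A) (IsLocalRing.maximalIdeal B) *
          Module.finrank (IsLocalRing.ResidueField A) (IsLocalRing.ResidueField B) ≤
        Module.finrank K L := by
  classical
  obtain ⟨πA, hπA⟩ := IsDiscreteValuationRing.exists_irreducible A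
  obtain ⟨πB, hπB⟩ := IsDiscreteValuationRing.exists_irreducible B
  have hmA : IsLocalRing.maximalIdeal A = Ideal.span {πA} :=
    (IsDiscreteValuationRing.irreducible_iff_uniformizer πA).1 hπA
  have hmB : IsLocalRing.maximalIdeal B = Ideal.span {πB} :=
    (IsDiscreteValuationRing.irreducible_iff_uniformizer πB).1 hπB
  have hφπ0 : algebraMap A B πA ≠ 0 := fun h0 => hπA.ne_zero (hinj (by rw [h0, map_zero]))
  obtain ⟨e, w, hw⟩ := IsDiscreteValuationRing.eq_unit_mul_pow_irreducible hφπ0 hπB
  have hmap : Ideal.map (algebraMap A B) (IsLocalRing.maximalIdeal A) = Ideal.span {πB ^ e} := by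
    rw [hmA, Ideal.map_span, Set.image_singleton, hw]
    exact Ideal.span_singleton_eq_span_singleton.2 ⟨w⁻¹, by rw [mul_comm, ← mul_assoc, Units.inv_mul, one_mul]⟩
  have hram : Ideal.ramificationIdx' (IsLocalRing.maximalIdeal A) (IsLocalRing.maximalIdeal B) = e := by
    apply Ideal.ramificationIdx'_spec
    · rw [hmap, hmB, Ideal.span_singleton_pow]
    · rw [hmap, hmB, Ideal.span_singleton_pow, Ideal.span_singleton_le_span_singleton]
      intro hdvd
      have := (pow_dvd_pow_iff hπB.ne_zero hπB.not_isUnit).1 hdvd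
      omega
  have he : 1 ≤ e := by
    by_contra hcon
    have he0 : e = 0 := by omega
    rw [he0, pow_zero, mul_one] at hw
    have hu : IsUnit (algebraMap A B πA) := by rw [hw]; exact w.isUnit
    exact hπA.not_isUnit (isUnit_of_map_unit (algebraMap A B) πA hu)
  have hbound : ∀ (m : ℕ) (v : Fin m → IsLocalRing.ResidueField B),
      LinearIndependent (IsLocalRing.ResidueField A) v → m * e ≤ Module.finrank K L := by
    intro m v hv
    choose b hb using fun i => IsLocalRing.residue_surjective (v i)
    have hv' : LinearIndependent (IsLocalRing.ResidueField A) (fun i => IsLocalRing.residue B (b i)) := by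
      have : (fun i => IsLocalRing.residue B (b i)) = v := funext hb
      rw [this]; exact hv
    exact H7_ef_le_of_indep A B K L πA hπA πB hπB e w hw m b hv'
  have hfin : Module.Finite (IsLocalRing.ResidueField A) (IsLocalRing.ResidueField B) := by
    rw [← Module.rank_lt_aleph0_iff]
    refine lt_of_le_of_lt (rank_le (n := Module.finrank K L) ?_) (Cardinal.nat_lt_aleph0 _)
    intro s hs
    have h1 := hbound s.card (fun i => ((s.equivFin.symm i : s) : IsLocalRing.ResidueField B))
      (hs.comp _ s.equivFin.symm.injective)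
    calc s.card ≤ s.card * e := Nat.le_mul_of_pos_right _ he
      _ ≤ _ := h1
  refine ⟨hfin, ?_⟩
  rw [hram, mul_comm]
  have hb := Module.finBasis (IsLocalRing.ResidueField A) (IsLocalRing.ResidueField B)
  exact hbound _ hb hb.linearIndependent

end Groth.Agent.Lib.helper7
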