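import Mathlib
set_option autoImplicit false
universe u

namespace Groth.Agent.Lib.helper7

theorem H7_S7133 (A B K L : Type u) [CommRing A] [IsDomain A]
    [IsDiscreteValuationRing A] [CommRing B] [IsDomain B] [IsDiscreteValuationRing B] [Algebra A B]
    (hinj : Function.Injective (algebraMap A B)) [IsLocalHom (algebraMap A B)]
    [Field K] [Field L] [Algebra A K] [IsFractionRing A K] [Algebra B L] [IsFractionRing B L]
    [Algebra K L] [Algebra A L] [IsScalarTower A K L] [IsScalarTower A B L]
    (p : ℕ) (hp : p.Prime) [CharP K p] [IsPurelyInseparable K L] :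
    ∃ k : ℕ, Ideal.ramificationIdx' (IsLocalRing.maximalIdeal A) (IsLocalRing.maximalIdeal B) =
      p ^ k := by
  classical
  obtain ⟨πA, hπA⟩ := IsDiscreteValuationRing.exists_irreducible A
  obtain ⟨πB, hπB⟩ := IsDiscreteValuationRing.exists_irreducible B
  have hmA : IsLocalRing.maximalIdeal A = Ideal.span {πA} :=
    (IsDiscreteValuationRing.irreducible_iff_uniformizer πA).1 hπA
  have hmB : IsLocalRing.maximalIdeal B = Ideal.span {πB} :=
    (IsDiscreteValuationRing.irreducible_iff_uniformizer πB).1 hπB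
  have hφπ0 : algebraMap A B πA ≠ 0 := fun h0 => hπA.ne_zero (hinj (by rw [h0, map_zero]))
  obtain ⟨e, w, hw⟩ := IsDiscreteValuationRing.eq_unit_mul_pow_irreducible hφπ0 hπB
  -- ramification index is e
  have hmap : Ideal.map (algebraMap A B) (IsLocalRing.maximalIdeal A) = Ideal.span {πB ^ e} := by
    rw [hmA, Ideal.map_span, Set.image_singleton, hw]
    exact Ideal.span_singleton_eq_span_singleton.2 ⟨w⁻¹, by rw [mul_comm, ← mul_assoc, Units.inv_mul, one_mul]⟩
  have hram : Ideal.ramificationIdx' (IsLocalRing.maximalIdeal A) (IsLocalRing.maximalIdeal B) = e := by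
    apply Ideal.ramificationIdx'_spec
    · rw [hmap, hmB, Ideal.span_singleton_pow]
    · rw [hmap, hmB, Ideal.span_singleton_pow, Ideal.span_singleton_le_span_singleton]
      intro hdvd
      have := (pow_dvd_pow_iff hπB.ne_zero hπB.not_isUnit).1 hdvd
      omega
  rw [hram]
  -- purely inseparable
  have : ExpChar K p := ExpChar.prime hp
  obtain ⟨n, y, hy⟩ := IsPurelyInseparable.pow_mem K p (algebraMap B L πB)
  obtain ⟨a, a', ha', hya⟩ := IsFractionRing.div_surjective (A := A) y
  have hinjBL : Function.Injective (algebraMap B L) := IsFractionRing.injective B L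
  have hAK : Function.Injective (algebraMap A K) := IsFractionRing.injective A K
  have ha'0 : a' ≠ 0 := nonZeroDivisors.ne_zero ha'
  have ha'K : algebraMap A K a' ≠ 0 := fun h0 => ha'0 (hAK (by rw [h0, map_zero]))
  -- equation in B
  have heq : πB ^ p ^ n * algebraMap A B a' = algebraMap A B a := by
    apply hinjBL
    rw [map_mul, map_pow, ← hy, ← IsScalarTower.algebraMap_apply A B L, ← IsScalarTower.algebraMap_apply A B L,
      IsScalarTower.algebraMap_apply A K L a', IsScalarTower.algebraMap_apply A K L a, ← map_mul, ← hya,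
      div_mul_cancel₀ _ ha'K]
  have ha0 : a ≠ 0 := by
    intro h0
    rw [h0, map_zero] at heq
    rcases mul_eq_zero.1 heq with h1 | h1
    · exact hπB.ne_zero (pow_eq_zero_iff (pow_ne_zero _ hp.ne_zero) |>.1 h1)
    · exact ha'0 (hinj (by rw [h1, map_zero]))
  obtain ⟨i, u, hu⟩ := IsDiscreteValuationRing.eq_unit_mul_pow_irreducible ha0 hπA
  obtain ⟨j, u', hu'⟩ := IsDiscreteValuationRing.eq_unit_mul_pow_irreducible ha'0 hπA
  have hφu : IsUnit (algebraMap A B u) := u.isUnit.map _
  have hφu' : IsUnit (algebraMap A B u') := u'.isUnit.map _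
  obtain ⟨v, hv⟩ := hφu
  obtain ⟨v', hv'⟩ := hφu'
  have e1 : algebraMap A B a = ((v * w ^ i : Bˣ) : B) * πB ^ (e * i) := by
    rw [hu, map_mul, map_pow, hw, ← hv, mul_pow, Units.val_mul, Units.val_pow_eq_pow_val, pow_mul]
    ring
  have e2 : πB ^ p ^ n * algebraMap A B a' = ((v' * w ^ j : Bˣ) : B) * πB ^ (p ^ n + e * j) := by
    rw [hu', map_mul, map_pow, hw, ← hv', mul_pow, Units.val_mul, Units.val_pow_eq_pow_val, pow_add, pow_mul]
    ring
  rw [e1, e2] at heq
  have hexp := IsDiscreteValuationRing.unit_mul_pow_congr_pow hπB hπB _ _ _ _ heq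
  have hdvd : e ∣ p ^ n := ⟨i - j, by
    have : e * j ≤ e * i := by omega
    have hji : j ≤ i := by
      by_contra hcon
      push Not at hcon
      have : e * i < e * j ∨ e = 0 := by
        rcases Nat.eq_zero_or_pos e with h0 | h0
        · right; exact h0
        · left; exact Nat.mul_lt_mul_of_pos_left hcon h0
      rcases this with h1 | h1
      · omega
      · subst h1
        simp at hexp
        exact hp.ne_zero hexp.1
    rw [Nat.mul_sub]
    omega⟩
  obtain ⟨k, -, hk⟩ := (Nat.dvd_prime_pow hp).1 hdvd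
  exact ⟨k, hk⟩

end Groth.Agent.Lib.helper7
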