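import Mathlib
universe u
open TensorProduct
namespace Groth.Agent.Lib.helper7

theorem H7_S15594 (k K A : Type u) [Field k] [Field K] [Algebra k K]
    [CommRing A] [Algebra k A] (S : Set (A →ₐ[k] k)) :
    Ideal.map (Algebra.TensorProduct.includeRight : A →ₐ[k] K ⊗[k] A) (⨅ σ ∈ S, RingHom.ker σ) =
      ⨅ σ ∈ S, RingHom.ker ((Algebra.TensorProduct.rid k K K).toAlgHom.comp
        (Algebra.TensorProduct.map (AlgHom.id K K) σ)) := by
  classical
  set I : Ideal A := ⨅ σ ∈ S, RingHom.ker σ with hI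
  have hImem : ∀ a, a ∈ I ↔ ∀ σ ∈ S, σ a = 0 := by
    intro a
    simp only [hI, Ideal.mem_iInf, RingHom.mem_ker]
  have hΦ : ∀ (σ : A →ₐ[k] k) (x : K) (a : A),
      ((Algebra.TensorProduct.rid k K K).toAlgHom.comp
        (Algebra.TensorProduct.map (AlgHom.id K K) σ)) (x ⊗ₜ[k] a) = σ a • x := by
    intro σ x a
    simp
  apply le_antisymm
  · rw [Ideal.map_le_iff_le_comap]
    intro a ha
    rw [Ideal.mem_comap]
    simp only [Ideal.mem_iInf, RingHom.mem_ker]
    intro σ hσ
    have : (Algebra.TensorProduct.includeRight : A →ₐ[k] K ⊗[k] A) a = (1 : K) ⊗ₜ[k] a := rfl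
    rw [this, hΦ, (hImem a).1 ha σ hσ, zero_smul]
  · intro z hz
    simp only [Ideal.mem_iInf, RingHom.mem_ker] at hz
    let b := Module.Basis.ofVectorSpace k K
    obtain ⟨c, rfl⟩ := TensorProduct.eq_repr_basis_left b z
    have hc : ∀ i, c i ∈ I := by
      intro i
      rw [hImem]
      intro σ hσ
      have h1 := hz σ hσ
      rw [Finsupp.sum, map_sum] at h1
      simp only [hΦ] at h1
      -- linear independence
      have hli := b.linearIndependent
      rw [linearIndependent_iff'] at hli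
      have h2 := hli c.support (fun i => σ (c i)) h1
      by_cases hi : i ∈ c.support
      · exact h2 i hi
      · rw [Finsupp.notMem_support_iff.1 hi, map_zero]
    rw [Finsupp.sum]
    refine Ideal.sum_mem _ (fun i _ => ?_)
    have : (b i) ⊗ₜ[k] (c i) = ((b i) ⊗ₜ[k] (1 : A)) *
        (Algebra.TensorProduct.includeRight : A →ₐ[k] K ⊗[k] A) (c i) := by
      show _ = ((b i) ⊗ₜ[k] (1 : A)) * ((1 : K) ⊗ₜ[k] (c i))
      rw [Algebra.TensorProduct.tmul_mul_tmul, mul_one, one_mul]
    rw [this]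
    exact Ideal.mul_mem_left _ _ (Ideal.mem_map_of_mem _ (hc i))


theorem H7_S15605 (k A A' : Type u) [Field k] [CommRing A] [Algebra k A]
    [CommRing A'] [Algebra k A']
    (S : Set (A →ₐ[k] k)) (S' : Set (A' →ₐ[k] k)) :
    (⨅ σ ∈ S, ⨅ σ' ∈ S', RingHom.ker ((Algebra.TensorProduct.lmul' (S := k) k).comp
        (Algebra.TensorProduct.map σ σ'))) =
      Ideal.map (Algebra.TensorProduct.includeLeft : A →ₐ[k] A ⊗[k] A') (⨅ σ ∈ S, RingHom.ker σ) ⊔
        Ideal.map (Algebra.TensorProduct.includeRight : A' →ₐ[k] A ⊗[k] A') (⨅ σ' ∈ S', RingHom.ker σ') := by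
  classical
  set I : Ideal A := ⨅ σ ∈ S, RingHom.ker σ with hI
  set I' : Ideal A' := ⨅ σ' ∈ S', RingHom.ker σ' with hI'
  have hImem : ∀ a, a ∈ I ↔ ∀ σ ∈ S, σ a = 0 := by
    intro a
    simp only [hI, Ideal.mem_iInf, RingHom.mem_ker]
  have hI'mem : ∀ a, a ∈ I' ↔ ∀ σ ∈ S', σ a = 0 := by
    intro a
    simp only [hI', Ideal.mem_iInf, RingHom.mem_ker]
  have hΨ : ∀ (σ : A →ₐ[k] k) (σ' : A' →ₐ[k] k) (a : A) (a' : A'),
      ((Algebra.TensorProduct.lmul' (S := k) k).comp (Algebra.TensorProduct.map σ σ'))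
        (a ⊗ₜ[k] a') = σ a * σ' a' := by
    intro σ σ' a a'
    simp
  apply le_antisymm
  · intro z hz
    simp only [Ideal.mem_iInf, RingHom.mem_ker] at hz
    let Q' := A' ⧸ I'
    let π' : A' →ₐ[k] Q' := Ideal.Quotient.mkₐ k I'
    have hπ'surj : Function.Surjective π' := Ideal.Quotient.mkₐ_surjective k I'
    let Θ : A ⊗[k] A' →ₐ[k] A ⊗[k] Q' := Algebra.TensorProduct.map (AlgHom.id k A) π'
    have hkerΘ : RingHom.ker Θ = I'.map (Algebra.TensorProduct.includeRight : A' →ₐ[k] A ⊗[k] A') := by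
      have := Algebra.TensorProduct.lTensor_ker (A := A) (R := k) π' hπ'surj
      rw [this]
      congr 1
      exact Ideal.Quotient.mkₐ_ker k I'
    let e := Module.Basis.ofVectorSpace k Q'
    obtain ⟨c, hc⟩ := TensorProduct.eq_repr_basis_right e (Θ z)
    -- each coefficient lies in I
    have hcI : ∀ j, c j ∈ I := by
      intro j
      rw [hImem]
      intro σ hσ
      -- y = Σ σ(c j) • e j
      set y : Q' := ∑ j ∈ c.support, σ (c j) • e j with hy
      have hy0 : y = 0 := by
        obtain ⟨y', hy'⟩ := hπ'surj y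
        have hy'I : y' ∈ I' := by
          rw [hI'mem]
          intro σ' hσ'
          -- functional on A ⊗ Q'
          have hσ'I : ∀ a ∈ I', σ' a = 0 := fun a ha => (hI'mem a).1 ha σ' hσ'
          let σbar : Q' →ₐ[k] k := Ideal.Quotient.liftₐ I' σ' hσ'I
          have hσbar : ∀ a, σbar (π' a) = σ' a := fun a => rfl
          let Λ : A ⊗[k] Q' →ₐ[k] k :=
            (Algebra.TensorProduct.lmul' (S := k) k).comp (Algebra.TensorProduct.map σ σbar)
          have hΛΘ : Λ.comp Θ = (Algebra.TensorProduct.lmul' (S := k) k).comp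
              (Algebra.TensorProduct.map σ σ') := by
            apply Algebra.TensorProduct.ext'
            intro a a'
            simp [Λ, Θ, hσbar]
          have h1 : Λ (Θ z) = 0 := by
            have := DFunLike.congr_fun hΛΘ z
            rw [AlgHom.comp_apply] at this
            rw [this]; exact hz σ hσ σ' hσ'
          rw [← hc, Finsupp.sum, map_sum] at h1
          have h2 : ∀ j, Λ (c j ⊗ₜ[k] e j) = σbar (σ (c j) • e j) := by
            intro j
            simp [Λ]
          simp only [h2] at h1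
          rw [← map_sum, ← hy, ← hy', hσbar] at h1
          exact h1
        rw [← hy']
        exact Ideal.Quotient.eq_zero_iff_mem.2 hy'I
      have hli := e.linearIndependent
      rw [linearIndependent_iff'] at hli
      have h2 := hli c.support (fun j => σ (c j)) hy0
      by_cases hj : j ∈ c.support
      · exact h2 j hj
      · rw [Finsupp.notMem_support_iff.1 hj, map_zero]
    -- lift
    choose ehat hehat using fun j => hπ'surj (e j)
    set w : A ⊗[k] A' := ∑ j ∈ c.support, (c j) ⊗ₜ[k] (ehat j) with hw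
    have hwI : w ∈ Ideal.map (Algebra.TensorProduct.includeLeft : A →ₐ[k] A ⊗[k] A') I := by
      refine Ideal.sum_mem _ (fun j _ => ?_)
      have : (c j) ⊗ₜ[k] (ehat j) =
          (Algebra.TensorProduct.includeLeft : A →ₐ[k] A ⊗[k] A') (c j) * ((1 : A) ⊗ₜ[k] (ehat j)) := by
        show _ = ((c j) ⊗ₜ[k] (1 : A')) * ((1 : A) ⊗ₜ[k] (ehat j))
        rw [Algebra.TensorProduct.tmul_mul_tmul, mul_one, one_mul]
      rw [this]
      exact Ideal.mul_mem_right _ _ (Ideal.mem_map_of_mem _ (hcI j))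
    have hΘw : Θ w = Θ z := by
      rw [← hc, hw, map_sum, Finsupp.sum]
      apply Finset.sum_congr rfl
      intro j _
      simp [Θ, hehat]
    have hzw : z - w ∈ RingHom.ker Θ := by
      rw [RingHom.mem_ker, map_sub, hΘw, sub_self]
    rw [hkerΘ] at hzw
    have : z = w + (z - w) := by ring
    rw [this]
    exact Ideal.add_mem _ (Ideal.mem_sup_left hwI) (Ideal.mem_sup_right hzw)
  · apply sup_le
    · rw [Ideal.map_le_iff_le_comap]
      intro a ha
      rw [Ideal.mem_comap]
      simp only [Ideal.mem_iInf, RingHom.mem_ker]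
      intro σ hσ σ' hσ'
      have : (Algebra.TensorProduct.includeLeft : A →ₐ[k] A ⊗[k] A') a = a ⊗ₜ[k] (1 : A') := rfl
      rw [this, hΨ, (hImem a).1 ha σ hσ, zero_mul]
    · rw [Ideal.map_le_iff_le_comap]
      intro a ha
      rw [Ideal.mem_comap]
      simp only [Ideal.mem_iInf, RingHom.mem_ker]
      intro σ hσ σ' hσ'
      have : (Algebra.TensorProduct.includeRight : A' →ₐ[k] A ⊗[k] A') a = (1 : A) ⊗ₜ[k] a := rfl
      rw [this, hΨ, (hI'mem a).1 ha σ' hσ', mul_zero]

end Groth.Agent.Lib.helper7
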