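import Mathlib

universe u v w
open scoped TensorProduct

namespace Groth.Agent.Lib.helper7

/-- finite reduced algebras over an algebraically closed field: tensor product is reduced -/
theorem H7_isReduced_tensor_algClosed (k : Type u) [Field k] [IsAlgClosed k]
    (A : Type v) [CommRing A] [Algebra k A] [Module.Finite k A] [IsReduced A]
    (B : Type w) [CommRing B] [Algebra k B] [IsReduced B] : IsReduced (A ⊗[k] B) := by
  classical
  have hart : IsArtinianRing A := IsArtinianRing.of_finite k A
  have := Fintype.ofFinite (MaximalSpectrum A)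
  have hbij : ∀ m : MaximalSpectrum A,
      Function.Bijective (algebraMap k (A ⧸ m.asIdeal)) := by
    intro m
    have : IsDomain (A ⧸ m.asIdeal) := (Ideal.Quotient.isDomain_iff_prime _).2 m.isMaximal.isPrime
    exact IsAlgClosed.algebraMap_bijective_of_isIntegral
  let κ : ∀ m : MaximalSpectrum A, (A ⧸ m.asIdeal) ≃ₐ[k] k := fun m =>
    (AlgEquiv.ofBijective (Algebra.ofId k (A ⧸ m.asIdeal)) (hbij m)).symm
  let χ : ∀ m : MaximalSpectrum A, A →ₐ[k] k := fun m =>
    (κ m).toAlgHom.comp (Ideal.Quotient.mkₐ k m.asIdeal)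
  let e : A ≃ₗ[k] (MaximalSpectrum A → k) :=
    ((IsArtinianRing.equivPi A).restrictScalars k).toLinearEquiv ≪≫ₗ
      LinearEquiv.piCongrRight (fun m => (κ m).toLinearEquiv)
  have he : ∀ a m, e a m = χ m a := fun a m => rfl
  let Φ : A ⊗[k] B →ₐ[k] (MaximalSpectrum A → B) :=
    Pi.algHom k (fun _ => B) (fun m => (Algebra.TensorProduct.lid k B).toAlgHom.comp
      (Algebra.TensorProduct.map (χ m) (AlgHom.id k B)))
  let L : A ⊗[k] B ≃ₗ[k] (MaximalSpectrum A → B) :=
    (TensorProduct.congr e (LinearEquiv.refl k B)) ≪≫ₗ (TensorProduct.comm k _ _) ≪≫ₗ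
      (TensorProduct.piScalarRight k k B (MaximalSpectrum A))
  have hΦL : Φ.toLinearMap = L.toLinearMap := by
    apply TensorProduct.ext'
    intro a b
    ext m
    simp [Φ, L, he, TensorProduct.piScalarRight_apply]
  have hinj : Function.Injective Φ := by
    have : (Φ : A ⊗[k] B → _) = L := by
      ext x m
      exact congrFun (congrArg (fun f : A ⊗[k] B →ₗ[k] (MaximalSpectrum A → B) => f x) hΦL) m
    rw [this]
    exact L.injective
  exact isReduced_of_injective Φ hinj

theorem H7_S19799 (k : Type u) [Field k]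
    [IsAlgClosed k] (A : Type v) [CommRing A] [Algebra k A] [Module.Finite k A]
    (B : Type w) [CommRing B] [Algebra k B] [Module.Finite k B] :
    RingHom.ker (Algebra.TensorProduct.map (Ideal.Quotient.mkₐ k (nilradical A))
      (Ideal.Quotient.mkₐ k (nilradical B))).toRingHom = nilradical (A ⊗[k] B) := by
  have hAr : IsReduced (A ⧸ nilradical A) :=
    (Ideal.isRadical_iff_quotient_reduced _).1 (Ideal.radical_isRadical ⊥)
  have hBr : IsReduced (B ⧸ nilradical B) :=
    (Ideal.isRadical_iff_quotient_reduced _).1 (Ideal.radical_isRadical ⊥)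
  have hred : IsReduced ((A ⧸ nilradical A) ⊗[k] (B ⧸ nilradical B)) :=
    H7_isReduced_tensor_algClosed k _ _
  apply le_antisymm
  · have h1 := Algebra.TensorProduct.map_ker (Ideal.Quotient.mkₐ k (nilradical A))
      (Ideal.Quotient.mkₐ k (nilradical B))
      (Ideal.Quotient.mkₐ_surjective k _) (Ideal.Quotient.mkₐ_surjective k _)
    change RingHom.ker (Algebra.TensorProduct.map (Ideal.Quotient.mkₐ k (nilradical A))
      (Ideal.Quotient.mkₐ k (nilradical B))) ≤ _
    rw [h1]
    apply sup_le
    · rw [Ideal.map_le_iff_le_comap]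
      intro a ha
      have ha' : a ∈ nilradical A := by
        have : Ideal.Quotient.mkₐ k (nilradical A) a = 0 := ha
        rwa [Ideal.Quotient.mkₐ_eq_mk, Ideal.Quotient.eq_zero_iff_mem] at this
      rw [Ideal.mem_comap, mem_nilradical]
      exact (mem_nilradical.1 ha').map _
    · rw [Ideal.map_le_iff_le_comap]
      intro b hb
      have hb' : b ∈ nilradical B := by
        have : Ideal.Quotient.mkₐ k (nilradical B) b = 0 := hb
        rwa [Ideal.Quotient.mkₐ_eq_mk, Ideal.Quotient.eq_zero_iff_mem] at this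
      rw [Ideal.mem_comap, mem_nilradical]
      exact (mem_nilradical.1 hb').map _
  · intro x hx
    rw [RingHom.mem_ker]
    have h1 : IsNilpotent x := mem_nilradical.1 hx
    have h2 := h1.map (Algebra.TensorProduct.map (Ideal.Quotient.mkₐ k (nilradical A))
      (Ideal.Quotient.mkₐ k (nilradical B))).toRingHom
    exact h2.eq_zero

end Groth.Agent.Lib.helper7
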