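import Mathlib
open IsLocalRing

universe u

namespace Groth.Agent.Lib.helper7

theorem H7_quot_isLocalRing {R : Type u} [CommRing R] [IsLocalRing R] (J : Ideal R)
    (hJ : J ≤ maximalIdeal R) : IsLocalRing (R ⧸ J) := by
  have hne : J ≠ ⊤ := fun h => (maximalIdeal.isMaximal R).ne_top (top_le_iff.1 (h ▸ hJ))
  have : Nontrivial (R ⧸ J) := Ideal.Quotient.nontrivial_iff.mpr hne
  exact IsLocalRing.of_surjective' (Ideal.Quotient.mk J) Ideal.Quotient.mk_surjective

theorem H7_map_mk_maximalIdeal {R : Type u} [CommRing R] [IsLocalRing R] (J : Ideal R)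
    (hJ : J ≤ maximalIdeal R) [IsLocalRing (R ⧸ J)] :
    (maximalIdeal R).map (Ideal.Quotient.mk J) = maximalIdeal (R ⧸ J) := by
  have := IsLocalHom.of_surjective (Ideal.Quotient.mk J) Ideal.Quotient.mk_surjective
  ext x
  obtain ⟨x, rfl⟩ := Ideal.Quotient.mk_surjective x
  simp [sup_eq_left.mpr hJ]

theorem H7_spanFinrank_range_le {R : Type*} {M : Type*} [Semiring R] [AddCommMonoid M] [Module R M]
    {k : ℕ} (f : Fin k → M) : (Submodule.span R (Set.range f)).spanFinrank ≤ k := by
  refine le_trans (Submodule.spanFinrank_span_le_ncard_of_finite (Set.finite_range f)) ?_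
  rw [← Set.image_univ]
  refine le_trans (Set.ncard_image_le Set.finite_univ) ?_
  rw [Set.ncard_univ, Nat.card_fin]

theorem H7_regsys_quot {R : Type u} [CommRing R] [IsLocalRing R] [IsNoetherianRing R] (c k : ℕ)
    (hd : ringKrullDim R = ((c + k : ℕ) : WithBot ℕ∞)) (y : Fin c → R) (z : Fin k → R)
    (hyz : Ideal.span (Set.range y) ⊔ Ideal.span (Set.range z) = maximalIdeal R)
    [IsLocalRing (R ⧸ Ideal.span (Set.range y))] :
    ringKrullDim (R ⧸ Ideal.span (Set.range y)) = (k : WithBot ℕ∞) ∧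
      Ideal.span (Set.range (fun i => Ideal.Quotient.mk (Ideal.span (Set.range y)) (z i))) =
        maximalIdeal (R ⧸ Ideal.span (Set.range y)) := by
  have hJ : Ideal.span (Set.range y) ≤ maximalIdeal R := hyz ▸ le_sup_left
  have hmap := H7_map_mk_maximalIdeal _ hJ
  have h2 : Ideal.span (Set.range (fun i => Ideal.Quotient.mk (Ideal.span (Set.range y)) (z i))) =
      maximalIdeal (R ⧸ Ideal.span (Set.range y)) := by
    rw [← hmap, ← hyz, Ideal.map_sup, Ideal.map_quotient_self, bot_sup_eq, Ideal.map_span,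
      ← Set.range_comp]
    rfl
  refine ⟨?_, h2⟩
  have h3 : (maximalIdeal (R ⧸ Ideal.span (Set.range y))).height ≤ (k : ℕ∞) := by
    refine le_trans (Ideal.height_le_spanFinrank _ Ideal.IsPrime.ne_top') ?_
    rw [← h2]
    exact_mod_cast H7_spanFinrank_range_le _
  have h4 : (maximalIdeal R).height ≤
      (maximalIdeal (R ⧸ Ideal.span (Set.range y))).height + (c : ℕ∞) := by
    refine le_trans (Ideal.height_le_height_add_spanFinrank_of_le hJ) ?_
    rw [hmap]
    gcongr
    exact_mod_cast H7_spanFinrank_range_le _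
  have h5 : ((maximalIdeal R).height : WithBot ℕ∞) = ((c + k : ℕ) : WithBot ℕ∞) := by
    rw [IsLocalRing.maximalIdeal_height_eq_ringKrullDim, hd]
  have h6 : (maximalIdeal R).height = ((c + k : ℕ) : ℕ∞) := by
    exact_mod_cast h5
  rw [← IsLocalRing.maximalIdeal_height_eq_ringKrullDim]
  rw [h6] at h4
  have h7 : (maximalIdeal (R ⧸ Ideal.span (Set.range y))).height = (k : ℕ∞) := by
    apply le_antisymm h3
    generalize (maximalIdeal (R ⧸ Ideal.span (Set.range y))).height = h at h4 h3
    enat_to_nat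
    omega
  rw [h7]
  rfl
theorem H7_cot_extend {R : Type u} [CommRing R] [IsLocalRing R] [IsNoetherianRing R] {c : ℕ}
    (y : Fin c → maximalIdeal R)
    (hli : LinearIndependent (ResidueField R) (fun i => (maximalIdeal R).toCotangent (y i))) :
    ∃ (k : ℕ) (z : Fin k → R), c + k = Module.finrank (ResidueField R) (CotangentSpace R) ∧
      Ideal.span (Set.range (fun i => (y i : R))) ⊔ Ideal.span (Set.range z) = maximalIdeal R := by
  classical
  let v : Fin c → CotangentSpace R := fun i => (maximalIdeal R).toCotangent (y i)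
  let W : Submodule (ResidueField R) (CotangentSpace R) := Submodule.span _ (Set.range v)
  let k := Module.finrank (ResidueField R) (CotangentSpace R ⧸ W)
  let b : Module.Basis (Fin k) (ResidueField R) (CotangentSpace R ⧸ W) := Module.finBasis _ _
  have hz : ∀ i, ∃ zi : maximalIdeal R, W.mkQ ((maximalIdeal R).toCotangent zi) = b i := by
    intro i
    obtain ⟨u, hu⟩ := W.mkQ_surjective (b i)
    obtain ⟨zi, hzi⟩ := (maximalIdeal R).toCotangent_surjective u
    exact ⟨zi, by rw [hzi, hu]⟩
  choose z hz using hz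
  have hW : Module.finrank (ResidueField R) W = c := by
    have := finrank_span_eq_card hli
    simpa using this
  have hsum := Submodule.finrank_quotient_add_finrank W
  refine ⟨k, fun i => (z i : R), by omega, ?_⟩
  have htop : Submodule.span (ResidueField R)
      ((maximalIdeal R).toCotangent '' (Set.range y ∪ Set.range z)) = ⊤ := by
    rw [eq_top_iff]
    intro u _
    set S := Submodule.span (ResidueField R)
      ((maximalIdeal R).toCotangent '' (Set.range y ∪ Set.range z)) with hS
    have hWS : W ≤ S := by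
      apply Submodule.span_le.2
      rintro _ ⟨i, rfl⟩
      exact Submodule.subset_span ⟨y i, Or.inl ⟨i, rfl⟩, rfl⟩
    have h1 : W.mkQ u = W.mkQ (∑ i, b.repr (W.mkQ u) i • (maximalIdeal R).toCotangent (z i)) := by
      conv_lhs => rw [← b.sum_repr (W.mkQ u)]
      rw [map_sum]
      refine Finset.sum_congr rfl fun i _ => ?_
      rw [map_smul, hz]
    have h2 : u - ∑ i, b.repr (W.mkQ u) i • (maximalIdeal R).toCotangent (z i) ∈ W := by
      have : W.mkQ (u - ∑ i, b.repr (W.mkQ u) i • (maximalIdeal R).toCotangent (z i)) = 0 := by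
        rw [map_sub, ← h1, sub_self]
      rwa [Submodule.mkQ_apply, Submodule.Quotient.mk_eq_zero] at this
    have h3 : ∑ i, b.repr (W.mkQ u) i • (maximalIdeal R).toCotangent (z i) ∈ S := by
      apply Submodule.sum_mem
      intro i _
      exact Submodule.smul_mem _ _ (Submodule.subset_span ⟨z i, Or.inr ⟨i, rfl⟩, rfl⟩)
    have := Submodule.add_mem _ (hWS h2) h3
    rwa [sub_add_cancel] at this
  rw [CotangentSpace.span_image_eq_top_iff] at htop
  have h4 := congrArg (Submodule.map (maximalIdeal R).subtype) htop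
  rw [Submodule.map_span, Submodule.map_top, Submodule.range_subtype, Set.image_union,
    Submodule.span_union] at h4
  refine Eq.trans ?_ h4
  congr 1
  · congr 1
    ext r
    constructor
    · rintro ⟨i, rfl⟩
      exact ⟨y i, ⟨i, rfl⟩, rfl⟩
    · rintro ⟨_, ⟨i, rfl⟩, rfl⟩
      exact ⟨i, rfl⟩
  · congr 1
    ext r
    constructor
    · rintro ⟨i, rfl⟩
      exact ⟨z i, ⟨i, rfl⟩, rfl⟩
    · rintro ⟨_, ⟨i, rfl⟩, rfl⟩
      exact ⟨i, rfl⟩

theorem H7_rlr_of_gens {R : Type u} [CommRing R] [IsLocalRing R] [IsNoetherianRing R] (k : ℕ)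
    (hd : ringKrullDim R = (k : WithBot ℕ∞)) (z : Fin k → R)
    (hz : Ideal.span (Set.range z) = maximalIdeal R) : IsRegularLocalRing R := by
  apply IsRegularLocalRing.of_spanFinrank_maximalIdeal_le
  rw [hd, ← hz]
  exact_mod_cast H7_spanFinrank_range_le z

theorem H7_rlr_finrank {R : Type u} [CommRing R] [IsRegularLocalRing R] (d : ℕ)
    (hd : ringKrullDim R = (d : WithBot ℕ∞)) :
    Module.finrank (ResidueField R) (CotangentSpace R) = d := by
  have := (IsRegularLocalRing.iff_finrank_cotangentSpace R).1 inferInstance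
  rw [hd] at this
  exact_mod_cast this

/-- existence of a good parameter -/
theorem H7_exists_good_param {R : Type u} [CommRing R] [IsRegularLocalRing R] (d : ℕ)
    (hd : ringKrullDim R = ((d + 1 : ℕ) : WithBot ℕ∞)) :
    ∃ x ∈ maximalIdeal R, x ∉ maximalIdeal R ^ 2 ∧ ∀ p ∈ minimalPrimes R, x ∉ p := by
  classical
  by_contra hcon
  push Not at hcon
  let s : Finset (Ideal R) :=
    insert (maximalIdeal R ^ 2) (minimalPrimes.finite_of_isNoetherianRing R).toFinset
  have hsub : ((maximalIdeal R : Ideal R) : Set R) ⊆ ⋃ i ∈ (↑s : Set (Ideal R)), (id i : Ideal R) := by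
    intro x hx
    simp only [Set.mem_iUnion]
    by_cases h2 : x ∈ maximalIdeal R ^ 2
    · exact ⟨maximalIdeal R ^ 2, by simp [s], h2⟩
    · obtain ⟨p, hp, hxp⟩ := hcon x hx h2
      exact ⟨p, by simp [s, hp], hxp⟩
  have hp : ∀ i ∈ s, i ≠ maximalIdeal R ^ 2 → i ≠ maximalIdeal R ^ 2 → (id i : Ideal R).IsPrime := by
    intro i hi hne _
    simp only [s, Finset.mem_insert, Set.Finite.mem_toFinset] at hi
    rcases hi with hi | hi
    · exact absurd hi hne
    · exact hi.1.1
  obtain ⟨i, hi, hle⟩ := (Ideal.subset_union_prime (maximalIdeal R ^ 2) (maximalIdeal R ^ 2) hp).1 hsub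
  simp only [s, Finset.mem_insert, Set.Finite.mem_toFinset] at hi
  have hfr := H7_rlr_finrank (d + 1) hd
  rcases hi with hi | hi
  · -- m ≤ m^2
    rw [hi] at hle
    have : Subsingleton (CotangentSpace R) := by
      refine ⟨fun a b => ?_⟩
      obtain ⟨a', rfl⟩ := (maximalIdeal R).toCotangent_surjective a
      obtain ⟨b', rfl⟩ := (maximalIdeal R).toCotangent_surjective b
      rw [(Ideal.toCotangent_eq_zero _ a').2 (hle a'.2), (Ideal.toCotangent_eq_zero _ b').2 (hle b'.2)]
    rw [Module.finrank_zero_of_subsingleton] at hfr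
    omega
  · -- m ≤ minimal prime
    have hpm : i = maximalIdeal R :=
      ((maximalIdeal.isMaximal R).eq_of_le hi.1.1.ne_top hle).symm
    rw [hpm] at hi
    have h0 : (maximalIdeal R).height = 0 := Ideal.height_eq_zero_iff.2 hi
    have h1 : ((maximalIdeal R).height : WithBot ℕ∞) = ((d + 1 : ℕ) : WithBot ℕ∞) := by
      rw [IsLocalRing.maximalIdeal_height_eq_ringKrullDim, hd]
    rw [h0] at h1
    have : (0 : ℕ∞) = ((d + 1 : ℕ) : ℕ∞) := by exact_mod_cast h1
    have : (0 : ℕ) = d + 1 := by exact_mod_cast this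
    omega

theorem H7_rlr_quot_param {R : Type u} [CommRing R] [IsRegularLocalRing R] (d : ℕ)
    (hd : ringKrullDim R = ((d + 1 : ℕ) : WithBot ℕ∞)) (x : R) (hx : x ∈ maximalIdeal R)
    (hx2 : x ∉ maximalIdeal R ^ 2) :
    IsRegularLocalRing (R ⧸ Ideal.span {x}) ∧ ringKrullDim (R ⧸ Ideal.span {x}) = (d : WithBot ℕ∞) := by
  have hfr := H7_rlr_finrank (d + 1) hd
  let y : Fin 1 → maximalIdeal R := fun _ => ⟨x, hx⟩
  have hli : LinearIndependent (ResidueField R) (fun i => (maximalIdeal R).toCotangent (y i)) := by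
    rw [linearIndependent_unique_iff]
    intro h0
    exact hx2 ((Ideal.toCotangent_eq_zero _ _).1 h0)
  obtain ⟨k, z, hk, hyz⟩ := H7_cot_extend y hli
  have hrange : Set.range (fun i => (y i : R)) = {x} := by
    ext r
    simp [y]
  have hk' : k = d := by omega
  subst hk'
  have hJ : Ideal.span (Set.range (fun i => (y i : R))) ≤ maximalIdeal R :=
    le_of_le_of_eq le_sup_left hyz
  have hloc : IsLocalRing (R ⧸ Ideal.span (Set.range (fun i => (y i : R)))) :=
    H7_quot_isLocalRing _ hJ
  have hd' : ringKrullDim R = ((1 + k : ℕ) : WithBot ℕ∞) := by rw [hd]; congr 1; omega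
  obtain ⟨h1, h2⟩ := H7_regsys_quot 1 k hd' (fun i => (y i : R)) z hyz
  have h3 := H7_rlr_of_gens k h1 _ h2
  rw [hrange] at h3 h1
  exact ⟨h3, h1⟩

theorem H7_rlr_isDomain : ∀ (d : ℕ) (R : Type u) [CommRing R] [IsRegularLocalRing R],
    ringKrullDim R = (d : WithBot ℕ∞) → IsDomain R := by
  intro d
  induction d with
  | zero =>
    intro R _ _ hd
    have h1 := IsRegularLocalRing.spanFinrank_maximalIdeal (R := R)
    rw [hd] at h1
    have h2 : (maximalIdeal R).spanFinrank = 0 := by exact_mod_cast h1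
    have h3 : maximalIdeal R = ⊥ :=
      (Submodule.spanFinrank_eq_zero_iff_eq_bot (IsNoetherian.noetherian _)).1 h2
    have h4 : IsField R := (IsLocalRing.isField_iff_maximalIdeal_eq).2 h3
    exact h4.isDomain
  | succ d ih =>
    intro R _ _ hd
    obtain ⟨x, hx, hx2, hxp⟩ := H7_exists_good_param d hd
    obtain ⟨hreg, hdim⟩ := H7_rlr_quot_param d hd x hx hx2
    have hdom : IsDomain (R ⧸ Ideal.span {x}) := ih (R ⧸ Ideal.span {x}) hdim
    have hprime : (Ideal.span {x}).IsPrime := (Ideal.Quotient.isDomain_iff_prime _).1 hdom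
    obtain ⟨p, hp, hple⟩ := Ideal.exists_minimalPrimes_le (bot_le : (⊥ : Ideal R) ≤ Ideal.span {x})
    have hpprime : p.IsPrime := hp.1.1
    have hxnp : x ∉ p := hxp p hp
    have hpm : p ≤ maximalIdeal R • p := by
      intro y hy
      obtain ⟨a, rfl⟩ := Ideal.mem_span_singleton'.1 (hple hy)
      have ha : a ∈ p := (hpprime.mem_or_mem hy).resolve_right hxnp
      rw [mul_comm]
      exact Submodule.smul_mem_smul hx ha
    have hpbot : p = ⊥ :=
      Submodule.eq_bot_of_le_smul_of_le_jacobson_bot (maximalIdeal R) p (IsNoetherian.noetherian _)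
        hpm (IsLocalRing.maximalIdeal_le_jacobson _)
    rw [hpbot] at hpprime
    exact IsDomain.of_bot_isPrime R

theorem H7_rlr_isDomain' (R : Type u) [CommRing R] [IsRegularLocalRing R] : IsDomain R :=
  H7_rlr_isDomain (maximalIdeal R).spanFinrank R
    (IsRegularLocalRing.spanFinrank_maximalIdeal (R := R)).symm

end Groth.Agent.Lib.helper7
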