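import Mathlib
import Groth.Agent.Lib.helper7.RegLoc
open IsLocalRing

universe u

namespace Groth.Agent.Lib.helper7

theorem H7_regsys_quot' {R : Type u} [CommRing R] [IsLocalRing R] [IsNoetherianRing R] (c k : ℕ)
    (hd : ringKrullDim R = ((c + k : ℕ) : WithBot ℕ∞)) (J : Ideal R) (hJc : J.spanFinrank ≤ c)
    (z : Fin k → R)
    (hyz : J ⊔ Ideal.span (Set.range z) = maximalIdeal R)
    [IsLocalRing (R ⧸ J)] :
    ringKrullDim (R ⧸ J) = (k : WithBot ℕ∞) ∧
      Ideal.span (Set.range (fun i => Ideal.Quotient.mk J (z i))) =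
        maximalIdeal (R ⧸ J) := by
  have hJ : J ≤ maximalIdeal R := hyz ▸ le_sup_left
  have hmap := H7_map_mk_maximalIdeal _ hJ
  have h2 : Ideal.span (Set.range (fun i => Ideal.Quotient.mk J (z i))) =
      maximalIdeal (R ⧸ J) := by
    rw [← hmap, ← hyz, Ideal.map_sup, Ideal.map_quotient_self, bot_sup_eq, Ideal.map_span,
      ← Set.range_comp]
    rfl
  refine ⟨?_, h2⟩
  have h3 : (maximalIdeal (R ⧸ J)).height ≤ (k : ℕ∞) := by
    refine le_trans (Ideal.height_le_spanFinrank _ Ideal.IsPrime.ne_top') ?_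
    rw [← h2]
    exact_mod_cast H7_spanFinrank_range_le _
  have h4 : (maximalIdeal R).height ≤
      (maximalIdeal (R ⧸ J)).height + (c : ℕ∞) := by
    refine le_trans (Ideal.height_le_height_add_spanFinrank_of_le hJ) ?_
    rw [hmap]
    gcongr
  have h5 : ((maximalIdeal R).height : WithBot ℕ∞) = ((c + k : ℕ) : WithBot ℕ∞) := by
    rw [IsLocalRing.maximalIdeal_height_eq_ringKrullDim, hd]
  have h6 : (maximalIdeal R).height = ((c + k : ℕ) : ℕ∞) := by
    exact_mod_cast h5
  rw [← IsLocalRing.maximalIdeal_height_eq_ringKrullDim]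
  rw [h6] at h4
  have h7 : (maximalIdeal (R ⧸ J)).height = (k : ℕ∞) := by
    apply le_antisymm h3
    generalize (maximalIdeal (R ⧸ J)).height = h at h4 h3
    enat_to_nat
    omega
  rw [h7]
  rfl

theorem H7_spanFinrank_singleton_le {R : Type u} [CommRing R] (x : R) :
    (Ideal.span {x}).spanFinrank ≤ 1 := by
  have := Submodule.spanFinrank_span_le_ncard_of_finite (R := R) (Set.finite_singleton x)
  rwa [Set.ncard_singleton] at this

theorem H7_regsys_quot_one {R : Type u} [CommRing R] [IsLocalRing R] [IsNoetherianRing R] (k : ℕ)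
    (hd : ringKrullDim R = ((k + 1 : ℕ) : WithBot ℕ∞)) (x0 : R) (z : Fin k → R)
    (hyz : Ideal.span {x0} ⊔ Ideal.span (Set.range z) = maximalIdeal R)
    [IsLocalRing (R ⧸ Ideal.span {x0})] :
    ringKrullDim (R ⧸ Ideal.span {x0}) = (k : WithBot ℕ∞) ∧
      Ideal.span (Set.range (fun i => Ideal.Quotient.mk (Ideal.span {x0}) (z i))) =
        maximalIdeal (R ⧸ Ideal.span {x0}) := by
  have hd' : ringKrullDim R = ((1 + k : ℕ) : WithBot ℕ∞) := by rw [hd]; congr 1; omega
  exact H7_regsys_quot' 1 k hd' _ (H7_spanFinrank_singleton_le x0) z hyz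

end Groth.Agent.Lib.helper7
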