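import Mathlib
import Groth.Agent.Lib.helper7.RegLoc2
open IsLocalRing

universe u

namespace Groth.Agent.Lib.helper7

theorem H7_max_eq_sup_lift {R : Type u} [CommRing R] [IsLocalRing R] (J : Ideal R)
    (hJ : J ≤ maximalIdeal R) [IsLocalRing (R ⧸ J)] (s : Finset (R ⧸ J))
    (hs : Ideal.span (s : Set (R ⧸ J)) = maximalIdeal (R ⧸ J)) :
    ∃ T : Finset R, T.card ≤ s.card ∧ maximalIdeal R = J ⊔ Ideal.span (T : Set R) := by
  classical
  have hmap := H7_map_mk_maximalIdeal J hJ
  have hlift : ∀ a : R ⧸ J, ∃ r : R, Ideal.Quotient.mk J r = a := Ideal.Quotient.mk_surjective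
  choose lift hliftp using hlift
  let T : Finset R := s.image lift
  have hTimg : (Ideal.Quotient.mk J) '' (T : Set R) = (s : Set (R ⧸ J)) := by
    ext a
    simp only [T, Finset.coe_image, Set.mem_image, Finset.mem_coe]
    constructor
    · rintro ⟨_, ⟨b, hb, rfl⟩, rfl⟩
      rw [hliftp]
      exact hb
    · intro ha
      exact ⟨lift a, ⟨a, ha, rfl⟩, hliftp a⟩
  refine ⟨T, Finset.card_image_le, ?_⟩
  have h1 : Ideal.map (Ideal.Quotient.mk J) (Ideal.span (T : Set R)) = maximalIdeal (R ⧸ J) := by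
    rw [Ideal.map_span, hTimg]
    exact hs
  have h2 : Ideal.comap (Ideal.Quotient.mk J) (maximalIdeal (R ⧸ J)) = maximalIdeal R := by
    rw [← hmap, Ideal.comap_map_of_surjective' _ Ideal.Quotient.mk_surjective, Ideal.mk_ker,
      sup_eq_left.2 hJ]
  rw [← h2, ← h1, Ideal.comap_map_of_surjective' _ Ideal.Quotient.mk_surjective, Ideal.mk_ker,
    sup_comm]

theorem H7_rlr_quot_sq_bot (S : Type u) [CommRing S] [IsRegularLocalRing S] (K : Ideal S)
    (hK : K ≤ maximalIdeal S ^ 2) [IsRegularLocalRing (S ⧸ K)] : K = ⊥ := by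
  classical
  have hdom : IsDomain S := H7_rlr_isDomain' S
  by_contra hne
  obtain ⟨t, htK, ht0⟩ := Submodule.exists_mem_ne_zero_of_ne_bot hne
  have htnzd : t ∈ nonZeroDivisors S := mem_nonZeroDivisors_of_ne_zero ht0
  have hdim := ringKrullDim_succ_le_of_surjective (Ideal.Quotient.mk K)
    Ideal.Quotient.mk_surjective htnzd (Ideal.Quotient.eq_zero_iff_mem.2 htK)
  have hKm : K ≤ maximalIdeal S := le_trans hK (Ideal.pow_le_self (by norm_num))
  obtain ⟨s, hs1, hs2⟩ := Submodule.FG.exists_span_finset_card_eq_spanFinrank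
    (IsNoetherian.noetherian (maximalIdeal (S ⧸ K)))
  obtain ⟨T, hT1, hT2⟩ := H7_max_eq_sup_lift K hKm s hs2
  have hle : maximalIdeal S ≤ Ideal.span (T : Set S) := by
    apply Submodule.le_of_le_smul_of_le_jacobson_bot (I := maximalIdeal S)
      (IsNoetherian.noetherian _) (IsLocalRing.maximalIdeal_le_jacobson _)
    conv_lhs => rw [hT2]
    rw [sup_comm]
    refine sup_le_sup le_rfl ?_
    rw [smul_eq_mul, ← pow_two]
    exact hK
  have heq : maximalIdeal S = Ideal.span (T : Set S) := by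
    apply le_antisymm hle
    rw [hT2]
    exact le_sup_right
  have hfr : (maximalIdeal S).spanFinrank ≤ s.card := by
    rw [heq]
    refine le_trans (Submodule.spanFinrank_span_le_ncard_of_finite (Finset.finite_toSet _)) ?_
    rw [Set.ncard_coe_finset]
    exact hT1
  have h1 := IsRegularLocalRing.spanFinrank_maximalIdeal (R := S)
  have h2 := IsRegularLocalRing.spanFinrank_maximalIdeal (R := S ⧸ K)
  rw [← h1, ← h2, ← hs1] at hdim
  have : ((s.card + 1 : ℕ) : WithBot ℕ∞) ≤ ((maximalIdeal S).spanFinrank : WithBot ℕ∞) := by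
    exact_mod_cast hdim
  have : s.card + 1 ≤ (maximalIdeal S).spanFinrank := by exact_mod_cast this
  omega

end Groth.Agent.Lib.helper7
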