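import Mathlib
import Groth.Agent.Lib.helper7.RegLoc5
open IsLocalRing

universe u

namespace Groth.Agent.Lib.helper7

theorem H7_exists_max_li {R : Type u} [CommRing R] [IsLocalRing R] [IsNoetherianRing R]
    (I : Ideal R) :
    ∃ (c : ℕ) (y : Fin c → maximalIdeal R), (∀ i, (y i : R) ∈ I) ∧
      LinearIndependent (ResidueField R) (fun i => (maximalIdeal R).toCotangent (y i)) ∧
      ∀ t : maximalIdeal R, (t : R) ∈ I → (maximalIdeal R).toCotangent t ∈
        Submodule.span (ResidueField R) (Set.range (fun i => (maximalIdeal R).toCotangent (y i))) := by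
  classical
  let P : ℕ → Prop := fun c => ∃ y : Fin c → maximalIdeal R, (∀ i, (y i : R) ∈ I) ∧
      LinearIndependent (ResidueField R) (fun i => (maximalIdeal R).toCotangent (y i))
  let d := Module.finrank (ResidueField R) (CotangentSpace R)
  have hPle : ∀ c, P c → c ≤ d := by
    rintro c ⟨y, -, hli⟩
    have := hli.fintype_card_le_finrank
    simpa using this
  have hP0 : P 0 := ⟨Fin.elim0, fun i => i.elim0, linearIndependent_empty_type⟩
  have hspec : P (Nat.findGreatest P d) := Nat.findGreatest_spec (Nat.zero_le d) hP0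
  obtain ⟨y, hyI, hli⟩ := hspec
  refine ⟨_, y, hyI, hli, ?_⟩
  intro t htI
  by_contra hnot
  have hli' : LinearIndependent (ResidueField R)
      (Fin.snoc (fun i => (maximalIdeal R).toCotangent (y i)) ((maximalIdeal R).toCotangent t) :
        Fin (Nat.findGreatest P d + 1) → CotangentSpace R) :=
    linearIndependent_finSnoc.2 ⟨hli, hnot⟩
  have hP1 : P (Nat.findGreatest P d + 1) := by
    refine ⟨Fin.snoc y t, ?_, ?_⟩
    · intro i
      refine Fin.lastCases ?_ (fun j => ?_) i
      · simpa using htI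
      · simpa using hyI j
    · convert hli' using 1
      ext i
      refine Fin.lastCases ?_ (fun j => ?_) i
      · simp
      · simp
  have h1 := hPle _ hP1
  have h2 := Nat.le_findGreatest h1 hP1
  omega

theorem H7_le_sup_sq {R : Type u} [CommRing R] [IsLocalRing R] [IsNoetherianRing R]
    (I : Ideal R) (hI : I ≤ maximalIdeal R) {c : ℕ} (y : Fin c → maximalIdeal R)
    (hmax : ∀ t : maximalIdeal R, (t : R) ∈ I → (maximalIdeal R).toCotangent t ∈
        Submodule.span (ResidueField R) (Set.range (fun i => (maximalIdeal R).toCotangent (y i)))) :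
    I ≤ Ideal.span (Set.range (fun i => (y i : R))) ⊔ maximalIdeal R ^ 2 := by
  intro t ht
  have h1 := hmax ⟨t, hI ht⟩ ht
  rw [Submodule.mem_span_range_iff_exists_fun] at h1
  obtain ⟨a, ha⟩ := h1
  have hr : ∀ i, ∃ r : R, IsLocalRing.residue R r = a i := fun i =>
    IsLocalRing.residue_surjective (a i)
  choose r hr using hr
  have hsm : ∀ (s : R) (z : CotangentSpace R), (IsLocalRing.residue R s) • z = s • z := by
    intro s z
    rw [← IsLocalRing.ResidueField.algebraMap_eq, algebraMap_smul]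
  have h2 : (maximalIdeal R).toCotangent (⟨t, hI ht⟩ - ∑ i, r i • y i) = 0 := by
    rw [map_sub, map_sum, ← ha, sub_eq_zero]
    refine Finset.sum_congr rfl fun i _ => ?_
    rw [map_smul, ← hr i, hsm]
  rw [Ideal.toCotangent_eq_zero] at h2
  have h3 : t = (∑ i, r i * (y i : R)) + (t - ∑ i, r i * (y i : R)) := by ring
  rw [h3]
  apply Ideal.add_mem
  · apply Ideal.mem_sup_left
    exact Ideal.sum_mem _ fun i _ => Ideal.mul_mem_left _ _ (Ideal.subset_span ⟨i, rfl⟩)
  · apply Ideal.mem_sup_right
    convert h2 using 1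
    simp [AddSubmonoidClass.coe_finsetSum]

theorem H7_rlr_quot_gens (R : Type u) [CommRing R]
    [IsRegularLocalRing R] (d : ℕ) (hd : ringKrullDim R = d) (I : Ideal R)
    [IsRegularLocalRing (R ⧸ I)] :
    ∃ (x : Fin d → R) (c : ℕ) (hc : c ≤ d), Ideal.span (Set.range x) = IsLocalRing.maximalIdeal R ∧
      I = Ideal.span (Set.range (fun i : Fin c => x (Fin.castLE hc i))) := by
  classical
  have hItop : I ≠ ⊤ := by
    intro h
    have : Subsingleton (R ⧸ I) := Ideal.Quotient.subsingleton_iff.2 h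
    exact not_subsingleton (R ⧸ I) this
  have hI : I ≤ maximalIdeal R := IsLocalRing.le_maximalIdeal hItop
  obtain ⟨c, y, hyI, hli, hmax⟩ := H7_exists_max_li I
  have hIsq := H7_le_sup_sq I hI y hmax
  obtain ⟨k, z, hk, hyz⟩ := H7_cot_extend y hli
  have hfr := H7_rlr_finrank d hd
  set J : Ideal R := Ideal.span (Set.range (fun i => (y i : R))) with hJdef
  have hJI : J ≤ I := Ideal.span_le.2 (by rintro _ ⟨i, rfl⟩; exact hyI i)
  have hJm : J ≤ maximalIdeal R := hJI.trans hI
  have hloc : IsLocalRing (R ⧸ J) := H7_quot_isLocalRing J hJm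
  have hd' : ringKrullDim R = ((c + k : ℕ) : WithBot ℕ∞) := by
    rw [hd, hk, hfr]
  obtain ⟨h1, h2⟩ := H7_regsys_quot' c k hd' J (by
    rw [hJdef]; exact H7_spanFinrank_range_le _) z hyz
  have hregS : IsRegularLocalRing (R ⧸ J) := H7_rlr_of_gens k h1 _ h2
  -- the image of I in R ⧸ J
  set K : Ideal (R ⧸ J) := I.map (Ideal.Quotient.mk J) with hKdef
  have hKsq : K ≤ maximalIdeal (R ⧸ J) ^ 2 := by
    rw [hKdef, ← H7_map_mk_maximalIdeal J hJm, ← Ideal.map_pow]
    refine le_trans (Ideal.map_mono hIsq) ?_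
    rw [Ideal.map_sup, Ideal.map_quotient_self, bot_sup_eq]
  have e : ((R ⧸ J) ⧸ K) ≃+* (R ⧸ I) := DoubleQuot.quotQuotEquivQuotOfLE hJI
  have hregK : IsRegularLocalRing ((R ⧸ J) ⧸ K) := IsRegularLocalRing.of_ringEquiv e.symm
  have hKbot : K = ⊥ := H7_rlr_quot_sq_bot (R ⧸ J) K hKsq
  have hIJ : I ≤ J := by
    rw [hKdef, Ideal.map_eq_bot_iff_le_ker, Ideal.mk_ker] at hKbot
    exact hKbot
  have hIeq : I = J := le_antisymm hIJ hJI
  have hck : c + k = d := by omega
  refine ⟨fun i => Fin.append (fun i => (y i : R)) z (Fin.cast hck.symm i), c, by omega, ?_, ?_⟩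
  · refine Eq.trans ?_ hyz
    rw [hJdef, ← Ideal.span_union]
    congr 1
    ext r
    constructor
    · rintro ⟨i, rfl⟩
      simp only
      refine Fin.addCases (fun j => ?_) (fun j => ?_) (Fin.cast hck.symm i)
      · left
        rw [Fin.append_left]
        exact ⟨j, rfl⟩
      · right
        rw [Fin.append_right]
        exact ⟨j, rfl⟩
    · rintro (⟨j, rfl⟩ | ⟨j, rfl⟩)
      · refine ⟨Fin.cast hck (Fin.castAdd k j), ?_⟩
        simp
      · refine ⟨Fin.cast hck (Fin.natAdd c j), ?_⟩
        simp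
  · rw [hIeq, hJdef]
    congr 2
    ext i
    have : Fin.cast hck.symm (Fin.castLE (by omega : c ≤ d) i) = Fin.castAdd k i := by
      ext
      simp
    simp only [this, Fin.append_left]

end Groth.Agent.Lib.helper7
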