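import Mathlib
import Groth.Agent.Lib.helper7.RegLoc6
open IsLocalRing

universe u

namespace Groth.Agent.Lib.helper7

theorem H7_S5779 (A : Type u) [CommRing A] [IsLocalRing A]
    [IsNoetherianRing A] (r : ℕ) (x : Fin r → IsLocalRing.maximalIdeal A) :
    ((IsRegularLocalRing A ∧
        LinearIndependent (IsLocalRing.ResidueField A)
          (fun i => (IsLocalRing.maximalIdeal A).toCotangent (x i))) ↔
      (ringKrullDim (A ⧸ Ideal.span (Set.range fun i => (x i : A))) + r = ringKrullDim A ∧
        IsRegularLocalRing (A ⧸ Ideal.span (Set.range fun i => (x i : A))))) ∧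
    (IsRegularLocalRing (A ⧸ Ideal.span (Set.range fun i => (x i : A))) →
      ringKrullDim (A ⧸ Ideal.span (Set.range fun i => (x i : A))) + r = ringKrullDim A →
        (Ideal.span (Set.range fun i => (x i : A))).IsPrime) := by
  classical
  set J : Ideal A := Ideal.span (Set.range fun i => (x i : A)) with hJdef
  have hJm : J ≤ maximalIdeal A := Ideal.span_le.2 (by rintro _ ⟨i, rfl⟩; exact (x i).2)
  have hloc : IsLocalRing (A ⧸ J) := H7_quot_isLocalRing J hJm
  refine ⟨⟨?_, ?_⟩, ?_⟩
  · rintro ⟨hreg, hli⟩
    obtain ⟨k, z, hk, hyz⟩ := H7_cot_extend x hli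
    have hd : ringKrullDim A = ((maximalIdeal A).spanFinrank : WithBot ℕ∞) :=
      (IsRegularLocalRing.spanFinrank_maximalIdeal (R := A)).symm
    have hfr := H7_rlr_finrank _ hd
    have hd' : ringKrullDim A = ((r + k : ℕ) : WithBot ℕ∞) := by
      rw [hd, hk, hfr]
    obtain ⟨h1, h2⟩ := H7_regsys_quot' r k hd' J (by
      rw [hJdef]; exact H7_spanFinrank_range_le _) z hyz
    refine ⟨?_, H7_rlr_of_gens k h1 _ h2⟩
    rw [h1, hd']
    push_cast
    rw [add_comm]
  · rintro ⟨hdim, hreg'⟩
    have hk : ringKrullDim (A ⧸ J) = ((maximalIdeal (A ⧸ J)).spanFinrank : WithBot ℕ∞) :=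
      (IsRegularLocalRing.spanFinrank_maximalIdeal (R := A ⧸ J)).symm
    set k := (maximalIdeal (A ⧸ J)).spanFinrank with hkdef
    obtain ⟨s, hs1, hs2⟩ := Submodule.FG.exists_span_finset_card_eq_spanFinrank
      (IsNoetherian.noetherian (maximalIdeal (A ⧸ J)))
    obtain ⟨T, hT1, hT2⟩ := H7_max_eq_sup_lift J hJm s hs2
    have hdA : ringKrullDim A = ((k + r : ℕ) : WithBot ℕ∞) := by
      rw [← hdim, hk]
      push_cast
      rfl
    have hTm : ∀ t ∈ T, t ∈ maximalIdeal A := by
      intro t ht
      rw [hT2]
      exact Ideal.mem_sup_right (Ideal.subset_span ht)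
    -- the combined family
    let w : Fin r ⊕ T → maximalIdeal A := Sum.elim x (fun t => ⟨t.1, hTm t.1 t.2⟩)
    have hrange : Set.range (fun i => (w i : A)) = Set.range (fun i => (x i : A)) ∪ (T : Set A) := by
      ext a
      constructor
      · rintro ⟨i | t, rfl⟩
        · left; exact ⟨i, rfl⟩
        · right; exact t.2
      · rintro (⟨i, rfl⟩ | ht)
        · exact ⟨Sum.inl i, rfl⟩
        · exact ⟨Sum.inr ⟨a, ht⟩, rfl⟩
    have hspanw : Ideal.span (Set.range (fun i => (w i : A))) = maximalIdeal A := by
      rw [hrange, Ideal.span_union, ← hT2]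
    have hcard : Fintype.card (Fin r ⊕ T) ≤ k + r := by
      rw [Fintype.card_sum, Fintype.card_fin, Fintype.card_coe]
      omega
    have hregA : IsRegularLocalRing A := by
      apply IsRegularLocalRing.of_spanFinrank_maximalIdeal_le
      rw [hdA, ← hspanw]
      have h1 := Submodule.spanFinrank_span_le_ncard_of_finite (R := A)
        (Set.finite_range (fun i => (w i : A)))
      have h2 : (Set.range (fun i => (w i : A))).ncard ≤ Fintype.card (Fin r ⊕ T) := by
        rw [← Set.image_univ]
        refine le_trans (Set.ncard_image_le Set.finite_univ) ?_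
        rw [Set.ncard_univ, Nat.card_eq_fintype_card]
      exact_mod_cast (h1.trans h2).trans hcard
    refine ⟨hregA, ?_⟩
    have hfr := H7_rlr_finrank _ hdA
    have htop : Submodule.span A (Set.range w) = ⊤ := by
      apply Submodule.map_injective_of_injective (Submodule.injective_subtype (maximalIdeal A))
      rw [Submodule.map_span, Submodule.map_subtype_top, ← Set.range_comp]
      exact hspanw
    have htop' : Submodule.span (ResidueField A)
        (Set.range (fun i => (maximalIdeal A).toCotangent (w i))) = ⊤ := by
      rw [← CotangentSpace.span_image_eq_top_iff, ← Set.range_comp] at htop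
      exact htop
    have hfr' : Module.finrank (ResidueField A) (maximalIdeal A).Cotangent = k + r := hfr
    have hcard2 : Module.finrank (ResidueField A) (maximalIdeal A).Cotangent ≤
        Fintype.card (Fin r ⊕ T) := by
      have := finrank_range_le_card (R := ResidueField A)
        (fun i => (maximalIdeal A).toCotangent (w i))
      unfold Set.finrank at this
      rw [htop', finrank_top] at this
      exact this
    have hliw : LinearIndependent (ResidueField A)
        (fun i => (maximalIdeal A).toCotangent (w i)) :=
      linearIndependent_of_top_le_span_of_card_eq_finrank (le_of_eq htop'.symm) (by omega)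
    exact hliw.comp Sum.inl Sum.inl_injective
  · intro hreg' _
    have hdom : IsDomain (A ⧸ J) := H7_rlr_isDomain' (A ⧸ J)
    exact (Ideal.Quotient.isDomain_iff_prime J).1 hdom

end Groth.Agent.Lib.helper7
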