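import Mathlib
import Groth.Agent.Lib.helper7.RegLoc8
import Groth.Agent.Lib.helper7.RegLoc6
open IsLocalRing

universe u

namespace Groth.Agent.Lib.helper7

theorem H7_S19445 (k : Type u) [Field k] (A : Type u) [CommRing A]
    [Algebra k A] [IsRegularLocalRing A]
    (hres : Function.Surjective (algebraMap k (IsLocalRing.ResidueField A)))
    (G : Type u) [Group G] [Finite G] [MulSemiringAction G A] [SMulCommClass G k A]
    (hG : (Nat.card G : k) ≠ 0) :
    IsRegularLocalRing (A ⧸ Ideal.span {x : A | ∃ (g : G) (a : A), x = g • a - a}) := by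
  classical
  have _ : Fintype G := Fintype.ofFinite G
  set m := maximalIdeal A with hm
  set I : Ideal A := Ideal.span {x : A | ∃ (g : G) (a : A), x = g • a - a} with hI
  have hgm : ∀ (g : G) (a : A), a ∈ m → g • a ∈ m := by
    intro g a ha
    rw [hm, mem_maximalIdeal, mem_nonunits_iff] at ha ⊢
    intro hu
    apply ha
    have : a = g⁻¹ • (g • a) := by rw [inv_smul_smul]
    rw [this]
    exact hu.map (MulSemiringAction.toRingHom G A g⁻¹)
  have hgk : ∀ (g : G) (c : k), g • algebraMap k A c = algebraMap k A c := by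
    intro g c; rw [Algebra.algebraMap_eq_smul_one, smul_comm, smul_one]
  have hdec : ∀ a : A, ∃ c : k, a - algebraMap k A c ∈ m := by
    intro a
    obtain ⟨c, hc⟩ := hres (residue A a)
    refine ⟨c, ?_⟩
    have hres' : residue A (algebraMap k A c) = algebraMap k (ResidueField A) c := by
      rw [IsScalarTower.algebraMap_apply k A (ResidueField A)]; rfl
    rw [hm, ← residue_eq_zero_iff, map_sub, hres', hc, sub_self]
  have hDI : ∀ (g : G) (a : A), g • a - a ∈ I := fun g a => Ideal.subset_span ⟨g, a, rfl⟩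
  have hIm : I ≤ m := by
    rw [hI, Ideal.span_le]
    rintro x ⟨g, a, rfl⟩
    obtain ⟨c, hc⟩ := hdec a
    have : g • a - a = g • (a - algebraMap k A c) - (a - algebraMap k A c) := by
      rw [smul_sub, hgk]; ring
    rw [this]
    exact sub_mem (hgm g _ hc) hc
  -- the operator Q
  let Q : A → A := fun a => (Nat.card G : k)⁻¹ • ∑ g : G, (a - g • a)
  have hQadd : ∀ x y, Q (x + y) = Q x + Q y := by
    intro x y
    simp only [Q]
    rw [← smul_add, ← Finset.sum_add_distrib]
    congr 1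
    refine Finset.sum_congr rfl (fun g _ => ?_)
    rw [smul_add]; ring
  have hQsmul : ∀ (c : k) x, Q (c • x) = c • Q x := by
    intro c x
    simp only [Q]
    have : ∀ g : G, c • x - g • (c • x) = c • (x - g • x) := by
      intro g; rw [smul_comm g c x, smul_sub]
    simp only [this]
    rw [← Finset.smul_sum, smul_comm]
  have hQD : ∀ (h : G) (a : A), Q (h • a - a) = h • a - a := by
    intro h a
    simp only [Q]
    have h1 : ∑ g : G, g • (h • a - a) = 0 := by
      simp only [smul_sub, Finset.sum_sub_distrib, ← mul_smul]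
      rw [sub_eq_zero]
      exact Fintype.sum_bijective (fun g => g * h) (Group.mulRight_bijective h) _ _ (fun g => rfl)
    rw [Finset.sum_sub_distrib, h1, sub_zero, Finset.sum_const, Finset.card_univ, ← Nat.card_eq_fintype_card,
      ← Nat.cast_smul_eq_nsmul k, smul_smul, inv_mul_cancel₀ hG, one_smul]
  have hmI : ∀ x ∈ m * I, ∀ c : k, c • x ∈ m * I := by
    intro x hx c
    rw [Algebra.smul_def]; exact Ideal.mul_mem_left _ _ hx
  have hQmm : ∀ u ∈ m, ∀ v ∈ m, Q (u * v) ∈ m * I := by
    intro u hu v hv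
    simp only [Q]
    apply hmI
    refine Ideal.sum_mem _ (fun g _ => ?_)
    have : u * v - g • (u * v) = v * (-(g • u - u)) + g • u * (-(g • v - v)) := by
      rw [smul_mul']; ring
    rw [this]
    exact add_mem (Ideal.mul_mem_mul hv (neg_mem (hDI g u)))
      (Ideal.mul_mem_mul (hgm g u hu) (neg_mem (hDI g v)))
  have hQ0 : Q 0 = 0 := by simp [Q]
  have hQsq : ∀ x ∈ m ^ 2, Q x ∈ m * I := by
    intro x hx
    rw [pow_two] at hx
    refine Submodule.mul_induction_on hx (fun u hu v hv => hQmm u hu v hv) (fun x y hx hy => ?_)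
    rw [hQadd]; exact add_mem hx hy
  -- decomposition of elements of I
  have hpred : ∀ x ∈ I, ∃ d r, x = d + r ∧ d ∈ I ∧ Q d = d ∧ r ∈ m * I := by
    intro x hx
    rw [hI] at hx
    induction hx using Submodule.span_induction with
    | mem x hx =>
      obtain ⟨g, a, rfl⟩ := hx
      exact ⟨g • a - a, 0, (add_zero _).symm, hDI g a, hQD g a, zero_mem _⟩
    | zero => exact ⟨0, 0, (add_zero _).symm, zero_mem _, hQ0, zero_mem _⟩
    | add x y _ _ hx hy =>
      obtain ⟨d₁, r₁, e₁, hd₁, hq₁, hr₁⟩ := hx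
      obtain ⟨d₂, r₂, e₂, hd₂, hq₂, hr₂⟩ := hy
      refine ⟨d₁ + d₂, r₁ + r₂, ?_, add_mem hd₁ hd₂, ?_, add_mem hr₁ hr₂⟩
      · rw [e₁, e₂]; ring
      · rw [hQadd, hq₁, hq₂]
    | smul a x _ hx =>
      obtain ⟨d, r, e, hd, hq, hr⟩ := hx
      obtain ⟨c, hc⟩ := hdec a
      refine ⟨c • d, (a - algebraMap k A c) * d + a * r, ?_, ?_, ?_, ?_⟩
      · rw [e, smul_eq_mul, Algebra.smul_def]; ring
      · rw [Algebra.smul_def]; exact Ideal.mul_mem_left _ _ hd
      · rw [hQsmul, hq]
      · exact add_mem (Ideal.mul_mem_mul hc hd) (Ideal.mul_mem_left _ _ hr)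
  have hmIsq : m * I ≤ m ^ 2 := by
    rw [pow_two]; exact Ideal.mul_mono_right hIm
  have hkey : I ⊓ m ^ 2 ≤ m * I := by
    rintro x ⟨hxI, hxm⟩
    obtain ⟨d, r, e, hd, hq, hr⟩ := hpred x hxI
    have hdm : d ∈ m ^ 2 := by
      have : d = x - r := by rw [e]; ring
      rw [this]; exact sub_mem hxm (hmIsq hr)
    have := hQsq d hdm
    rw [hq] at this
    rw [e]; exact add_mem this hr
  -- generators
  obtain ⟨c, y, hyI, hli, hmax⟩ := H7_exists_max_li I
  have h1 := H7_le_sup_sq I hIm y hmax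
  set J : Ideal A := Ideal.span (Set.range (fun i => (y i : A))) with hJ
  have hJI : J ≤ I := by
    rw [hJ, Ideal.span_le]; rintro _ ⟨i, rfl⟩; exact hyI i
  have h2 : I ≤ J ⊔ m • I := by
    intro x hx
    obtain ⟨j, hj, s, hs, rfl⟩ := Submodule.mem_sup.1 (h1 hx)
    have hsI : s ∈ I := by
      have : s = (j + s) - j := by ring
      rw [this]; exact sub_mem hx (hJI hj)
    exact Submodule.mem_sup.2 ⟨j, hj, s, hkey ⟨hsI, hs⟩, rfl⟩
  have h3 : I ≤ J := Submodule.le_of_le_smul_of_le_jacobson_bot (IsNoetherian.noetherian I)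
    (le_of_eq (IsLocalRing.jacobson_eq_maximalIdeal ⊥ bot_ne_top).symm) h2
  have hIJ : I = J := le_antisymm h3 hJI
  rw [hIJ]
  exact ((H7_S5779 A c y).1.1 ⟨inferInstance, hli⟩).2

end Groth.Agent.Lib.helper7
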