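import Mathlib
open RingTheory.Sequence
open Pointwise

universe u

namespace Groth.Agent.Lib.helper7

theorem H7_ofList_ofFn {A : Type u} [CommRing A] {n : ℕ} (a : Fin n → A) :
    Ideal.ofList (List.ofFn a) = Ideal.span (Set.range a) := by
  unfold Ideal.ofList
  congr 1
  ext x
  simp [List.mem_ofFn]

theorem H7_smul_top_self {A : Type u} [CommRing A] (I : Ideal A) :
    (I • (⊤ : Submodule A A)) = I := by
  show I • (⊤ : Ideal A) = I
  rw [smul_eq_mul, Ideal.mul_top]

/-- relations among a weakly regular sequence have coefficients in the ideal -/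
theorem H7_wreg_rel {A : Type u} [CommRing A] : ∀ (n : ℕ) (a : Fin n → A),
    IsWeaklyRegular A (List.ofFn a) → ∀ c : Fin n → A, ∑ i, c i * a i = 0 →
    ∀ i, c i ∈ Ideal.span (Set.range a) := by
  intro n
  induction n with
  | zero => intro a _ c _ i; exact i.elim0
  | succ n ih =>
    intro a ha c hc
    rw [List.ofFn_succ_last, isWeaklyRegular_append_iff, isWeaklyRegular_singleton_iff] at ha
    obtain ⟨h1, h2⟩ := ha
    rw [Fin.sum_univ_castSucc] at hc
    set a' : Fin n → A := fun i => a i.castSucc with ha'
    have hsub : Ideal.span (Set.range a') ≤ Ideal.span (Set.range a) := by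
      apply Ideal.span_mono
      rintro _ ⟨i, rfl⟩
      exact ⟨i.castSucc, rfl⟩
    have hlast : c (Fin.last n) ∈ Ideal.span (Set.range a') := by
      have h3 : a (Fin.last n) • (Submodule.Quotient.mk (c (Fin.last n)) :
          A ⧸ (Ideal.ofList (List.ofFn a') • ⊤ : Submodule A A)) = 0 := by
        rw [← Submodule.Quotient.mk_smul, Submodule.Quotient.mk_eq_zero, H7_smul_top_self,
          H7_ofList_ofFn, smul_eq_mul, mul_comm]
        have : c (Fin.last n) * a (Fin.last n) = - ∑ i : Fin n, c i.castSucc * a i.castSucc := by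
          linear_combination hc
        rw [this]
        apply neg_mem
        apply Ideal.sum_mem
        intro i _
        exact Ideal.mul_mem_left _ _ (Ideal.subset_span ⟨i, rfl⟩)
      have h4 := h2 (by rw [h3, smul_zero] : a (Fin.last n) • (Submodule.Quotient.mk (c (Fin.last n)) :
          A ⧸ (Ideal.ofList (List.ofFn a') • ⊤ : Submodule A A)) = a (Fin.last n) • 0)
      rw [Submodule.Quotient.mk_eq_zero, H7_smul_top_self, H7_ofList_ofFn] at h4
      exact h4
    obtain ⟨d, hd⟩ := (Ideal.mem_span_range_iff_exists_fun).1 hlast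
    have h5 : ∑ i : Fin n, (c i.castSucc + d i * a (Fin.last n)) * a' i = 0 := by
      have : ∑ i : Fin n, (c i.castSucc + d i * a (Fin.last n)) * a' i =
          ∑ i : Fin n, c i.castSucc * a i.castSucc + (∑ i, d i * a' i) * a (Fin.last n) := by
        rw [Finset.sum_mul, ← Finset.sum_add_distrib]
        refine Finset.sum_congr rfl fun i _ => ?_
        simp only [ha']
        ring
      rw [this, hd, hc]
    have h6 := ih a' h1 _ h5
    intro i
    refine Fin.lastCases ?_ (fun j => ?_) i
    · exact hsub hlast
    · have h7 := hsub (h6 j)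
      have h8 : d j * a (Fin.last n) ∈ Ideal.span (Set.range a) :=
        Ideal.mul_mem_left _ _ (Ideal.subset_span ⟨_, rfl⟩)
      have := Ideal.sub_mem _ h7 h8
      simpa using this

/-- replace the last element by a unit multiple plus earlier stuff -/
theorem H7_wreg_replace_last {A : Type u} [CommRing A] (M : Type*) [AddCommGroup M] [Module A M]
    (T : List A) (x y u : A) (hu : IsUnit u) (hy : y - u * x ∈ Ideal.ofList T)
    (h : IsWeaklyRegular M (T ++ [x])) : IsWeaklyRegular M (T ++ [y]) := by
  rw [isWeaklyRegular_append_iff, isWeaklyRegular_singleton_iff] at h ⊢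
  refine ⟨h.1, ?_⟩
  have key : ∀ z : M ⧸ (Ideal.ofList T • ⊤ : Submodule A M), y • z = u • x • z := by
    intro z
    obtain ⟨m, rfl⟩ := Submodule.Quotient.mk_surjective _ z
    rw [← Submodule.Quotient.mk_smul, ← Submodule.Quotient.mk_smul, ← Submodule.Quotient.mk_smul,
      ← sub_eq_zero, ← Submodule.Quotient.mk_sub, Submodule.Quotient.mk_eq_zero, smul_smul,
      ← sub_smul]
    exact Submodule.smul_mem_smul hy Submodule.mem_top
  intro z1 z2 h12
  simp only [key] at h12
  exact h.2 (hu.smul_left_cancel.1 h12)

/-- weakly regular cons via the quotient ring -/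
theorem H7_wreg_cons_quot {A : Type u} [CommRing A] (r : A) (T : List A) :
    IsWeaklyRegular A (r :: T) ↔ IsSMulRegular A r ∧
      IsWeaklyRegular (A ⧸ Ideal.span {r}) (T.map (Ideal.Quotient.mk (Ideal.span {r}))) := by
  rw [isWeaklyRegular_cons_iff]
  refine and_congr_right fun _ => ?_
  have heq : (r • (⊤ : Submodule A A)) = Ideal.span {r} := by
    rw [← Submodule.ideal_span_singleton_smul, H7_smul_top_self]
  let e : QuotSMulTop r A ≃ₗ[A] (A ⧸ Ideal.span {r}) := Submodule.quotEquivOfEq _ _ heq
  rw [e.isWeaklyRegular_congr]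
  exact (isWeaklyRegular_map_algebraMap_iff (A ⧸ Ideal.span {r}) (A ⧸ Ideal.span {r}) T).symm

end Groth.Agent.Lib.helper7
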