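import Mathlib
import Groth.Agent.Lib.helper7.RegSpan
open RingTheory.Sequence

universe u

namespace Groth.Agent.Lib.helper7

theorem H7_cotangent_basis (A : Type u) [CommRing A] (p : ℕ) (x : Fin p → A)
    (hreg : RingTheory.Sequence.IsWeaklyRegular A (List.ofFn x)) :
    ∃ b : Module.Basis (Fin p) (A ⧸ Ideal.span (Set.range x)) (Ideal.span (Set.range x)).Cotangent,
      ∀ i, b i = (Ideal.span (Set.range x)).toCotangent
        ⟨x i, Ideal.subset_span (Set.mem_range_self i)⟩ := by
  classical
  set I := Ideal.span (Set.range x) with hI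
  let xi : Fin p → I := fun i => ⟨x i, Ideal.subset_span (Set.mem_range_self i)⟩
  let v : Fin p → I.Cotangent := fun i => I.toCotangent (xi i)
  have hsmul : ∀ (c : A) (z : I.Cotangent), (Ideal.Quotient.mk I c) • z = c • z := by
    intro c z
    rw [← Ideal.Quotient.algebraMap_eq, algebraMap_smul]
  have hli : LinearIndependent (A ⧸ I) v := by
    rw [Fintype.linearIndependent_iff]
    intro g hg i
    have hc : ∀ i, ∃ c : A, Ideal.Quotient.mk I c = g i := fun i =>
      Ideal.Quotient.mk_surjective (g i)
    choose c hc using hc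
    have h1 : I.toCotangent (∑ i, c i • xi i) = 0 := by
      rw [map_sum, ← hg]
      refine Finset.sum_congr rfl fun i _ => ?_
      rw [map_smul, ← hc i, hsmul]
    rw [Ideal.toCotangent_eq_zero, pow_two] at h1
    have h2 : ((∑ i, c i • xi i : I) : A) = ∑ i, c i * x i := by
      rw [AddSubmonoidClass.coe_finsetSum]
      rfl
    rw [h2] at h1
    have h3 : I * I = I • Submodule.span A (Set.range x) := rfl
    rw [h3, Submodule.mem_ideal_smul_span_iff_exists_sum] at h1
    obtain ⟨m, hm, hsum⟩ := h1
    rw [Finsupp.sum_fintype m (fun i c => c • x i) (fun i => zero_smul A (x i))] at hsum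
    have h4 : ∑ i, (c i - m i) * x i = 0 := by
      simp only [sub_mul, Finset.sum_sub_distrib]
      rw [sub_eq_zero, ← hsum]
      rfl
    have h5 := H7_wreg_rel p x hreg _ h4 i
    have h6 : c i ∈ I := by
      have := Ideal.add_mem _ h5 (hm i)
      rwa [sub_add_cancel] at this
    rw [← hc i]
    exact Ideal.Quotient.eq_zero_iff_mem.2 h6
  have hsp : ⊤ ≤ Submodule.span (A ⧸ I) (Set.range v) := by
    intro z _
    obtain ⟨y, rfl⟩ := I.toCotangent_surjective z
    obtain ⟨c, hc⟩ := Ideal.mem_span_range_iff_exists_fun.1 y.2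
    have h1 : y = ∑ i, c i • xi i := by
      apply Subtype.ext
      rw [AddSubmonoidClass.coe_finsetSum, ← hc]
      rfl
    rw [h1, map_sum]
    apply Submodule.sum_mem
    intro i _
    rw [map_smul, ← hsmul]
    exact Submodule.smul_mem _ _ (Submodule.subset_span ⟨i, rfl⟩)
  exact ⟨Module.Basis.mk hli hsp, fun i => Module.Basis.mk_apply hli hsp i⟩

end Groth.Agent.Lib.helper7
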