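import Mathlib
import Groth.Agent.Lib.helper7.RegLoc2
import Groth.Agent.Lib.helper7.RegSpan
open IsLocalRing RingTheory.Sequence

universe u

namespace Groth.Agent.Lib.helper7

theorem H7_range_cons {α : Type*} {n : ℕ} (f : Fin (n + 1) → α) :
    Set.range f = {f 0} ∪ Set.range (fun i : Fin n => f i.succ) := by
  ext x
  constructor
  · rintro ⟨i, rfl⟩
    refine Fin.cases ?_ (fun j => ?_) i
    · left; rfl
    · right; exact ⟨j, rfl⟩
  · rintro (h | ⟨j, rfl⟩)
    · exact ⟨0, h.symm⟩
    · exact ⟨j.succ, rfl⟩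

theorem H7_rlr_wreg : ∀ (d : ℕ) (R : Type u) [CommRing R] [IsLocalRing R] [IsNoetherianRing R],
    ringKrullDim R = (d : WithBot ℕ∞) → ∀ x : Fin d → R,
    Ideal.span (Set.range x) = maximalIdeal R → IsWeaklyRegular R (List.ofFn x) := by
  intro d
  induction d with
  | zero =>
    intro R _ _ _ _ x _
    rw [List.ofFn_zero]
    exact IsWeaklyRegular.nil _ _
  | succ d ih =>
    intro R _ _ _ hd x hx
    have hreg : IsRegularLocalRing R := H7_rlr_of_gens (d + 1) hd x hx
    have hdom : IsDomain R := H7_rlr_isDomain' R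
    have hyz : Ideal.span {x 0} ⊔ Ideal.span (Set.range (fun i : Fin d => x i.succ)) =
        maximalIdeal R := by
      rw [← hx, H7_range_cons x, Ideal.span_union]
    have hJ : Ideal.span {x 0} ≤ maximalIdeal R := le_of_le_of_eq le_sup_left hyz
    have hloc : IsLocalRing (R ⧸ Ideal.span {x 0}) := H7_quot_isLocalRing _ hJ
    obtain ⟨h1, h2⟩ := H7_regsys_quot_one d hd (x 0) (fun i : Fin d => x i.succ) hyz
    have hx0 : x 0 ≠ 0 := by
      intro h0
      have hbot : Ideal.span {x 0} = ⊥ := by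
        rw [h0, Ideal.span_singleton_eq_bot]
      have e : (R ⧸ Ideal.span {x 0}) ≃+* R :=
        (Ideal.quotEquivOfEq hbot).trans (RingEquiv.quotientBot R)
      rw [ringKrullDim_eq_of_ringEquiv e, hd] at h1
      have : ((d + 1 : ℕ) : ℕ∞) = (d : ℕ∞) := by exact_mod_cast h1
      have : d + 1 = d := by exact_mod_cast this
      omega
    have hsm : IsSMulRegular R (x 0) := (IsRegular.of_ne_zero hx0).left.isSMulRegular
    rw [List.ofFn_succ]
    refine (H7_wreg_cons_quot (x 0) _).2 ⟨hsm, ?_⟩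
    rw [List.map_ofFn]
    exact ih (R ⧸ Ideal.span {x 0}) h1 _ h2

theorem H7_rlr_reg (R : Type u) [CommRing R]
    [IsRegularLocalRing R] (d : ℕ) (hd : ringKrullDim R = d) (x : Fin d → R)
    (hx : Ideal.span (Set.range x) = IsLocalRing.maximalIdeal R) :
    RingTheory.Sequence.IsRegular R (List.ofFn x) := by
  refine IsRegular.of_isWeaklyRegular_of_mem_maximalIdeal R ?_ (H7_rlr_wreg d R hd x hx)
  intro r hr
  rw [List.mem_ofFn] at hr
  obtain ⟨i, rfl⟩ := hr
  rw [← hx]
  exact Ideal.subset_span ⟨i, rfl⟩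

end Groth.Agent.Lib.helper7
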