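import Mathlib
import Groth.Agent.Lib.helper7.RegLoc8
import Groth.Agent.Lib.helper7.RegLoc3
open IsLocalRing RingTheory.Sequence

universe u

namespace Groth.Agent.Lib.helper7

theorem H7_deriv_sq_mem {R : Type u} [CommRing R] (I : Ideal R) (D : Derivation ℤ R R) (t : R)
    (ht : t ∈ I ^ 2) : D t ∈ I := by
  rw [pow_two] at ht
  refine Submodule.mul_induction_on ht ?_ ?_
  · intro a ha b hb
    rw [Derivation.leibniz]
    exact Ideal.add_mem _ (Ideal.mul_mem_right _ _ ha) (Ideal.mul_mem_right _ _ hb)
  · intro a b ha hb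
    rw [map_add]
    exact Ideal.add_mem _ ha hb

theorem H7_range_fin_append {α : Type*} {m k : ℕ} (f : Fin m → α) (z : Fin k → α) :
    Set.range (Fin.append f z) = Set.range f ∪ Set.range z := by
  ext r
  constructor
  · rintro ⟨i, rfl⟩
    refine Fin.addCases (fun j => ?_) (fun j => ?_) i
    · left
      rw [Fin.append_left]
      exact ⟨j, rfl⟩
    · right
      rw [Fin.append_right]
      exact ⟨j, rfl⟩
  · rintro (⟨j, rfl⟩ | ⟨j, rfl⟩)
    · exact ⟨Fin.castAdd k j, Fin.append_left _ _ _⟩
    · exact ⟨Fin.natAdd m j, Fin.append_right _ _ _⟩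

theorem H7_S9226 (R : Type u) [CommRing R] [IsRegularLocalRing R] (m : ℕ) (f : Fin m → R)
    (hf : ∀ i, f i ∈ IsLocalRing.maximalIdeal R) (D : Fin m → Derivation ℤ R R)
    (hdet : IsUnit (Matrix.det (Matrix.of (fun i j : Fin m => D i (f j))))) :
    IsRegularLocalRing (R ⧸ Ideal.span (Set.range f)) ∧
      RingTheory.Sequence.IsRegular R (List.ofFn f) := by
  classical
  let f' : Fin m → maximalIdeal R := fun i => ⟨f i, hf i⟩
  have hsm : ∀ (s : R) (z : CotangentSpace R), (IsLocalRing.residue R s) • z = s • z := by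
    intro s z
    rw [← IsLocalRing.ResidueField.algebraMap_eq, algebraMap_smul]
  have hli : LinearIndependent (ResidueField R) (fun i => (maximalIdeal R).toCotangent (f' i)) := by
    rw [Fintype.linearIndependent_iff]
    intro g hg
    have ha : ∀ j, ∃ a : R, IsLocalRing.residue R a = g j := fun j =>
      IsLocalRing.residue_surjective (g j)
    choose a ha using ha
    have h1 : (maximalIdeal R).toCotangent (∑ j, a j • f' j) = 0 := by
      rw [map_sum, ← hg]
      refine Finset.sum_congr rfl fun j _ => ?_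
      rw [map_smul, ← ha j, hsm]
    rw [Ideal.toCotangent_eq_zero] at h1
    have h2 : ((∑ j, a j • f' j : maximalIdeal R) : R) = ∑ j, a j * f j := by
      rw [AddSubmonoidClass.coe_finsetSum]
      rfl
    rw [h2] at h1
    have h3 : ∀ i, ∑ j, D i (f j) * a j ∈ maximalIdeal R := by
      intro i
      have h4 := H7_deriv_sq_mem (maximalIdeal R) (D i) _ h1
      rw [map_sum] at h4
      have h5 : ∑ j, D i (a j * f j) = ∑ j, D i (f j) * a j + ∑ j, f j * D i (a j) := by
        rw [← Finset.sum_add_distrib]
        refine Finset.sum_congr rfl fun j _ => ?_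
        rw [Derivation.leibniz, smul_eq_mul, smul_eq_mul]
        ring
      rw [h5] at h4
      have h6 : ∑ j, f j * D i (a j) ∈ maximalIdeal R :=
        Ideal.sum_mem _ fun j _ => Ideal.mul_mem_right _ _ (hf j)
      exact (Ideal.add_mem_iff_left _ h6).1 h4
    let N : Matrix (Fin m) (Fin m) (ResidueField R) :=
      (Matrix.of (fun i j : Fin m => D i (f j))).map (IsLocalRing.residue R)
    have hNdet : N.det ≠ 0 := by
      have : N.det = IsLocalRing.residue R (Matrix.det (Matrix.of (fun i j : Fin m => D i (f j)))) := by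
        rw [RingHom.map_det]
        rfl
      rw [this]
      exact (hdet.map (IsLocalRing.residue R)).ne_zero
    have hNv : N.mulVec g = 0 := by
      ext i
      simp only [Matrix.mulVec, dotProduct, N, Matrix.map_apply, Matrix.of_apply, Pi.zero_apply]
      have := (IsLocalRing.residue_eq_zero_iff _).2 (h3 i)
      rw [map_sum] at this
      rw [← this]
      refine Finset.sum_congr rfl fun j _ => ?_
      rw [map_mul, ha j]
    have := Matrix.eq_zero_of_mulVec_eq_zero hNdet hNv
    intro i
    exact congrFun this i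
  have hmain := (H7_S5779 R m f').1.1 ⟨inferInstance, hli⟩
  refine ⟨hmain.2, ?_⟩
  obtain ⟨k, z, hk, hyz⟩ := H7_cot_extend f' hli
  have hd : ringKrullDim R = ((maximalIdeal R).spanFinrank : WithBot ℕ∞) :=
    (IsRegularLocalRing.spanFinrank_maximalIdeal (R := R)).symm
  have hfr := H7_rlr_finrank _ hd
  have hd' : ringKrullDim R = ((m + k : ℕ) : WithBot ℕ∞) := by
    rw [hd, hk, hfr]
  have hx : Ideal.span (Set.range (Fin.append f z)) = maximalIdeal R := by
    rw [H7_range_fin_append, Ideal.span_union]
    exact hyz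
  have hreg := H7_rlr_reg R (m + k) hd' (Fin.append f z) hx
  rw [List.ofFn_fin_append] at hreg
  have hw := ((isWeaklyRegular_append_iff R _ _).1 hreg.toIsWeaklyRegular).1
  refine IsRegular.of_isWeaklyRegular_of_mem_maximalIdeal R ?_ hw
  intro r hr
  rw [List.mem_ofFn] at hr
  obtain ⟨i, rfl⟩ := hr
  exact hf i

end Groth.Agent.Lib.helper7
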