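import Mathlib
import Groth.Agent.Lib.helper7.RegLoc6
open IsLocalRing

universe u

namespace Groth.Agent.Lib.helper7

theorem H7_rlr_quot_li (R : Type u) [CommRing R]
    [IsRegularLocalRing R] (I : Ideal R)
    [IsRegularLocalRing (R ⧸ I)] :
    ∃ (c : ℕ) (y : Fin c → maximalIdeal R),
      LinearIndependent (ResidueField R) (fun i => (maximalIdeal R).toCotangent (y i)) ∧
      I = Ideal.span (Set.range (fun i => (y i : R))) := by
  classical
  have hItop : I ≠ ⊤ := by
    intro h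
    have : Subsingleton (R ⧸ I) := Ideal.Quotient.subsingleton_iff.2 h
    exact not_subsingleton (R ⧸ I) this
  have hI : I ≤ maximalIdeal R := IsLocalRing.le_maximalIdeal hItop
  obtain ⟨c, y, hyI, hli, hmax⟩ := H7_exists_max_li I
  have hIsq := H7_le_sup_sq I hI y hmax
  obtain ⟨k, z, hk, hyz⟩ := H7_cot_extend y hli
  have hd : ringKrullDim R = ((maximalIdeal R).spanFinrank : WithBot ℕ∞) :=
    (IsRegularLocalRing.spanFinrank_maximalIdeal (R := R)).symm
  have hfr := H7_rlr_finrank _ hd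
  set J : Ideal R := Ideal.span (Set.range (fun i => (y i : R))) with hJdef
  have hJI : J ≤ I := Ideal.span_le.2 (by rintro _ ⟨i, rfl⟩; exact hyI i)
  have hJm : J ≤ maximalIdeal R := hJI.trans hI
  have hloc : IsLocalRing (R ⧸ J) := H7_quot_isLocalRing J hJm
  have hd' : ringKrullDim R = ((c + k : ℕ) : WithBot ℕ∞) := by
    rw [hd, hk, hfr]
  obtain ⟨h1, h2⟩ := H7_regsys_quot' c k hd' J (by
    rw [hJdef]; exact H7_spanFinrank_range_le _) z hyz
  have hregS : IsRegularLocalRing (R ⧸ J) := H7_rlr_of_gens k h1 _ h2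
  set K : Ideal (R ⧸ J) := I.map (Ideal.Quotient.mk J) with hKdef
  have hKsq : K ≤ maximalIdeal (R ⧸ J) ^ 2 := by
    rw [hKdef, ← H7_map_mk_maximalIdeal J hJm, ← Ideal.map_pow]
    refine le_trans (Ideal.map_mono hIsq) ?_
    rw [Ideal.map_sup, Ideal.map_quotient_self, bot_sup_eq]
  have e : ((R ⧸ J) ⧸ K) ≃+* (R ⧸ I) := DoubleQuot.quotQuotEquivQuotOfLE hJI
  have hregK : IsRegularLocalRing ((R ⧸ J) ⧸ K) := IsRegularLocalRing.of_ringEquiv e.symm
  have hKbot : K = ⊥ := H7_rlr_quot_sq_bot (R ⧸ J) K hKsq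
  have hIJ : I ≤ J := by
    rw [hKdef, Ideal.map_eq_bot_iff_le_ker, Ideal.mk_ker] at hKbot
    exact hKbot
  exact ⟨c, y, hli, le_antisymm hIJ hJI⟩

theorem H7_rlr_inf_sq {R : Type u} [CommRing R] [IsRegularLocalRing R]
    (n : Ideal R) (hn : n ≠ ⊤) (hreg : IsRegularRing (R ⧸ n)) :
    n ⊓ maximalIdeal R ^ 2 = maximalIdeal R * n := by
  have hnm : n ≤ maximalIdeal R := IsLocalRing.le_maximalIdeal hn
  have hloc : IsLocalRing (R ⧸ n) := H7_quot_isLocalRing n hnm
  have hrl : IsRegularLocalRing (R ⧸ n) := IsRegularLocalRing.of_isRegularRing_of_isLocalRing _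
  obtain ⟨c, y, hli, hny⟩ := H7_rlr_quot_li R n
  apply le_antisymm
  · rintro t ⟨htn, htsq⟩
    have htn' : t ∈ Ideal.span (Set.range (fun i => (y i : R))) := hny ▸ htn
    obtain ⟨a, ha⟩ := Ideal.mem_span_range_iff_exists_fun.1 htn'
    have htm : t ∈ maximalIdeal R := hnm htn
    have h0 : (maximalIdeal R).toCotangent ⟨t, htm⟩ = 0 :=
      (Ideal.toCotangent_eq_zero _ _).2 htsq
    have h1 : (⟨t, htm⟩ : maximalIdeal R) = ∑ i, a i • y i := by
      apply Subtype.ext
      rw [AddSubmonoidClass.coe_finsetSum]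
      exact ha.symm
    have hsm : ∀ (s : R) (z : CotangentSpace R), (IsLocalRing.residue R s) • z = s • z := by
      intro s z
      rw [← IsLocalRing.ResidueField.algebraMap_eq, algebraMap_smul]
    have h2 : ∑ i, (IsLocalRing.residue R (a i)) • (maximalIdeal R).toCotangent (y i) = 0 := by
      rw [← h0, h1, map_sum]
      refine Finset.sum_congr rfl fun i _ => ?_
      rw [map_smul, hsm]
    have h3 := Fintype.linearIndependent_iff.1 hli _ h2
    have h4 : ∀ i, a i ∈ maximalIdeal R := fun i =>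
      (IsLocalRing.residue_eq_zero_iff _).1 (h3 i)
    rw [← ha]
    apply Ideal.sum_mem
    intro i _
    apply Ideal.mul_mem_mul (h4 i)
    rw [hny]
    exact Ideal.subset_span ⟨i, rfl⟩
  · apply le_inf
    · exact Ideal.mul_le_left.trans le_rfl |> fun h => (Ideal.mul_comm (maximalIdeal R) n) ▸ h
    · rw [pow_two]
      exact Ideal.mul_mono_right hnm

end Groth.Agent.Lib.helper7
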