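import Mathlib
import Groth.Agent.Lib.helper7.RegLoc7
import Groth.Agent.Lib.helper7.RegLoc8
import Groth.Agent.Lib.helper7.RegLoc10
open IsLocalRing

set_option autoImplicit false
universe u

namespace Groth.Agent.Lib.helper7

theorem H7_S14371 {R : Type u} [CommRing R] [IsRegularLocalRing R]
    (I J : Ideal R) [IsRegularLocalRing (R ⧸ I)] [IsRegularLocalRing (R ⧸ J)] [IsLocalRing (R ⧸ (I ⊔ J))]
    (n a b : ℕ) (hn : ringKrullDim R = n) (ha : ringKrullDim (R ⧸ I) = a) (hb : ringKrullDim (R ⧸ J) = b)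
    (ht : Module.finrank (IsLocalRing.ResidueField (R ⧸ (I ⊔ J))) (IsLocalRing.CotangentSpace (R ⧸ (I ⊔ J))) + n = a + b) :
    IsRegularLocalRing (R ⧸ (I ⊔ J)) ∧ ringKrullDim (R ⧸ (I ⊔ J)) = ((a + b - n : ℕ) : WithBot ℕ∞) := by
  classical
  obtain ⟨c, y, hyli, hIy⟩ := H7_rlr_quot_li R I
  obtain ⟨c', z, hzli, hJz⟩ := H7_rlr_quot_li R J
  have h1 := ((H7_S5779 R c y).1.mp ⟨inferInstance, hyli⟩).1
  have h2 := ((H7_S5779 R c' z).1.mp ⟨inferInstance, hzli⟩).1
  rw [← hIy, ha, hn] at h1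
  rw [← hJz, hb, hn] at h2
  have h1' : a + c = n := by exact_mod_cast h1
  have h2' : b + c' = n := by exact_mod_cast h2
  -- span rank of I ⊔ J
  have hK : I ⊔ J = Ideal.span (Set.range (Fin.append (fun i => (y i : R)) (fun i => (z i : R)))) := by
    rw [H7_range_fin_append, Ideal.span_union, ← hIy, ← hJz]
  have hKrank : (I ⊔ J).spanFinrank ≤ c + c' := by
    rw [hK]
    exact H7_spanFinrank_range_le _
  have hKtop : I ⊔ J ≠ ⊤ := by
    intro h
    have : Subsingleton (R ⧸ (I ⊔ J)) := Ideal.Quotient.subsingleton_iff.2 h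
    exact not_subsingleton (R ⧸ (I ⊔ J)) this
  have hKm : I ⊔ J ≤ maximalIdeal R := IsLocalRing.le_maximalIdeal hKtop
  have hKj : I ⊔ J ≤ Ring.jacobson R := by
    rw [IsLocalRing.ringJacobson_eq_maximalIdeal]
    exact hKm
  have hdim := ringKrullDim_le_ringKrullDim_quotient_add_spanFinrank (I ⊔ J) hKj
  have hnoeth : IsNoetherianRing (R ⧸ (I ⊔ J)) := inferInstance
  have hle := ringKrullDim_le_spanFinrank_maximalIdeal (R ⧸ (I ⊔ J))
  rw [spanFinrank_maximalIdeal_eq_finrank_cotangentSpace] at hle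
  set t := Module.finrank (IsLocalRing.ResidueField (R ⧸ (I ⊔ J))) (IsLocalRing.CotangentSpace (R ⧸ (I ⊔ J))) with htdef
  have htn : t = a + b - n := by omega
  -- dimension of quotient is a natural number
  have hdimnat : ∃ d : ℕ, ringKrullDim (R ⧸ (I ⊔ J)) = d := by
    have hnonneg : 0 ≤ ringKrullDim (R ⧸ (I ⊔ J)) := ringKrullDim_nonneg_of_nontrivial
    have hfin : ringKrullDim (R ⧸ (I ⊔ J)) ≤ (t : WithBot ℕ∞) := hle
    cases hd : ringKrullDim (R ⧸ (I ⊔ J)) with
    | bot => rw [hd] at hnonneg; exact absurd hnonneg (by simp)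
    | coe d =>
      rw [hd] at hfin
      have hfin' : d ≤ (t : ℕ∞) := by exact_mod_cast hfin
      cases d with
      | top => exact absurd hfin' (by simp)
      | coe d => exact ⟨d, rfl⟩
  obtain ⟨d, hd⟩ := hdimnat
  rw [hd] at hle hdim
  rw [hn] at hdim
  have hle' : d ≤ t := by exact_mod_cast hle
  have hdim' : n ≤ d + (I ⊔ J).spanFinrank := by exact_mod_cast hdim
  have hdt : d = t := by omega
  refine ⟨?_, ?_⟩
  · rw [IsRegularLocalRing.iff_finrank_cotangentSpace, hd, ← htdef, hdt]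
  · rw [hd, hdt, htn]

end Groth.Agent.Lib.helper7
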