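import Mathlib
import Groth.Agent.Lib.helper7.RegLoc2
open IsLocalRing

universe u

namespace Groth.Agent.Lib.helper7

theorem H7_rlr_of_quot_nzd (R : Type u) [CommRing R] [IsLocalRing R]
    [IsNoetherianRing R] (x : R) (hx : x ∈ IsLocalRing.maximalIdeal R) (hreg : x ∈ nonZeroDivisors R)
    [IsRegularLocalRing (R ⧸ Ideal.span ({x} : Set R))] : IsRegularLocalRing R := by
  classical
  set J : Ideal R := Ideal.span {x} with hJdef
  have hJ : J ≤ maximalIdeal R := (Ideal.span_singleton_le_iff_mem _).2 hx
  have hmap := H7_map_mk_maximalIdeal J hJ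
  obtain ⟨s, hs1, hs2⟩ := Submodule.FG.exists_span_finset_card_eq_spanFinrank
    (IsNoetherian.noetherian (maximalIdeal (R ⧸ J)))
  have hlift : ∀ a : R ⧸ J, ∃ r : R, Ideal.Quotient.mk J r = a := Ideal.Quotient.mk_surjective
  choose lift hliftp using hlift
  let T : Finset R := s.image lift
  have hTcard : T.card ≤ s.card := Finset.card_image_le
  have hTimg : (Ideal.Quotient.mk J) '' (T : Set R) = (s : Set (R ⧸ J)) := by
    ext a
    simp only [T, Finset.coe_image, Set.mem_image, Finset.mem_coe]
    constructor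
    · rintro ⟨_, ⟨b, hb, rfl⟩, rfl⟩
      rw [hliftp]
      exact hb
    · intro ha
      exact ⟨lift a, ⟨a, ha, rfl⟩, hliftp a⟩
  have hm : maximalIdeal R = J ⊔ Ideal.span (T : Set R) := by
    have h1 : Ideal.map (Ideal.Quotient.mk J) (Ideal.span (T : Set R)) = maximalIdeal (R ⧸ J) := by
      rw [Ideal.map_span, hTimg]
      exact hs2
    have h2 : Ideal.comap (Ideal.Quotient.mk J) (maximalIdeal (R ⧸ J)) = maximalIdeal R := by
      rw [← hmap, Ideal.comap_map_of_surjective' _ Ideal.Quotient.mk_surjective, Ideal.mk_ker,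
        sup_eq_left.2 hJ]
    rw [← h2, ← h1, Ideal.comap_map_of_surjective' _ Ideal.Quotient.mk_surjective, Ideal.mk_ker,
      sup_comm]
  have hspan : maximalIdeal R = Ideal.span ((insert x T : Finset R) : Set R) := by
    rw [hm, Finset.coe_insert, Set.insert_eq, Ideal.span_union]
  have hfr : (maximalIdeal R).spanFinrank ≤ s.card + 1 := by
    rw [hspan]
    refine le_trans (Submodule.spanFinrank_span_le_ncard_of_finite (Finset.finite_toSet _)) ?_
    rw [Set.ncard_coe_finset]
    exact le_trans (Finset.card_insert_le _ _) (by omega)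
  have hdim := ringKrullDim_quotient_succ_le_of_nonZeroDivisor hreg
  have hreg' := IsRegularLocalRing.spanFinrank_maximalIdeal (R := R ⧸ J)
  apply IsRegularLocalRing.of_spanFinrank_maximalIdeal_le
  refine le_trans ?_ hdim
  rw [← hreg', ← hs1]
  exact_mod_cast hfr

end Groth.Agent.Lib.helper7
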