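import Mathlib
import Groth.Agent.Lib.helper7.RegLoc5
open IsLocalRing

universe u

namespace Groth.Agent.Lib.helper7

theorem H7_height_add_dim_quot_le {A : Type u} [CommRing A] (p : Ideal A) [hp : p.IsPrime] :
    (p.height : WithBot ℕ∞) + ringKrullDim (A ⧸ p) ≤ ringKrullDim A := by
  let P : PrimeSpectrum A := ⟨p, hp⟩
  have : Nonempty (PrimeSpectrum A) := ⟨P⟩
  have h1 : ringKrullDim (A ⧸ p) = (Order.coheight P : ℕ∞) := by
    rw [ringKrullDim_quotient, Order.coheight_eq_krullDim_Ici]
    rfl
  have h2 : p.height = Order.height P := PrimeSpectrum.height_eq_orderHeight P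
  rw [h1, h2, ringKrullDim, Order.krullDim_eq_iSup_height_add_coheight_of_nonempty,
    ← WithBot.coe_add, WithBot.coe_le_coe]
  exact le_iSup (fun a : PrimeSpectrum A => Order.height a + Order.coheight a) P

theorem H7_S11553 (A : Type u)
    [CommRing A] [IsLocalRing A] [IsNoetherianRing A] (p : Ideal A) [p.IsPrime]
    [IsRegularLocalRing (A ⧸ p)]
    (hgen : (Submodule.spanFinrank p : ℕ∞) = p.height) : IsRegularLocalRing A := by
  classical
  have hpm : p ≤ maximalIdeal A := IsLocalRing.le_maximalIdeal Ideal.IsPrime.ne_top'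
  obtain ⟨s, hs1, hs2⟩ := Submodule.FG.exists_span_finset_card_eq_spanFinrank
    (IsNoetherian.noetherian (maximalIdeal (A ⧸ p)))
  obtain ⟨T, hT1, hT2⟩ := H7_max_eq_sup_lift p hpm s hs2
  obtain ⟨G, hG1, hG2⟩ := Submodule.FG.exists_span_finset_card_eq_spanFinrank
    (IsNoetherian.noetherian p)
  have hspan : maximalIdeal A = Ideal.span ((G ∪ T : Finset A) : Set A) := by
    rw [hT2, Finset.coe_union, Ideal.span_union]
    congr 1
    exact hG2.symm
  have hfr : (maximalIdeal A).spanFinrank ≤ p.spanFinrank + (maximalIdeal (A ⧸ p)).spanFinrank := by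
    rw [hspan]
    refine le_trans (Submodule.spanFinrank_span_le_ncard_of_finite (Finset.finite_toSet _)) ?_
    rw [Set.ncard_coe_finset]
    refine le_trans (Finset.card_union_le _ _) ?_
    omega
  have hdim := H7_height_add_dim_quot_le p
  have hreg' := IsRegularLocalRing.spanFinrank_maximalIdeal (R := A ⧸ p)
  apply IsRegularLocalRing.of_spanFinrank_maximalIdeal_le
  refine le_trans ?_ hdim
  rw [← hreg', ← hgen]
  exact_mod_cast hfr

end Groth.Agent.Lib.helper7
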