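import Mathlib
open RingTheory.Sequence
open Pointwise

universe u v w

namespace Groth.Agent.Lib.helper7

theorem H7_wreg_of_exact {A : Type u} [CommRing A] (L : List A) :
    ∀ {M' : Type v} {M : Type v} {M'' : Type v} [AddCommGroup M'] [Module A M'] [AddCommGroup M]
      [Module A M] [AddCommGroup M''] [Module A M''] (f : M' →ₗ[A] M) (g : M →ₗ[A] M'')
      (_ : Function.Injective f) (_ : Function.Exact f g) (_ : Function.Surjective g),
      IsWeaklyRegular M' L → IsWeaklyRegular M'' L → IsWeaklyRegular M L := by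
  induction L with
  | nil =>
    intro M' M M'' _ _ _ _ _ _ f g _ _ _ _ _
    exact IsWeaklyRegular.nil _ _
  | cons r L ih =>
    intro M' M M'' _ _ _ _ _ _ f g hf hfg hg h1 h2
    rw [isWeaklyRegular_cons_iff] at h1 h2 ⊢
    refine ⟨isSMulRegular_of_range_eq_ker hf hfg.linearMap_ker_eq.symm h1.1 h2.1, ?_⟩
    have hexact : Function.Exact (QuotSMulTop.map r f) (QuotSMulTop.map r g) :=
      QuotSMulTop.map_exact r hfg hg
    have hsurj : Function.Surjective (QuotSMulTop.map r g) := QuotSMulTop.map_surjective r hg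
    have hinj : Function.Injective (QuotSMulTop.map r f) := by
      have h0 : Function.Exact (0 : PUnit.{v+1} →ₗ[A] M') f := by
        intro x
        constructor
        · intro hx
          exact ⟨0, by simpa using (hf (hx.trans (map_zero f).symm)).symm⟩
        · rintro ⟨_, rfl⟩
          simp
      have := QuotSMulTop.map_first_exact_on_four_term_exact_of_isSMulRegular_last
        (r := r) h0 hfg h2.1
      rw [injective_iff_map_eq_zero]
      intro x hx
      obtain ⟨y, hy⟩ := (this x).1 hx
      rw [← hy]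
      simp
    exact ih (QuotSMulTop.map r f) (QuotSMulTop.map r g) hinj hexact hsurj h1.2 h2.2

theorem H7_wreg_mul_cons {A : Type u} [CommRing A] {M : Type v} [AddCommGroup M] [Module A M]
    (b c : A) (L : List A) (hb : IsWeaklyRegular M (b :: L)) (hc : IsWeaklyRegular M (c :: L)) :
    IsWeaklyRegular M ((b * c) :: L) := by
  rw [isWeaklyRegular_cons_iff] at hb hc ⊢
  refine ⟨hb.1.mul hc.1, ?_⟩
  have h1 : (c • ⊤ : Submodule A M) ≤ Submodule.comap (b • (LinearMap.id : M →ₗ[A] M))
      ((b * c) • ⊤ : Submodule A M) := by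
    intro x hx
    obtain ⟨y, -, rfl⟩ := (Submodule.mem_smul_pointwise_iff_exists _ _ _).1 hx
    rw [Submodule.mem_comap, LinearMap.smul_apply, LinearMap.id_apply, smul_smul]
    exact Submodule.smul_mem_pointwise_smul y (b * c) ⊤ Submodule.mem_top
  have h2 : ((b * c) • ⊤ : Submodule A M) ≤ Submodule.comap (LinearMap.id : M →ₗ[A] M)
      (b • ⊤ : Submodule A M) := by
    intro x hx
    obtain ⟨y, -, rfl⟩ := (Submodule.mem_smul_pointwise_iff_exists _ _ _).1 hx
    rw [Submodule.mem_comap, LinearMap.id_apply, mul_smul]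
    exact Submodule.smul_mem_pointwise_smul (c • y) b ⊤ Submodule.mem_top
  let f : QuotSMulTop c M →ₗ[A] QuotSMulTop (b * c) M := Submodule.mapQ _ _ _ h1
  let g : QuotSMulTop (b * c) M →ₗ[A] QuotSMulTop b M := Submodule.mapQ _ _ _ h2
  have hf : Function.Injective f := by
    rw [injective_iff_map_eq_zero]
    intro x hx
    obtain ⟨m, rfl⟩ := Submodule.Quotient.mk_surjective _ x
    simp only [f, Submodule.mapQ_apply, LinearMap.smul_apply, LinearMap.id_apply] at hx
    rw [Submodule.Quotient.mk_eq_zero] at hx ⊢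
    obtain ⟨y, -, hy⟩ := (Submodule.mem_smul_pointwise_iff_exists _ _ _).1 hx
    rw [mul_smul] at hy
    have := hb.1 hy
    rw [← this]
    exact Submodule.smul_mem_pointwise_smul y c ⊤ Submodule.mem_top
  have hg : Function.Surjective g := by
    intro x
    obtain ⟨m, rfl⟩ := Submodule.Quotient.mk_surjective _ x
    exact ⟨Submodule.Quotient.mk m, rfl⟩
  have hfg : Function.Exact f g := by
    intro x
    obtain ⟨m, rfl⟩ := Submodule.Quotient.mk_surjective _ x
    constructor
    · intro hx
      simp only [g, Submodule.mapQ_apply, LinearMap.id_apply] at hx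
      rw [Submodule.Quotient.mk_eq_zero] at hx
      obtain ⟨y, -, hy⟩ := (Submodule.mem_smul_pointwise_iff_exists _ _ _).1 hx
      refine ⟨Submodule.Quotient.mk y, ?_⟩
      simp only [f, Submodule.mapQ_apply, LinearMap.smul_apply, LinearMap.id_apply]
      rw [hy]
    · rintro ⟨y, hy⟩
      obtain ⟨n, rfl⟩ := Submodule.Quotient.mk_surjective _ y
      rw [← hy]
      simp only [f, g, Submodule.mapQ_apply, LinearMap.smul_apply, LinearMap.id_apply]
      rw [Submodule.Quotient.mk_eq_zero]
      exact Submodule.smul_mem_pointwise_smul n b ⊤ Submodule.mem_top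
  exact H7_wreg_of_exact L f g hf hfg hg hc.2 hb.2

theorem H7_wreg_pow_cons {A : Type u} [CommRing A] {M : Type v} [AddCommGroup M] [Module A M]
    (a : A) (L : List A) (ha : IsWeaklyRegular M (a :: L)) (k : ℕ) :
    IsWeaklyRegular M (a ^ (k + 1) :: L) := by
  induction k with
  | zero => simpa using ha
  | succ k ih =>
    rw [pow_succ]
    exact H7_wreg_mul_cons _ _ L ih ha

theorem H7_wreg_pow {A : Type u} [CommRing A] : ∀ (n : ℕ) (M : Type v) [AddCommGroup M]
    [Module A M] (f : Fin n → A) (v : Fin n → ℕ), (∀ i, 1 ≤ v i) →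
    IsWeaklyRegular M (List.ofFn f) → IsWeaklyRegular M (List.ofFn fun i => f i ^ v i) := by
  intro n
  induction n with
  | zero =>
    intro M _ _ f v _ _
    rw [List.ofFn_zero]
    exact IsWeaklyRegular.nil _ _
  | succ n ih =>
    intro M _ _ f v hv hf
    rw [List.ofFn_succ] at hf ⊢
    obtain ⟨k, hk⟩ : ∃ k, v 0 = k + 1 := ⟨v 0 - 1, by have := hv 0; omega⟩
    have h1 := H7_wreg_pow_cons (f 0) _ hf k
    rw [← hk] at h1
    rw [isWeaklyRegular_cons_iff] at h1 ⊢
    refine ⟨h1.1, ?_⟩
    exact ih (QuotSMulTop (f 0 ^ v 0) M) (fun i => f i.succ) (fun i => v i.succ)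
      (fun i => hv i.succ) h1.2

end Groth.Agent.Lib.helper7
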