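import Mathlib
import Groth.Agent.Lib.helper7.RegSpan
open RingTheory.Sequence
open Pointwise

universe u

namespace Groth.Agent.Lib.helper7

theorem H7_exists_unit_coeff {A : Type u} [CommRing A] [IsLocalRing A] {n : ℕ}
    (a b : Fin (n + 1) → A)
    (ham : ∀ i, a i ∈ IsLocalRing.maximalIdeal A)
    (ha : IsWeaklyRegular A (List.ofFn a))
    (hab : Ideal.span (Set.range a) = Ideal.span (Set.range b)) :
    ∃ (c : Fin (n + 1) → A) (k : Fin (n + 1)), b 0 = ∑ j, c j * a j ∧ IsUnit (c k) := by
  classical
  have hle : Ideal.span (Set.range a) ≤ IsLocalRing.maximalIdeal A :=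
    Ideal.span_le.2 (by rintro _ ⟨i, rfl⟩; exact ham i)
  have h1 : ∀ i, ∃ f : Fin (n + 1) → A, ∑ j, f j * b j = a i := fun i =>
    Ideal.mem_span_range_iff_exists_fun.1 (hab ▸ Ideal.subset_span ⟨i, rfl⟩)
  have h2 : ∀ j, ∃ f : Fin (n + 1) → A, ∑ k, f k * a k = b j := fun j =>
    Ideal.mem_span_range_iff_exists_fun.1 (hab ▸ Ideal.subset_span ⟨j, rfl⟩)
  choose M hM using h1
  choose P hP using h2
  by_contra hcon
  push Not at hcon
  have hP0 : ∀ k, ¬ IsUnit (P 0 k) := fun k => hcon (P 0) k (hP 0).symm
  let MM : Matrix (Fin (n + 1)) (Fin (n + 1)) A := Matrix.of M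
  let PP : Matrix (Fin (n + 1)) (Fin (n + 1)) A := Matrix.of P
  have hrel : ∀ i k, (MM * PP - 1) i k ∈ IsLocalRing.maximalIdeal A := by
    intro i k
    apply hle
    refine H7_wreg_rel (n + 1) a ha (fun k => (MM * PP - 1) i k) ?_ k
    simp only [Matrix.sub_apply, sub_mul, Finset.sum_sub_distrib, Matrix.mul_apply, MM, PP,
      Matrix.of_apply, Matrix.one_apply, Finset.sum_mul, ite_mul, one_mul, zero_mul,
      Finset.sum_ite_eq, Finset.mem_univ, if_true]
    rw [Finset.sum_comm, sub_eq_zero, ← hM i]
    refine Finset.sum_congr rfl fun j _ => ?_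
    rw [← hP j, Finset.mul_sum]
    refine Finset.sum_congr rfl fun k _ => ?_
    ring
  let res := IsLocalRing.residue A
  have hres : (MM * PP).map res = 1 := by
    ext i k
    have := hrel i k
    rw [← IsLocalRing.residue_eq_zero_iff, Matrix.sub_apply, map_sub, sub_eq_zero] at this
    rw [Matrix.map_apply, this]
    rw [Matrix.one_apply, Matrix.one_apply]
    by_cases hik : i = k
    · rw [if_pos hik, if_pos hik, map_one]
    · rw [if_neg hik, if_neg hik, map_zero]
  have hdet : (MM.map res).det * (PP.map res).det = 1 := by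
    rw [← Matrix.det_mul, ← Matrix.map_mul, hres, Matrix.det_one]
  have hzero : (PP.map res).det = 0 := by
    apply Matrix.det_eq_zero_of_row_eq_zero 0
    intro k
    rw [Matrix.map_apply]
    exact (IsLocalRing.residue_eq_zero_iff _).2 ((IsLocalRing.mem_maximalIdeal _).2 (hP0 k))
  rw [hzero, mul_zero] at hdet
  exact zero_ne_one hdet

theorem H7_mk_mem_max {A : Type u} [CommRing A] [IsLocalRing A] (J : Ideal A) (hJ : J ≠ ⊤)
    (x : A) (hx : x ∈ IsLocalRing.maximalIdeal A) :
    have : Nontrivial (A ⧸ J) := Ideal.Quotient.nontrivial_iff.mpr hJ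
    have : IsLocalRing (A ⧸ J) :=
      IsLocalRing.of_surjective' (Ideal.Quotient.mk J) Ideal.Quotient.mk_surjective
    Ideal.Quotient.mk J x ∈ IsLocalRing.maximalIdeal (A ⧸ J) := by
  intro _ _
  have := IsLocalHom.of_surjective (Ideal.Quotient.mk J) Ideal.Quotient.mk_surjective
  rw [IsLocalRing.mem_maximalIdeal, mem_nonunits_iff] at hx ⊢
  intro h
  exact hx (isUnit_of_map_unit (Ideal.Quotient.mk J) x h)

theorem H7_wreg_same_span : ∀ (n : ℕ) (A : Type u) [CommRing A] [IsLocalRing A]
    [IsNoetherianRing A] (a b : Fin n → A), (∀ i, a i ∈ IsLocalRing.maximalIdeal A) →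
    IsWeaklyRegular A (List.ofFn a) →
    Ideal.span (Set.range a) = Ideal.span (Set.range b) → IsWeaklyRegular A (List.ofFn b) := by
  intro n
  induction n with
  | zero =>
    intro A _ _ _ a b _ _ _
    rw [List.ofFn_zero]
    exact IsWeaklyRegular.nil _ _
  | succ n ih =>
    intro A _ _ _ a b ham ha hab
    have hle : Ideal.span (Set.range a) ≤ IsLocalRing.maximalIdeal A :=
      Ideal.span_le.2 (by rintro _ ⟨i, rfl⟩; exact ham i)
    have hbm : ∀ i, b i ∈ IsLocalRing.maximalIdeal A := fun i =>
      hle (hab ▸ Ideal.subset_span ⟨i, rfl⟩)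
    obtain ⟨c, k, hc, hu⟩ := H7_exists_unit_coeff a b ham ha hab
    let σ : Equiv.Perm (Fin (n + 1)) := (Fin.cycleRange k).symm
    have hσ0 : σ 0 = k := Fin.cycleRange_symm_zero k
    set a' : Fin (n + 1) → A := a ∘ σ with ha'def
    have ha'm : ∀ i, a' i ∈ IsLocalRing.maximalIdeal A := fun i => ham _
    have hmem : ∀ r ∈ List.ofFn a, r ∈ IsLocalRing.maximalIdeal A := by
      intro r hr
      rw [List.mem_ofFn] at hr
      obtain ⟨i, rfl⟩ := hr
      exact ham i
    have ha'w : IsWeaklyRegular A (List.ofFn a') :=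
      IsLocalRing.isWeaklyRegular_of_perm_of_subset_maximalIdeal ha (σ.ofFn_comp_perm a).symm hmem
    have hrange : Set.range a' = Set.range a := EquivLike.range_comp a σ
    have hc' : b 0 = ∑ j, c (σ j) * a' j := by
      rw [hc]
      exact (Equiv.sum_comp σ (fun j => c j * a j)).symm
    set T : List A := List.ofFn (fun i : Fin n => a' i.succ) with hT
    have h1 : IsWeaklyRegular A (a' 0 :: T) := by
      rw [hT, ← List.ofFn_succ]
      exact ha'w
    have hTm : ∀ r ∈ T, r ∈ IsLocalRing.maximalIdeal A := by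
      intro r hr
      rw [hT, List.mem_ofFn] at hr
      obtain ⟨i, rfl⟩ := hr
      exact ha'm _
    have h2 : IsWeaklyRegular A (T ++ [a' 0]) :=
      IsLocalRing.isWeaklyRegular_of_perm_of_subset_maximalIdeal h1
        (List.perm_append_singleton _ _).symm (by
          intro r hr
          rcases List.mem_cons.1 hr with rfl | hr
          · exact ha'm 0
          · exact hTm r hr)
    have hyT : b 0 - c (σ 0) * a' 0 ∈ Ideal.ofList T := by
      rw [hT, H7_ofList_ofFn, hc', Fin.sum_univ_succ, add_sub_cancel_left]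
      exact Ideal.sum_mem _ fun i _ => Ideal.mul_mem_left _ _ (Ideal.subset_span ⟨i, rfl⟩)
    have h3 : IsWeaklyRegular A (T ++ [b 0]) :=
      H7_wreg_replace_last A T (a' 0) (b 0) (c (σ 0)) (hσ0 ▸ hu) hyT h2
    have h4 : IsWeaklyRegular A (b 0 :: T) :=
      IsLocalRing.isWeaklyRegular_of_perm_of_subset_maximalIdeal h3
        (List.perm_append_singleton _ _) (by
          intro r hr
          rcases List.mem_append.1 hr with hr | hr
          · exact hTm r hr
          · rw [List.mem_singleton] at hr
            rw [hr]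
            exact hbm 0)
    obtain ⟨h5, h6⟩ := (H7_wreg_cons_quot (b 0) T).1 h4
    have hne : Ideal.span {b 0} ≠ ⊤ := by
      intro h
      have : Ideal.span {b 0} ≤ IsLocalRing.maximalIdeal A :=
        (Ideal.span_singleton_le_iff_mem _).2 (hbm 0)
      rw [h] at this
      exact (IsLocalRing.maximalIdeal.isMaximal A).ne_top (top_le_iff.1 this)
    have : Nontrivial (A ⧸ Ideal.span {b 0}) := Ideal.Quotient.nontrivial_iff.mpr hne
    have : IsLocalRing (A ⧸ Ideal.span {b 0}) :=
      IsLocalRing.of_surjective' (Ideal.Quotient.mk _) Ideal.Quotient.mk_surjective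
    have h7 : IsWeaklyRegular (A ⧸ Ideal.span {b 0})
        (List.ofFn (fun i : Fin n => Ideal.Quotient.mk (Ideal.span {b 0}) (b i.succ))) := by
      apply ih (A ⧸ Ideal.span {b 0}) (fun i => Ideal.Quotient.mk (Ideal.span {b 0}) (a' i.succ))
        (fun i => Ideal.Quotient.mk (Ideal.span {b 0}) (b i.succ))
      · intro i
        exact H7_mk_mem_max _ hne _ (ha'm _)
      · rw [hT, List.map_ofFn] at h6
        exact h6
      · have e1 : ∀ f : Fin (n + 1) → A, Set.range f = {f 0} ∪ Set.range (fun i : Fin n => f i.succ) := by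
          intro f
          ext x
          constructor
          · rintro ⟨i, rfl⟩
            refine Fin.cases ?_ (fun j => ?_) i
            · left; rfl
            · right; exact ⟨j, rfl⟩
          · rintro (h | ⟨j, rfl⟩)
            · exact ⟨0, h.symm⟩
            · exact ⟨j.succ, rfl⟩
        have e2 : ∀ f : Fin n → A, Ideal.span (Set.range fun i => Ideal.Quotient.mk (Ideal.span {b 0}) (f i)) =
            Ideal.map (Ideal.Quotient.mk (Ideal.span {b 0})) (Ideal.span {b 0} ⊔ Ideal.span (Set.range f)) := by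
          intro f
          have hz : Ideal.Quotient.mk (Ideal.span {b 0}) (b 0) = 0 :=
            Ideal.Quotient.eq_zero_iff_mem.2 (Ideal.subset_span rfl)
          rw [Ideal.map_sup, Ideal.map_span, Ideal.map_span, Set.image_singleton,
            hz, Ideal.span_singleton_zero, bot_sup_eq, ← Set.range_comp]
          rfl
        rw [e2, e2]
        congr 1
        have e3 : Ideal.span {b 0} ⊔ Ideal.span (Set.range fun i : Fin n => b i.succ) =
            Ideal.span (Set.range b) := by
          rw [← Ideal.span_union, ← e1]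
        rw [e3, ← hab, ← hrange]
        apply le_antisymm
        · rw [sup_le_iff]
          constructor
          · rw [Ideal.span_singleton_le_iff_mem, hrange, hab]
            exact Ideal.subset_span ⟨0, rfl⟩
          · apply Ideal.span_mono
            rintro _ ⟨i, rfl⟩
            exact ⟨i.succ, rfl⟩
        · rw [e1 a', Ideal.span_union, sup_le_iff]
          refine ⟨?_, le_sup_right⟩
          rw [Ideal.span_singleton_le_iff_mem]
          have hu' : IsUnit (c (σ 0)) := hσ0 ▸ hu
          obtain ⟨u, hu2⟩ := hu'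
          have : a' 0 = ↑u⁻¹ * b 0 - ↑u⁻¹ * (b 0 - c (σ 0) * a' 0) := by
            rw [← hu2]
            have := u.inv_mul
            linear_combination (-a' 0) * this
          rw [this]
          apply Ideal.sub_mem
          · exact Ideal.mul_mem_left _ _ (Ideal.mem_sup_left (Ideal.subset_span rfl))
          · apply Ideal.mul_mem_left
            apply Ideal.mem_sup_right
            rw [hT, H7_ofList_ofFn] at hyT
            exact hyT
    rw [List.ofFn_succ]
    refine (H7_wreg_cons_quot (b 0) _).2 ⟨h5, ?_⟩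
    rw [List.map_ofFn]
    exact h7

theorem H7_reg_same_span {A : Type u} [CommRing A] [IsLocalRing A] [IsNoetherianRing A] {n : ℕ}
    (a b : Fin n → A) (ha : IsRegular A (List.ofFn a))
    (hab : Ideal.span (Set.range a) = Ideal.span (Set.range b)) :
    IsRegular A (List.ofFn b) := by
  obtain ⟨h1, h2⟩ := ha
  rw [H7_smul_top_self, H7_ofList_ofFn] at h2
  have hle : Ideal.span (Set.range a) ≤ IsLocalRing.maximalIdeal A :=
    IsLocalRing.le_maximalIdeal (Ne.symm h2)
  have ham : ∀ i, a i ∈ IsLocalRing.maximalIdeal A := fun i => hle (Ideal.subset_span ⟨i, rfl⟩)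
  have hbm : ∀ i, b i ∈ IsLocalRing.maximalIdeal A := fun i =>
    hle (hab ▸ Ideal.subset_span ⟨i, rfl⟩)
  have h3 := H7_wreg_same_span n A a b ham h1 hab
  refine IsRegular.of_isWeaklyRegular_of_mem_maximalIdeal A ?_ h3
  intro r hr
  rw [List.mem_ofFn] at hr
  obtain ⟨i, rfl⟩ := hr
  exact hbm i

end Groth.Agent.Lib.helper7
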