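import Mathlib
import Groth.Agent.Lib.helper7.RegSpan2
open RingTheory.Sequence
open Pointwise

universe u

namespace Groth.Agent.Lib.helper7

theorem H7_MP_one {A : Type u} [CommRing A] [IsLocalRing A] {n m : ℕ}
    (a : Fin n → A) (b : Fin m → A)
    (ham : ∀ i, a i ∈ IsLocalRing.maximalIdeal A)
    (ha : IsWeaklyRegular A (List.ofFn a))
    (M : Fin n → Fin m → A) (P : Fin m → Fin n → A)
    (hM : ∀ i, ∑ j, M i j * b j = a i) (hP : ∀ j, ∑ k, P j k * a k = b j) :
    ((Matrix.of M * Matrix.of P).map (IsLocalRing.residue A) : Matrix (Fin n) (Fin n) _) = 1 := by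
  classical
  have hle : Ideal.span (Set.range a) ≤ IsLocalRing.maximalIdeal A :=
    Ideal.span_le.2 (by rintro _ ⟨i, rfl⟩; exact ham i)
  have hrel : ∀ i k, ((Matrix.of M * Matrix.of P : Matrix (Fin n) (Fin n) A) - 1) i k ∈
      IsLocalRing.maximalIdeal A := by
    intro i k
    apply hle
    refine H7_wreg_rel n a ha (fun k => ((Matrix.of M * Matrix.of P : Matrix (Fin n) (Fin n) A) - 1) i k) ?_ k
    simp only [Matrix.sub_apply, sub_mul, Finset.sum_sub_distrib, Matrix.mul_apply,
      Matrix.of_apply, Matrix.one_apply, Finset.sum_mul, ite_mul, one_mul, zero_mul,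
      Finset.sum_ite_eq, Finset.mem_univ, if_true]
    rw [Finset.sum_comm, sub_eq_zero, ← hM i]
    refine Finset.sum_congr rfl fun j _ => ?_
    rw [← hP j, Finset.mul_sum]
    refine Finset.sum_congr rfl fun k _ => ?_
    ring
  ext i k
  have := hrel i k
  rw [← IsLocalRing.residue_eq_zero_iff, Matrix.sub_apply, map_sub, sub_eq_zero] at this
  rw [Matrix.map_apply, this]
  rw [Matrix.one_apply, Matrix.one_apply]
  by_cases hik : i = k
  · rw [if_pos hik, if_pos hik, map_one]
  · rw [if_neg hik, if_neg hik, map_zero]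

theorem H7_reg_len_le {A : Type u} [CommRing A] [IsLocalRing A] {n m : ℕ}
    (a : Fin n → A) (b : Fin m → A)
    (ham : ∀ i, a i ∈ IsLocalRing.maximalIdeal A)
    (ha : IsWeaklyRegular A (List.ofFn a))
    (hab : Ideal.span (Set.range a) = Ideal.span (Set.range b)) : n ≤ m := by
  classical
  have h1 : ∀ i, ∃ f : Fin m → A, ∑ j, f j * b j = a i := fun i =>
    Ideal.mem_span_range_iff_exists_fun.1 (hab ▸ Ideal.subset_span ⟨i, rfl⟩)
  have h2 : ∀ j, ∃ f : Fin n → A, ∑ k, f k * a k = b j := fun j =>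
    Ideal.mem_span_range_iff_exists_fun.1 (hab ▸ Ideal.subset_span ⟨j, rfl⟩)
  choose M hM using h1
  choose P hP using h2
  have h3 := H7_MP_one a b ham ha M P hM hP
  rw [Matrix.map_mul] at h3
  have h4 : (1 : Matrix (Fin n) (Fin n) (IsLocalRing.ResidueField A)).rank = n := by
    rw [Matrix.rank_one, Fintype.card_fin]
  rw [← h3] at h4
  have h5 := Matrix.rank_mul_le_right ((Matrix.of M).map (IsLocalRing.residue A))
    ((Matrix.of P).map (IsLocalRing.residue A))
  have h6 := Matrix.rank_le_card_height ((Matrix.of P).map (IsLocalRing.residue A))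
  rw [Fintype.card_fin] at h6
  omega

theorem H7_exchange_unit {A : Type u} [CommRing A] [IsLocalRing A] {N : ℕ} (v w : Fin N → A)
    (j : Fin N) (hv : IsWeaklyRegular A (List.ofFn v))
    (hvm : ∀ i, v i ∈ IsLocalRing.maximalIdeal A)
    (hspan : Ideal.span (Set.range w) = Ideal.span (Set.range v))
    (hagree : ∀ i, i < j → w i = v i) :
    ∃ (c : Fin N → A) (i : Fin N), j ≤ i ∧ IsUnit (c i) ∧ v j = ∑ l, c l * w l := by
  classical
  have hle : Ideal.span (Set.range v) ≤ IsLocalRing.maximalIdeal A :=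
    Ideal.span_le.2 (by rintro _ ⟨i, rfl⟩; exact hvm i)
  obtain ⟨c, hc⟩ := Ideal.mem_span_range_iff_exists_fun.1
    (hspan ▸ Ideal.subset_span ⟨j, rfl⟩ : v j ∈ Ideal.span (Set.range w))
  by_contra hcon
  push Not at hcon
  have hcm : ∀ i, j ≤ i → c i ∈ IsLocalRing.maximalIdeal A := by
    intro i hi
    rw [IsLocalRing.mem_maximalIdeal, mem_nonunits_iff]
    intro hu
    exact hcon c i hi hu hc.symm
  have h2 : ∀ i, ∃ f : Fin N → A, ∑ l, f l * v l = w i := fun i =>
    Ideal.mem_span_range_iff_exists_fun.1 (hspan ▸ Ideal.subset_span ⟨i, rfl⟩)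
  choose d hd using h2
  let e : Fin N → A := fun l => (if l = j then 1 else 0) - (if l < j then c l else 0) -
    ∑ i, (if j ≤ i then c i * d i l else 0)
  have he : ∑ l, e l * v l = 0 := by
    simp only [e, sub_mul, Finset.sum_sub_distrib, ite_mul, one_mul, zero_mul,
      Finset.sum_ite_eq', Finset.mem_univ, if_true]
    have h3 : ∑ l, (if l < j then c l * v l else 0) = ∑ l, (if l < j then c l * w l else 0) := by
      refine Finset.sum_congr rfl fun l _ => ?_
      split_ifs with h
      · rw [hagree l h]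
      · rfl
    have h4 : ∑ l, (∑ i, if j ≤ i then c i * d i l else 0) * v l =
        ∑ i, (if j ≤ i then c i * w i else 0) := by
      simp only [Finset.sum_mul]
      rw [Finset.sum_comm]
      refine Finset.sum_congr rfl fun i _ => ?_
      split_ifs with h
      · rw [← hd i, Finset.mul_sum]
        refine Finset.sum_congr rfl fun l _ => ?_
        ring
      · simp
    have h5 : ∑ l, c l * w l = ∑ l, (if l < j then c l * w l else 0) +
        ∑ i, (if j ≤ i then c i * w i else 0) := by
      rw [← Finset.sum_add_distrib]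
      refine Finset.sum_congr rfl fun l _ => ?_
      by_cases h : l < j
      · rw [if_pos h, if_neg (not_le.2 h), add_zero]
      · rw [if_neg h, if_pos (not_lt.1 h), zero_add]
    rw [h3, h4, ← hc, h5]
    ring
  have h6 := hle (H7_wreg_rel N v hv e he j)
  have h7 : e j = 1 - ∑ i, (if j ≤ i then c i * d i j else 0) := by
    simp only [e, if_true, lt_irrefl, if_false, sub_zero]
  have h8 : ∑ i, (if j ≤ i then c i * d i j else 0) ∈ IsLocalRing.maximalIdeal A := by
    apply Ideal.sum_mem
    intro i _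
    split_ifs with h
    · exact Ideal.mul_mem_right _ _ (hcm i h)
    · exact Ideal.zero_mem _
  have h9 : (1 : A) ∈ IsLocalRing.maximalIdeal A := by
    have := Ideal.add_mem _ h6 h8
    rwa [h7, sub_add_cancel] at this
  exact (IsLocalRing.maximalIdeal.isMaximal A).ne_top ((Ideal.eq_top_iff_one _).2 h9)

def H7_step {A : Type u} [CommRing A] (I : Ideal A) (l l' : List A) : Prop :=
  (IsWeaklyRegular A l' ∧ Ideal.ofList l' = I) ∧
    (l.Perm l' ∨ (l.length = l'.length ∧ l.dropLast = l'.dropLast))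

theorem H7_range_snoc {α : Type*} {n : ℕ} (f : Fin (n + 1) → α) :
    Set.range f = Set.range (fun i : Fin n => f i.castSucc) ∪ {f (Fin.last n)} := by
  ext x
  constructor
  · rintro ⟨i, rfl⟩
    refine Fin.lastCases ?_ (fun j => ?_) i
    · right; rfl
    · left; exact ⟨j, rfl⟩
  · rintro (⟨j, rfl⟩ | h)
    · exact ⟨j.castSucc, rfl⟩
    · exact ⟨Fin.last n, h.symm⟩

theorem H7_step_perm {A : Type u} [CommRing A] [IsLocalRing A] [IsNoetherianRing A] (I : Ideal A)
    (hI : I ≤ IsLocalRing.maximalIdeal A) {N : ℕ} (w : Fin N → A)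
    (hw : IsWeaklyRegular A (List.ofFn w)) (hwI : Ideal.span (Set.range w) = I)
    (σ : Equiv.Perm (Fin N)) :
    H7_step I (List.ofFn w) (List.ofFn (w ∘ σ)) ∧ IsWeaklyRegular A (List.ofFn (w ∘ σ)) ∧
      Ideal.span (Set.range (w ∘ σ)) = I := by
  have hmem : ∀ r ∈ List.ofFn w, r ∈ IsLocalRing.maximalIdeal A := by
    intro r hr
    rw [List.mem_ofFn] at hr
    obtain ⟨i, rfl⟩ := hr
    exact hI (hwI ▸ Ideal.subset_span ⟨i, rfl⟩)
  have h1 : IsWeaklyRegular A (List.ofFn (w ∘ σ)) :=
    IsLocalRing.isWeaklyRegular_of_perm_of_subset_maximalIdeal hw (σ.ofFn_comp_perm w).symm hmem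
  have h2 : Ideal.span (Set.range (w ∘ σ)) = I := by
    rw [EquivLike.range_comp w σ, hwI]
  refine ⟨⟨⟨h1, ?_⟩, Or.inl (σ.ofFn_comp_perm w).symm⟩, h1, h2⟩
  rw [H7_ofList_ofFn, h2]

theorem H7_step_last {A : Type u} [CommRing A] [IsLocalRing A] [IsNoetherianRing A] (I : Ideal A)
    {n : ℕ} (w : Fin (n + 1) → A)
    (hw : IsWeaklyRegular A (List.ofFn w)) (hwI : Ideal.span (Set.range w) = I)
    (c : Fin (n + 1) → A) (hc : IsUnit (c (Fin.last n))) (y : A) (hy : y = ∑ l, c l * w l) :
    H7_step I (List.ofFn w) (List.ofFn (Function.update w (Fin.last n) y)) ∧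
      IsWeaklyRegular A (List.ofFn (Function.update w (Fin.last n) y)) ∧
      Ideal.span (Set.range (Function.update w (Fin.last n) y)) = I := by
  set w' := Function.update w (Fin.last n) y with hw'
  have hinit : (fun i : Fin n => w' i.castSucc) = fun i : Fin n => w i.castSucc := by
    ext i
    simp only [hw']
    rw [Function.update_of_ne (Fin.castSucc_lt_last i).ne]
  have hlast : w' (Fin.last n) = y := Function.update_self _ _ _
  have hyT : y - c (Fin.last n) * w (Fin.last n) ∈
      Ideal.span (Set.range (fun i : Fin n => w i.castSucc)) := by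
    rw [hy, Fin.sum_univ_castSucc, add_sub_cancel_right]
    exact Ideal.sum_mem _ fun i _ => Ideal.mul_mem_left _ _ (Ideal.subset_span ⟨i, rfl⟩)
  have h1 : IsWeaklyRegular A (List.ofFn w') := by
    rw [List.ofFn_succ_last, hinit, hlast]
    rw [List.ofFn_succ_last] at hw
    exact H7_wreg_replace_last A _ (w (Fin.last n)) y (c (Fin.last n)) hc
      (by rw [H7_ofList_ofFn]; exact hyT) hw
  have h2 : Ideal.span (Set.range w') = I := by
    rw [← hwI, H7_range_snoc w', H7_range_snoc w, hinit, hlast, Ideal.span_union, Ideal.span_union]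
    apply le_antisymm
    · rw [sup_le_iff]
      refine ⟨le_sup_left, ?_⟩
      rw [Ideal.span_singleton_le_iff_mem]
      have : y = (y - c (Fin.last n) * w (Fin.last n)) + c (Fin.last n) * w (Fin.last n) := by ring
      rw [this]
      exact Ideal.add_mem _ (Ideal.mem_sup_left hyT)
        (Ideal.mul_mem_left _ _ (Ideal.mem_sup_right (Ideal.subset_span rfl)))
    · rw [sup_le_iff]
      refine ⟨le_sup_left, ?_⟩
      rw [Ideal.span_singleton_le_iff_mem]
      obtain ⟨u, hu⟩ := hc
      have : w (Fin.last n) = ↑u⁻¹ * y - ↑u⁻¹ * (y - c (Fin.last n) * w (Fin.last n)) := by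
        rw [← hu]
        have := u.inv_mul
        linear_combination (-w (Fin.last n)) * this
      rw [this]
      exact Ideal.sub_mem _ (Ideal.mul_mem_left _ _ (Ideal.mem_sup_right (Ideal.subset_span rfl)))
        (Ideal.mul_mem_left _ _ (Ideal.mem_sup_left hyT))
  refine ⟨⟨⟨h1, ?_⟩, Or.inr ⟨?_, ?_⟩⟩, h1, h2⟩
  · rw [H7_ofList_ofFn, h2]
  · rw [List.length_ofFn, List.length_ofFn]
  · rw [List.ofFn_succ_last, List.ofFn_succ_last (f := w'), List.dropLast_concat,
      List.dropLast_concat, hinit]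

theorem H7_connect {A : Type u} [CommRing A] [IsLocalRing A] [IsNoetherianRing A] (I : Ideal A)
    (hI : I ≤ IsLocalRing.maximalIdeal A) (n : ℕ) (v : Fin (n + 1) → A)
    (hv : IsWeaklyRegular A (List.ofFn v)) (hvI : Ideal.span (Set.range v) = I) :
    ∀ (d : ℕ) (w : Fin (n + 1) → A), IsWeaklyRegular A (List.ofFn w) →
      Ideal.span (Set.range w) = I →
      (∀ i : Fin (n + 1), (i : ℕ) + d < n + 1 → w i = v i) →
      Relation.ReflTransGen (H7_step I) (List.ofFn w) (List.ofFn v) := by
  have hvm : ∀ i, v i ∈ IsLocalRing.maximalIdeal A := fun i =>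
    hI (hvI ▸ Ideal.subset_span ⟨i, rfl⟩)
  intro d
  induction d with
  | zero =>
    intro w _ _ hag
    have : w = v := funext fun i => hag i (by simpa using i.isLt)
    rw [this]
  | succ d ih =>
    intro w hw hwI hag
    by_cases hd : d ≤ n
    · let j : Fin (n + 1) := ⟨n - d, by omega⟩
      have hagj : ∀ i, i < j → w i = v i := by
        intro i hi
        apply hag
        have : (i : ℕ) < n - d := hi
        omega
      obtain ⟨c, i, hji, hci, hvj⟩ := H7_exchange_unit v w j hv hvm (hwI.trans hvI.symm) hagj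
      -- step 1: swap i and last
      let σ₁ : Equiv.Perm (Fin (n + 1)) := Equiv.swap i (Fin.last n)
      obtain ⟨s1, hw1, hw1I⟩ := H7_step_perm I hI w hw hwI σ₁
      have hfix1 : ∀ l, l < j → σ₁ l = l := by
        intro l hl
        apply Equiv.swap_apply_of_ne_of_ne
        · exact (lt_of_lt_of_le hl hji).ne
        · exact (lt_of_lt_of_le hl (Fin.le_last j)).ne
      have hc1 : v j = ∑ l, (c ∘ σ₁) l * (w ∘ σ₁) l := by
        rw [hvj]
        exact (Equiv.sum_comp σ₁ (fun l => c l * w l)).symm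
      have hu1 : IsUnit ((c ∘ σ₁) (Fin.last n)) := by
        simp only [Function.comp_apply, σ₁, Equiv.swap_apply_right]
        exact hci
      -- step 2: replace last
      obtain ⟨s2, hw2, hw2I⟩ := H7_step_last I (w ∘ σ₁) hw1 hw1I (c ∘ σ₁) hu1 (v j) hc1
      set w₂ := Function.update (w ∘ σ₁) (Fin.last n) (v j) with hw₂
      have hag2 : ∀ l, l < j → w₂ l = v l := by
        intro l hl
        rw [hw₂, Function.update_of_ne (lt_of_lt_of_le hl (Fin.le_last j)).ne]
        simp only [Function.comp_apply]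
        rw [hfix1 l hl]
        exact hagj l hl
      -- step 3: swap j and last
      let σ₂ : Equiv.Perm (Fin (n + 1)) := Equiv.swap j (Fin.last n)
      obtain ⟨s3, hw3, hw3I⟩ := H7_step_perm I hI w₂ hw2 hw2I σ₂
      have hag3 : ∀ l : Fin (n + 1), (l : ℕ) + d < n + 1 → (w₂ ∘ σ₂) l = v l := by
        intro l hl
        have hlj : l ≤ j := by
          show (l : ℕ) ≤ n - d
          omega
        rcases lt_or_eq_of_le hlj with h | h
        · simp only [Function.comp_apply]
          have : σ₂ l = l := by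
            apply Equiv.swap_apply_of_ne_of_ne h.ne
            exact (lt_of_lt_of_le h (Fin.le_last j)).ne
          rw [this]
          exact hag2 l h
        · rw [h]
          simp only [Function.comp_apply, σ₂, Equiv.swap_apply_left]
          rw [hw₂, Function.update_self]
      have h4 := ih (w₂ ∘ σ₂) hw3 hw3I hag3
      exact Relation.ReflTransGen.head s1 (Relation.ReflTransGen.head s2
        (Relation.ReflTransGen.head s3 h4))
    · apply ih w hw hwI
      intro i hi
      omega

theorem H7_regseq_chain (A : Type u) [CommRing A] [IsLocalRing A] [IsNoetherianRing A]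
    (u v : List A) (hu : IsRegular A u) (hv : IsRegular A v)
    (huv : Ideal.span {x | x ∈ u} = Ideal.span {x | x ∈ v}) :
    ∃ ws : List (List A), ws.head? = some u ∧ ws.getLast? = some v ∧
      (∀ w ∈ ws, IsRegular A w ∧ Ideal.span {x | x ∈ w} = Ideal.span {x | x ∈ u}) ∧
      List.IsChain (fun w w' : List A => w.Perm w' ∨
        (w.length = w'.length ∧ w.dropLast = w'.dropLast)) ws := by
  set I : Ideal A := Ideal.span {x | x ∈ u} with hIdef
  have hIu : Ideal.ofList u = I := rfl
  have hIv : Ideal.ofList v = I := huv.symm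
  obtain ⟨hu1, hu2⟩ := hu
  obtain ⟨hv1, hv2⟩ := hv
  rw [H7_smul_top_self, hIu] at hu2
  have hI : I ≤ IsLocalRing.maximalIdeal A := IsLocalRing.le_maximalIdeal (Ne.symm hu2)
  have hconn : Relation.ReflTransGen (H7_step I) u v := by
    obtain ⟨Nu, fu, rfl⟩ : ∃ (N : ℕ) (f : Fin N → A), u = List.ofFn f :=
      ⟨u.length, u.get, (List.ofFn_get u).symm⟩
    obtain ⟨Nv, fv, rfl⟩ : ∃ (N : ℕ) (f : Fin N → A), v = List.ofFn f :=
      ⟨v.length, v.get, (List.ofFn_get v).symm⟩
    rw [H7_ofList_ofFn] at hIu hIv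
    have hum : ∀ i, fu i ∈ IsLocalRing.maximalIdeal A := fun i =>
      hI (hIu ▸ Ideal.subset_span ⟨i, rfl⟩)
    have hvm : ∀ i, fv i ∈ IsLocalRing.maximalIdeal A := fun i =>
      hI (hIv ▸ Ideal.subset_span ⟨i, rfl⟩)
    have h1 : Nu ≤ Nv := H7_reg_len_le fu fv hum hu1 (hIu.trans hIv.symm)
    have h2 : Nv ≤ Nu := H7_reg_len_le fv fu hvm hv1 (hIv.trans hIu.symm)
    have h3 : Nu = Nv := le_antisymm h1 h2
    subst h3
    cases Nu with
    | zero =>
      rw [List.ofFn_zero, List.ofFn_zero]
    | succ n =>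
      exact H7_connect I hI n fv hv1 hIv (n + 1) fu hu1 hIu (fun i hi => by omega)
  obtain ⟨l, hl1, hl2⟩ := List.exists_isChain_cons_of_relationReflTransGen hconn
  refine ⟨u :: l, rfl, ?_, ?_, ?_⟩
  · rw [List.getLast?_eq_some_getLast (List.cons_ne_nil _ _), hl2]
  · refine List.IsChain.induction (fun w => IsRegular A w ∧ Ideal.span {x | x ∈ w} = I) (u :: l)
      hl1 ?_ ?_
    · intro x y hxy _
      obtain ⟨⟨hy1, hy2⟩, -⟩ := hxy
      refine ⟨IsRegular.of_isWeaklyRegular_of_mem_maximalIdeal A ?_ hy1, hy2⟩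
      intro r hr
      exact hI (hy2 ▸ Ideal.subset_span hr)
    · intro _
      refine ⟨⟨hu1, ?_⟩, rfl⟩
      rw [H7_smul_top_self]
      exact hu2
  · exact List.IsChain.imp (fun x y hxy => hxy.2) hl1

end Groth.Agent.Lib.helper7
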