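import Mathlib
import Groth.Agent.S18188

namespace Groth.Agent.Lib.helper7

open ComplexOrder in
theorem H7_S18189 (N : ℕ) (hN : 0 < N) (ζ : ℂ)
    (hζ : IsPrimitiveRoot ζ N) (m : ℕ) :
    (∑ i ∈ Finset.range N,
        ((i : ℂ) * ((i : ℂ) - (N : ℂ)) / 2 + ((N : ℂ) ^ 2 - 1) / 12) / (N : ℂ) * ζ ^ (m * i)).im = 0 ∧
    0 ≤ (∑ i ∈ Finset.range N,
        ((i : ℂ) * ((i : ℂ) - (N : ℂ)) / 2 + ((N : ℂ) ^ 2 - 1) / 12) / (N : ℂ) * ζ ^ (m * i)).re := by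
  have hNC : (N : ℂ) ≠ 0 := by exact_mod_cast hN.ne'
  have hζN : ζ ^ N = 1 := hζ.pow_eq_one
  have hnorm : ‖ζ‖ = 1 := by
    have h1 : ‖ζ‖ ^ N = 1 := by rw [← norm_pow, hζN, norm_one]
    exact (pow_eq_one_iff_of_nonneg (norm_nonneg _) hN.ne').1 h1
  suffices h : 0 ≤ ∑ i ∈ Finset.range N,
        ((i : ℂ) * ((i : ℂ) - (N : ℂ)) / 2 + ((N : ℂ) ^ 2 - 1) / 12) / (N : ℂ) * ζ ^ (m * i) by
    rw [Complex.nonneg_iff] at h
    exact ⟨h.2.symm, h.1⟩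
  have h1 : ∀ i ∈ Finset.range N,
      ((i : ℂ) * ((i : ℂ) - (N : ℂ)) / 2 + ((N : ℂ) ^ 2 - 1) / 12) / (N : ℂ) * ζ ^ (m * i) =
      ∑ t ∈ Finset.Ioo 0 N, (1 / (2 - ζ ^ t - (ζ ^ t)⁻¹)) * ((ζ ^ (t + m)) ^ i / N) := by
    intro i hi
    rw [← Groth.Agent.S18188.result ℂ (by norm_num) N i (Finset.mem_range.1 hi) ζ hζ,
      Finset.sum_div, Finset.sum_mul]
    apply Finset.sum_congr rfl
    intro t _
    rw [← pow_mul, add_mul, pow_add]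
    ring
  rw [Finset.sum_congr rfl h1, Finset.sum_comm]
  apply Finset.sum_nonneg
  intro t _
  rw [← Finset.mul_sum]
  apply mul_nonneg
  · -- 1/(2 - z - z⁻¹) ≥ 0
    set z := ζ ^ t with hz
    have hzn : ‖z‖ = 1 := by rw [hz, norm_pow, hnorm, one_pow]
    have hinv : z⁻¹ = (starRingEnd ℂ) z := by
      rw [Complex.inv_def, Complex.normSq_eq_norm_sq, hzn]; simp
    have : 2 - z - z⁻¹ = ((2 - 2 * z.re : ℝ) : ℂ) := by
      rw [hinv]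
      apply Complex.ext <;> simp <;> ring
    rw [this, one_div, ← Complex.ofReal_inv]
    have hre : z.re ≤ 1 := by
      calc z.re ≤ ‖z‖ := Complex.re_le_norm z
        _ = 1 := hzn
    exact_mod_cast inv_nonneg.2 (by linarith)
  · rw [← Finset.sum_div]
    by_cases hξ : ζ ^ (t + m) = 1
    · rw [hξ]; simp [div_self hNC]
    · rw [geom_sum_eq hξ, ← pow_mul, mul_comm, pow_mul, hζN, one_pow, sub_self, zero_div, zero_div]

end Groth.Agent.Lib.helper7
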