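import Mathlib

namespace Groth.Agent.Lib.helper7

theorem H7_prod_nthRoots {n : ℕ} (hn : 0 < n) {ξ : ℂ} (hξ : IsPrimitiveRoot ξ n) (f : ℂ → ℂ) :
    ∏ θ ∈ Polynomial.nthRootsFinset n (1 : ℂ), f θ = ∏ j ∈ Finset.range n, f (ξ ^ j) := by
  classical
  have h1 : Polynomial.nthRootsFinset n (1 : ℂ) = (Finset.range n).image (fun j => ξ ^ j) := by
    ext x
    rw [Polynomial.mem_nthRootsFinset hn, Finset.mem_image]
    constructor
    · intro hx
      have : NeZero n := ⟨hn.ne'⟩
      obtain ⟨i, hi, rfl⟩ := hξ.eq_pow_of_pow_eq_one hx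
      exact ⟨i, Finset.mem_range.2 hi, rfl⟩
    · rintro ⟨i, _, rfl⟩
      rw [← pow_mul, mul_comm, pow_mul, hξ.pow_eq_one, one_pow]
  rw [h1, Finset.prod_image]
  intro i hi j hj h
  exact hξ.pow_inj (Finset.mem_range.1 hi) (Finset.mem_range.1 hj) h

theorem H7_prod_periodic (F : ℕ → ℂ) (m : ℕ) (hF : ∀ j, F (j + m) = F j) (g : ℕ) :
    ∏ j ∈ Finset.range (m * g), F j = (∏ j ∈ Finset.range m, F j) ^ g := by
  have hF' : ∀ a j, F (m * a + j) = F j := by
    intro a
    induction a with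
    | zero => intro j; simp
    | succ a ih =>
      intro j
      rw [show m * (a + 1) + j = (m * a + j) + m by ring, hF, ih]
  induction g with
  | zero => simp
  | succ g ih =>
    rw [Nat.mul_succ, Finset.prod_range_add, ih, pow_succ]
    congr 1
    exact Finset.prod_congr rfl (fun x _ => hF' g x)

end Groth.Agent.Lib.helper7
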