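import Mathlib
import Groth.Prelude.Def_SchFin
import Groth.Prelude.Def_SchFin2

set_option autoImplicit false
universe u

open TensorProduct

namespace Groth.Agent.Lib.helper7

open SchFin

/-- transport of `IsBCAlong` along a surjective ring map and a bijective semilinear map -/
theorem H7_isBC_transport {R' R S : Type u} [CommRing R'] [CommRing R] [CommRing S]
    (ρ : R' →+* R) (hρ : Function.Surjective ρ) (g : R →+* S) (g' : R' →+* S)
    (hg' : ∀ r', g' r' = g (ρ r'))
    {M' M N : Type u} [AddCommGroup M'] [AddCommGroup M] [AddCommGroup N] [Module R' M']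
    [Module R M] [Module S N]
    (σ : M' →ₛₗ[ρ] M) (hσ : Function.Bijective σ) (f : M →ₛₗ[g] N) (f' : M' →ₛₗ[g'] N)
    (hf' : ∀ m, f' m = f (σ m)) (h : IsBCAlong g f) : IsBCAlong g' f' := by
  unfold IsBCAlong at h ⊢
  let _ : Algebra R S := g.toAlgebra
  let _ : Module R N := Module.compHom N g
  have : IsScalarTower R S N := IsScalarTower.of_algebraMap_smul fun _ _ => rfl
  let _ : Algebra R' S := g'.toAlgebra
  let _ : Module R' N := Module.compHom N g'
  have : IsScalarTower R' S N := IsScalarTower.of_algebraMap_smul fun _ _ => rfl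
  apply IsBaseChange.of_lift_unique
  intro Q _ _ _ _ l'
  let _ : Module R Q := Module.compHom Q g
  have : IsScalarTower R S Q := IsScalarTower.of_algebraMap_smul fun _ _ => rfl
  let σe := Equiv.ofBijective σ hσ
  have hsm : ∀ (r' : R') (q : Q), r' • q = g' r' • q := by
    intro r' q
    rw [← one_smul S q, ← smul_assoc, one_smul]
    change (g' r' * 1) • q = _
    rw [mul_one]
  let l : M →ₗ[R] Q :=
    { toFun := fun m => l' (σe.symm m)
      map_add' := fun a b => by
        rw [← map_add]
        congr 1
        apply σe.injective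
        rw [Equiv.apply_symm_apply]
        change _ = σ (σe.symm a + σe.symm b)
        rw [map_add]
        change _ = σe (σe.symm a) + σe (σe.symm b)
        rw [Equiv.apply_symm_apply, Equiv.apply_symm_apply]
      map_smul' := fun r m => by
        obtain ⟨r', rfl⟩ := hρ r
        have h1 : σe.symm (ρ r' • m) = r' • σe.symm m := by
          apply σe.injective
          rw [Equiv.apply_symm_apply]
          change _ = σ (r' • σe.symm m)
          rw [σ.map_smulₛₗ]
          change _ = ρ r' • σe (σe.symm m)
          rw [Equiv.apply_symm_apply]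
        rw [h1, map_smul, hsm, hg']
        rfl }
  refine ⟨h.lift l, ?_, ?_⟩
  · apply LinearMap.ext
    intro m'
    change h.lift l (f' m') = l' m'
    rw [hf']
    have := h.lift_eq l (σ m')
    change h.lift l (f (σ m')) = _ at this
    rw [this]
    change l' (σe.symm (σe m')) = _
    rw [Equiv.symm_apply_apply]
  · intro k hk
    apply h.algHom_ext
    intro x
    obtain ⟨m', rfl⟩ := hσ.2 x
    have h1 := h.lift_eq l (σ m')
    change h.lift l (f (σ m')) = _ at h1
    change k (f (σ m')) = h.lift l (f (σ m'))
    rw [h1, ← hf']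
    have h2 := LinearMap.congr_fun hk m'
    change k (f' m') = l' m' at h2
    rw [h2]
    change _ = l' (σe.symm (σe m'))
    rw [Equiv.symm_apply_apply]

/-- sections over `U` as global sections of the restricted space -/
def H7_secToRestrict (X : RSpace.{u}) (U : Set X.pt) :
    X.sectRing U →+* (X.restrict U).sectRing Set.univ where
  toFun s := ⟨fun t => s.1 t.1, fun t t' h => s.2 t.1 t'.1 h⟩
  map_one' := rfl
  map_mul' _ _ := rfl
  map_zero' := rfl
  map_add' _ _ := rfl

theorem H7_secToRestrict_surj (X : RSpace.{u}) (U : Set X.pt) :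
    Function.Surjective (H7_secToRestrict X U) := by
  intro t
  exact ⟨⟨fun q => t.1 ⟨q, trivial⟩, fun q q' h => t.2 ⟨q, trivial⟩ ⟨q', trivial⟩ h⟩, rfl⟩

/-- module sections over `U` as global sections of the restricted module -/
def H7_modSecToRestrict {X : RSpace.{u}} (M : OMod X) (U : Set X.pt) :
    M.sect U →ₛₗ[H7_secToRestrict X U] (M.restrict U).sect Set.univ where
  toFun s := ⟨fun t => s.1 t.1, fun t t' h => s.2 t.1 t'.1 h⟩
  map_add' _ _ := rfl
  map_smul' _ _ := rfl

theorem H7_modSecToRestrict_bij {X : RSpace.{u}} (M : OMod X) (U : Set X.pt) :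
    Function.Bijective (H7_modSecToRestrict M U) := by
  constructor
  · intro a b hab
    apply Subtype.ext
    funext q
    exact congrFun (congrArg Subtype.val hab) ⟨q, trivial⟩
  · intro t
    exact ⟨⟨fun q => t.1 ⟨q, trivial⟩, fun q q' h => t.2 ⟨q, trivial⟩ ⟨q', trivial⟩ h⟩, rfl⟩

theorem H7_affine_counit (X : RSpace.{u}) (U : Set X.pt) (hUa : (X.restrict U).IsAffine)
    (M : OMod X) (hM : M.IsQcoh) (q : U) : IsBCAlong (X.evalRing U q) (M.evalMod U q) := by
  have hM' : (M.restrict U).IsQcoh := fun p p' h => hM p.1 p'.1 h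
  have h0 := hUa.2.2.1 (M.restrict U) hM' q
  exact H7_isBC_transport (H7_secToRestrict X U) (H7_secToRestrict_surj X U) _ (X.evalRing U q)
    (fun _ => rfl) (H7_modSecToRestrict M U) (H7_modSecToRestrict_bij M U) _ (M.evalMod U q)
    (fun _ => rfl) h0

end Groth.Agent.Lib.helper7
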