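import Mathlib
import Groth.Prelude.Def_SchFin

set_option autoImplicit false
universe u

namespace Groth.Agent.Lib.helper7

open SchFin

theorem H7_connSpec_iff (R : Type*) [CommRing R] :
    ConnectedSpace (PrimeSpectrum R) ↔
      Nontrivial R ∧ ∀ e : R, IsIdempotentElem e → e = 0 ∨ e = 1 := by
  rw [connectedSpace_iff_clopen, PrimeSpectrum.nonempty_iff_nontrivial]
  have key : ∀ e : R, IsIdempotentElem e →
      (PrimeSpectrum.basicOpen e : Set (PrimeSpectrum R)) = ∅ → e = 0 := by
    intro e he h0
    have h1 : PrimeSpectrum.basicOpen e = ⊥ := by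
      apply TopologicalSpace.Opens.ext
      rw [h0]
      rfl
    obtain ⟨n, hn⟩ := (PrimeSpectrum.basicOpen_eq_bot_iff e).mp h1
    have := he.pow_succ_eq n
    rw [pow_succ, hn, zero_mul] at this
    exact this.symm
  constructor
  · rintro ⟨hn, h⟩
    refine ⟨hn, fun e he => ?_⟩
    rcases h _ (PrimeSpectrum.isClopen_iff.mpr ⟨e, he, rfl⟩) with h0 | h1
    · left
      exact key e he h0
    · right
      have h2 : (PrimeSpectrum.basicOpen (1 - e) : Set (PrimeSpectrum R)) = ∅ := by
        rw [← PrimeSpectrum.zeroLocus_eq_basicOpen_of_isIdempotentElem e he]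
        have := PrimeSpectrum.basicOpen_eq_zeroLocus_compl e
        rw [h1] at this
        rw [← compl_compl (PrimeSpectrum.zeroLocus {e}), ← this]
        simp
      have := key (1 - e) he.one_sub h2
      exact (sub_eq_zero.mp this).symm
  · rintro ⟨hn, h⟩
    refine ⟨hn, fun s hs => ?_⟩
    obtain ⟨e, he, rfl⟩ := PrimeSpectrum.isClopen_iff.mp hs
    rcases h e he with rfl | rfl
    · left; simp
    · right; simp

theorem H7_topconn_of_conn (X : RSpace.{u}) (hC : X.IsConnected) (hP : X.IsPwConnected) :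
    X.IsTopConnected := by
  classical
  have hnt : ∀ p : X.pt, Nontrivial (X.ring p) := fun p => ((H7_connSpec_iff _).mp (hP p)).1
  obtain ⟨hΓ, hid⟩ := (H7_connSpec_iff _).mp hC
  have hne : Nonempty X.pt := by
    by_contra hemp
    rw [not_nonempty_iff] at hemp
    obtain ⟨a, b, hab⟩ := hΓ
    apply hab
    apply Subtype.ext
    funext q
    exact (hemp.false q.1).elim
  refine ⟨hne, fun p q => ?_⟩
  -- the indicator section of the component of p
  let C : Set X.pt := {q | Relation.EqvGen (fun a b : X.pt => a ≤ b) p q}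
  have hC : ∀ a b : X.pt, a ≤ b → (a ∈ C ↔ b ∈ C) := by
    intro a b hab
    constructor
    · intro ha
      exact Relation.EqvGen.trans _ _ _ ha (Relation.EqvGen.rel _ _ hab)
    · intro hb
      exact Relation.EqvGen.trans _ _ _ hb (Relation.EqvGen.symm _ _ (Relation.EqvGen.rel _ _ hab))
  let e : X.sectRing Set.univ := ⟨fun q => if q.1 ∈ C then 1 else 0, by
    intro a b hab
    change X.res hab (if a.1 ∈ C then 1 else 0) = if b.1 ∈ C then 1 else 0
    by_cases ha : a.1 ∈ C
    · rw [if_pos ha, if_pos ((hC _ _ hab).mp ha), map_one]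
    · rw [if_neg ha, if_neg (fun hb => ha ((hC _ _ hab).mpr hb)), map_zero]⟩
  have he : IsIdempotentElem e := by
    apply Subtype.ext
    funext a
    change (if a.1 ∈ C then (1 : X.ring a.1) else 0) * (if a.1 ∈ C then 1 else 0) =
      if a.1 ∈ C then 1 else 0
    by_cases ha : a.1 ∈ C
    · rw [if_pos ha, mul_one]
    · rw [if_neg ha, mul_zero]
  have hpC : p ∈ C := Relation.EqvGen.refl p
  rcases hid e he with h0 | h1
  · exfalso
    have := congrArg (fun s : X.sectRing Set.univ => s.1 ⟨p, trivial⟩) h0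
    change (if p ∈ C then (1 : X.ring p) else 0) = 0 at this
    rw [if_pos hpC] at this
    exact one_ne_zero this
  · have := congrArg (fun s : X.sectRing Set.univ => s.1 ⟨q, trivial⟩) h1
    change (if q ∈ C then (1 : X.ring q) else 0) = 1 at this
    by_contra hq
    have hq' : q ∉ C := hq
    rw [if_neg hq'] at this
    exact zero_ne_one this

theorem H7_conn_of_topconn (X : RSpace.{u}) (hT : X.IsTopConnected) (hP : X.IsPwConnected) :
    X.IsConnected := by
  have hnt : ∀ p : X.pt, Nontrivial (X.ring p) := fun p => ((H7_connSpec_iff _).mp (hP p)).1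
  have hidp : ∀ (p : X.pt) (e : X.ring p), IsIdempotentElem e → e = 0 ∨ e = 1 :=
    fun p => ((H7_connSpec_iff _).mp (hP p)).2
  obtain ⟨⟨p0⟩, hconn⟩ := hT
  apply (H7_connSpec_iff _).mpr
  refine ⟨⟨0, 1, ?_⟩, ?_⟩
  · intro h01
    have := congrArg (fun s : X.sectRing Set.univ => s.1 ⟨p0, trivial⟩) h01
    exact zero_ne_one this
  · intro e he
    have hcomp : ∀ a : X.pt, IsIdempotentElem (e.1 ⟨a, trivial⟩) := by
      intro a
      exact congrArg (fun s : X.sectRing Set.univ => s.1 ⟨a, trivial⟩) he
    have hstep : ∀ a b : X.pt, a ≤ b → (e.1 ⟨a, trivial⟩ = 1 ↔ e.1 ⟨b, trivial⟩ = 1) := by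
      intro a b hab
      have hres : X.res hab (e.1 ⟨a, trivial⟩) = e.1 ⟨b, trivial⟩ := e.2 ⟨a, trivial⟩ ⟨b, trivial⟩ hab
      constructor
      · intro ha
        rw [← hres, ha, map_one]
      · intro hb
        rcases hidp a _ (hcomp a) with h0 | h1
        · exfalso
          rw [h0, map_zero] at hres
          rw [← hres] at hb
          exact zero_ne_one hb
        · exact h1
    have hall : ∀ a b : X.pt, Relation.EqvGen (fun a b : X.pt => a ≤ b) a b →
        (e.1 ⟨a, trivial⟩ = 1 ↔ e.1 ⟨b, trivial⟩ = 1) := by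
      intro a b hab
      induction hab with
      | rel a b h => exact hstep a b h
      | refl a => exact Iff.rfl
      | symm a b _ ih => exact ih.symm
      | trans a b c _ _ ih1 ih2 => exact ih1.trans ih2
    by_cases h1 : e.1 ⟨p0, trivial⟩ = 1
    · right
      apply Subtype.ext
      funext a
      exact (hall p0 a.1 (hconn p0 a.1)).mp h1
    · left
      apply Subtype.ext
      funext a
      rcases hidp a.1 _ (hcomp a.1) with h0 | h1'
      · exact h0
      · exact absurd ((hall p0 a.1 (hconn p0 a.1)).mpr h1') h1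

theorem H7_S15610 (X : RSpace.{u}) :
    X.IsWellConnected ↔ (X.IsTopConnected ∧ X.IsPwConnected) := by
  constructor
  · rintro ⟨hC, hP⟩
    exact ⟨H7_topconn_of_conn X hC hP, hP⟩
  · rintro ⟨hT, hP⟩
    exact ⟨H7_conn_of_topconn X hT hP, hP⟩

end Groth.Agent.Lib.helper7
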