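import Mathlib
import Groth.Prelude.Def_SchFin
import Groth.Prelude.Def_SchFin2

set_option autoImplicit false
universe u

open TensorProduct

namespace Groth.Agent.Lib.helper7

open SchFin

theorem H7_fin1_eq (a b : Fin (0 + 1)) : a = b :=
  Fin.ext (by have := a.2; have := b.2; omega)

/-- the one-point chain -/
def H7_pt0 {X : RSpace.{u}} {U : Set X.pt} (q : U) : Chain U 0 where
  toFun _ := q
  inj' := fun a b _ => H7_fin1_eq a b
  map_rel_iff' := by
    intro a b
    have : a = b := H7_fin1_eq a b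
    subst this
    simp

/-- the constant cocycle with a given value at a lower bound of `U` -/
def H7_constCochain {X : RSpace.{u}} {U : Set X.pt} {R : Type u} [CommRing R] (φ : Coef X U R)
    (m : X.pt) (hm : ∀ q : U, m ≤ q.1) (b : X.ring m) : Cochain φ X.str 0 :=
  fun τ => X.res (hm (τ (Fin.last 0))) b

theorem H7_constCochain_mem {X : RSpace.{u}} {U : Set X.pt} {R : Type u} [CommRing R]
    (φ : Coef X U R) (m : X.pt) (hm : ∀ q : U, m ≤ q.1) (b : X.ring m) :
    H7_constCochain φ m hm b ∈ cocycles φ X.str 0 := by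
  change diff φ X.str 0 (H7_constCochain φ m hm b) = 0
  funext σ
  change (∑ j : Fin 2, ((-1 : ℤ) ^ (j : ℕ)) • (H7_constCochain φ m hm b).faceVal σ j) = 0
  obtain ⟨v, hv⟩ : ∃ v : X.str.carrier (σ (Fin.last (0 + 1))).1,
      ∀ j : Fin 2, (H7_constCochain φ m hm b).faceVal σ j = v := by
    refine ⟨X.res (hm (σ (Fin.last 1))) b, ?_⟩
    intro j
    exact X.res_comp _ _ b
  rw [Fin.sum_univ_two, hv, hv, ← add_zsmul]
  simp

end Groth.Agent.Lib.helper7
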