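import Mathlib
import Groth.Prelude.Def_SchFin
import Groth.Prelude.Def_SchFin2
import Groth.Agent.Lib.helper7.SchFinEpi

set_option autoImplicit false
universe u

open TensorProduct

namespace Groth.Agent.Lib.helper7

open SchFin

theorem H7_schfin_tmul_eq (X : RSpace.{u}) (hX : X.IsSchematic) {x y : X.pt} (h : x ≤ y) :
    let _ : Algebra (X.ring x) (X.ring y) := (X.res h).toAlgebra
    ∀ b : X.ring y, (1 : X.ring y) ⊗ₜ[X.ring x] b = b ⊗ₜ[X.ring x] 1 := by
  intro _ b
  have hbc := (hX.2.2 0 x y h y y le_rfl).1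
  unfold IsBCAlong at hbc
  -- notation
  set Ux : Set X.pt := (Hom.id X).wedge x y with hUx
  set Uy : Set X.pt := (Hom.id X).wedge y y with hUy
  set φx : Coef X Ux (X.ring x) := Coef.ofLE x Ux ((Hom.id X).wedge_subset_up x y) with hφx
  set φy : Coef X Uy (X.ring y) := Coef.ofLE y Uy ((Hom.id X).wedge_subset_up y y) with hφy
  have hmx : ∀ q : Ux, y ≤ q.1 := fun q => q.2.2
  have hmy : ∀ q : Uy, y ≤ q.1 := fun q => q.2.2
  let c : X.ring y → cocycles φx X.str 0 := fun b =>
    ⟨H7_constCochain φx y hmx b, H7_constCochain_mem φx y hmx b⟩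
  let m : X.ring y → H φx X.str 0 := fun b => H.mk φx X.str 0 (c b)
  -- the evaluation map
  let ev0 : cocycles φx X.str 0 →ₗ[X.ring x] X.ring y :=
    { toFun := fun c => c.1 (H7_pt0 ⟨y, ⟨h, le_rfl⟩⟩)
      map_add' := fun a b => rfl
      map_smul' := fun r a => rfl }
  have hker : (cobdry φx X.str 0).comap (cocycles φx X.str 0).subtype ≤ LinearMap.ker ev0 := by
    intro z hz
    have hz' : z.1 = 0 := hz
    change z.1 (H7_pt0 ⟨y, ⟨h, le_rfl⟩⟩) = 0
    rw [hz']
    rfl
  let ev : H φx X.str 0 →ₗ[X.ring x] X.ring y := Submodule.liftQ _ ev0 hker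
  have hev : ∀ b, ev (m b) = b := by
    intro b
    change X.res _ b = b
    exact X.res_self y b
  let _ : Module (X.ring x) (H φy X.str 0) := Module.compHom _ (X.res h)
  have : IsScalarTower (X.ring x) (X.ring y) (H φy X.str 0) :=
    IsScalarTower.of_algebraMap_smul fun _ _ => rfl
  -- the key equality in the base change
  have key : (1 : X.ring y) ⊗ₜ[X.ring x] (m b) = b ⊗ₜ[X.ring x] (m 1) := by
    apply hbc.equiv.injective
    rw [IsBaseChange.equiv_tmul, IsBaseChange.equiv_tmul, one_smul]
    let cy : X.ring y → cocycles φy X.str 0 := fun b =>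
      ⟨H7_constCochain φy y hmy b, H7_constCochain_mem φy y hmy b⟩
    have h1 : ∀ b, resH X.str ((Hom.id X).subSrc h y) 0 (m b) = H.mk φy X.str 0 (cy b) := by
      intro b
      rfl
    change resH X.str ((Hom.id X).subSrc h y) 0 (m b) = b • resH X.str ((Hom.id X).subSrc h y) 0 (m 1)
    rw [h1, h1, ← map_smul]
    congr 1
    apply Subtype.ext
    funext τ
    change X.res _ b = X.res _ b * X.res _ 1
    rw [map_one, mul_one]
  have := congrArg (LinearMap.lTensor (X.ring y) ev) key
  rw [LinearMap.lTensor_tmul, LinearMap.lTensor_tmul, hev, hev] at this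
  exact this

theorem H7_homext_of_tmul_eq {R S : Type*} [CommRing R] [CommRing S] [Algebra R S]
    (h : ∀ b : S, (1 : S) ⊗ₜ[R] b = b ⊗ₜ[R] 1) {T : Type*} [CommRing T] (g₁ g₂ : S →+* T)
    (hg : g₁.comp (algebraMap R S) = g₂.comp (algebraMap R S)) : g₁ = g₂ := by
  let _ : Algebra R T := (g₁.comp (algebraMap R S)).toAlgebra
  let g₁' : S →ₐ[R] T := { g₁ with commutes' := fun r => rfl }
  let g₂' : S →ₐ[R] T := { g₂ with commutes' := fun r => (RingHom.congr_fun hg r).symm }
  ext b
  have := congrArg (Algebra.TensorProduct.productMap g₁' g₂') (h b)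
  rw [Algebra.TensorProduct.productMap_apply_tmul, Algebra.TensorProduct.productMap_apply_tmul,
    map_one, map_one, one_mul, mul_one] at this
  exact this.symm

theorem H7_tmul_eq_of_homext {R S : Type u} [CommRing R] [CommRing S] [Algebra R S]
    (hext : ∀ (T : Type u) [CommRing T] (g₁ g₂ : S →+* T),
      g₁.comp (algebraMap R S) = g₂.comp (algebraMap R S) → g₁ = g₂) :
    ∀ b : S, (1 : S) ⊗ₜ[R] b = b ⊗ₜ[R] 1 := by
  intro b
  have := hext (S ⊗[R] S)
    (Algebra.TensorProduct.includeLeft (R := R) (S := R) (A := S) (B := S)).toRingHom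
    (Algebra.TensorProduct.includeRight (R := R) (A := S) (B := S)).toRingHom (by
      ext r
      change algebraMap R S r ⊗ₜ[R] (1 : S) = (1 : S) ⊗ₜ[R] algebraMap R S r
      rw [Algebra.algebraMap_eq_smul_one, TensorProduct.smul_tmul])
  exact (RingHom.congr_fun this b).symm

theorem H7_bijective_of_ff_epi {R S : Type*} [CommRing R] [CommRing S] [Algebra R S]
    [Module.FaithfullyFlat R S] (h : ∀ b : S, (1 : S) ⊗ₜ[R] b = b ⊗ₜ[R] 1) :
    Function.Bijective (algebraMap R S) := by
  refine ⟨FaithfulSMul.algebraMap_injective R S, ?_⟩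
  have hs : Function.Surjective (Algebra.linearMap R S) := by
    rw [← Module.FaithfullyFlat.lTensor_surjective_iff_surjective R S]
    intro t
    induction t using TensorProduct.induction_on with
    | zero => exact ⟨0, map_zero _⟩
    | tmul s s' =>
      refine ⟨(s * s') ⊗ₜ[R] (1 : R), ?_⟩
      rw [LinearMap.lTensor_tmul, Algebra.linearMap_apply, map_one]
      calc (s * s') ⊗ₜ[R] (1 : S) = (s ⊗ₜ[R] (1 : S)) * (s' ⊗ₜ[R] (1 : S)) := by
            rw [Algebra.TensorProduct.tmul_mul_tmul, mul_one]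
        _ = (s ⊗ₜ[R] (1 : S)) * ((1 : S) ⊗ₜ[R] s') := by rw [h s']
        _ = s ⊗ₜ[R] s' := by rw [Algebra.TensorProduct.tmul_mul_tmul, mul_one, one_mul]
    | add a b ha hb =>
      obtain ⟨a', rfl⟩ := ha
      obtain ⟨b', rfl⟩ := hb
      exact ⟨a' + b', map_add _ _ _⟩
  exact hs

theorem H7_S15634 (X : RSpace.{u}) (hX : X.IsSchematic) {x y : X.pt} (h : x ≤ y)
    {T : Type u} [CommRing T] (g₁ g₂ : X.ring y →+* T) (hg : g₁.comp (X.res h) = g₂.comp (X.res h)) :
    g₁ = g₂ := by
  let _ : Algebra (X.ring x) (X.ring y) := (X.res h).toAlgebra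
  exact H7_homext_of_tmul_eq (H7_schfin_tmul_eq X hX h) g₁ g₂ hg

theorem H7_S15611 (X : RSpace.{u}) (hX : X.IsSchematic)
    {x y : X.pt} (h : x ≤ y) (P : Ideal (X.ring y)) [P.IsPrime] :
    Function.Bijective (Localization.localRingHom (P.comap (X.res h)) P (X.res h) rfl) := by
  have hflat : (Localization.localRingHom (P.comap (X.res h)) P (X.res h) rfl).Flat :=
    RingHom.Flat.localRingHom (hX.1.2 x y h) P _ rfl
  let _ : Algebra (Localization.AtPrime (P.comap (X.res h))) (Localization.AtPrime P) :=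
    (Localization.localRingHom (P.comap (X.res h)) P (X.res h) rfl).toAlgebra
  have : Module.Flat (Localization.AtPrime (P.comap (X.res h))) (Localization.AtPrime P) := hflat
  have : IsLocalHom (algebraMap (Localization.AtPrime (P.comap (X.res h))) (Localization.AtPrime P)) :=
    Localization.isLocalHom_localRingHom _ _ _ rfl
  have : Module.FaithfullyFlat (Localization.AtPrime (P.comap (X.res h))) (Localization.AtPrime P) :=
    Module.FaithfullyFlat.of_flat_of_isLocalHom
  change Function.Bijective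
    (algebraMap (Localization.AtPrime (P.comap (X.res h))) (Localization.AtPrime P))
  apply H7_bijective_of_ff_epi
  apply H7_tmul_eq_of_homext
  intro T _ g₁ g₂ hg
  apply IsLocalization.ringHom_ext P.primeCompl
  apply H7_S15634 X hX h
  ext a
  have := RingHom.congr_fun hg (algebraMap (X.ring x) (Localization.AtPrime (P.comap (X.res h))) a)
  change g₁ (Localization.localRingHom (P.comap (X.res h)) P (X.res h) rfl (algebraMap _ _ a)) =
    g₂ (Localization.localRingHom (P.comap (X.res h)) P (X.res h) rfl (algebraMap _ _ a)) at this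
  rw [Localization.localRingHom_to_map] at this
  exact this

theorem H7_surjOnStalks (X : RSpace.{u}) (hX : X.IsSchematic) {x y : X.pt} (h : x ≤ y) :
    (X.res h).SurjectiveOnStalks := fun P _ => (H7_S15611 X hX h P).2

theorem H7_S15612 (X : RSpace.{u}) (hX : X.IsSchematic) (a b : X.Pair)
    (h : a.1 ≤ b.1) (hp : PrimeSpectrum.comap (X.res h) b.2 = a.2) :
    Function.Bijective (RSpace.Pair.κMap a b h hp) :=
  (H7_surjOnStalks X hX h).residueFieldMap_bijective _ _ _

end Groth.Agent.Lib.helper7
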