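import Mathlib
import Groth.Prelude.Def_SchFin
import Groth.Prelude.Def_SchFin2
import Groth.Agent.Lib.helper7.SchFinAff
import Groth.Agent.Lib.helper7.PiFF

set_option autoImplicit false
universe u

open TensorProduct

namespace Groth.Agent.Lib.helper7

open SchFin

theorem H7_sect_ff_criterion (X : RSpace.{u}) (U : Set X.pt)
    (hφ : Module.FaithfullyFlat (X.sectRing U) ((q : ↥U) → X.ring q.1))
    {N1 N2 : Type u} [AddCommGroup N1] [AddCommGroup N2] [Module (X.sectRing U) N1]
    [Module (X.sectRing U) N2] (φ : N1 →ₗ[X.sectRing U] N2)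
    (h : ∀ q : U, letI : Algebra (X.sectRing U) (X.ring q.1) := (X.evalRing U q).toAlgebra
       Function.Bijective (LinearMap.lTensor (X.ring q.1) φ)) : Function.Bijective φ := by
  classical
  have := Fintype.ofFinite ↥U
  let mP : Module (X.sectRing U) ((q : ↥U) → X.ring q.1) := inferInstance
  let iA : ∀ q : U, Algebra (X.sectRing U) (X.ring q.1) := fun q => (X.evalRing U q).toAlgebra
  let pr : ∀ q : U, ((q : ↥U) → X.ring q.1) →ₗ[X.sectRing U] X.ring q.1 := fun q =>
    { toFun := fun p => p q
      map_add' := fun _ _ => rfl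
      map_smul' := fun γ p => rfl }
  let sg : ∀ q : U, X.ring q.1 →ₗ[X.sectRing U] ((q : ↥U) → X.ring q.1) := fun q =>
    { toFun := fun a => Pi.single (M := fun q : ↥U => X.ring q.1) q a
      map_add' := fun a b => Pi.single_add (f := fun q : ↥U => X.ring q.1) q a b
      map_smul' := fun γ a => by
        funext j
        change Pi.single (M := fun q : ↥U => X.ring q.1) q (γ.1 q * a) j =
          γ.1 j * Pi.single (M := fun q : ↥U => X.ring q.1) q a j
        by_cases hj : j = q
        · subst hj
          rw [Pi.single_eq_same, Pi.single_eq_same]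
        · rw [Pi.single_eq_of_ne hj, Pi.single_eq_of_ne hj, mul_zero] }
  have hid : ∑ q, (sg q).comp (pr q) = LinearMap.id := by
    apply LinearMap.ext
    intro p
    rw [LinearMap.sum_apply]
    exact Finset.univ_sum_single p
  exact H7_bijective_of_pi_ff (fun q : U => X.ring q.1) ((q : ↥U) → X.ring q.1) pr sg hid φ h

end Groth.Agent.Lib.helper7
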