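import Mathlib
import Groth.Prelude.Def_SchFin
import Groth.Prelude.Def_SchFin2
import Groth.Agent.Lib.helper7.SchFinEpi2

set_option autoImplicit false
universe u

open TensorProduct

namespace Groth.Agent.Lib.helper7

open SchFin

section
variable {X : RSpace.{u}} {U : Set X.pt} {R : Type u} [CommRing R] (φ : Coef X U R)

/-- a section as a 0-cochain -/
def H7_secCochain (s : X.sectRing U) : Cochain φ X.str 0 :=
  fun τ => s.1 (τ (Fin.last 0))

theorem H7_secCochain_mem (s : X.sectRing U) : H7_secCochain φ s ∈ cocycles φ X.str 0 := by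
  change diff φ X.str 0 (H7_secCochain φ s) = 0
  funext σ
  change (∑ j : Fin 2, ((-1 : ℤ) ^ (j : ℕ)) • (H7_secCochain φ s).faceVal σ j) = 0
  obtain ⟨v, hv⟩ : ∃ v : X.str.carrier (σ (Fin.last (0 + 1))).1,
      ∀ j : Fin 2, (H7_secCochain φ s).faceVal σ j = v := by
    refine ⟨s.1 (σ (Fin.last 1)), ?_⟩
    intro j
    exact s.2 _ _ _
  rw [Fin.sum_univ_two, hv, hv, ← add_zsmul]
  simp

/-- transport lemma for cochains -/
theorem H7_cochain_transport (c : Cochain φ X.str 0) (τ τ' : Chain U 0) (e : τ = τ') (z : X.pt)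
    (h1 : (τ (Fin.last 0)).1 ≤ z) (h2 : (τ' (Fin.last 0)).1 ≤ z) :
    X.res h1 (c τ) = X.res h2 (c τ') := by
  subst e
  rfl

/-- the two-point chain -/
def H7_pt1 (q q' : U) (h : q.1 < q'.1) : Chain U 1 :=
  OrderEmbedding.ofStrictMono (fun i : Fin 2 => if i = 0 then q else q') (by
    intro a b hab
    have ha : a = 0 := by
      rcases Fin.exists_fin_two.mp ⟨a, rfl⟩ with h | h
      · exact h
      · rcases Fin.exists_fin_two.mp ⟨b, rfl⟩ with h' | h' <;> simp_all
    have hb : b = 1 := by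
      rcases Fin.exists_fin_two.mp ⟨b, rfl⟩ with h' | h'
      · simp_all
      · exact h'
    subst ha hb
    simp only [Fin.isValue, if_true]
    exact h)

theorem H7_alt2 {A : Type*} [AddCommGroup A] (a b : A)
    (h : ((-1 : ℤ) ^ ((0 : Fin 2) : ℕ)) • a + ((-1 : ℤ) ^ ((1 : Fin 2) : ℕ)) • b = 0) : b = a := by
  have e2 : ((-1 : ℤ) ^ ((0 : Fin 2) : ℕ)) = 1 := by norm_num
  have e3 : ((-1 : ℤ) ^ ((1 : Fin 2) : ℕ)) = -1 := by norm_num
  rw [e2, e3, one_zsmul, neg_one_zsmul, ← sub_eq_add_neg] at h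
  exact (sub_eq_zero.mp h).symm

theorem H7_cocycle_compat (c : Cochain φ X.str 0) (hc : c ∈ cocycles φ X.str 0) (q q' : U)
    (h : q.1 ≤ q'.1) : X.res h (c (H7_pt0 q)) = c (H7_pt0 q') := by
  rcases eq_or_lt_of_le h with he | hlt
  · have hqq : q = q' := Subtype.ext he
    subst hqq
    exact X.res_self _ _
  · have hd : diff φ X.str 0 c (H7_pt1 q q' hlt) = 0 := by
      have : diff φ X.str 0 c = 0 := hc
      rw [this]
      rfl
    change (∑ j : Fin 2, ((-1 : ℤ) ^ (j : ℕ)) • c.faceVal (H7_pt1 q q' hlt) j) = 0 at hd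
    have hl : ((H7_pt1 q q' hlt) (Fin.last 1)) = q' := rfl
    have e0 : (H7_pt1 q q' hlt).face 0 = H7_pt0 q' := by
      apply RelEmbedding.ext
      intro i
      rfl
    have e1 : (H7_pt1 q q' hlt).face 1 = H7_pt0 q := by
      apply RelEmbedding.ext
      intro i
      have hi : i = 0 := H7_fin1_eq i 0
      subst hi
      rfl
    have f0 : c.faceVal (H7_pt1 q q' hlt) 0 = c (H7_pt0 q') :=
      (H7_cochain_transport φ c _ _ e0 _ _ (le_refl q'.1)).trans (X.res_self _ _)
    have f1 : c.faceVal (H7_pt1 q q' hlt) 1 = X.res h (c (H7_pt0 q)) :=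
      H7_cochain_transport φ c _ _ e1 _ _ _
    rw [Fin.sum_univ_two, f0, f1] at hd
    exact H7_alt2 _ _ hd

theorem H7_cochain_ext (c c' : Cochain φ X.str 0) (h : ∀ q : U, c (H7_pt0 q) = c' (H7_pt0 q)) :
    c = c' := by
  funext τ
  have key : ∀ τ' : Chain U 0, τ' = H7_pt0 (τ (Fin.last 0)) → c τ' = c' τ' := by
    intro τ' e
    subst e
    exact h _
  apply key
  apply RelEmbedding.ext
  intro i
  have hi : i = Fin.last 0 := H7_fin1_eq i _
  subst hi
  rfl

/-- sections to degree-zero cohomology -/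
def H7_secH0 (s : X.sectRing U) : H φ X.str 0 :=
  H.mk φ X.str 0 ⟨H7_secCochain φ s, H7_secCochain_mem φ s⟩

theorem H7_secH0_add (s t : X.sectRing U) : H7_secH0 φ (s + t) = H7_secH0 φ s + H7_secH0 φ t := by
  unfold H7_secH0
  rw [← map_add]
  rfl

theorem H7_H0mk_injective : Function.Injective (H.mk φ X.str 0) := by
  intro a b hab
  have h1 : H.mk φ X.str 0 (a - b) = 0 := by rw [map_sub, hab, sub_self]
  have h2 : (a - b) ∈ (cobdry φ X.str 0).comap (cocycles φ X.str 0).subtype :=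
    (Submodule.Quotient.mk_eq_zero _).mp h1
  have h3 : (a - b).1 = 0 := h2
  have h4 : a.1 - b.1 = 0 := h3
  exact Subtype.ext (sub_eq_zero.mp h4)

theorem H7_secH0_bijective : Function.Bijective (H7_secH0 φ) := by
  constructor
  · intro s t hst
    have h1 := H7_H0mk_injective φ hst
    have h2 : H7_secCochain φ s = H7_secCochain φ t := congrArg Subtype.val h1
    apply Subtype.ext
    funext q
    exact congrFun h2 (H7_pt0 q)
  · intro z
    obtain ⟨c, rfl⟩ := Submodule.mkQ_surjective _ z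
    refine ⟨⟨fun q => c.1 (H7_pt0 q), fun q q' h => H7_cocycle_compat φ c.1 c.2 q q' h⟩, ?_⟩
    unfold H7_secH0
    congr 1
    apply Subtype.ext
    apply H7_cochain_ext
    intro q
    rfl

end

end Groth.Agent.Lib.helper7
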