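import Mathlib
import Groth.Prelude.Def_SchFin
import Groth.Prelude.Def_SchFin2
import Groth.Agent.Lib.helper7.SchFinH0

set_option autoImplicit false
universe u

open TensorProduct

namespace Groth.Agent.Lib.helper7

open SchFin

theorem H7_mu_bijective (X : RSpace.{u}) (hX : X.IsSchematic) {s x y : X.pt} (hx : s ≤ x)
    (hy : s ≤ y) :
    let _ : Algebra (X.ring s) (X.ring x) := (X.res hx).toAlgebra
    let _ : Algebra (X.ring s) (X.ring y) := (X.res hy).toAlgebra
    ∀ (μ : X.ring x ⊗[X.ring s] X.ring y →+ X.sectRing ((Hom.id X).wedge x y))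
      (_ : ∀ a b, μ (a ⊗ₜ b) = X.resSect x _ ((Hom.id X).wedge_subset_up x y) a *
        X.resSect y _ ((Hom.id X).wedge_subset_pre x y) b),
      Function.Bijective μ := by
  intro _ _ μ hμ
  have hbc := (hX.2.2 0 s x hx y y le_rfl).1
  unfold IsBCAlong at hbc
  let U1 : Set X.pt := (Hom.id X).wedge s y
  let U2 : Set X.pt := (Hom.id X).wedge x y
  let φ1 : Coef X U1 (X.ring s) := Coef.ofLE s U1 ((Hom.id X).wedge_subset_up s y)
  let φ2 : Coef X U2 (X.ring x) := Coef.ofLE x U2 ((Hom.id X).wedge_subset_up x y)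
  let _ : Module (X.ring s) (H φ2 X.str 0) := Module.compHom _ (X.res hx)
  have : IsScalarTower (X.ring s) (X.ring x) (H φ2 X.str 0) :=
    IsScalarTower.of_algebraMap_smul fun _ _ => rfl
  have hm1 : ∀ q : U1, y ≤ q.1 := fun q => q.2.2
  -- E1
  let E1 : X.ring y →ₗ[X.ring s] H φ1 X.str 0 :=
    { toFun := fun b => H.mk φ1 X.str 0 ⟨H7_constCochain φ1 y hm1 b, H7_constCochain_mem φ1 y hm1 b⟩
      map_add' := fun a b => by
        rw [← map_add]
        congr 1
        apply Subtype.ext
        funext τ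
        exact map_add (X.res _) a b
      map_smul' := fun r b => by
        rw [RingHom.id_apply, ← map_smul]
        congr 1
        apply Subtype.ext
        funext τ
        change X.res _ (X.res hy r * b) = X.res _ r * X.res _ b
        rw [map_mul, X.res_comp] }
  have hy1 : y ∈ U1 := ⟨hy, le_rfl⟩
  have hE1 : Function.Bijective E1 := by
    constructor
    · rw [← LinearMap.ker_eq_bot, LinearMap.ker_eq_bot']
      intro b hb
      have h0 : (0 : H φ1 X.str 0) = H.mk φ1 X.str 0 0 := (map_zero _).symm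
      have h1 := H7_H0mk_injective φ1 (hb.trans h0)
      have h2 := congrFun (congrArg Subtype.val h1) (H7_pt0 ⟨y, hy1⟩)
      exact (X.res_self y b).symm.trans h2
    · intro z
      obtain ⟨c, rfl⟩ := Submodule.mkQ_surjective _ z
      refine ⟨c.1 (H7_pt0 ⟨y, hy1⟩), ?_⟩
      change H.mk φ1 X.str 0 _ = H.mk φ1 X.str 0 c
      congr 1
      apply Subtype.ext
      apply H7_cochain_ext
      intro q
      exact H7_cocycle_compat φ1 c.1 c.2 ⟨y, hy1⟩ q (hm1 q)
  let E1e : X.ring y ≃ₗ[X.ring s] H φ1 X.str 0 := LinearEquiv.ofBijective E1 hE1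
  let L := LinearEquiv.lTensor (X.ring x) E1e
  have h00 : H7_secH0 φ2 0 = 0 := by
    have := H7_secH0_add φ2 0 0
    rw [add_zero] at this
    exact left_eq_add.mp this
  have key : ∀ t, H7_secH0 φ2 (μ t) = hbc.equiv (L t) := by
    intro t
    induction t using TensorProduct.induction_on with
    | zero => rw [map_zero, map_zero, map_zero, h00]
    | tmul a b =>
      rw [hμ]
      change _ = hbc.equiv (a ⊗ₜ E1 b)
      rw [IsBaseChange.equiv_tmul]
      change _ = a • resH X.str ((Hom.id X).subSrc hx y) 0 (E1 b)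
      change _ = a • H.mk φ2 X.str 0 _
      rw [← map_smul]
      unfold H7_secH0
      congr 1
    | add t1 t2 h1 h2 => rw [map_add, map_add, map_add, H7_secH0_add, h1, h2]
  have hcomp : (H7_secH0 φ2) ∘ μ = hbc.equiv ∘ L := funext key
  have hb : Function.Bijective ((H7_secH0 φ2) ∘ μ) := by
    rw [hcomp]
    exact hbc.equiv.bijective.comp L.bijective
  exact (Function.Bijective.of_comp_iff' (H7_secH0_bijective φ2) μ).mp hb

end Groth.Agent.Lib.helper7
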