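import Mathlib
import Groth.Prelude.Def_SchFin
import Groth.Prelude.Def_SchFin2
import Groth.Agent.Lib.helper7.SchFinMu

set_option autoImplicit false
universe u

open TensorProduct

namespace Groth.Agent.Lib.helper7

open SchFin

/-- Given primes `P` of `O_x`, `Q` of `O_y` with the same contraction to `O_s`, a field `K` with
compatible maps whose kernels are `P` and `Q`. -/
theorem H7_field_over_both (X : RSpace.{u}) (hX : X.IsSchematic) {s x y : X.pt} (hx : s ≤ x)
    (hy : s ≤ y) (P : Ideal (X.ring x)) [P.IsPrime] (Q : Ideal (X.ring y)) [Q.IsPrime]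
    (hQP : Q.comap (X.res hy) = P.comap (X.res hx)) :
    ∃ (K : Type u) (_ : Field K) (α : X.ring x →+* K) (β : X.ring y →+* K),
      (∀ a, α (X.res hx a) = β (X.res hy a)) ∧ (∀ a, α a = 0 ↔ a ∈ P) ∧ (∀ b, β b = 0 ↔ b ∈ Q) := by
  let eQ := RingEquiv.ofBijective (Localization.localRingHom (Q.comap (X.res hy)) Q (X.res hy) rfl)
    (H7_S15611 X hX hy Q)
  let lP := Localization.localRingHom (Q.comap (X.res hy)) P (X.res hx) hQP
  let α : X.ring x →+* P.ResidueField := algebraMap _ _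
  let β : X.ring y →+* P.ResidueField :=
    (IsLocalRing.residue (Localization.AtPrime P)).comp
      (lP.comp (eQ.symm.toRingHom.comp (algebraMap (X.ring y) (Localization.AtPrime Q))))
  refine ⟨P.ResidueField, inferInstance, α, β, ?_, ?_, ?_⟩
  · intro a
    change _ = IsLocalRing.residue _ (lP (eQ.symm (algebraMap _ _ (X.res hy a))))
    have h1 : algebraMap _ (Localization.AtPrime Q) (X.res hy a) = eQ (algebraMap _ _ a) :=
      (Localization.localRingHom_to_map _ _ _ rfl a).symm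
    rw [h1, eQ.symm_apply_apply]
    change _ = IsLocalRing.residue _ (Localization.localRingHom _ P (X.res hx) hQP (algebraMap _ _ a))
    rw [Localization.localRingHom_to_map]
    rfl
  · intro a
    exact Ideal.algebraMap_residueField_eq_zero
  · intro b
    change IsLocalRing.residue _ (lP (eQ.symm (algebraMap _ _ b))) = 0 ↔ _
    have : IsLocalHom lP := Localization.isLocalHom_localRingHom _ _ _ hQP
    rw [IsLocalRing.residue_eq_zero_iff, IsLocalRing.mem_maximalIdeal, map_mem_nonunits_iff lP,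
      map_mem_nonunits_iff eQ.symm, ← IsLocalRing.mem_maximalIdeal,
      IsLocalization.AtPrime.to_map_mem_maximal_iff (Localization.AtPrime Q) Q]

theorem H7_S15614 (X : RSpace.{u}) (hX : X.IsSchematic)
    (hff : ∀ s a b : X.pt, s ≤ a → s ≤ b → (X.up a ∩ X.up b).Nonempty →
      Module.FaithfullyFlat (X.sectRing (X.up a ∩ X.up b)) ((q : ↥(X.up a ∩ X.up b)) → X.ring q.1))
    {s x y : X.pt} (hx : s ≤ x) (hy : s ≤ y) (P : PrimeSpectrum (X.ring x)) (Q : PrimeSpectrum (X.ring y))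
    (hPQ : PrimeSpectrum.comap (X.res hx) P = PrimeSpectrum.comap (X.res hy) Q) :
    X.PairRel ⟨x, P⟩ ⟨y, Q⟩ := by
  have hQP : Q.asIdeal.comap (X.res hy) = P.asIdeal.comap (X.res hx) :=
    (congrArg PrimeSpectrum.asIdeal hPQ).symm
  obtain ⟨K, _, α, β, hαβ, hα, hβ⟩ := H7_field_over_both X hX hx hy P.asIdeal Q.asIdeal hQP
  let U2 : Set X.pt := X.up x ∩ X.up y
  have hUx : U2 ⊆ X.up x := Set.inter_subset_left
  have hUy : U2 ⊆ X.up y := Set.inter_subset_right
  let _ : Algebra (X.ring s) (X.ring x) := (X.res hx).toAlgebra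
  let _ : Algebra (X.ring s) (X.ring y) := (X.res hy).toAlgebra
  let _ : Algebra (X.ring s) K := (α.comp (X.res hx)).toAlgebra
  let _ : Algebra (X.ring s) (X.sectRing U2) := ((X.resSect x U2 hUx).comp (X.res hx)).toAlgebra
  let α' : X.ring x →ₐ[X.ring s] K := { α with commutes' := fun r => rfl }
  let β' : X.ring y →ₐ[X.ring s] K := { β with commutes' := fun r => (hαβ r).symm }
  let ρx : X.ring x →ₐ[X.ring s] X.sectRing U2 := { X.resSect x U2 hUx with commutes' := fun r => rfl }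
  let ρy : X.ring y →ₐ[X.ring s] X.sectRing U2 :=
    { X.resSect y U2 hUy with
      commutes' := fun r => by
        apply Subtype.ext
        funext q
        exact (X.res_comp hy (show y ≤ q.1 from hUy q.2) r).trans
          (X.res_comp hx (show x ≤ q.1 from hUx q.2) r).symm }
  let θ' := Algebra.TensorProduct.productMap α' β'
  let μ := Algebra.TensorProduct.productMap ρx ρy
  have hμ1 : ∀ a b, μ (a ⊗ₜ b) = X.resSect x U2 hUx a * X.resSect y U2 hUy b :=
    fun a b => Algebra.TensorProduct.productMap_apply_tmul _ _ a b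
  have hμ : Function.Bijective μ :=
    H7_mu_bijective X hX hx hy μ.toRingHom.toAddMonoidHom hμ1
  let eμ := RingEquiv.ofBijective μ hμ
  let θ : X.sectRing U2 →+* K := θ'.toRingHom.comp eμ.symm.toRingHom
  have hθx : ∀ a, θ (X.resSect x U2 hUx a) = α a := by
    intro a
    have h1 : X.resSect x U2 hUx a = eμ (a ⊗ₜ 1) := by
      change _ = μ (a ⊗ₜ 1)
      rw [hμ1, map_one, mul_one]
    change θ' (eμ.symm _) = _
    rw [h1, eμ.symm_apply_apply]
    change Algebra.TensorProduct.productMap α' β' (a ⊗ₜ 1) = _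
    rw [Algebra.TensorProduct.productMap_apply_tmul, map_one, mul_one]
    rfl
  have hθy : ∀ b, θ (X.resSect y U2 hUy b) = β b := by
    intro b
    have h1 : X.resSect y U2 hUy b = eμ (1 ⊗ₜ b) := by
      change _ = μ (1 ⊗ₜ b)
      rw [hμ1, map_one, one_mul]
    change θ' (eμ.symm _) = _
    rw [h1, eμ.symm_apply_apply]
    change Algebra.TensorProduct.productMap α' β' (1 ⊗ₜ b) = _
    rw [Algebra.TensorProduct.productMap_apply_tmul, map_one, one_mul]
    rfl
  have hne : U2.Nonempty := by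
    by_contra hemp
    have hall : ∀ q, q ∉ U2 := fun q hq => hemp ⟨q, hq⟩
    have h01 : (1 : X.sectRing U2) = 0 := by
      apply Subtype.ext
      funext q
      exact absurd q.2 (hall q.1)
    have := congrArg θ h01
    rw [map_one, map_zero] at this
    exact one_ne_zero this
  have hFF := hff s x y hx hy hne
  let 𝔯 : PrimeSpectrum (X.sectRing U2) := ⟨RingHom.ker θ, RingHom.ker_isPrime θ⟩
  obtain ⟨𝔰, h𝔰⟩ := PrimeSpectrum.comap_surjective_of_faithfullyFlat
    (A := X.sectRing U2) (B := (q : ↥U2) → X.ring q.1) 𝔯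
  obtain ⟨i, r, hr⟩ := PrimeSpectrum.exists_comap_evalRingHom_eq 𝔰
  have hmem : ∀ t : X.sectRing U2, t.1 i ∈ r.asIdeal ↔ θ t = 0 := by
    intro t
    have h1 : t ∈ (PrimeSpectrum.comap (algebraMap (X.sectRing U2) ((q : ↥U2) → X.ring q.1))
        𝔰).asIdeal ↔ θ t = 0 := by
      rw [h𝔰]
      exact RingHom.mem_ker
    rw [← h1, ← hr]
    rfl
  refine ⟨i.1, i.2.1, i.2.2, r, ?_, ?_⟩
  · apply PrimeSpectrum.ext
    ext a
    change X.res _ a ∈ r.asIdeal ↔ a ∈ P.asIdeal
    rw [← hα, ← hθx]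
    exact hmem (X.resSect x U2 hUx a)
  · apply PrimeSpectrum.ext
    ext b
    change X.res _ b ∈ r.asIdeal ↔ b ∈ Q.asIdeal
    rw [← hβ, ← hθy]
    exact hmem (X.resSect y U2 hUy b)

theorem H7_comap_res_self (X : RSpace.{u}) {p : X.pt} (h : p ≤ p) (r : PrimeSpectrum (X.ring p)) :
    PrimeSpectrum.comap (X.res h) r = r := by
  apply PrimeSpectrum.ext
  ext a
  change X.res h a ∈ r.asIdeal ↔ a ∈ r.asIdeal
  rw [show X.res h a = a from X.res_self p a]

theorem H7_comap_res_comp (X : RSpace.{u}) {p q w : X.pt} (h : p ≤ q) (h' : q ≤ w)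
    (r : PrimeSpectrum (X.ring w)) :
    PrimeSpectrum.comap (X.res (h.trans h')) r =
      PrimeSpectrum.comap (X.res h) (PrimeSpectrum.comap (X.res h') r) := by
  apply PrimeSpectrum.ext
  ext a
  change X.res (h.trans h') a ∈ r.asIdeal ↔ X.res h' (X.res h a) ∈ r.asIdeal
  rw [X.res_comp]

theorem H7_S15615 (X : RSpace.{u}) (hX : X.IsSchematic)
    (hff : ∀ s a b : X.pt, s ≤ a → s ≤ b → (X.up a ∩ X.up b).Nonempty →
      Module.FaithfullyFlat (X.sectRing (X.up a ∩ X.up b)) ((q : ↥(X.up a ∩ X.up b)) → X.ring q.1)) :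
    Equivalence X.PairRel := by
  refine ⟨?_, ?_, ?_⟩
  · intro a
    exact ⟨a.1, le_rfl, le_rfl, a.2, H7_comap_res_self X _ _, H7_comap_res_self X _ _⟩
  · rintro a b ⟨z, hx, hy, r, h1, h2⟩
    exact ⟨z, hy, hx, r, h2, h1⟩
  · rintro a b c ⟨z1, ha1, hb1, r1, h1a, h1b⟩ ⟨z2, hb2, hc2, r2, h2b, h2c⟩
    obtain ⟨w, hw1, hw2, r, hr1, hr2⟩ := H7_S15614 X hX hff hb1 hb2 r1 r2 (h1b.trans h2b.symm)
    have hw1' : z1 ≤ w := hw1
    have hw2' : z2 ≤ w := hw2
    have hr1' : PrimeSpectrum.comap (X.res hw1') r = r1 := hr1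
    have hr2' : PrimeSpectrum.comap (X.res hw2') r = r2 := hr2
    refine ⟨w, ha1.trans hw1', hc2.trans hw2', r, ?_, ?_⟩
    · rw [H7_comap_res_comp X ha1 hw1' r, hr1', h1a]
    · rw [H7_comap_res_comp X hc2 hw2' r, hr2', h2c]

theorem H7_S15616 (X : RSpace.{u}) (hX : X.IsSchematic)
    (hff : ∀ s a b : X.pt, s ≤ a → s ≤ b → (X.up a ∩ X.up b).Nonempty →
      Module.FaithfullyFlat (X.sectRing (X.up a ∩ X.up b)) ((q : ↥(X.up a ∩ X.up b)) → X.ring q.1))
    (c : X.SchPt) :
    ∃! a : X.Pair, Quot.mk X.PairRel a = c ∧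
      ∀ b : X.Pair, Quot.mk X.PairRel b = c → b.1 ≤ a.1 := by
  have hE := H7_S15615 X hX hff
  obtain ⟨a0, rfl⟩ := Quot.exists_rep c
  have hq : ∀ a b : X.Pair, Quot.mk X.PairRel a = Quot.mk X.PairRel b ↔ X.PairRel a b := by
    intro a b
    rw [Quot.eq, hE.eqvGen_iff]
  -- the set of points of the class
  let S : Set X.pt := {p | ∃ b : X.Pair, b.1 = p ∧ X.PairRel b a0}
  have hSne : S.Nonempty := ⟨a0.1, a0, rfl, hE.refl a0⟩
  obtain ⟨pm, hpm⟩ := (Set.toFinite S).exists_maximal hSne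
  obtain ⟨a, hap, haR⟩ := hpm.prop
  -- lifting a relation to the upper pair
  have hup : ∀ (b : X.Pair) (z : X.pt) (hz : b.1 ≤ z) (r : PrimeSpectrum (X.ring z)),
      PrimeSpectrum.comap (X.res hz) r = b.2 → X.PairRel ⟨z, r⟩ b := by
    intro b z hz r hr
    exact ⟨z, le_rfl, hz, r, H7_comap_res_self X _ _, hr⟩
  have hmax : ∀ b : X.Pair, X.PairRel b a0 → b.1 ≤ a.1 := by
    intro b hb
    obtain ⟨z, hbz, haz, r, hr1, hr2⟩ := hE.trans hb (hE.symm haR)
    have hzS : z ∈ S := ⟨⟨z, r⟩, rfl, hE.trans (hup a z haz r hr2) haR⟩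
    have hle : pm ≤ z := hap ▸ haz
    have := hpm.le_of_ge hzS hle
    exact hbz.trans (this.trans hap.symm.le)
  refine ⟨a, ⟨(hq a a0).mpr haR, fun b hb => hmax b ((hq b a0).mp hb)⟩, ?_⟩
  rintro a' ⟨ha'R, ha'max⟩
  have ha'R' : X.PairRel a' a0 := (hq a' a0).mp ha'R
  have h1 : a'.1 ≤ a.1 := hmax a' ha'R'
  have h2 : a.1 ≤ a'.1 := ha'max a ((hq a a0).mpr haR)
  obtain ⟨z, ha'z, haz, r, hr1, hr2⟩ := hE.trans ha'R' (hE.symm haR)
  have hzle : z ≤ a.1 := hmax ⟨z, r⟩ (hE.trans (hup a z haz r hr2) haR)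
  obtain ⟨p, P⟩ := a
  obtain ⟨p', P'⟩ := a'
  have e1 : z = p := le_antisymm hzle haz
  have e2 : p' = p := le_antisymm h1 h2
  subst e1
  subst e2
  have hr1' : PrimeSpectrum.comap (X.res ha'z) r = P' := hr1
  have hr2' : PrimeSpectrum.comap (X.res haz) r = P := hr2
  rw [H7_comap_res_self] at hr1' hr2'
  rw [← hr1', ← hr2']

end Groth.Agent.Lib.helper7
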