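import Mathlib
import Groth.Prelude.Def_SchFin
import Groth.Prelude.Def_SchFin2
import Groth.Agent.Lib.helper7.SchFinPair

set_option autoImplicit false
universe u

open TensorProduct

namespace Groth.Agent.Lib.helper7

open SchFin

theorem H7_Hn_subsingleton_of_isEmpty {X : RSpace.{u}} {U : Set X.pt} {R : Type u} [CommRing R]
    (φ : Coef X U R) (M : OMod X) (n : ℕ) (hE : IsEmpty (Chain U n)) : Subsingleton (H φ M n) := by
  have h1 : Subsingleton (Cochain φ M n) := by
    constructor
    intro a b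
    funext σ
    exact (hE.false σ).elim
  have h2 : Subsingleton (cocycles φ M n) := by
    constructor
    intro a b
    exact Subtype.ext (Subsingleton.elim _ _)
  constructor
  intro a b
  obtain ⟨a', rfl⟩ := Submodule.mkQ_surjective _ a
  obtain ⟨b', rfl⟩ := Submodule.mkQ_surjective _ b
  rw [Subsingleton.elim a' b']

theorem H7_chain_isEmpty_of_subsingleton {X : RSpace.{u}} (U : Set X.pt) (n : ℕ)
    (hs : Subsingleton X.pt) : IsEmpty (Chain U (n + 1)) := by
  constructor
  intro σ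
  have h01 : (0 : Fin (n + 1 + 1)) ≠ 1 := by
    intro h
    have := congrArg Fin.val h
    simp at this
  apply h01
  apply σ.injective
  apply Subtype.ext
  exact Subsingleton.elim _ _

/-- `IsBCAlong` between subsingleton modules, given the tensor product is trivial -/
theorem H7_isBC_of_subsingleton {R S : Type u} [CommRing R] [CommRing S] (g : R →+* S)
    {M N : Type u} [AddCommGroup M] [AddCommGroup N] [Module R M] [Module S N] (f : M →ₛₗ[g] N)
    (hN : Subsingleton N)
    (hT : letI : Algebra R S := g.toAlgebra; Subsingleton (S ⊗[R] M)) : IsBCAlong g f := by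
  unfold IsBCAlong
  let _ : Algebra R S := g.toAlgebra
  refine ⟨fun a b _ => Subsingleton.elim _ _, fun y => ⟨0, Subsingleton.elim _ _⟩⟩

/-- `IsBCAlong` for a bijective map along an epimorphism -/
theorem H7_isBC_of_epi_of_bijective {R S : Type u} [CommRing R] [CommRing S] (g : R →+* S)
    {M N : Type u} [AddCommGroup M] [AddCommGroup N] [Module R M] [Module S N] (f : M →ₛₗ[g] N)
    (hg : letI : Algebra R S := g.toAlgebra; ∀ b : S, (1 : S) ⊗ₜ[R] b = b ⊗ₜ[R] 1)
    (hf : Function.Bijective f) : IsBCAlong g f := by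
  unfold IsBCAlong
  let _ : Algebra R S := g.toAlgebra
  let _ : Module R N := Module.compHom N g
  have : IsScalarTower R S N := IsScalarTower.of_algebraMap_smul fun _ _ => rfl
  have : Algebra.IsEpi R S := (Algebra.isEpi_iff_forall_one_tmul_eq R S).mpr hg
  let fl : M →ₗ[R] N := { toFun := f, map_add' := f.map_add, map_smul' := f.map_smulₛₗ }
  let fe : M ≃ₗ[R] N := LinearEquiv.ofBijective fl hf
  apply IsBaseChange.of_equiv
    ((TensorProduct.AlgebraTensorModule.congr (LinearEquiv.refl S S) fe) ≪≫ₗ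
      (TensorProduct.lid' R S N))
  intro x
  change (TensorProduct.lid' R S N) ((1 : S) ⊗ₜ[R] f x) = f x
  rw [TensorProduct.lid'_apply_tmul, one_smul]

/-- restriction of sections -/
def H7_restrictSec {X : RSpace.{u}} {U U' : Set X.pt} (h : U' ⊆ U) (s : X.sectRing U) :
    X.sectRing U' :=
  ⟨fun q => s.1 ⟨q.1, h q.2⟩, fun q q' hq => s.2 ⟨q.1, h q.2⟩ ⟨q'.1, h q'.2⟩ hq⟩

theorem H7_resH_secH0 {X : RSpace.{u}} {U U' : Set X.pt} {R R' : Type u} [CommRing R] [CommRing R']
    {φ : Coef X U R} {φ' : Coef X U' R'} (sub : Coef.Sub φ φ') (s : X.sectRing U) :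
    resH X.str sub 0 (H7_secH0 φ s) = H7_secH0 φ' (H7_restrictSec sub.le s) := rfl

theorem H7_resH0_bijective {X : RSpace.{u}} {U U' : Set X.pt} {R R' : Type u} [CommRing R]
    [CommRing R'] {φ : Coef X U R} {φ' : Coef X U' R'} (sub : Coef.Sub φ φ') (hU : U ⊆ U') :
    Function.Bijective (resH X.str sub 0) := by
  have h1 : (resH X.str sub 0) ∘ (H7_secH0 φ) = (H7_secH0 φ') ∘ (H7_restrictSec sub.le) :=
    funext (H7_resH_secH0 sub)
  have h2 : Function.Bijective (H7_restrictSec (X := X) sub.le) := by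
    refine Function.bijective_iff_has_inverse.mpr ⟨H7_restrictSec hU, ?_, ?_⟩
    · intro s
      rfl
    · intro s
      rfl
  have h3 : Function.Bijective ((resH X.str sub 0) ∘ (H7_secH0 φ)) := by
    rw [h1]
    exact (H7_secH0_bijective φ').comp h2
  exact (Function.Bijective.of_comp_iff _ (H7_secH0_bijective φ)).mp h3

/-- the degree-zero cohomology over a set with a minimum is the ring of the minimum -/
theorem H7_constH0_equiv {X : RSpace.{u}} {U : Set X.pt} {R : Type u} [CommRing R] (φ : Coef X U R)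
    (m : X.pt) (hmU : m ∈ U) (hm : ∀ q : U, m ≤ q.1) :
    letI : Algebra R (X.ring m) := (φ.map ⟨m, hmU⟩).toAlgebra
    Nonempty (X.ring m ≃ₗ[R] H φ X.str 0) := by
  let _ : Algebra R (X.ring m) := (φ.map ⟨m, hmU⟩).toAlgebra
  let E1 : X.ring m →ₗ[R] H φ X.str 0 :=
    { toFun := fun b => H.mk φ X.str 0 ⟨H7_constCochain φ m hm b, H7_constCochain_mem φ m hm b⟩
      map_add' := fun a b => by
        rw [← map_add]
        congr 1
        apply Subtype.ext
        funext τ
        exact map_add (X.res _) a b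
      map_smul' := fun r b => by
        rw [RingHom.id_apply, ← map_smul]
        congr 1
        apply Subtype.ext
        funext τ
        change X.res _ (φ.map ⟨m, hmU⟩ r * b) = φ.map _ r * X.res _ b
        rw [map_mul, φ.compat ⟨m, hmU⟩ (τ (Fin.last 0)) (hm _)] }
  have hE1 : Function.Bijective E1 := by
    constructor
    · rw [← LinearMap.ker_eq_bot, LinearMap.ker_eq_bot']
      intro b hb
      have h0 : (0 : H φ X.str 0) = H.mk φ X.str 0 0 := (map_zero _).symm
      have h1 := H7_H0mk_injective φ (hb.trans h0)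
      have h2 := congrFun (congrArg Subtype.val h1) (H7_pt0 ⟨m, hmU⟩)
      exact (X.res_self m b).symm.trans h2
    · intro z
      obtain ⟨c, rfl⟩ := Submodule.mkQ_surjective _ z
      refine ⟨c.1 (H7_pt0 ⟨m, hmU⟩), ?_⟩
      change H.mk φ X.str 0 _ = H.mk φ X.str 0 c
      congr 1
      apply Subtype.ext
      apply H7_cochain_ext
      intro q
      exact H7_cocycle_compat φ c.1 c.2 ⟨m, hmU⟩ q (hm q)
  exact ⟨LinearEquiv.ofBijective E1 hE1⟩

theorem H7_tensor_field_subsingleton (X : RSpace.{u}) (hX : X.IsSchematic)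
    (hff : ∀ s a b : X.pt, s ≤ a → s ≤ b → (X.up a ∩ X.up b).Nonempty →
      Module.FaithfullyFlat (X.sectRing (X.up a ∩ X.up b)) ((q : ↥(X.up a ∩ X.up b)) → X.ring q.1))
    (a : X.Pair) (ha : ∀ b : X.Pair, X.PairRel a b → b.1 ≤ a.1) {Ω : Type u} [Field Ω]
    (ψ : X.ring a.1 →+* Ω) (hψ : RingHom.ker ψ = a.2.asIdeal) {y y' : X.pt} (hy : y ≤ y')
    (hya : y ≤ a.1) (hy'a : ¬ y' ≤ a.1) :
    letI : Algebra (X.ring y) (X.ring y') := (X.res hy).toAlgebra
    letI : Algebra (X.ring y) Ω := (ψ.comp (X.res hya)).toAlgebra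
    Subsingleton (X.ring y' ⊗[X.ring y] Ω) := by
  let _ : Algebra (X.ring y) (X.ring y') := (X.res hy).toAlgebra
  let _ : Algebra (X.ring y) Ω := (ψ.comp (X.res hya)).toAlgebra
  by_contra hns
  rw [not_subsingleton_iff_nontrivial] at hns
  obtain ⟨𝔮, h𝔮⟩ := Ideal.exists_maximal (X.ring y' ⊗[X.ring y] Ω)
  have h𝔮p : 𝔮.IsPrime := h𝔮.isPrime
  let iL : X.ring y' →+* X.ring y' ⊗[X.ring y] Ω :=
    (Algebra.TensorProduct.includeLeft (R := X.ring y) (S := X.ring y) (A := X.ring y') (B := Ω)).toRingHom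
  let iR : Ω →+* X.ring y' ⊗[X.ring y] Ω :=
    (Algebra.TensorProduct.includeRight (R := X.ring y) (A := X.ring y') (B := Ω)).toRingHom
  let r' : PrimeSpectrum (X.ring y') := ⟨𝔮.comap iL, Ideal.IsPrime.comap iL⟩
  have hbot : 𝔮.comap iR = ⊥ := by
    have : (𝔮.comap iR).IsPrime := Ideal.IsPrime.comap iR
    exact (Ideal.eq_bot_or_top _).resolve_right this.ne_top
  have hrel : X.PairRel a ⟨y', r'⟩ := by
    apply H7_S15614 X hX hff hya hy a.2 r'
    apply PrimeSpectrum.ext
    ext t
    change X.res hya t ∈ a.2.asIdeal ↔ iL (X.res hy t) ∈ 𝔮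
    rw [← hψ, RingHom.mem_ker]
    have h1 : iL (X.res hy t) = iR (ψ (X.res hya t)) := by
      change (algebraMap (X.ring y) (X.ring y') t) ⊗ₜ[X.ring y] (1 : Ω) =
        (1 : X.ring y') ⊗ₜ[X.ring y] (algebraMap (X.ring y) Ω t)
      rw [Algebra.algebraMap_eq_smul_one, Algebra.algebraMap_eq_smul_one, TensorProduct.smul_tmul]
    rw [h1]
    have h2 : iR (ψ (X.res hya t)) ∈ 𝔮 ↔ ψ (X.res hya t) ∈ 𝔮.comap iR := Iff.rfl
    rw [h2, hbot, Ideal.mem_bot]
  exact hy'a (ha _ hrel)

end Groth.Agent.Lib.helper7
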