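import Mathlib
import Groth.Prelude.Def_SchFin
import Groth.Prelude.Def_SchFin2
import Groth.Agent.Lib.helper7.SchFinEpi2

set_option autoImplicit false
universe u

open TensorProduct

namespace Groth.Agent.Lib.helper7

open SchFin

theorem H7_H0_subsingleton_of_empty {X : RSpace.{u}} {U : Set X.pt} {R : Type u} [CommRing R]
    (φ : Coef X U R) (M : OMod X) (hU : ∀ q, q ∉ U) : Subsingleton (H φ M 0) := by
  have hE : IsEmpty (Chain U 0) := by
    constructor
    intro σ
    exact hU _ (σ 0).2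
  have h1 : Subsingleton (Cochain φ M 0) := by
    constructor
    intro a b
    funext σ
    exact (hE.false σ).elim
  have h2 : Subsingleton (cocycles φ M 0) := by
    constructor
    intro a b
    exact Subtype.ext (Subsingleton.elim _ _)
  constructor
  intro a b
  obtain ⟨a', rfl⟩ := Submodule.mkQ_surjective _ a
  obtain ⟨b', rfl⟩ := Submodule.mkQ_surjective _ b
  rw [Subsingleton.elim a' b']

theorem H7_S15613 (X : RSpace.{u}) (hX : X.IsSchematic) {Ω : Type u} [Field Ω]
    [IsAlgClosed Ω] (ξ : GeomPt X Ω) {x' : X.pt} (hx : ξ.base < x') (P : Ideal (X.ring x')) [P.IsPrime] :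
    P.comap (X.res hx.le) ≠ RingHom.ker ξ.toField := by
  intro hP
  have hbc := (ξ.isSchematic.2.2 0 PUnit.unit PUnit.unit le_rfl ξ.base x' hx.le).2
  unfold IsBCAlong at hbc
  set U1 : Set (RSpace.point Ω).pt := ξ.hom.wedge PUnit.unit ξ.base with hU1
  set U2 : Set (RSpace.point Ω).pt := ξ.hom.wedge PUnit.unit x' with hU2
  set φ1 : Coef (RSpace.point Ω) U1 (X.ring ξ.base) :=
    Coef.ofHom ξ.hom ξ.base U1 (ξ.hom.wedge_subset_pre _ _) with hφ1
  set φ2 : Coef (RSpace.point Ω) U2 (X.ring x') :=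
    Coef.ofHom ξ.hom x' U2 (ξ.hom.wedge_subset_pre _ _) with hφ2
  have hN : Subsingleton (H φ2 (RSpace.point Ω).str 0) :=
    H7_H0_subsingleton_of_empty φ2 _ (by
      intro q hq
      exact absurd hq.2 (not_le_of_gt hx))
  let _ : Algebra (X.ring ξ.base) (X.ring x') := (X.res hx.le).toAlgebra
  let _ : Module (X.ring ξ.base) (H φ2 (RSpace.point Ω).str 0) := Module.compHom _ (X.res hx.le)
  have : IsScalarTower (X.ring ξ.base) (X.ring x') (H φ2 (RSpace.point Ω).str 0) :=
    IsScalarTower.of_algebraMap_smul fun _ _ => rfl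
  let _ : Algebra (X.ring ξ.base) Ω := ξ.toField.toAlgebra
  have hm1 : ∀ q : U1, (PUnit.unit : (RSpace.point Ω).pt) ≤ q.1 := fun q => le_rfl
  let c1 : cocycles φ1 (RSpace.point Ω).str 0 :=
    ⟨H7_constCochain φ1 PUnit.unit hm1 (1 : Ω), H7_constCochain_mem _ _ _ _⟩
  let m := H.mk φ1 (RSpace.point Ω).str 0 c1
  have hpt : (PUnit.unit : (RSpace.point Ω).pt) ∈ U1 := ⟨le_rfl, le_rfl⟩
  let ev0 : cocycles φ1 (RSpace.point Ω).str 0 →ₗ[X.ring ξ.base] Ω :=
    { toFun := fun c => c.1 (H7_pt0 ⟨PUnit.unit, hpt⟩)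
      map_add' := fun a b => rfl
      map_smul' := fun r a => by
        have h2 : φ1.map ⟨PUnit.unit, hpt⟩ r = ξ.toField r :=
          congrArg (ξ.hom.app _) (X.res_self _ r)
        let v : Ω := a.1 (H7_pt0 ⟨PUnit.unit, hpt⟩)
        let w : Ω := φ1.map ⟨PUnit.unit, hpt⟩ r
        have hw : w = ξ.toField r := h2
        have h1 : (r • a).1 (H7_pt0 ⟨PUnit.unit, hpt⟩) = w * v := rfl
        rw [RingHom.id_apply]
        refine h1.trans ?_
        rw [hw]
        rfl }
  have hker : (cobdry φ1 (RSpace.point Ω).str 0).comap (cocycles φ1 (RSpace.point Ω).str 0).subtype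
      ≤ LinearMap.ker ev0 := by
    intro z hz
    have hz' : z.1 = 0 := hz
    change z.1 (H7_pt0 ⟨PUnit.unit, hpt⟩) = 0
    rw [hz']
    rfl
  let ev : H φ1 (RSpace.point Ω).str 0 →ₗ[X.ring ξ.base] Ω := Submodule.liftQ _ ev0 hker
  have hev : ev m = 1 := rfl
  -- the ring map ψ
  have hunit : ∀ y : (P.comap (X.res hx.le)).primeCompl, IsUnit (ξ.toField y) := by
    intro y
    apply IsUnit.mk0
    intro h0
    apply y.2
    have h3 : (y : X.ring ξ.base) ∈ RingHom.ker ξ.toField := RingHom.mem_ker.mpr h0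
    rw [← hP] at h3
    exact h3
  let τ : Localization.AtPrime (P.comap (X.res hx.le)) →+* Ω := IsLocalization.lift hunit
  let e := RingEquiv.ofBijective _ (H7_S15611 X hX hx.le P)
  let ψ : X.ring x' →+* Ω :=
    τ.comp (e.symm.toRingHom.comp (algebraMap (X.ring x') (Localization.AtPrime P)))
  have hψ : ∀ r, ψ (X.res hx.le r) = ξ.toField r := by
    intro r
    change τ (e.symm (algebraMap _ _ (X.res hx.le r))) = _
    have h1 : algebraMap _ (Localization.AtPrime P) (X.res hx.le r) = e (algebraMap _ _ r) :=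
      (Localization.localRingHom_to_map _ _ _ rfl r).symm
    rw [h1, e.symm_apply_apply]
    exact IsLocalization.lift_eq hunit r
  let ψl : X.ring x' →ₗ[X.ring ξ.base] Ω :=
    { toFun := ψ
      map_add' := map_add ψ
      map_smul' := fun r s => by
        change ψ (X.res hx.le r * s) = ξ.toField r * ψ s
        rw [map_mul, hψ] }
  let Φ : X.ring x' ⊗[X.ring ξ.base] H φ1 (RSpace.point Ω).str 0 →ₗ[X.ring ξ.base] Ω :=
    (LinearMap.mul' (X.ring ξ.base) Ω).comp (TensorProduct.map ψl ev)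
  have h0 : (1 : X.ring x') ⊗ₜ[X.ring ξ.base] m = 0 := by
    apply hbc.equiv.injective
    exact Subsingleton.elim _ _
  have h2 := congrArg Φ h0
  rw [map_zero] at h2
  change ψ 1 * ev m = 0 at h2
  rw [hev, map_one, mul_one] at h2
  exact one_ne_zero h2

end Groth.Agent.Lib.helper7
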