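import Mathlib
import Groth.Prelude.Def_SchFin
import Groth.Prelude.Def_SchFin2
import Groth.Agent.Lib.helper7.SchFinGeom2
import Groth.Agent.Lib.helper7.SchFinProd
import Groth.Agent.Lib.helper7.SchFinGeomPt

set_option autoImplicit false
universe u

open TensorProduct

namespace Groth.Agent.Lib.helper7

open SchFin

/-- the morphism from the one-point space given by a ring map at a point -/
def H7_ptHom (X : RSpace.{u}) (Ω : Type u) [Field Ω] (x : X.pt) (ψ : X.ring x →+* Ω) :
    Hom (RSpace.point Ω) X where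
  fn _ := x
  mono _ _ _ := le_rfl
  app _ := ψ
  compat _ b := congrArg ψ (X.res_self x b).symm

theorem H7_point_isFinSp (Ω : Type u) [Field Ω] : (RSpace.point Ω).IsFinSp :=
  ⟨fun _ => (inferInstance : IsNoetherianRing Ω), fun _ _ _ => RingHom.Flat.id Ω⟩

theorem H7_id_tmul (Ω : Type u) [CommRing Ω] :
    letI : Algebra Ω Ω := (RingHom.id Ω).toAlgebra
    ∀ b : Ω, (1 : Ω) ⊗ₜ[Ω] b = b ⊗ₜ[Ω] 1 := by
  let _ : Algebra Ω Ω := (RingHom.id Ω).toAlgebra
  intro b
  have h1 : b = b • (1 : Ω) := by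
    change b = b * 1
    rw [mul_one]
  conv_lhs => rw [h1]
  conv_rhs => rw [h1]
  rw [TensorProduct.smul_tmul]

theorem H7_isBC_of_subsingleton' {R S : Type u} [CommRing R] [CommRing S] (g : R →+* S)
    {M N : Type u} [AddCommGroup M] [AddCommGroup N] [Module R M] [Module S N] (f : M →ₛₗ[g] N)
    (hN : Subsingleton N) (hM : Subsingleton M) : IsBCAlong g f := by
  apply H7_isBC_of_subsingleton g f hN
  let _ : Algebra R S := g.toAlgebra
  exact H7_tensor_subsingleton (R := R) S M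

theorem H7_ptHom_isSchematic (X : RSpace.{u}) (hX : X.IsSchematic)
    (hff : ∀ s a b : X.pt, s ≤ a → s ≤ b → (X.up a ∩ X.up b).Nonempty →
      Module.FaithfullyFlat (X.sectRing (X.up a ∩ X.up b)) ((q : ↥(X.up a ∩ X.up b)) → X.ring q.1))
    (Ω : Type u) [Field Ω] (a : X.Pair) (ha : ∀ b : X.Pair, X.PairRel a b → b.1 ≤ a.1)
    (ψ : X.ring a.1 →+* Ω) (hψ : RingHom.ker ψ = a.2.asIdeal) :
    (H7_ptHom X Ω a.1 ψ).IsSchematic := by
  refine ⟨H7_point_isFinSp Ω, hX.1, ?_⟩
  intro n x x' hx y y' hy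
  have hsub : Subsingleton (RSpace.point Ω).pt := (inferInstance : Subsingleton PUnit.{u+1})
  cases n with
  | succ n =>
    constructor
    · apply H7_isBC_of_subsingleton'
      · exact H7_Hn_subsingleton_of_isEmpty _ _ _ (H7_chain_isEmpty_of_subsingleton _ n hsub)
      · exact H7_Hn_subsingleton_of_isEmpty _ _ _ (H7_chain_isEmpty_of_subsingleton _ n hsub)
    · apply H7_isBC_of_subsingleton'
      · exact H7_Hn_subsingleton_of_isEmpty _ _ _ (H7_chain_isEmpty_of_subsingleton _ n hsub)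
      · exact H7_Hn_subsingleton_of_isEmpty _ _ _ (H7_chain_isEmpty_of_subsingleton _ n hsub)
  | zero =>
    constructor
    · apply H7_isBC_of_epi_of_bijective
      · exact H7_id_tmul Ω
      · apply H7_resH0_bijective
        intro q hq
        exact ⟨le_rfl, hq.2⟩
    · by_cases hy'a : y' ≤ a.1
      · apply H7_isBC_of_epi_of_bijective
        · exact H7_schfin_tmul_eq X hX hy
        · apply H7_resH0_bijective
          intro q hq
          exact ⟨hq.1, hy'a⟩
      · have hN : Subsingleton (H (Coef.ofHom (H7_ptHom X Ω a.1 ψ) y'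
            ((H7_ptHom X Ω a.1 ψ).wedge x y') ((H7_ptHom X Ω a.1 ψ).wedge_subset_pre x y'))
            (RSpace.point Ω).str 0) :=
          H7_H0_subsingleton_of_empty _ _ (fun q hq => hy'a hq.2)
        by_cases hya : y ≤ a.1
        · apply H7_isBC_of_subsingleton _ _ hN
          let _ : Algebra (X.ring y) (X.ring y') := (X.res hy).toAlgebra
          have hmU : x ∈ (H7_ptHom X Ω a.1 ψ).wedge x y := ⟨le_rfl, hya⟩
          let _ : Algebra (X.ring y) ((RSpace.point Ω).ring x) := (ψ.comp (X.res hya)).toAlgebra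
          obtain ⟨E⟩ := H7_constH0_equiv (Coef.ofHom (H7_ptHom X Ω a.1 ψ) y
            ((H7_ptHom X Ω a.1 ψ).wedge x y) ((H7_ptHom X Ω a.1 ψ).wedge_subset_pre x y))
            x hmU (fun q => q.2.1)
          have hT : Subsingleton (X.ring y' ⊗[X.ring y] (RSpace.point Ω).ring x) :=
            H7_tensor_field_subsingleton X hX hff a ha ψ hψ hy hya hy'a
          exact @Function.Injective.subsingleton _ _ _
            (LinearEquiv.lTensor (X.ring y') E.symm).injective hT
        · apply H7_isBC_of_subsingleton' _ _ hN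
          exact H7_H0_subsingleton_of_empty _ _ (fun q hq => hya hq.2)

theorem H7_S15627 (X : RSpace.{u}) (hX : X.IsSchematic)
    (hff : ∀ s a b : X.pt, s ≤ a → s ≤ b → (X.up a ∩ X.up b).Nonempty →
      Module.FaithfullyFlat (X.sectRing (X.up a ∩ X.up b)) ((q : ↥(X.up a ∩ X.up b)) → X.ring q.1))
    (Ω : Type u) [Field Ω] [IsAlgClosed Ω] (a : X.Pair)
    (ha : ∀ b : X.Pair, X.PairRel a b → b.1 ≤ a.1) (φ : a.κ →+* Ω) :
    ∃! ξ : GeomPt X Ω, (⟨ξ.base, ξ.toField⟩ : Σ x : X.pt, (X.ring x →+* Ω)) =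
      ⟨a.1, φ.comp (algebraMap (X.ring a.1) a.κ)⟩ := by
  have hψ : RingHom.ker (φ.comp (algebraMap (X.ring a.1) a.κ)) = a.2.asIdeal := by
    ext t
    rw [RingHom.mem_ker, RingHom.comp_apply, map_eq_zero_iff φ φ.injective]
    exact Ideal.algebraMap_residueField_eq_zero
  refine ⟨⟨H7_ptHom X Ω a.1 (φ.comp (algebraMap (X.ring a.1) a.κ)),
    H7_ptHom_isSchematic X hX hff Ω a ha _ hψ⟩, rfl, ?_⟩
  rintro ⟨⟨fn, mono, app, compat⟩, hs⟩ hξ
  change (⟨fn PUnit.unit, app PUnit.unit⟩ : Σ x : X.pt, (X.ring x →+* Ω)) = _ at hξ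
  have h1 : fn = fun _ => a.1 := by
    funext q
    exact congrArg Sigma.fst hξ
  subst h1
  have h2 : app = fun _ => φ.comp (algebraMap (X.ring a.1) a.κ) := by
    funext q
    exact eq_of_heq (Sigma.mk.inj hξ).2
  subst h2
  rfl

end Groth.Agent.Lib.helper7
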