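import Mathlib
import Groth.Prelude.Def_SchFin
import Groth.Prelude.Def_SchFin2
import Groth.Agent.Lib.helper7.EtaleFix

set_option autoImplicit false
universe u
open TensorProduct

namespace Groth.Agent.Lib.helper7
open SchFin CategoryTheory CategoryTheory.Limits

/-- an action of a group on an algebra over a finite ringed poset -/
structure H7_Act {X : RSpace.{u}} (A : Alg X) (G : Type u) [Group G] where
  act : G → (A ⟶ A)
  act_one : act 1 = 𝟙 A
  act_mul : ∀ g h, act (g * h) = act h ≫ act g

section
variable {X : RSpace.{u}} {A : Alg X} {G : Type u} [Group G] (a : H7_Act A G)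

/-- the action at a point -/
def H7_Act.pt (p : X.pt) : G →* (A.carrier p →ₐ[X.ring p] A.carrier p) where
  toFun g := (a.act g).app p
  map_one' := by rw [a.act_one]; rfl
  map_mul' g h := by rw [a.act_mul]; rfl

theorem H7_Act.pt_apply (p : X.pt) (g : G) (x : A.carrier p) :
    a.pt p g x = (a.act g).app p x := rfl

/-- the algebra of invariants -/
def H7_invAlg : Alg X where
  carrier p := H7_fixSub (a.pt p)
  res {p q} h := (A.res h).restrict (H7_fixSub (a.pt p)) (H7_fixSub (a.pt q)) (fun x hx g => by
    change (a.act g).app q (A.res h x) = A.res h x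
    rw [← (a.act g).compat h x]
    exact congrArg (A.res h) (hx g))
  res_algebraMap {p q} h r := Subtype.ext (A.res_algebraMap h r)
  res_self p b := Subtype.ext (A.res_self p b.1)
  res_comp {p q s} h h' b := Subtype.ext (A.res_comp h h' b.1)

/-- the inclusion of the invariants -/
def H7_invIncl : H7_invAlg a ⟶ A where
  app p := (H7_fixSub (a.pt p)).val
  compat _ _ := rfl

theorem H7_invIncl_act (g : G) : H7_invIncl a ≫ a.act g = H7_invIncl a := by
  apply Alg.hom_ext
  intro p
  apply AlgHom.ext
  intro x
  exact x.2 g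

/-- maps into the invariants -/
def H7_invLift {T : Alg X} (k : T ⟶ A) (hk : ∀ g, k ≫ a.act g = k) : T ⟶ H7_invAlg a where
  app p := AlgHom.codRestrict (k.app p) (H7_fixSub (a.pt p)) (fun x g => by
    exact congrArg (fun m : T ⟶ A => m.app p x) (hk g))
  compat {p q} h b := Subtype.ext (k.compat h b)

theorem H7_invLift_incl {T : Alg X} (k : T ⟶ A) (hk : ∀ g, k ≫ a.act g = k) :
    H7_invLift a k hk ≫ H7_invIncl a = k := by
  apply Alg.hom_ext
  intro p
  apply AlgHom.ext
  intro x
  rfl

theorem H7_invIncl_mono {T : Alg X} (m m' : T ⟶ H7_invAlg a)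
    (h : m ≫ H7_invIncl a = m' ≫ H7_invIncl a) : m = m' := by
  apply Alg.hom_ext
  intro p
  apply AlgHom.ext
  intro x
  apply Subtype.ext
  exact congrArg (fun k : T ⟶ A => k.app p x) h


theorem H7_invAlg_isQcoh [Finite G] (hF : X.IsFinSp) (hA : A.IsQcoh) : (H7_invAlg a).IsQcoh := by
  intro p q h
  have hA' := hA p q h
  unfold IsBCAlong at hA' ⊢
  let _ : Algebra (X.ring p) (X.ring q) := (X.res h).toAlgebra
  let _ : Module (X.ring p) (A.carrier q) := Module.compHom _ (X.res h)
  have : IsScalarTower (X.ring p) (X.ring q) (A.carrier q) :=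
    IsScalarTower.of_algebraMap_smul fun _ _ => rfl
  let _ : Module (X.ring p) (H7_fixSub (a.pt q)) := Module.compHom _ (X.res h)
  have : IsScalarTower (X.ring p) (X.ring q) (H7_fixSub (a.pt q)) :=
    IsScalarTower.of_algebraMap_smul fun _ _ => rfl
  have hflat : Module.Flat (X.ring p) (X.ring q) := hF.2 p q h
  let fA : A.carrier p →ₗ[X.ring p] A.carrier q :=
    { toFun := A.res h, map_add' := map_add _, map_smul' := (A.toMod.res h).map_smulₛₗ }
  have hA'' : IsBaseChange (X.ring q) fA := hA'
  let fL : H7_fixSub (a.pt p) →ₗ[X.ring p] H7_fixSub (a.pt q) :=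
    { toFun := (H7_invAlg a).res h, map_add' := map_add _,
      map_smul' := ((H7_invAlg a).toMod.res h).map_smulₛₗ }
  have goal' : IsBaseChange (X.ring q) fL := by
    refine H7_isBaseChange_invariants (ι := G)
      (fun g => ((a.act g).app p).toLinearMap)
      (fun g => ((a.act g).app q).toLinearMap) fA hA'' (fun g m => ?_)
      (H7_fixSub (a.pt p)).val.toLinearMap Subtype.val_injective (fun m => ?_)
      (H7_fixSub (a.pt q)).val.toLinearMap Subtype.val_injective (fun m => ?_) fL (fun x => rfl)
    · exact (a.act g).compat h m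
    · constructor
      · rintro ⟨x, rfl⟩ g
        exact x.2 g
      · intro hm
        exact ⟨⟨m, hm⟩, rfl⟩
    · constructor
      · rintro ⟨x, rfl⟩ g
        exact x.2 g
      · intro hm
        exact ⟨⟨m, hm⟩, rfl⟩
  exact goal'

theorem H7_invAlg_isEtCover [Finite G] (hF : X.IsFinSp) (hA : A.IsEtCover)
    (hlt : ∃ (B : Alg X) (n : ℕ), B.IsCovering ∧
      ∀ p : X.pt, Nonempty (TensorProduct (X.ring p) (B.carrier p) (A.carrier p) ≃ₐ[B.carrier p]
        (Fin n → B.carrier p))) : (H7_invAlg a).IsEtCover := by
  refine ⟨H7_invAlg_isQcoh a hF hA.1, fun p => ⟨?_, ?_⟩⟩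
  · have := hF.1 p
    have := (hA.2 p).1
    have : IsNoetherian (X.ring p) (A.carrier p) := isNoetherian_of_isNoetherianRing_of_finite _ _
    exact Module.Finite.of_injective (H7_fixSub (a.pt p)).val.toLinearMap Subtype.val_injective
  · obtain ⟨B, n, hB, hτ⟩ := hlt
    obtain ⟨τ⟩ := hτ p
    have := (hB.2 p).2
    exact H7_etale_fixSub (a.pt p) τ

end


section cat
variable {X : RSpace.{u}} {G : Type u} [Group G]

/-- the action on the value of a functor from the one-object category of a group -/
def H7_actOfFunctor (F : SingleObj G ⥤ FEt X) : H7_Act (F.obj (SingleObj.star G)).obj G where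
  act g := (F.map (show SingleObj.star G ⟶ SingleObj.star G from g)).hom
  act_one := by
    have h1 : (show SingleObj.star G ⟶ SingleObj.star G from (1 : G)) = 𝟙 (SingleObj.star G) := rfl
    rw [h1, F.map_id]
    rfl
  act_mul g h := by
    have h1 : (show SingleObj.star G ⟶ SingleObj.star G from (g * h)) =
        (show SingleObj.star G ⟶ SingleObj.star G from h) ≫
          (show SingleObj.star G ⟶ SingleObj.star G from g) := rfl
    rw [h1, F.map_comp]
    rfl

theorem H7_hasLimit_singleObj [Finite G] (hF : X.IsFinSp) (F : SingleObj G ⥤ FEt X)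
    (hlt : ∃ (B : Alg X) (n : ℕ), B.IsCovering ∧
      ∀ p : X.pt, Nonempty (TensorProduct (X.ring p) (B.carrier p)
        ((F.obj (SingleObj.star G)).obj.carrier p) ≃ₐ[B.carrier p] (Fin n → B.carrier p))) :
    HasLimit F := by
  let a := H7_actOfFunctor F
  let L : FEt X := ⟨H7_invAlg a, H7_invAlg_isEtCover a hF (F.obj (SingleObj.star G)).property hlt⟩
  let π0 : L ⟶ F.obj (SingleObj.star G) := ObjectProperty.homMk (H7_invIncl a)
  let c : Cone F :=
    { pt := L
      π :=
        { app := fun _ => π0
          naturality := by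
            intro j j' g
            apply ObjectProperty.hom_ext
            change 𝟙 _ ≫ H7_invIncl a = H7_invIncl a ≫ a.act g
            rw [Category.id_comp, H7_invIncl_act] } }
  have hk : ∀ (s : Cone F) (g : G), (s.π.app (SingleObj.star G)).hom ≫ a.act g =
      (s.π.app (SingleObj.star G)).hom := by
    intro s g
    have := s.π.naturality (show SingleObj.star G ⟶ SingleObj.star G from g)
    have h2 := congrArg (fun k => k.hom) this
    change 𝟙 _ ≫ (s.π.app (SingleObj.star G)).hom = (s.π.app (SingleObj.star G)).hom ≫ a.act g at h2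
    rw [Category.id_comp] at h2
    exact h2.symm
  refine HasLimit.mk ⟨c, ?_⟩
  refine
    { lift := fun s => ObjectProperty.homMk (H7_invLift a (s.π.app (SingleObj.star G)).hom (hk s))
      fac := ?_
      uniq := ?_ }
  · intro s j
    apply ObjectProperty.hom_ext
    exact H7_invLift_incl a (s.π.app (SingleObj.star G)).hom (hk s)
  · intro s m hm
    apply ObjectProperty.hom_ext
    apply H7_invIncl_mono a
    have h1 := congrArg (fun k => k.hom) (hm (SingleObj.star G))
    refine Eq.trans h1 ?_
    exact (H7_invLift_incl a (s.π.app (SingleObj.star G)).hom (hk s)).symm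

theorem H7_S15629 (X : RSpace.{u}) (hX : X.IsSchematic)
    (hlt : ∀ A : FEt X, ∃ (B : Alg X) (n : ℕ), B.IsCovering ∧
      ∀ p : X.pt, Nonempty (TensorProduct (X.ring p) (B.carrier p) (A.obj.carrier p) ≃ₐ[B.carrier p] (Fin n → B.carrier p)))
    (G : Type u) [Group G] [Finite G] : HasLimitsOfShape (SingleObj G) (FEt X) :=
  ⟨fun F => H7_hasLimit_singleObj hX.1 F (hlt _)⟩

end cat

end Groth.Agent.Lib.helper7
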