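import Mathlib
import Groth.Prelude.Def_SchFin
import Groth.Prelude.Def_SchFin2

set_option autoImplicit false
universe u
open TensorProduct

namespace Groth.Agent.Lib.helper7
open SchFin CategoryTheory CategoryTheory.Limits

/-- the ring map on tensor products induced by compatible ring maps over a base ring map -/
noncomputable def H7_tensorRingHom {R S A B A' B' : Type u} [CommRing R] [CommRing S]
    [CommRing A] [CommRing B] [CommRing A'] [CommRing B']
    [Algebra R A] [Algebra R B] [Algebra S A'] [Algebra S B']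
    (φ : R →+* S) (α : A →+* A') (β : B →+* B')
    (hα : ∀ r, α (algebraMap R A r) = algebraMap S A' (φ r))
    (hβ : ∀ r, β (algebraMap R B r) = algebraMap S B' (φ r)) :
    A ⊗[R] B →+* A' ⊗[S] B' :=
  letI : Algebra R (A' ⊗[S] B') := ((algebraMap S (A' ⊗[S] B')).comp φ).toAlgebra
  let f : A →ₐ[R] A' ⊗[S] B' :=
    { toRingHom := (Algebra.TensorProduct.includeLeftRingHom).comp α
      commutes' := fun r => by
        change (α (algebraMap R A r)) ⊗ₜ[S] (1 : B') = algebraMap S (A' ⊗[S] B') (φ r)
        rw [hα, Algebra.TensorProduct.algebraMap_apply] }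
  let g : B →ₐ[R] A' ⊗[S] B' :=
    { toRingHom := (Algebra.TensorProduct.includeRight (R := S) (A := A') (B := B')).toRingHom.comp β
      commutes' := fun r => by
        change (1 : A') ⊗ₜ[S] (β (algebraMap R B r)) = algebraMap S (A' ⊗[S] B') (φ r)
        rw [hβ, Algebra.TensorProduct.algebraMap_apply, Algebra.algebraMap_eq_smul_one,
          Algebra.algebraMap_eq_smul_one, TensorProduct.smul_tmul] }
  (Algebra.TensorProduct.lift f g (fun _ _ => Commute.all _ _)).toRingHom

theorem H7_tensorRingHom_tmul {R S A B A' B' : Type u} [CommRing R] [CommRing S]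
    [CommRing A] [CommRing B] [CommRing A'] [CommRing B']
    [Algebra R A] [Algebra R B] [Algebra S A'] [Algebra S B']
    (φ : R →+* S) (α : A →+* A') (β : B →+* B')
    (hα : ∀ r, α (algebraMap R A r) = algebraMap S A' (φ r))
    (hβ : ∀ r, β (algebraMap R B r) = algebraMap S B' (φ r)) (a : A) (b : B) :
    H7_tensorRingHom φ α β hα hβ (a ⊗ₜ b) = α a ⊗ₜ β b := by
  unfold H7_tensorRingHom
  change (α a ⊗ₜ[S] (1 : B')) * ((1 : A') ⊗ₜ[S] β b) = _
  rw [Algebra.TensorProduct.tmul_mul_tmul, mul_one, one_mul]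


theorem H7_ringHom_tensor_ext {R A B T : Type u} [CommRing R] [CommRing A] [CommRing B]
    [Algebra R A] [Algebra R B] [Semiring T] (f g : A ⊗[R] B →+* T)
    (h : ∀ a b, f (a ⊗ₜ b) = g (a ⊗ₜ b)) (x : A ⊗[R] B) : f x = g x := by
  induction x using TensorProduct.induction_on with
  | zero => rw [map_zero, map_zero]
  | tmul a b => exact h a b
  | add x y hx hy => rw [map_add, map_add, hx, hy]

/-- the tensor product (coproduct) of two algebras over a finite ringed poset -/
noncomputable def H7_tensAlg {X : RSpace.{u}} (A B : Alg X) : Alg X where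
  carrier p := A.carrier p ⊗[X.ring p] B.carrier p
  res {p q} h := H7_tensorRingHom (X.res h) (A.res h) (B.res h) (A.res_algebraMap h)
    (B.res_algebraMap h)
  res_algebraMap {p q} h a := by
    rw [Algebra.TensorProduct.algebraMap_apply, H7_tensorRingHom_tmul, map_one,
      A.res_algebraMap, Algebra.TensorProduct.algebraMap_apply]
  res_self p x := by
    have := H7_ringHom_tensor_ext
      (H7_tensorRingHom (X.res (le_refl p)) (A.res (le_refl p)) (B.res (le_refl p))
        (A.res_algebraMap _) (B.res_algebraMap _)) (RingHom.id _)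
      (fun a b => by rw [H7_tensorRingHom_tmul, A.res_self, B.res_self]; rfl) x
    exact this
  res_comp {p q s} h h' x := by
    have := H7_ringHom_tensor_ext
      ((H7_tensorRingHom (X.res h') (A.res h') (B.res h')
        (A.res_algebraMap _) (B.res_algebraMap _)).comp
        (H7_tensorRingHom (X.res h) (A.res h) (B.res h)
        (A.res_algebraMap _) (B.res_algebraMap _)))
      (H7_tensorRingHom (X.res (h.trans h')) (A.res (h.trans h')) (B.res (h.trans h'))
        (A.res_algebraMap _) (B.res_algebraMap _))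
      (fun a b => by
        rw [RingHom.comp_apply, H7_tensorRingHom_tmul, H7_tensorRingHom_tmul,
          H7_tensorRingHom_tmul, A.res_comp, B.res_comp]) x
    exact this

theorem H7_tensAlg_res_tmul {X : RSpace.{u}} (A B : Alg X) {p q : X.pt} (h : p ≤ q)
    (a : A.carrier p) (b : B.carrier p) :
    (H7_tensAlg A B).res h (a ⊗ₜ b) = A.res h a ⊗ₜ B.res h b :=
  H7_tensorRingHom_tmul (X.res h) (A.res h) (B.res h) (A.res_algebraMap h)
    (B.res_algebraMap h) a b

/-- left inclusion into the tensor product -/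
noncomputable def H7_tensInl {X : RSpace.{u}} (A B : Alg X) : A ⟶ H7_tensAlg A B where
  app p := (Algebra.TensorProduct.includeLeft :
    A.carrier p →ₐ[X.ring p] A.carrier p ⊗[X.ring p] B.carrier p)
  compat {p q} h a := by
    change (H7_tensAlg A B).res h (a ⊗ₜ 1) = A.res h a ⊗ₜ 1
    rw [H7_tensAlg_res_tmul, map_one]

/-- right inclusion into the tensor product -/
noncomputable def H7_tensInr {X : RSpace.{u}} (A B : Alg X) : B ⟶ H7_tensAlg A B where
  app p := (Algebra.TensorProduct.includeRight :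
    B.carrier p →ₐ[X.ring p] A.carrier p ⊗[X.ring p] B.carrier p)
  compat {p q} h b := by
    change (H7_tensAlg A B).res h (1 ⊗ₜ b) = 1 ⊗ₜ B.res h b
    rw [H7_tensAlg_res_tmul, map_one]

/-- the map out of the tensor product induced by two maps -/
noncomputable def H7_tensDesc {X : RSpace.{u}} {A B T : Alg X} (a : A ⟶ T) (b : B ⟶ T) :
    H7_tensAlg A B ⟶ T where
  app p := Algebra.TensorProduct.productMap (a.app p) (b.app p)
  compat {p q} h x := by
    have := H7_ringHom_tensor_ext
      ((T.res h).comp (Algebra.TensorProduct.productMap (a.app p) (b.app p)).toRingHom)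
      ((Algebra.TensorProduct.productMap (a.app q) (b.app q)).toRingHom.comp
        ((H7_tensAlg A B).res h))
      (fun x y => by
        change T.res h (Algebra.TensorProduct.productMap (a.app p) (b.app p) (x ⊗ₜ y)) =
          Algebra.TensorProduct.productMap (a.app q) (b.app q) ((H7_tensAlg A B).res h (x ⊗ₜ y))
        rw [H7_tensAlg_res_tmul, Algebra.TensorProduct.productMap_apply_tmul,
          Algebra.TensorProduct.productMap_apply_tmul, map_mul, a.compat, b.compat]) x
    exact this

theorem H7_tensDesc_tmul {X : RSpace.{u}} {A B T : Alg X} (a : A ⟶ T) (b : B ⟶ T) (p : X.pt)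
    (x : A.carrier p) (y : B.carrier p) :
    (H7_tensDesc a b).app p (x ⊗ₜ y) = a.app p x * b.app p y := rfl

theorem H7_tensInl_desc {X : RSpace.{u}} {A B T : Alg X} (a : A ⟶ T) (b : B ⟶ T) :
    H7_tensInl A B ≫ H7_tensDesc a b = a := by
  apply Alg.hom_ext
  intro p
  apply AlgHom.ext
  intro x
  change (H7_tensDesc a b).app p (x ⊗ₜ 1) = a.app p x
  rw [H7_tensDesc_tmul, map_one, mul_one]

theorem H7_tensInr_desc {X : RSpace.{u}} {A B T : Alg X} (a : A ⟶ T) (b : B ⟶ T) :
    H7_tensInr A B ≫ H7_tensDesc a b = b := by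
  apply Alg.hom_ext
  intro p
  apply AlgHom.ext
  intro x
  change (H7_tensDesc a b).app p (1 ⊗ₜ x) = b.app p x
  rw [H7_tensDesc_tmul, map_one, one_mul]

theorem H7_tens_hom_ext {X : RSpace.{u}} {A B T : Alg X} (m m' : H7_tensAlg A B ⟶ T)
    (h1 : H7_tensInl A B ≫ m = H7_tensInl A B ≫ m')
    (h2 : H7_tensInr A B ≫ m = H7_tensInr A B ≫ m') : m = m' := by
  apply Alg.hom_ext
  intro p
  apply AlgHom.ext
  intro x
  refine H7_ringHom_tensor_ext (m.app p).toRingHom (m'.app p).toRingHom (fun a b => ?_) x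
  have e1 : ∀ a : A.carrier p, m.app p (a ⊗ₜ 1) = m'.app p (a ⊗ₜ 1) := fun a =>
    congrArg (fun k : A ⟶ T => k.app p a) h1
  have e2 : ∀ b : B.carrier p, m.app p (1 ⊗ₜ b) = m'.app p (1 ⊗ₜ b) := fun b =>
    congrArg (fun k : B ⟶ T => k.app p b) h2
  have : (a ⊗ₜ[X.ring p] b : A.carrier p ⊗[X.ring p] B.carrier p) = (a ⊗ₜ 1) * (1 ⊗ₜ b) := by
    rw [Algebra.TensorProduct.tmul_mul_tmul, mul_one, one_mul]
  have hm : ∀ (k : H7_tensAlg A B ⟶ T) (u v : A.carrier p ⊗[X.ring p] B.carrier p),
      k.app p (u * v) = k.app p u * k.app p v := fun k u v => map_mul (k.app p) u v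
  change m.app p (a ⊗ₜ b) = m'.app p (a ⊗ₜ b)
  rw [this, hm, hm, e1, e2]


theorem H7_isBaseChange_tensor {R S : Type u} [CommRing R] [CommRing S] [Algebra R S]
    {M N M' N' T : Type u} [AddCommGroup M] [AddCommGroup N] [AddCommGroup M'] [AddCommGroup N']
    [AddCommGroup T] [Module R M] [Module R N]
    [Module R M'] [Module S M'] [IsScalarTower R S M']
    [Module R N'] [Module S N'] [IsScalarTower R S N']
    [Module R T] [Module S T] [IsScalarTower R S T]
    (f : M →ₗ[R] M') (hf : IsBaseChange S f) (g : N →ₗ[R] N') (hg : IsBaseChange S g)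
    (ψ : M' ⊗[S] N' ≃ₗ[S] T)
    (φ : M ⊗[R] N →ₗ[R] T) (hφ : ∀ m n, φ (m ⊗ₜ n) = ψ (f m ⊗ₜ g n)) : IsBaseChange S φ := by
  let e : S ⊗[R] (M ⊗[R] N) ≃ₗ[S] T :=
    (TensorProduct.AlgebraTensorModule.distribBaseChange R S M N) ≪≫ₗ
      (TensorProduct.congr hf.equiv hg.equiv) ≪≫ₗ ψ
  apply IsBaseChange.of_equiv e
  intro x
  induction x using TensorProduct.induction_on with
  | zero => rw [TensorProduct.tmul_zero, map_zero, map_zero]
  | tmul m n =>
    rw [hφ]
    change ψ ((TensorProduct.congr hf.equiv hg.equiv)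
      (TensorProduct.AlgebraTensorModule.distribBaseChange R S M N (1 ⊗ₜ (m ⊗ₜ n)))) = _
    rw [TensorProduct.AlgebraTensorModule.distribBaseChange_tmul, TensorProduct.congr_tmul,
      IsBaseChange.equiv_tmul, IsBaseChange.equiv_tmul, one_smul, one_smul]
  | add x y hx hy => rw [TensorProduct.tmul_add, map_add, map_add, hx, hy]


theorem H7_tensAlg_isQcoh {X : RSpace.{u}} (A B : Alg X) (hA : A.IsQcoh) (hB : B.IsQcoh) :
    (H7_tensAlg A B).IsQcoh := by
  intro p q h
  have hA' := hA p q h
  have hB' := hB p q h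
  unfold IsBCAlong at hA' hB' ⊢
  let _ : Algebra (X.ring p) (X.ring q) := (X.res h).toAlgebra
  let _ : Module (X.ring p) (A.toMod.carrier q) := Module.compHom _ (X.res h)
  have : IsScalarTower (X.ring p) (X.ring q) (A.toMod.carrier q) :=
    IsScalarTower.of_algebraMap_smul fun _ _ => rfl
  let _ : Module (X.ring p) (B.toMod.carrier q) := Module.compHom _ (X.res h)
  have : IsScalarTower (X.ring p) (X.ring q) (B.toMod.carrier q) :=
    IsScalarTower.of_algebraMap_smul fun _ _ => rfl
  let _ : Module (X.ring p) ((H7_tensAlg A B).toMod.carrier q) := Module.compHom _ (X.res h)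
  have : IsScalarTower (X.ring p) (X.ring q) ((H7_tensAlg A B).toMod.carrier q) :=
    IsScalarTower.of_algebraMap_smul fun _ _ => rfl
  refine H7_isBaseChange_tensor (T := (H7_tensAlg A B).toMod.carrier q) _ hA' _ hB'
    (LinearEquiv.refl (X.ring q) ((H7_tensAlg A B).toMod.carrier q)) _ ?_
  intro m n
  exact H7_tensAlg_res_tmul A B h m n

theorem H7_tensAlg_isEtCover {X : RSpace.{u}} (A B : Alg X) (hA : A.IsEtCover)
    (hB : B.IsEtCover) : (H7_tensAlg A B).IsEtCover := by
  refine ⟨H7_tensAlg_isQcoh A B hA.1 hB.1, fun p => ?_⟩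
  have := (hA.2 p).1
  have := (hA.2 p).2
  have := (hB.2 p).1
  have := (hB.2 p).2
  refine ⟨(inferInstance : Module.Finite (X.ring p) (A.carrier p ⊗[X.ring p] B.carrier p)), ?_⟩
  have h1 : Algebra.Etale (A.carrier p) (A.carrier p ⊗[X.ring p] B.carrier p) := inferInstance
  exact Algebra.Etale.comp (X.ring p) (A.carrier p) (A.carrier p ⊗[X.ring p] B.carrier p)

end Groth.Agent.Lib.helper7
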