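import Mathlib
import Groth.Prelude.Def_SchFin
import Groth.Prelude.Def_SchFin2
import Groth.Agent.Lib.helper7.SchFinTens
import Groth.Agent.Lib.helper7.SchFinKer
import Groth.Agent.Lib.helper7.SchFinQuot
import Groth.Agent.Lib.helper7.SchFinS26

set_option autoImplicit false
universe u
open TensorProduct

namespace Groth.Agent.Lib.helper7
open SchFin CategoryTheory CategoryTheory.Limits

/-- map out of a quotient by a compatible family of elements -/
noncomputable def H7_quotDesc {X : RSpace.{u}} (A : Alg X) (e : ∀ p, A.carrier p)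
    (hres : ∀ {p q : X.pt} (h : p ≤ q), A.res h (e p) = e q) {T : Alg X} (d : A ⟶ T)
    (hd : ∀ p, d.app p (e p) = 0) : H7_quotAlg A e hres ⟶ T where
  app p := Ideal.Quotient.liftₐ (Ideal.span {e p}) (d.app p) (by
    intro a ha
    obtain ⟨c, rfl⟩ := Ideal.mem_span_singleton'.mp ha
    rw [map_mul, hd p, mul_zero])
  compat {p q} h x := by
    obtain ⟨a, rfl⟩ := Ideal.Quotient.mk_surjective x
    change T.res h (d.app p a) = d.app q (A.res h a)
    exact d.compat h a

theorem H7_quotHom_desc {X : RSpace.{u}} (A : Alg X) (e : ∀ p, A.carrier p)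
    (hres : ∀ {p q : X.pt} (h : p ≤ q), A.res h (e p) = e q) {T : Alg X} (d : A ⟶ T)
    (hd : ∀ p, d.app p (e p) = 0) : H7_quotHom A e hres ≫ H7_quotDesc A e hres d hd = d := by
  apply Alg.hom_ext
  intro p
  apply AlgHom.ext
  intro x
  rfl

theorem H7_quot_hom_ext {X : RSpace.{u}} (A : Alg X) (e : ∀ p, A.carrier p)
    (hres : ∀ {p q : X.pt} (h : p ≤ q), A.res h (e p) = e q) {T : Alg X}
    (m m' : H7_quotAlg A e hres ⟶ T)
    (h : H7_quotHom A e hres ≫ m = H7_quotHom A e hres ≫ m') : m = m' := by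
  apply Alg.hom_ext
  intro p
  apply AlgHom.ext
  intro x
  obtain ⟨a, rfl⟩ := Ideal.Quotient.mk_surjective x
  exact congrArg (fun k : A ⟶ T => k.app p a) h

/-- multiplication map -/
noncomputable def H7_tensMul {X : RSpace.{u}} (C : Alg X) : H7_tensAlg C C ⟶ C :=
  H7_tensDesc (𝟙 C) (𝟙 C)

/-- tensor product of two maps -/
noncomputable def H7_tensMap {X : RSpace.{u}} {C C' A B : Alg X} (f : C ⟶ A) (g : C' ⟶ B) :
    H7_tensAlg C C' ⟶ H7_tensAlg A B :=
  H7_tensDesc (f ≫ H7_tensInl A B) (g ≫ H7_tensInr A B)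

/-- pure tensors, typed in the carrier of the tensor algebra -/
def H7_tm {X : RSpace.{u}} (A B : Alg X) (p : X.pt) (a : A.carrier p) (b : B.carrier p) :
    (H7_tensAlg A B).carrier p := a ⊗ₜ[X.ring p] b

theorem H7_tensMul_tm {X : RSpace.{u}} (C : Alg X) (p : X.pt) (c c' : C.carrier p) :
    (H7_tensMul C).app p (H7_tm C C p c c') = c * c' := rfl

theorem H7_tensMap_tm {X : RSpace.{u}} {C C' A B : Alg X} (f : C ⟶ A) (g : C' ⟶ B)
    (p : X.pt) (c : C.carrier p) (c' : C'.carrier p) :
    (H7_tensMap f g).app p (H7_tm C C' p c c') = H7_tm A B p (f.app p c) (g.app p c') := by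
  change (f.app p c ⊗ₜ[X.ring p] (1 : B.carrier p)) * ((1 : A.carrier p) ⊗ₜ[X.ring p] g.app p c') = _
  rw [Algebra.TensorProduct.tmul_mul_tmul, mul_one, one_mul]
  rfl

/-- a compatible idempotent generating the kernel of the multiplication -/
structure H7_DiagData {X : RSpace.{u}} (C : Alg X) where
  ε : ∀ p, (H7_tensAlg C C).carrier p
  idem : ∀ p, IsIdempotentElem (ε p)
  res : ∀ {p q : X.pt} (h : p ≤ q), (H7_tensAlg C C).res h (ε p) = ε q
  ker : ∀ p, RingHom.ker ((H7_tensMul C).app p) = Ideal.span {ε p}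

section po
variable {X : RSpace.{u}} {C A B : Alg X} (D : H7_DiagData C) (f : C ⟶ A) (g : C ⟶ B)

/-- the idempotent cutting out the pushout in the tensor product -/
noncomputable def H7_poIdem (p : X.pt) : (H7_tensAlg A B).carrier p :=
  (H7_tensMap f g).app p (D.ε p)

theorem H7_poIdem_idem (p : X.pt) : IsIdempotentElem (H7_poIdem D f g p) :=
  (D.idem p).map ((H7_tensMap f g).app p)

theorem H7_poIdem_res {p q : X.pt} (h : p ≤ q) :
    (H7_tensAlg A B).res h (H7_poIdem D f g p) = H7_poIdem D f g q := by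
  unfold H7_poIdem
  rw [(H7_tensMap f g).compat h, D.res h]

/-- the pushout algebra -/
noncomputable abbrev H7_poAlg : Alg X :=
  H7_quotAlg (H7_tensAlg A B) (H7_poIdem D f g) (fun h => H7_poIdem_res D f g h)

theorem H7_poAlg_isEtCover (hA : A.IsEtCover) (hB : B.IsEtCover) :
    (H7_poAlg D f g).IsEtCover :=
  H7_quotAlg_isEtCover _ (H7_tensAlg_isEtCover A B hA hB) _ (H7_poIdem_idem D f g)
    (fun h => H7_poIdem_res D f g h)

noncomputable def H7_poInl : A ⟶ H7_poAlg D f g :=
  H7_tensInl A B ≫ H7_quotHom _ _ (fun h => H7_poIdem_res D f g h)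

noncomputable def H7_poInr : B ⟶ H7_poAlg D f g :=
  H7_tensInr A B ≫ H7_quotHom _ _ (fun h => H7_poIdem_res D f g h)

theorem H7_po_cond : f ≫ H7_poInl D f g = g ≫ H7_poInr D f g := by
  apply Alg.hom_ext
  intro p
  apply AlgHom.ext
  intro c
  change Ideal.Quotient.mk (Ideal.span {H7_poIdem D f g p}) (H7_tm A B p (f.app p c) 1) =
    Ideal.Quotient.mk (Ideal.span {H7_poIdem D f g p}) (H7_tm A B p 1 (g.app p c))
  rw [Ideal.Quotient.eq]
  have hmem : (H7_tm C C p c 1 - H7_tm C C p 1 c) ∈ RingHom.ker ((H7_tensMul C).app p) := by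
    rw [RingHom.mem_ker, map_sub, H7_tensMul_tm, H7_tensMul_tm, mul_one, one_mul, sub_self]
  rw [D.ker p] at hmem
  obtain ⟨x, hx⟩ := Ideal.mem_span_singleton'.mp hmem
  have h3 : H7_tm A B p (f.app p c) 1 - H7_tm A B p 1 (g.app p c) =
      (H7_tensMap f g).app p x * H7_poIdem D f g p := by
    unfold H7_poIdem
    rw [← map_mul, hx, map_sub, H7_tensMap_tm, H7_tensMap_tm, map_one, map_one]
  rw [h3]
  exact Ideal.mul_mem_left _ _ (Ideal.subset_span rfl)

end po


section po2
variable {X : RSpace.{u}} {C A B : Alg X} (D : H7_DiagData C) (f : C ⟶ A) (g : C ⟶ B)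
  {T : Alg X} (a : A ⟶ T) (b : B ⟶ T) (hab : f ≫ a = g ≫ b)

include hab in
theorem H7_tensMap_desc : H7_tensMap f g ≫ H7_tensDesc a b = H7_tensMul C ≫ (f ≫ a) := by
  have h1 : H7_tensInl C C ≫ H7_tensMap f g = f ≫ H7_tensInl A B := H7_tensInl_desc _ _
  have h2 : H7_tensInl C C ≫ H7_tensMul C = 𝟙 C := H7_tensInl_desc _ _
  have h3 : H7_tensInr C C ≫ H7_tensMap f g = g ≫ H7_tensInr A B := H7_tensInr_desc _ _
  have h4 : H7_tensInr C C ≫ H7_tensMul C = 𝟙 C := H7_tensInr_desc _ _
  apply H7_tens_hom_ext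
  · rw [← Category.assoc, ← Category.assoc, h1, h2, Category.assoc, H7_tensInl_desc,
      Category.id_comp]
  · rw [← Category.assoc, ← Category.assoc, h3, h4, Category.assoc, H7_tensInr_desc,
      Category.id_comp, hab]

include hab in
theorem H7_poDesc_aux (p : X.pt) : (H7_tensDesc a b).app p (H7_poIdem D f g p) = 0 := by
  unfold H7_poIdem
  have h1 := congrArg (fun k : H7_tensAlg C C ⟶ T => k.app p (D.ε p))
    (H7_tensMap_desc f g a b hab)
  refine h1.trans ?_
  have h2 : (H7_tensMul C).app p (D.ε p) = 0 := by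
    have : D.ε p ∈ RingHom.ker ((H7_tensMul C).app p) := by
      rw [D.ker p]
      exact Ideal.subset_span rfl
    exact this
  change (f ≫ a).app p ((H7_tensMul C).app p (D.ε p)) = 0
  rw [h2, map_zero]

/-- the map out of the pushout -/
noncomputable def H7_poDesc : H7_poAlg D f g ⟶ T :=
  H7_quotDesc _ _ _ (H7_tensDesc a b) (H7_poDesc_aux D f g a b hab)

theorem H7_poInl_desc : H7_poInl D f g ≫ H7_poDesc D f g a b hab = a := by
  unfold H7_poInl H7_poDesc
  rw [Category.assoc, H7_quotHom_desc, H7_tensInl_desc]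

theorem H7_poInr_desc : H7_poInr D f g ≫ H7_poDesc D f g a b hab = b := by
  unfold H7_poInr H7_poDesc
  rw [Category.assoc, H7_quotHom_desc, H7_tensInr_desc]

theorem H7_po_hom_ext (m m' : H7_poAlg D f g ⟶ T)
    (h1 : H7_poInl D f g ≫ m = H7_poInl D f g ≫ m')
    (h2 : H7_poInr D f g ≫ m = H7_poInr D f g ≫ m') : m = m' := by
  apply H7_quot_hom_ext
  apply H7_tens_hom_ext
  · rw [← Category.assoc, ← Category.assoc]
    exact h1
  · rw [← Category.assoc, ← Category.assoc]
    exact h2

end po2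


/-- the tensor product of two covers -/
noncomputable def H7_tensFEt {X : RSpace.{u}} (A B : FEt X) : FEt X :=
  ⟨H7_tensAlg A.obj B.obj, H7_tensAlg_isEtCover _ _ A.property B.property⟩

/-- the multiplication of a cover -/
noncomputable def H7_mulFEt {X : RSpace.{u}} (C : FEt X) : H7_tensFEt C C ⟶ C :=
  ObjectProperty.homMk (H7_tensMul C.obj)

/-- the diagonal idempotent of a cover -/
noncomputable def H7_diagData {X : RSpace.{u}} (hF : X.IsFinSp) (C : FEt X) :
    H7_DiagData C.obj where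
  ε p := H7_kerIdem hF (H7_mulFEt C) p
  idem p := H7_kerIdem_idem hF (H7_mulFEt C) p
  res h := H7_kerIdem_res hF (H7_mulFEt C) h
  ker p := H7_kerIdem_span hF (H7_mulFEt C) p

/-- the pushout of covers -/
noncomputable def H7_poFEt {X : RSpace.{u}} (hF : X.IsFinSp) {C A B : FEt X} (f : C ⟶ A)
    (g : C ⟶ B) : FEt X :=
  ⟨H7_poAlg (H7_diagData hF C) f.hom g.hom,
    H7_poAlg_isEtCover (H7_diagData hF C) f.hom g.hom A.property B.property⟩

noncomputable def H7_poFEtInl {X : RSpace.{u}} (hF : X.IsFinSp) {C A B : FEt X} (f : C ⟶ A)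
    (g : C ⟶ B) : A ⟶ H7_poFEt hF f g :=
  ObjectProperty.homMk (H7_poInl (H7_diagData hF C) f.hom g.hom)

noncomputable def H7_poFEtInr {X : RSpace.{u}} (hF : X.IsFinSp) {C A B : FEt X} (f : C ⟶ A)
    (g : C ⟶ B) : B ⟶ H7_poFEt hF f g :=
  ObjectProperty.homMk (H7_poInr (H7_diagData hF C) f.hom g.hom)

theorem H7_poFEt_cond {X : RSpace.{u}} (hF : X.IsFinSp) {C A B : FEt X} (f : C ⟶ A)
    (g : C ⟶ B) : f ≫ H7_poFEtInl hF f g = g ≫ H7_poFEtInr hF f g := by
  apply ObjectProperty.hom_ext
  exact H7_po_cond (H7_diagData hF C) f.hom g.hom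

/-- the pushout cocone is a colimit -/
noncomputable def H7_poFEt_isColimit {X : RSpace.{u}} (hF : X.IsFinSp) {C A B : FEt X}
    (f : C ⟶ A) (g : C ⟶ B) :
    IsColimit (PushoutCocone.mk (H7_poFEtInl hF f g) (H7_poFEtInr hF f g)
      (H7_poFEt_cond hF f g)) :=
  PushoutCocone.IsColimit.mk (H7_poFEt_cond hF f g)
    (fun s => ObjectProperty.homMk (H7_poDesc (H7_diagData hF C) f.hom g.hom s.inl.hom s.inr.hom
      (congrArg (fun k => k.hom) s.condition)))
    (fun s => by
      apply ObjectProperty.hom_ext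
      exact H7_poInl_desc (H7_diagData hF C) f.hom g.hom s.inl.hom s.inr.hom
        (congrArg (fun k => k.hom) s.condition))
    (fun s => by
      apply ObjectProperty.hom_ext
      exact H7_poInr_desc (H7_diagData hF C) f.hom g.hom s.inl.hom s.inr.hom
        (congrArg (fun k => k.hom) s.condition))
    (fun s m h1 h2 => by
      apply ObjectProperty.hom_ext
      apply H7_po_hom_ext (H7_diagData hF C) f.hom g.hom
      · have e1 := congrArg (fun k => k.hom) h1
        refine Eq.trans e1 ?_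
        exact (H7_poInl_desc (H7_diagData hF C) f.hom g.hom s.inl.hom s.inr.hom
          (congrArg (fun k => k.hom) s.condition)).symm
      · have e2 := congrArg (fun k => k.hom) h2
        refine Eq.trans e2 ?_
        exact (H7_poInr_desc (H7_diagData hF C) f.hom g.hom s.inl.hom s.inr.hom
          (congrArg (fun k => k.hom) s.condition)).symm)

theorem H7_hasPushouts (X : RSpace.{u}) (hF : X.IsFinSp) : HasPushouts (FEt X) := by
  have : ∀ {C A B : FEt X} {f : C ⟶ A} {g : C ⟶ B}, HasColimit (span f g) := by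
    intro C A B f g
    exact HasColimit.mk ⟨_, H7_poFEt_isColimit hF f g⟩
  exact hasPushouts_of_hasColimit_span _

/-- the initial cover -/
noncomputable def H7_strFEt (X : RSpace.{u}) : FEt X := ⟨Alg.str X, H7_str_isEtCover X⟩

/-- the unique map from the initial cover -/
noncomputable def H7_strHom {X : RSpace.{u}} (A : Alg X) : Alg.str X ⟶ A where
  app p := Algebra.ofId (X.ring p) (A.carrier p)
  compat {p q} h b := by
    change A.res h (algebraMap (X.ring p) (A.carrier p) b) =
      algebraMap (X.ring q) (A.carrier q) (X.res h b)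
    exact A.res_algebraMap h b

theorem H7_strHom_unique {X : RSpace.{u}} (A : Alg X) (m : Alg.str X ⟶ A) : m = H7_strHom A := by
  apply Alg.hom_ext
  intro p
  apply AlgHom.ext
  intro x
  exact (m.app p).commutes x

noncomputable def H7_strFEt_isInitial (X : RSpace.{u}) : IsInitial (H7_strFEt X) :=
  IsInitial.ofUniqueHom (fun A => ObjectProperty.homMk (H7_strHom A.obj)) (fun A m => by
    apply ObjectProperty.hom_ext
    exact H7_strHom_unique A.obj m.hom)

theorem H7_S15621 (X : RSpace.{u}) (hX : X.IsSchematic) :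
    HasInitial (FEt X) ∧ HasPushouts (FEt X) :=
  ⟨(H7_strFEt_isInitial X).hasInitial, H7_hasPushouts X hX.1⟩

end Groth.Agent.Lib.helper7
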