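import Mathlib
import Groth.Prelude.Def_SchFin
import Groth.Prelude.Def_SchFin2
import Groth.Agent.Lib.helper7.SchFinFF

set_option autoImplicit false
universe u

open TensorProduct

namespace Groth.Agent.Lib.helper7

open SchFin

theorem H7_S15617 (X : RSpace.{u}) (x : X.pt) (U : Set X.pt)
    (hU : U ⊆ X.up x) (hUa : (X.restrict U).IsAffine)
    (hff : Module.FaithfullyFlat (X.sectRing U) ((q : ↥U) → X.ring q.1)) (M : OMod X) (hM : M.IsQcoh) :
    IsBCAlong (X.resSect x U hU) (M.resSect x U hU) := by
  unfold IsBCAlong
  let _ : Algebra (X.ring x) (X.sectRing U) := (X.resSect x U hU).toAlgebra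
  let _ : Module (X.ring x) (M.sect U) := Module.compHom _ (X.resSect x U hU)
  have : IsScalarTower (X.ring x) (X.sectRing U) (M.sect U) :=
    IsScalarTower.of_algebraMap_smul fun _ _ => rfl
  let fl : M.carrier x →ₗ[X.ring x] M.sect U :=
    { toFun := M.resSect x U hU
      map_add' := (M.resSect x U hU).map_add
      map_smul' := (M.resSect x U hU).map_smulₛₗ }
  let φ : X.sectRing U ⊗[X.ring x] M.carrier x →ₗ[X.sectRing U] M.sect U :=
    LinearMap.liftBaseChange (X.sectRing U) fl
  have hφ : Function.Bijective φ := by
    apply H7_sect_ff_criterion X U hff φ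
    intro q
    let _ : Algebra (X.sectRing U) (X.ring q.1) := (X.evalRing U q).toAlgebra
    let _ : Algebra (X.ring x) (X.ring q.1) := (X.res (hU q.2)).toAlgebra
    have : IsScalarTower (X.ring x) (X.sectRing U) (X.ring q.1) :=
      IsScalarTower.of_algebraMap_eq fun _ => rfl
    have h2 := hM x q.1 (hU q.2)
    have h3 := H7_affine_counit X U hUa M hM q
    unfold IsBCAlong at h2 h3
    let _ : Module (X.ring x) (M.carrier q.1) := Module.compHom _ (X.res (hU q.2))
    have : IsScalarTower (X.ring x) (X.ring q.1) (M.carrier q.1) :=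
      IsScalarTower.of_algebraMap_smul fun _ _ => rfl
    let _ : Module (X.sectRing U) (M.carrier q.1) := Module.compHom _ (X.evalRing U q)
    have : IsScalarTower (X.sectRing U) (X.ring q.1) (M.carrier q.1) :=
      IsScalarTower.of_algebraMap_smul fun _ _ => rfl
    let e1 := TensorProduct.AlgebraTensorModule.cancelBaseChange (X.ring x) (X.sectRing U)
      (X.sectRing U) (X.ring q.1) (M.carrier x)
    have key : ∀ t, h3.equiv (LinearMap.lTensor (X.ring q.1) φ t) = h2.equiv (e1 t) := by
      intro t
      induction t using TensorProduct.induction_on with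
      | zero => rw [map_zero, map_zero, map_zero, map_zero]
      | tmul a w =>
        induction w using TensorProduct.induction_on with
        | zero => rw [TensorProduct.tmul_zero, map_zero, map_zero, map_zero, map_zero]
        | tmul γ m =>
          rw [LinearMap.lTensor_tmul, LinearMap.liftBaseChange_tmul, IsBaseChange.equiv_tmul,
            TensorProduct.AlgebraTensorModule.cancelBaseChange_tmul, IsBaseChange.equiv_tmul]
          change a • (γ.1 q • M.res (hU q.2) m) = (γ.1 q * a) • M.res (hU q.2) m
          rw [smul_smul, mul_comm]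
        | add w1 w2 h1 h2 =>
          rw [TensorProduct.tmul_add, map_add, map_add, map_add, map_add, h1, h2]
      | add t1 t2 h1 h2 => rw [map_add, map_add, map_add, map_add, h1, h2]
    have hcomp : h3.equiv ∘ (LinearMap.lTensor (X.ring q.1) φ) = h2.equiv ∘ e1 := funext key
    have hb : Function.Bijective (h3.equiv ∘ (LinearMap.lTensor (X.ring q.1) φ)) := by
      rw [hcomp]
      exact h2.equiv.bijective.comp e1.bijective
    exact (Function.Bijective.of_comp_iff' h3.equiv.bijective _).mp hb
  exact IsBaseChange.of_equiv (LinearEquiv.ofBijective φ hφ) (fun m => by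
    change φ (1 ⊗ₜ m) = _
    rw [LinearMap.liftBaseChange_tmul, one_smul])

end Groth.Agent.Lib.helper7
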