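import Mathlib
import Groth.Prelude.Def_SchFin
import Groth.Prelude.Def_SchFin2
import Groth.Agent.Lib.helper7.SchFinFF

set_option autoImplicit false
universe u

open TensorProduct

namespace Groth.Agent.Lib.helper7

open SchFin

/-- descent of flatness: `C` faithfully flat over `B` and flat over `A` implies `B` flat over `A` -/
theorem H7_flat_descent (A B C : Type u) [CommRing A] [CommRing B] [AddCommGroup C] [Algebra A B]
    [Module B C] [Module A C] [IsScalarTower A B C] [Module.FaithfullyFlat B C]
    [Module.Flat A C] : Module.Flat A B := by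
  rw [Module.Flat.iff_lTensor_preserves_injective_linearMap]
  intro N N' _ _ _ _ f hf
  have h1 : Function.Injective (LinearMap.lTensor C f) :=
    Module.Flat.lTensor_preserves_injective_linearMap f hf
  let fB : B ⊗[A] N →ₗ[B] B ⊗[A] N' := f.baseChange B
  have hfB : ∀ t, fB t = LinearMap.lTensor B f t := fun t => rfl
  suffices h : Function.Injective fB from fun a b hab => h ((hfB a).trans (hab.trans (hfB b).symm))
  rw [← Module.FaithfullyFlat.lTensor_injective_iff_injective B C]
  let e := TensorProduct.AlgebraTensorModule.cancelBaseChange A B B C N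
  let e' := TensorProduct.AlgebraTensorModule.cancelBaseChange A B B C N'
  have key : ∀ t, e' (LinearMap.lTensor C fB t) = LinearMap.lTensor C f (e t) := by
    intro t
    induction t using TensorProduct.induction_on with
    | zero => rw [map_zero, map_zero, map_zero, map_zero]
    | tmul c w =>
      induction w using TensorProduct.induction_on with
      | zero => rw [TensorProduct.tmul_zero, map_zero, map_zero, map_zero, map_zero]
      | tmul b n => rfl
      | add w1 w2 h1 h2 =>
        rw [TensorProduct.tmul_add, map_add, map_add, map_add, map_add, h1, h2]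
    | add t1 t2 h1 h2 => rw [map_add, map_add, map_add, map_add, h1, h2]
  intro a b hab
  apply e.injective
  apply h1
  rw [← key, ← key, hab]

theorem H7_evalRing_flat (X : RSpace.{u}) (U : Set X.pt)
    (hφ : Module.FaithfullyFlat (X.sectRing U) ((q : ↥U) → X.ring q.1)) (q : U) :
    letI : Algebra (X.sectRing U) (X.ring q.1) := (X.evalRing U q).toAlgebra
    Module.Flat (X.sectRing U) (X.ring q.1) := by
  classical
  let mP : Module (X.sectRing U) ((q : ↥U) → X.ring q.1) := inferInstance
  have hfl : Module.Flat (X.sectRing U) ((q : ↥U) → X.ring q.1) := inferInstance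
  let iA : Algebra (X.sectRing U) (X.ring q.1) := (X.evalRing U q).toAlgebra
  let pr : ((q : ↥U) → X.ring q.1) →ₗ[X.sectRing U] X.ring q.1 :=
    { toFun := fun p => p q
      map_add' := fun _ _ => rfl
      map_smul' := fun γ p => rfl }
  let sg : X.ring q.1 →ₗ[X.sectRing U] ((q : ↥U) → X.ring q.1) :=
    { toFun := fun a => Pi.single (M := fun q : ↥U => X.ring q.1) q a
      map_add' := fun a b => Pi.single_add (f := fun q : ↥U => X.ring q.1) q a b
      map_smul' := fun γ a => by
        funext j
        change Pi.single (M := fun q : ↥U => X.ring q.1) q (γ.1 q * a) j =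
          γ.1 j * Pi.single (M := fun q : ↥U => X.ring q.1) q a j
        by_cases hj : j = q
        · subst hj
          rw [Pi.single_eq_same, Pi.single_eq_same]
        · rw [Pi.single_eq_of_ne hj, Pi.single_eq_of_ne hj, mul_zero] }
  apply Module.Flat.of_retract sg pr
  apply LinearMap.ext
  intro a
  exact Pi.single_eq_same (M := fun q : ↥U => X.ring q.1) q a

theorem H7_sectMap_flat_of_forall (X : RSpace.{u}) (A : Alg X) (U : Set X.pt)
    (hφ : Module.FaithfullyFlat (X.sectRing U) ((q : ↥U) → X.ring q.1))
    (hψ : (A.total.sectRing U).subtype.FaithfullyFlat)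
    (h : ∀ q : X.pt, q ∈ U → Module.Flat (X.ring q) (A.carrier q)) : (A.sectMap U).Flat := by
  classical
  have := Fintype.ofFinite ↥U
  let i1 : Algebra (X.sectRing U) (A.total.sectRing U) := (A.sectMap U).toAlgebra
  change Module.Flat (X.sectRing U) (A.total.sectRing U)
  let i2 : Algebra (A.total.sectRing U) ((q : ↥U) → A.carrier q.1) :=
    (A.total.sectRing U).subtype.toAlgebra
  have hψ' : Module.FaithfullyFlat (A.total.sectRing U) ((q : ↥U) → A.carrier q.1) := hψ
  let mq : ∀ q : U, Module (X.sectRing U) (A.carrier q.1) :=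
    fun q => Module.compHom _ (X.evalRing U q)
  have tower : IsScalarTower (X.sectRing U) (A.total.sectRing U) ((q : ↥U) → A.carrier q.1) :=
    ⟨fun γ t f => by
      funext q
      let tq : A.carrier q.1 := t.1 q
      change (algebraMap (X.ring q.1) (A.carrier q.1) (γ.1 q) * tq) * f q = γ.1 q • (tq * f q)
      rw [Algebra.smul_def, mul_assoc]⟩
  have hflq : ∀ q : U, Module.Flat (X.sectRing U) (A.carrier q.1) := fun q => by
    let _ : Algebra (X.sectRing U) (X.ring q.1) := (X.evalRing U q).toAlgebra
    have := H7_evalRing_flat X U hφ q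
    have := h q.1 q.2
    have : IsScalarTower (X.sectRing U) (X.ring q.1) (A.carrier q.1) :=
      IsScalarTower.of_algebraMap_smul fun _ _ => rfl
    exact Module.Flat.trans (X.sectRing U) (X.ring q.1) (A.carrier q.1)
  have hflP : Module.Flat (X.sectRing U) ((q : ↥U) → A.carrier q.1) :=
    Module.Flat.of_linearEquiv
      (DirectSum.linearEquivFunOnFintype (X.sectRing U) ↥U (fun q => A.carrier q.1)).symm
  exact H7_flat_descent (X.sectRing U) (A.total.sectRing U) ((q : ↥U) → A.carrier q.1)

theorem H7_sect_smul {X : RSpace.{u}} (A : Alg X) (U : Set X.pt) (γ : X.sectRing U)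
    (s : A.toMod.sect U) (q : U) :
    let a : A.carrier q.1 := s.1 q
    (γ • s).1 q = algebraMap (X.ring q.1) (A.carrier q.1) (γ.1 q) * a := by
  intro a
  exact Algebra.smul_def (γ.1 q) a

/-- module sections of an algebra versus its ring of sections -/
def H7_sectEquiv {X : RSpace.{u}} (A : Alg X) (U : Set X.pt) :
    letI : Algebra (X.sectRing U) (A.total.sectRing U) := (A.sectMap U).toAlgebra
    A.toMod.sect U ≃ₗ[X.sectRing U] A.total.sectRing U :=
  letI : Algebra (X.sectRing U) (A.total.sectRing U) := (A.sectMap U).toAlgebra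
  { toFun := fun s => ⟨s.1, s.2⟩
    invFun := fun t => ⟨t.1, t.2⟩
    left_inv := fun _ => rfl
    right_inv := fun _ => rfl
    map_add' := fun _ _ => rfl
    map_smul' := fun γ s => by
      apply Subtype.ext
      funext q
      exact H7_sect_smul A U γ s q }

theorem H7_forall_flat_of_sectMap (X : RSpace.{u}) (A : Alg X) (hA : A.IsQcoh) (U : Set X.pt)
    (hUa : (X.restrict U).IsAffine) (h : (A.sectMap U).Flat) (q : X.pt) (hq : q ∈ U) :
    Module.Flat (X.ring q) (A.carrier q) := by
  have h3 := H7_affine_counit X U hUa A.toMod hA ⟨q, hq⟩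
  unfold IsBCAlong at h3
  let _ : Algebra (X.sectRing U) (A.total.sectRing U) := (A.sectMap U).toAlgebra
  have hfl : Module.Flat (X.sectRing U) (A.total.sectRing U) := h
  have hfl2 : Module.Flat (X.sectRing U) (A.toMod.sect U) :=
    Module.Flat.of_linearEquiv (H7_sectEquiv A U)
  let _ : Algebra (X.sectRing U) (X.ring q) := (X.evalRing U ⟨q, hq⟩).toAlgebra
  let _ : Module (X.sectRing U) (A.toMod.carrier q) := Module.compHom _ (X.evalRing U ⟨q, hq⟩)
  have : IsScalarTower (X.sectRing U) (X.ring q) (A.toMod.carrier q) :=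
    IsScalarTower.of_algebraMap_smul fun _ _ => rfl
  have hfin : Module.Flat (X.ring q) (A.toMod.carrier q) :=
    Module.Flat.of_linearEquiv h3.equiv.symm
  exact hfin

theorem H7_S15618 (X : RSpace.{u}) (A : Alg X) (hA : A.IsQcoh)
    (U : Set X.pt) (hUa : (X.restrict U).IsAffine)
    (hφ : Module.FaithfullyFlat (X.sectRing U) ((q : ↥U) → X.ring q.1))
    (hψ : (A.total.sectRing U).subtype.FaithfullyFlat) :
    (∀ q : X.pt, q ∈ U → Module.Flat (X.ring q) (A.carrier q)) ↔ (A.sectMap U).Flat :=
  ⟨H7_sectMap_flat_of_forall X A U hφ hψ, fun h q hq => H7_forall_flat_of_sectMap X A hA U hUa h q hq⟩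

end Groth.Agent.Lib.helper7
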