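import Mathlib
import Groth.Prelude.Def_SchFin
import Groth.Prelude.Def_SchFin2
import Groth.Agent.Lib.helper7.SchFinS18
import Groth.Agent.Lib.helper7.SchFinProd

set_option autoImplicit false
universe u

open TensorProduct

namespace Groth.Agent.Lib.helper7

open SchFin

theorem H7_sect_subsingleton (X : RSpace.{u}) (U : Set X.pt)
    (hφ : Module.FaithfullyFlat (X.sectRing U) ((q : ↥U) → X.ring q.1))
    {Q : Type u} [AddCommGroup Q] [Module (X.sectRing U) Q]
    (h : ∀ q : U, letI : Algebra (X.sectRing U) (X.ring q.1) := (X.evalRing U q).toAlgebra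
       Subsingleton (X.ring q.1 ⊗[X.sectRing U] Q)) : Subsingleton Q := by
  let φ : Q →ₗ[X.sectRing U] PUnit.{u+1} := 0
  have hb : Function.Bijective φ := by
    apply H7_sect_ff_criterion X U hφ φ
    intro q
    let _ : Algebra (X.sectRing U) (X.ring q.1) := (X.evalRing U q).toAlgebra
    have h1 := h q
    have h2 : Subsingleton (X.ring q.1 ⊗[X.sectRing U] PUnit.{u+1}) :=
      H7_tensor_subsingleton (R := X.sectRing U) (X.ring q.1) PUnit.{u+1}
    exact ⟨fun a b _ => Subsingleton.elim a b, fun y => ⟨0, Subsingleton.elim _ _⟩⟩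
  exact hb.1.subsingleton

theorem H7_sectMap_finite_of_forall (X : RSpace.{u}) (A : Alg X) (hA : A.IsQcoh) (U : Set X.pt)
    (hUa : (X.restrict U).IsAffine)
    (hφ : Module.FaithfullyFlat (X.sectRing U) ((q : ↥U) → X.ring q.1))
    (h : ∀ q : X.pt, q ∈ U → Module.Finite (X.ring q) (A.carrier q)) : (A.sectMap U).Finite := by
  classical
  let i1 : Algebra (X.sectRing U) (A.total.sectRing U) := (A.sectMap U).toAlgebra
  change Module.Finite (X.sectRing U) (A.total.sectRing U)
  suffices hS : Module.Finite (X.sectRing U) (A.toMod.sect U) from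
    Module.Finite.equiv (H7_sectEquiv A U)
  -- finite sets of sections whose values span
  have hT : ∀ q : U, ∃ T : Finset (A.toMod.sect U),
      Submodule.span (X.ring q.1) ((fun t => A.toMod.evalMod U q t) '' (T : Set (A.toMod.sect U)))
        = ⊤ := by
    intro q
    have h3 := H7_affine_counit X U hUa A.toMod hA q
    unfold IsBCAlong at h3
    let _ : Algebra (X.sectRing U) (X.ring q.1) := (X.evalRing U q).toAlgebra
    let _ : Module (X.sectRing U) (A.toMod.carrier q.1) := Module.compHom _ (X.evalRing U q)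
    have : IsScalarTower (X.sectRing U) (X.ring q.1) (A.toMod.carrier q.1) :=
      IsScalarTower.of_algebraMap_smul fun _ _ => rfl
    have hspan : Submodule.span (X.ring q.1) (Set.range (fun t => A.toMod.evalMod U q t)) = ⊤ := by
      rw [eq_top_iff]
      intro y _
      refine h3.inductionOn y (fun y => y ∈ Submodule.span (X.ring q.1)
        (Set.range (fun t => A.toMod.evalMod U q t))) (Submodule.zero_mem _) ?_ ?_ ?_
      · intro m
        exact Submodule.subset_span ⟨m, rfl⟩
      · intro s n hn
        exact Submodule.smul_mem _ s hn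
      · intro n1 n2 h1 h2
        exact Submodule.add_mem _ h1 h2
    have hfin : Module.Finite (X.ring q.1) (A.toMod.carrier q.1) := h q.1 q.2
    have hfg : (Submodule.span (X.ring q.1)
        (Set.range (fun t => A.toMod.evalMod U q t))).FG := by
      rw [hspan]
      exact hfin.fg_top
    obtain ⟨s', hs's, hs'⟩ := (Submodule.fg_span_iff_fg_span_finset_subset _).mp hfg
    have hs'' : ∀ y, y ∈ s' → ∃ t, A.toMod.evalMod U q t = y := fun y hy => hs's hy
    choose! g hg using hs''
    refine ⟨s'.image g, ?_⟩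
    rw [eq_top_iff, ← hspan, hs']
    apply Submodule.span_mono
    intro y hy
    exact ⟨g y, Finset.mem_coe.mpr (Finset.mem_image_of_mem g hy), hg y hy⟩
  choose T hT using hT
  let N : Submodule (X.sectRing U) (A.toMod.sect U) :=
    Submodule.span (X.sectRing U) (⋃ q : U, (T q : Set (A.toMod.sect U)))
  have hNfg : N.FG := Submodule.fg_span (Set.finite_iUnion fun q => (T q).finite_toSet)
  have hQ : Subsingleton (A.toMod.sect U ⧸ N) := by
    apply H7_sect_subsingleton X U hφ
    intro q
    let _ : Algebra (X.sectRing U) (X.ring q.1) := (X.evalRing U q).toAlgebra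
    have h3 := H7_affine_counit X U hUa A.toMod hA q
    unfold IsBCAlong at h3
    let _ : Module (X.sectRing U) (A.toMod.carrier q.1) := Module.compHom _ (X.evalRing U q)
    have : IsScalarTower (X.sectRing U) (X.ring q.1) (A.toMod.carrier q.1) :=
      IsScalarTower.of_algebraMap_smul fun _ _ => rfl
    let bc : X.ring q.1 ⊗[X.sectRing U] (A.toMod.sect U) →ₗ[X.ring q.1]
        X.ring q.1 ⊗[X.sectRing U] (A.toMod.sect U ⧸ N) := N.mkQ.baseChange (X.ring q.1)
    let D : Submodule (X.ring q.1) (A.toMod.carrier q.1) :=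
      Submodule.map h3.equiv.toLinearMap (LinearMap.ker bc)
    have hD : D = ⊤ := by
      rw [eq_top_iff, ← hT q, Submodule.span_le]
      rintro _ ⟨t, ht, rfl⟩
      refine ⟨1 ⊗ₜ t, ?_, ?_⟩
      · change bc (1 ⊗ₜ t) = 0
        rw [LinearMap.baseChange_tmul]
        have h0 : N.mkQ t = 0 := (Submodule.Quotient.mk_eq_zero N).mpr
          (Submodule.subset_span (Set.mem_iUnion.mpr ⟨q, ht⟩))
        rw [h0, TensorProduct.tmul_zero]
      · change h3.equiv (1 ⊗ₜ t) = _
        rw [IsBaseChange.equiv_tmul, one_smul]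
        rfl
    have hbc0 : ∀ w, bc w = 0 := by
      intro w
      have hm : h3.equiv w ∈ D := hD ▸ Submodule.mem_top
      obtain ⟨w', hw', hw'e⟩ := hm
      have hw : w' = w := h3.equiv.injective hw'e
      rw [← hw]
      exact hw'
    have hsurj : Function.Surjective bc :=
      LinearMap.lTensor_surjective (X.ring q.1) N.mkQ_surjective
    constructor
    intro a b
    obtain ⟨a', rfl⟩ := hsurj a
    obtain ⟨b', rfl⟩ := hsurj b
    rw [hbc0, hbc0]
  have hNtop : N = ⊤ := Submodule.Quotient.subsingleton_iff.mp hQ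
  exact ⟨hNtop ▸ hNfg⟩

theorem H7_forall_finite_of_sectMap (X : RSpace.{u}) (A : Alg X) (hA : A.IsQcoh) (U : Set X.pt)
    (hUa : (X.restrict U).IsAffine) (h : (A.sectMap U).Finite) (q : X.pt) (hq : q ∈ U) :
    Module.Finite (X.ring q) (A.carrier q) := by
  have h3 := H7_affine_counit X U hUa A.toMod hA ⟨q, hq⟩
  unfold IsBCAlong at h3
  let _ : Algebra (X.sectRing U) (A.total.sectRing U) := (A.sectMap U).toAlgebra
  have hfin : Module.Finite (X.sectRing U) (A.total.sectRing U) := h
  have hfin2 : Module.Finite (X.sectRing U) (A.toMod.sect U) :=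
    Module.Finite.equiv (H7_sectEquiv A U).symm
  let _ : Algebra (X.sectRing U) (X.ring q) := (X.evalRing U ⟨q, hq⟩).toAlgebra
  let _ : Module (X.sectRing U) (A.toMod.carrier q) := Module.compHom _ (X.evalRing U ⟨q, hq⟩)
  have : IsScalarTower (X.sectRing U) (X.ring q) (A.toMod.carrier q) :=
    IsScalarTower.of_algebraMap_smul fun _ _ => rfl
  have hfinal : Module.Finite (X.ring q) (A.toMod.carrier q) := Module.Finite.equiv h3.equiv
  exact hfinal

theorem H7_S15620 (X : RSpace.{u}) (A : Alg X) (hA : A.IsQcoh)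
    (U : Set X.pt) (hUa : (X.restrict U).IsAffine)
    (hφ : Module.FaithfullyFlat (X.sectRing U) ((q : ↥U) → X.ring q.1)) :
    (∀ q : X.pt, q ∈ U → Module.Finite (X.ring q) (A.carrier q)) ↔ (A.sectMap U).Finite :=
  ⟨H7_sectMap_finite_of_forall X A hA U hUa hφ,
    fun h q hq => H7_forall_finite_of_sectMap X A hA U hUa h q hq⟩

end Groth.Agent.Lib.helper7
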