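import Mathlib
import Groth.Prelude.Def_SchFin
import Groth.Prelude.Def_SchFin2
import Groth.Agent.Lib.helper7.SchFinS20

set_option autoImplicit false
universe u

open TensorProduct

namespace Groth.Agent.Lib.helper7

open SchFin

theorem H7_forall_ff_of_sectMap (X : RSpace.{u}) (A : Alg X) (hA : A.IsQcoh) (U : Set X.pt)
    (hUa : (X.restrict U).IsAffine) (h : (A.sectMap U).FaithfullyFlat) (q : X.pt) (hq : q ∈ U) :
    Module.FaithfullyFlat (X.ring q) (A.carrier q) := by
  have h3 := H7_affine_counit X U hUa A.toMod hA ⟨q, hq⟩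
  unfold IsBCAlong at h3
  let _ : Algebra (X.sectRing U) (A.total.sectRing U) := (A.sectMap U).toAlgebra
  have hff : Module.FaithfullyFlat (X.sectRing U) (A.total.sectRing U) := h
  have hff2 : Module.FaithfullyFlat (X.sectRing U) (A.toMod.sect U) :=
    Module.FaithfullyFlat.of_linearEquiv _ _ (H7_sectEquiv A U)
  let _ : Algebra (X.sectRing U) (X.ring q) := (X.evalRing U ⟨q, hq⟩).toAlgebra
  let _ : Module (X.sectRing U) (A.toMod.carrier q) := Module.compHom _ (X.evalRing U ⟨q, hq⟩)
  have : IsScalarTower (X.sectRing U) (X.ring q) (A.toMod.carrier q) :=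
    IsScalarTower.of_algebraMap_smul fun _ _ => rfl
  have hfinal : Module.FaithfullyFlat (X.ring q) (A.toMod.carrier q) :=
    Module.FaithfullyFlat.of_linearEquiv _ _ h3.equiv.symm
  exact hfinal

theorem H7_sectMap_ff_of_forall (X : RSpace.{u}) (A : Alg X) (hA : A.IsQcoh) (U : Set X.pt)
    (hUa : (X.restrict U).IsAffine)
    (hφ : Module.FaithfullyFlat (X.sectRing U) ((q : ↥U) → X.ring q.1))
    (hψ : (A.total.sectRing U).subtype.FaithfullyFlat)
    (h : ∀ q : X.pt, q ∈ U → Module.FaithfullyFlat (X.ring q) (A.carrier q)) :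
    (A.sectMap U).FaithfullyFlat := by
  have hflat : (A.sectMap U).Flat :=
    H7_sectMap_flat_of_forall X A U hφ hψ (fun q hq => (h q hq).toFlat)
  let _ : Algebra (X.sectRing U) (A.total.sectRing U) := (A.sectMap U).toAlgebra
  change Module.FaithfullyFlat (X.sectRing U) (A.total.sectRing U)
  rw [Module.FaithfullyFlat.iff_flat_and_lTensor_reflects_triviality]
  refine ⟨hflat, ?_⟩
  intro N _ _ hN
  apply H7_sect_subsingleton X U hφ
  intro q
  let _ : Algebra (X.sectRing U) (X.ring q.1) := (X.evalRing U q).toAlgebra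
  have h3 := H7_affine_counit X U hUa A.toMod hA q
  unfold IsBCAlong at h3
  let _ : Module (X.sectRing U) (A.toMod.carrier q.1) := Module.compHom _ (X.evalRing U q)
  have : IsScalarTower (X.sectRing U) (X.ring q.1) (A.toMod.carrier q.1) :=
    IsScalarTower.of_algebraMap_smul fun _ _ => rfl
  have s1 : Subsingleton (A.toMod.sect U ⊗[X.sectRing U] N) :=
    (TensorProduct.congr (H7_sectEquiv A U) (LinearEquiv.refl (X.sectRing U) N)).injective.subsingleton
  have s2 : Subsingleton (X.ring q.1 ⊗[X.sectRing U] (A.toMod.sect U ⊗[X.sectRing U] N)) := by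
    have h0 : ∀ t : X.ring q.1 ⊗[X.sectRing U] (A.toMod.sect U ⊗[X.sectRing U] N), t = 0 := by
      intro t
      induction t using TensorProduct.induction_on with
      | zero => rfl
      | tmul a w => rw [Subsingleton.elim w 0, TensorProduct.tmul_zero]
      | add a b ha hb => rw [ha, hb, add_zero]
    exact ⟨fun a b => (h0 a).trans (h0 b).symm⟩
  have s3 : Subsingleton ((X.ring q.1 ⊗[X.sectRing U] A.toMod.sect U) ⊗[X.sectRing U] N) :=
    (TensorProduct.assoc (X.sectRing U) (X.ring q.1) (A.toMod.sect U) N).injective.subsingleton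
  have s4 : Subsingleton (A.toMod.carrier q.1 ⊗[X.sectRing U] N) :=
    (TensorProduct.congr (h3.equiv.symm.restrictScalars (X.sectRing U))
      (LinearEquiv.refl (X.sectRing U) N)).injective.subsingleton
  have s5 : Subsingleton (A.toMod.carrier q.1 ⊗[X.ring q.1] (X.ring q.1 ⊗[X.sectRing U] N)) :=
    (TensorProduct.AlgebraTensorModule.cancelBaseChange (X.sectRing U) (X.ring q.1) (X.ring q.1)
      (A.toMod.carrier q.1) N).injective.subsingleton
  have hffq : Module.FaithfullyFlat (X.ring q.1) (A.toMod.carrier q.1) := h q.1 q.2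
  exact Module.FaithfullyFlat.lTensor_reflects_triviality (X.ring q.1) (A.toMod.carrier q.1) _

theorem H7_S15619 (X : RSpace.{u}) (A : Alg X) (hA : A.IsQcoh)
    (U : Set X.pt) (hUa : (X.restrict U).IsAffine)
    (hφ : Module.FaithfullyFlat (X.sectRing U) ((q : ↥U) → X.ring q.1))
    (hψ : (A.total.sectRing U).subtype.FaithfullyFlat) :
    (∀ q : X.pt, q ∈ U → Module.FaithfullyFlat (X.ring q) (A.carrier q)) ↔
      (A.sectMap U).FaithfullyFlat :=
  ⟨H7_sectMap_ff_of_forall X A hA U hUa hφ hψ,
    fun h q hq => H7_forall_ff_of_sectMap X A hA U hUa h q hq⟩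

end Groth.Agent.Lib.helper7
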