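import Mathlib
import Groth.Prelude.Def_SchFin
import Groth.Prelude.Def_SchFin2
import Groth.Agent.Lib.helper7.SchFinQuot

set_option autoImplicit false
universe u

open TensorProduct

namespace Groth.Agent.Lib.helper7

open SchFin CategoryTheory

theorem H7_S15625 (X : RSpace.{u}) (hX : X.IsSchematic) {A B : FEt X} (f : A ⟶ B) :
    ∃ (Q : FEt X) (g : A ⟶ Q) (h : Q ⟶ B), g ≫ h = f ∧
      (∀ p : X.pt, Function.Surjective (g.hom.app p)) ∧
      ∀ p : X.pt, Function.Injective (h.hom.app p) := by
  have hF := hX.1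
  have hres : ∀ {p q : X.pt} (h : p ≤ q), A.obj.res h (H7_kerIdem hF f p) = H7_kerIdem hF f q :=
    fun h => H7_kerIdem_res hF f h
  let Q : FEt X := ⟨H7_quotAlg A.obj (fun p => H7_kerIdem hF f p) hres,
    H7_quotAlg_isEtCover A.obj A.property _ (H7_kerIdem_idem hF f) hres⟩
  let g : A ⟶ Q := ObjectProperty.homMk (H7_quotHom A.obj _ hres)
  have hker : ∀ p (a : A.obj.carrier p), a ∈ Ideal.span {H7_kerIdem hF f p} → f.hom.app p a = 0 := by
    intro p a ha
    rw [← H7_kerIdem_span hF f p] at ha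
    exact ha
  let hh : Q.obj ⟶ B.obj :=
    { app := fun p => Ideal.Quotient.liftₐ (Ideal.span {H7_kerIdem hF f p}) (f.hom.app p) (hker p)
      compat := fun {p q} h b => by
        obtain ⟨a, rfl⟩ := Ideal.Quotient.mk_surjective b
        exact f.hom.compat h a }
  refine ⟨Q, g, ObjectProperty.homMk hh, ?_, ?_, ?_⟩
  · apply ObjectProperty.hom_ext
    apply Alg.hom_ext
    intro p
    apply AlgHom.ext
    intro a
    rfl
  · intro p
    exact Ideal.Quotient.mk_surjective
  · intro p
    rw [injective_iff_map_eq_zero]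
    intro x hx
    obtain ⟨a, rfl⟩ := Ideal.Quotient.mk_surjective x
    have h1 : f.hom.app p a = 0 := hx
    have h2 : a ∈ RingHom.ker (f.hom.app p) := h1
    rw [H7_kerIdem_span hF f p] at h2
    exact Ideal.Quotient.eq_zero_iff_mem.mpr h2

end Groth.Agent.Lib.helper7
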