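import Mathlib
import Groth.Prelude.Def_SchFin
import Groth.Prelude.Def_SchFin2
import Groth.Agent.Lib.helper7.SchFinQuot

set_option autoImplicit false
universe u

open TensorProduct

namespace Groth.Agent.Lib.helper7

open SchFin CategoryTheory CategoryTheory.Limits

theorem H7_prod_bijective {R A B : Type u} [CommRing R] [CommRing A] [CommRing B] [Algebra R A]
    [Algebra R B] (f : A →ₐ[R] B) (hf : Function.Surjective f) (e : A) (he : IsIdempotentElem e)
    (hker : RingHom.ker f = Ideal.span {e}) :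
    Function.Bijective (AlgHom.prod f (Ideal.Quotient.mkₐ R (Ideal.span {1 - e}))) := by
  have hfe : f e = 0 := by
    have : e ∈ RingHom.ker f := hker ▸ Ideal.subset_span rfl
    exact this
  constructor
  · rw [injective_iff_map_eq_zero]
    intro a ha
    have h1 : f a = 0 := congrArg Prod.fst ha
    have h2 : Ideal.Quotient.mk (Ideal.span {1 - e}) a = 0 := congrArg Prod.snd ha
    have h3 : a ∈ Ideal.span {e} := hker ▸ (h1 : a ∈ RingHom.ker f)
    have h4 : a ∈ Ideal.span {1 - e} := Ideal.Quotient.eq_zero_iff_mem.mp h2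
    obtain ⟨c, hc⟩ := Ideal.mem_span_singleton'.mp h3
    obtain ⟨d, hd⟩ := Ideal.mem_span_singleton'.mp h4
    have h5 : a * e = a := by rw [← hc, mul_assoc, he.eq]
    have h6 : a * e = 0 := by
      rw [← hd, mul_assoc, sub_mul, one_mul, he.eq, sub_self, mul_zero]
    rw [← h5, h6]
  · rintro ⟨b, d⟩
    obtain ⟨a₁, rfl⟩ := hf b
    obtain ⟨d, rfl⟩ := Ideal.Quotient.mk_surjective d
    refine ⟨a₁ * (1 - e) + d * e, ?_⟩
    apply Prod.ext
    · change f (a₁ * (1 - e) + d * e) = f a₁
      rw [map_add, map_mul, map_mul, map_sub, map_one, hfe, sub_zero, mul_one, mul_zero, add_zero]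
    · change Ideal.Quotient.mk _ (a₁ * (1 - e) + d * e) = Ideal.Quotient.mk _ d
      rw [Ideal.Quotient.eq]
      have : a₁ * (1 - e) + d * e - d = (a₁ - d) * (1 - e) := by ring
      rw [this]
      exact Ideal.mul_mem_left _ _ (Ideal.subset_span rfl)

theorem H7_S15628 (X : RSpace.{u}) (hX : X.IsSchematic)
    {A B : FEt X} (f : A ⟶ B) (hf : ∀ p : X.pt, Function.Surjective (f.hom.app p)) :
    ∃ (D : FEt X) (π : A ⟶ D), Nonempty (IsLimit (BinaryFan.mk f π)) := by
  have hF := hX.1
  have hres : ∀ {p q : X.pt} (h : p ≤ q),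
      A.obj.res h (1 - H7_kerIdem hF f p) = 1 - H7_kerIdem hF f q := by
    intro p q h
    rw [map_sub, map_one, H7_kerIdem_res hF f h]
  let D : FEt X := ⟨H7_quotAlg A.obj (fun p => 1 - H7_kerIdem hF f p) hres,
    H7_quotAlg_isEtCover A.obj A.property _ (fun p => (H7_kerIdem_idem hF f p).one_sub) hres⟩
  let π : A ⟶ D := ObjectProperty.homMk (H7_quotHom A.obj _ hres)
  have hΦ : ∀ p, Function.Bijective (AlgHom.prod (f.hom.app p) (π.hom.app p)) := fun p =>
    H7_prod_bijective (f.hom.app p) (hf p) _ (H7_kerIdem_idem hF f p) (H7_kerIdem_span hF f p)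
  let Φ : ∀ p, A.obj.carrier p ≃ₐ[X.ring p] (B.obj.carrier p × D.obj.carrier p) := fun p =>
    AlgEquiv.ofBijective (AlgHom.prod (f.hom.app p) (π.hom.app p)) (hΦ p)
  have hΦapp : ∀ p a, Φ p a = (f.hom.app p a, π.hom.app p a) := fun p a => rfl
  let lift : ∀ {T : FEt X} (_ : T ⟶ B) (_ : T ⟶ D), T ⟶ A := fun {T} u v =>
    ObjectProperty.homMk
      { app := fun p => ((Φ p).symm.toAlgHom).comp (AlgHom.prod (u.hom.app p) (v.hom.app p))
        compat := fun {p q} h t => by
          apply (Φ q).injective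
          change Φ q (A.obj.res h ((Φ p).symm (u.hom.app p t, v.hom.app p t))) =
            Φ q ((Φ q).symm (u.hom.app q (T.obj.res h t), v.hom.app q (T.obj.res h t)))
          rw [AlgEquiv.apply_symm_apply, hΦapp, ← f.hom.compat, ← π.hom.compat,
            ← u.hom.compat, ← v.hom.compat]
          have h1 := hΦapp p ((Φ p).symm (u.hom.app p t, v.hom.app p t))
          rw [AlgEquiv.apply_symm_apply] at h1
          have h1a : u.hom.app p t = f.hom.app p ((Φ p).symm (u.hom.app p t, v.hom.app p t)) :=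
            congrArg Prod.fst h1
          have h1b : v.hom.app p t = π.hom.app p ((Φ p).symm (u.hom.app p t, v.hom.app p t)) :=
            congrArg Prod.snd h1
          rw [← h1a, ← h1b] }
  refine ⟨D, π, ⟨BinaryFan.IsLimit.mk _ (fun {T} u v => lift u v) ?_ ?_ ?_⟩⟩
  · intro T u v
    apply ObjectProperty.hom_ext
    apply Alg.hom_ext
    intro p
    apply AlgHom.ext
    intro t
    have h1 := hΦapp p ((Φ p).symm (u.hom.app p t, v.hom.app p t))
    rw [AlgEquiv.apply_symm_apply] at h1
    exact (Prod.ext_iff.mp h1).1.symm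
  · intro T u v
    apply ObjectProperty.hom_ext
    apply Alg.hom_ext
    intro p
    apply AlgHom.ext
    intro t
    have h1 := hΦapp p ((Φ p).symm (u.hom.app p t, v.hom.app p t))
    rw [AlgEquiv.apply_symm_apply] at h1
    exact (Prod.ext_iff.mp h1).2.symm
  · intro T u v m hm1 hm2
    apply ObjectProperty.hom_ext
    apply Alg.hom_ext
    intro p
    apply AlgHom.ext
    intro t
    apply (Φ p).injective
    change Φ p (m.hom.app p t) = Φ p ((Φ p).symm (u.hom.app p t, v.hom.app p t))
    rw [AlgEquiv.apply_symm_apply, hΦapp]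
    have e1 := congrArg (fun k : T ⟶ B => k.hom.app p t) hm1
    have e2 := congrArg (fun k : T ⟶ D => k.hom.app p t) hm2
    exact Prod.ext e1 e2

end Groth.Agent.Lib.helper7
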