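import Mathlib
import Groth.Prelude.Def_SchFin
import Groth.Prelude.Def_SchFin2

set_option autoImplicit false
universe u
open TensorProduct

namespace Groth.Agent.Lib.helper7
open SchFin CategoryTheory CategoryTheory.Limits

/-- An injective map of finite étale algebras stays injective after any base change of modules. -/
theorem H7_rTensor_injective_of_etale {R A B : Type u} [CommRing R] [CommRing A] [CommRing B]
    [Algebra R A] [Algebra R B] [Module.Finite R A] [Module.Finite R B]
    [Algebra.Etale R A] [Algebra.Etale R B]
    (f : A →ₐ[R] B) (hf : Function.Injective f)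
    (k : Type u) [AddCommGroup k] [Module R k] :
    Function.Injective (f.toLinearMap.rTensor k) := by
  let _ : Algebra A B := f.toRingHom.toAlgebra
  have hst : IsScalarTower R A B := IsScalarTower.of_algebraMap_eq (fun r => (f.commutes r).symm)
  have het : Algebra.Etale A B := Algebra.Etale.of_restrictScalars R A B
  have hfin : Module.Finite A B := Module.Finite.of_restrictScalars_finite R A B
  have hflat : Module.Flat A B := inferInstance
  have hsurj : Function.Surjective (PrimeSpectrum.comap (algebraMap A B)) :=
    PrimeSpectrum.comap_surjective_iff_injective_of_finite.mpr hf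
  have hff : Module.FaithfullyFlat A B := Module.FaithfullyFlat.of_comap_surjective hsurj
  have hinj := Module.FaithfullyFlat.tensorProduct_mk_injective (A := A) (B := B) (A ⊗[R] k)
  let e := TensorProduct.AlgebraTensorModule.cancelBaseChange R A B B k
  have hcomp : ∀ x : A ⊗[R] k, f.toLinearMap.rTensor k x =
      e (TensorProduct.mk A B (A ⊗[R] k) 1 x) := by
    intro x
    induction x using TensorProduct.induction_on with
    | zero => simp
    | tmul a c =>
      simp only [LinearMap.rTensor_tmul, TensorProduct.mk_apply, e,
        TensorProduct.AlgebraTensorModule.cancelBaseChange_tmul]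
      congr 1
      change f a = a • (1 : B)
      rw [Algebra.smul_def, mul_one]; rfl
    | add x y hx hy => rw [map_add, map_add, map_add, hx, hy]
  intro x y hxy
  rw [hcomp, hcomp] at hxy
  exact hinj (e.injective hxy)


theorem H7_bijective_of_inj_rank {R A B : Type u} [CommRing R] [CommRing A] [CommRing B]
    [Algebra R A] [Algebra R B] [Module.Finite R A] [Module.Finite R B]
    [Algebra.Etale R A] [Algebra.Etale R B]
    (f : A →ₐ[R] B) (hf : Function.Injective f)
    (hdeg : ∀ P : PrimeSpectrum R, Module.rankAtStalk A P = Module.rankAtStalk B P) :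
    Function.Bijective f := by
  refine ⟨hf, ?_⟩
  have hfib : ∀ P : PrimeSpectrum R,
      Function.Surjective (f.toLinearMap.lTensor P.asIdeal.ResidueField) := by
    intro P
    have hinj : Function.Injective (f.toLinearMap.lTensor P.asIdeal.ResidueField) :=
      (LinearMap.lTensor_inj_iff_rTensor_inj _ _).mpr
        (H7_rTensor_injective_of_etale f hf P.asIdeal.ResidueField)
    let g : P.asIdeal.ResidueField ⊗[R] A →ₗ[P.asIdeal.ResidueField]
        P.asIdeal.ResidueField ⊗[R] B := f.toLinearMap.baseChange P.asIdeal.ResidueField
    have hrk : Module.finrank P.asIdeal.ResidueField (P.asIdeal.ResidueField ⊗[R] A) =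
        Module.finrank P.asIdeal.ResidueField (P.asIdeal.ResidueField ⊗[R] B) := by
      have h1 := Module.rankAtStalk_eq (M := A) P
      have h2 := Module.rankAtStalk_eq (M := B) P
      rw [← h1, ← h2, hdeg P]
    have hg : Function.Injective g := hinj
    exact (LinearMap.injective_iff_surjective_of_finrank_eq_finrank hrk (f := g)).mp hg
  let N : Submodule R B := LinearMap.range f.toLinearMap
  have hC : Subsingleton (B ⧸ N) := by
    rw [← Module.support_eq_empty_iff (R := R), Set.eq_empty_iff_forall_notMem]
    intro P
    rw [Module.mem_support_iff_nontrivial_residueField_tensorProduct,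
      not_nontrivial_iff_subsingleton]
    refine ⟨fun z w => ?_⟩
    have hz : ∀ z : P.asIdeal.ResidueField ⊗[R] (B ⧸ N), z = 0 := by
      intro z
      obtain ⟨y, rfl⟩ := LinearMap.lTensor_surjective P.asIdeal.ResidueField
        (Submodule.mkQ_surjective N) z
      obtain ⟨x, rfl⟩ := hfib P y
      rw [← LinearMap.comp_apply, ← LinearMap.lTensor_comp]
      have : N.mkQ ∘ₗ f.toLinearMap = 0 := by
        ext a
        simp only [LinearMap.comp_apply, Submodule.mkQ_apply, LinearMap.zero_apply,
          Submodule.Quotient.mk_eq_zero]
        exact ⟨a, rfl⟩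
      rw [this, LinearMap.lTensor_zero, LinearMap.zero_apply]
    rw [hz z, hz w]
  intro b
  have : (Submodule.Quotient.mk b : B ⧸ N) = 0 := Subsingleton.elim _ _
  rw [Submodule.Quotient.mk_eq_zero] at this
  obtain ⟨a, ha⟩ := this
  exact ⟨a, ha⟩


/-- A morphism of algebras that is bijective at every point is an isomorphism. -/
theorem H7_alg_isIso_of_bijective {X : RSpace.{u}} {A B : Alg X} (f : A ⟶ B)
    (hf : ∀ p : X.pt, Function.Bijective (f.app p)) : IsIso f := by
  let e : ∀ p : X.pt, A.carrier p ≃ₐ[X.ring p] B.carrier p :=
    fun p => AlgEquiv.ofBijective (f.app p) (hf p)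
  have he : ∀ p (a : A.carrier p), e p a = f.app p a := fun p a => rfl
  let g : B ⟶ A :=
    { app := fun p => ((e p).symm : B.carrier p →ₐ[X.ring p] A.carrier p)
      compat := by
        intro p q h b
        apply (e q).injective
        change e q (A.res h ((e p).symm b)) = e q ((e q).symm (B.res h b))
        rw [AlgEquiv.apply_symm_apply, he, ← f.compat, ← he, AlgEquiv.apply_symm_apply] }
  refine ⟨g, ?_, ?_⟩
  · apply Alg.hom_ext
    intro p
    apply AlgHom.ext
    intro a
    change (e p).symm (e p a) = a
    exact (e p).symm_apply_apply a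
  · apply Alg.hom_ext
    intro p
    apply AlgHom.ext
    intro b
    change e p ((e p).symm b) = b
    exact (e p).apply_symm_apply b

theorem H7_fet_isIso_of_bijective {X : RSpace.{u}} {A B : FEt X} (f : A ⟶ B)
    (hf : ∀ p : X.pt, Function.Bijective (f.hom.app p)) : IsIso f := by
  have h1 : IsIso f.hom := H7_alg_isIso_of_bijective f.hom hf
  refine ⟨ObjectProperty.homMk (inv f.hom), ?_, ?_⟩
  · apply ObjectProperty.hom_ext
    change f.hom ≫ inv f.hom = 𝟙 _
    exact IsIso.hom_inv_id f.hom
  · apply ObjectProperty.hom_ext
    change inv f.hom ≫ f.hom = 𝟙 _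
    exact IsIso.inv_hom_id f.hom

theorem H7_S15630 (X : RSpace.{u})
    {A B : FEt X} (f : A ⟶ B) (hf : ∀ p : X.pt, Function.Injective (f.hom.app p))
    (hdeg : ∀ (p : X.pt) (P : PrimeSpectrum (X.ring p)),
      Module.rankAtStalk (A.obj.carrier p) P = Module.rankAtStalk (B.obj.carrier p) P) :
    IsIso f := by
  apply H7_fet_isIso_of_bijective
  intro p
  have := (A.property.2 p).1
  have := (A.property.2 p).2
  have := (B.property.2 p).1
  have := (B.property.2 p).2
  exact H7_bijective_of_inj_rank (f.hom.app p) (hf p) (hdeg p)

end Groth.Agent.Lib.helper7
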