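import Mathlib
import Groth.Prelude.Def_SchFin
import Groth.Prelude.Def_SchFin2
import Groth.Agent.Lib.helper7.SchFinConn
import Groth.Agent.Lib.helper7.SchFinKer
import Groth.Agent.Lib.helper7.SchFinQuot
import Groth.Agent.Lib.helper7.SchFinS30

set_option autoImplicit false
universe u
open TensorProduct

namespace Groth.Agent.Lib.helper7
open SchFin CategoryTheory CategoryTheory.Limits

/-- A well-connected space is connected as a poset (by zigzags). -/
theorem H7_zigzag (X : RSpace.{u}) (hwc : X.IsWellConnected) (p q : X.pt) :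
    Relation.EqvGen (fun a b : X.pt => a ≤ b) p q := by
  classical
  obtain ⟨hc, hpw⟩ := hwc
  have hconn := (H7_connSpec_iff _).mp hc
  let S : Set X.pt := {x | Relation.EqvGen (fun a b : X.pt => a ≤ b) p x}
  have hS : ∀ x y : X.pt, x ≤ y → (x ∈ S ↔ y ∈ S) := fun x y h =>
    ⟨fun hx => Relation.EqvGen.trans _ _ _ hx (Relation.EqvGen.rel _ _ h),
     fun hy => Relation.EqvGen.trans _ _ _ hy
      (Relation.EqvGen.symm _ _ (Relation.EqvGen.rel _ _ h))⟩
  let e : X.sectRing Set.univ := ⟨fun x => if x.1 ∈ S then 1 else 0, fun x y h => by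
    by_cases hx : x.1 ∈ S
    · have hy := (hS _ _ h).mp hx
      simp only [hx, hy, if_true, map_one]
    · have hy : y.1 ∉ S := fun hy => hx ((hS _ _ h).mpr hy)
      simp only [hx, hy, if_false, map_zero]⟩
  have he : IsIdempotentElem e := by
    apply Subtype.ext
    funext x
    change (if x.1 ∈ S then (1 : X.ring x.1) else 0) * (if x.1 ∈ S then 1 else 0) =
      if x.1 ∈ S then 1 else 0
    split_ifs <;> simp
  have hp : p ∈ S := Relation.EqvGen.refl p
  rcases hconn.2 e he with h0 | h1
  · exfalso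
    have h := congrArg (fun s : X.sectRing Set.univ => s.1 ⟨p, trivial⟩) h0
    have h' : (if p ∈ S then (1 : X.ring p) else 0) = 0 := h
    rw [if_pos hp] at h'
    have := ((H7_connSpec_iff _).mp (hpw p)).1
    exact one_ne_zero h'
  · by_contra hq
    have hq' : q ∉ S := hq
    have h := congrArg (fun s : X.sectRing Set.univ => s.1 ⟨q, trivial⟩) h1
    have h' : (if q ∈ S then (1 : X.ring q) else 0) = 1 := h
    rw [if_neg hq'] at h'
    have := ((H7_connSpec_iff _).mp (hpw q)).1
    exact zero_ne_one h'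


theorem H7_rank_const_pt {R M : Type u} [CommRing R] [CommRing M] [Algebra R M]
    [Module.Finite R M] [Algebra.Etale R M] [PreconnectedSpace (PrimeSpectrum R)]
    (P P' : PrimeSpectrum R) : Module.rankAtStalk M P = Module.rankAtStalk M P' := by
  have : Module.FinitePresentation R M := Module.FinitePresentation.of_finite_of_finitePresentation R M
  have hl : IsLocallyConstant (Module.rankAtStalk (R := R) M) := Module.isLocallyConstant_rankAtStalk
  exact hl.apply_eq_of_preconnectedSpace P P'

theorem H7_rank_le {X : RSpace.{u}} (E : Alg X) (hE : E.IsEtCover) {p q : X.pt} (h : p ≤ q)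
    (Q : PrimeSpectrum (X.ring q)) :
    Module.rankAtStalk (E.carrier q) Q =
      Module.rankAtStalk (E.carrier p) (PrimeSpectrum.comap (X.res h) Q) := by
  have hbc := hE.1 p q h
  unfold IsBCAlong at hbc
  let _ : Algebra (X.ring p) (X.ring q) := (X.res h).toAlgebra
  let _ : Module (X.ring p) (E.toMod.carrier q) := Module.compHom _ (X.res h)
  have : IsScalarTower (X.ring p) (X.ring q) (E.toMod.carrier q) :=
    IsScalarTower.of_algebraMap_smul fun _ _ => rfl
  have := (hE.2 p).1
  have := (hE.2 p).2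
  have hfl : Module.Flat (X.ring p) (E.toMod.carrier p) :=
    (inferInstance : Module.Flat (X.ring p) (E.carrier p))
  have hfi : Module.Finite (X.ring p) (E.toMod.carrier p) :=
    (inferInstance : Module.Finite (X.ring p) (E.carrier p))
  exact Module.rankAtStalk_isBaseChange hbc Q

theorem H7_rank_const (X : RSpace.{u}) (hwc : X.IsWellConnected) (E : Alg X) (hE : E.IsEtCover)
    (p q : X.pt) (P : PrimeSpectrum (X.ring p)) (Q : PrimeSpectrum (X.ring q)) :
    Module.rankAtStalk (E.carrier p) P = Module.rankAtStalk (E.carrier q) Q := by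
  have hpt : ∀ (x : X.pt) (P P' : PrimeSpectrum (X.ring x)),
      Module.rankAtStalk (E.carrier x) P = Module.rankAtStalk (E.carrier x) P' := by
    intro x P P'
    have := (hE.2 x).1
    have := (hE.2 x).2
    have := (hwc.2 x).toPreconnectedSpace
    exact H7_rank_const_pt P P'
  have hne : ∀ x : X.pt, Nonempty (PrimeSpectrum (X.ring x)) := fun x => (hwc.2 x).toNonempty
  have key : ∀ x y : X.pt, Relation.EqvGen (fun a b : X.pt => a ≤ b) x y →
      ∀ (P : PrimeSpectrum (X.ring x)) (Q : PrimeSpectrum (X.ring y)),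
        Module.rankAtStalk (E.carrier x) P = Module.rankAtStalk (E.carrier y) Q := by
    intro x y hxy
    induction hxy with
    | rel x y h =>
      intro P Q
      rw [H7_rank_le E hE h Q]
      exact hpt x _ _
    | refl x => exact hpt x
    | symm x y _ ih => exact fun P Q => (ih Q P).symm
    | trans x y z _ _ ih1 ih2 =>
      intro P Q
      obtain ⟨T⟩ := hne y
      exact (ih1 P T).trans (ih2 T Q)
  exact key p q (H7_zigzag X hwc p q) P Q


/-- the prime of the ring of the base point under a geometric point -/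
noncomputable def H7_geomPrime {X : RSpace.{u}} {Ω : Type u} [Field Ω] [IsAlgClosed Ω]
    (ξ : GeomPt X Ω) : PrimeSpectrum (X.ring ξ.base) :=
  PrimeSpectrum.comap ξ.toField (⊥ : PrimeSpectrum Ω)

theorem H7_finrank_eq_card_spec {Ω T : Type u} [Field Ω] [IsAlgClosed Ω] [CommRing T]
    [Algebra Ω T] [Module.Finite Ω T] [Algebra.Etale Ω T] :
    Module.finrank Ω T = Nat.card (PrimeSpectrum T) := by
  have : IsArtinianRing T := IsArtinianRing.of_finite Ω T
  have : Fintype (PrimeSpectrum T) := Fintype.ofFinite _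
  let e := Algebra.FormallyEtale.equivPiOfIsSepClosed Ω T
  rw [e.toLinearEquiv.finrank_eq, Module.finrank_fintype_fun_eq_card, Nat.card_eq_fintype_card]

theorem H7_card_fib {X : RSpace.{u}} {Ω : Type u} [Field Ω] [IsAlgClosed Ω]
    (ξ : GeomPt X Ω) (E : Alg X) (hE : E.IsEtCover) :
    Nat.card (ξ.Fib E) = Module.rankAtStalk (E.carrier ξ.base) (H7_geomPrime ξ) := by
  let _ : Algebra (X.ring ξ.base) Ω := ξ.toField.toAlgebra
  have := (hE.2 ξ.base).1
  have := (hE.2 ξ.base).2
  have h1 : Module.rankAtStalk (Ω ⊗[X.ring ξ.base] E.carrier ξ.base) (⊥ : PrimeSpectrum Ω) =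
      Module.rankAtStalk (E.carrier ξ.base)
        (PrimeSpectrum.comap (algebraMap (X.ring ξ.base) Ω) ⊥) :=
    Module.rankAtStalk_baseChange _
  have h2 : Module.rankAtStalk (R := Ω) (Ω ⊗[X.ring ξ.base] E.carrier ξ.base) =
      Module.finrank Ω (Ω ⊗[X.ring ξ.base] E.carrier ξ.base) :=
    Module.rankAtStalk_eq_finrank_of_free
  have h3 := H7_finrank_eq_card_spec (Ω := Ω) (T := Ω ⊗[X.ring ξ.base] E.carrier ξ.base)
  change Nat.card (PrimeSpectrum (Ω ⊗[X.ring ξ.base] E.carrier ξ.base)) = _
  rw [← h3]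
  have h4 := congrFun h2 ⊥
  rw [h1] at h4
  exact h4.symm


theorem H7_fibMap_mem {X : RSpace.{u}} {Ω : Type u} [Field Ω] [IsAlgClosed Ω]
    (ξ : GeomPt X Ω) {A B : Alg X} (f : A ⟶ B) (x : ξ.Fib B) :
    letI : Algebra (X.ring ξ.base) Ω := ξ.toField.toAlgebra
    ∀ t : Ω ⊗[X.ring ξ.base] A.carrier ξ.base,
      t ∈ (show PrimeSpectrum (Ω ⊗[X.ring ξ.base] A.carrier ξ.base) from ξ.fibMap f x).asIdeal ↔
      Algebra.TensorProduct.map (AlgHom.id Ω Ω) (f.app ξ.base) t ∈
        (show PrimeSpectrum (Ω ⊗[X.ring ξ.base] B.carrier ξ.base) from x).asIdeal := by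
  intro t
  exact Iff.rfl


theorem H7_bijective_of_fib_bijective (X : RSpace.{u}) (hX : X.IsSchematic)
    (hwc : X.IsWellConnected) {Ω : Type u} [Field Ω] [IsAlgClosed Ω] (ξ : GeomPt X Ω)
    {B A : FEt X} (g : B ⟶ A) (hg : Function.Bijective (ξ.fibMap g.hom)) (p : X.pt) :
    Function.Bijective (g.hom.app p) := by
  have hF := hX.1
  let e : ∀ p, B.obj.carrier p := fun p => H7_kerIdem hF g p
  let e' : ∀ p, B.obj.carrier p := fun p => 1 - e p
  have he' : ∀ p, IsIdempotentElem (e' p) := fun p => (H7_kerIdem_idem hF g p).one_sub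
  have hres' : ∀ {p q : X.pt} (h : p ≤ q), B.obj.res h (e' p) = e' q := by
    intro p q h
    change B.obj.res h (1 - e p) = 1 - e q
    rw [map_sub, map_one, H7_kerIdem_res hF g h]
  let Q := H7_quotAlg B.obj e' hres'
  have hQ : Q.IsEtCover := H7_quotAlg_isEtCover B.obj B.property e' he' hres'
  let π : B.obj ⟶ Q := H7_quotHom B.obj e' hres'
  have hempty : IsEmpty (ξ.Fib Q) := by
    refine ⟨fun x => ?_⟩
    let _ : Algebra (X.ring ξ.base) Ω := ξ.toField.toAlgebra
    obtain ⟨z, hz⟩ := hg.2 (ξ.fibMap π x)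
    let t : Ω ⊗[X.ring ξ.base] B.obj.carrier ξ.base := 1 ⊗ₜ e' ξ.base
    have h1 : t ∈ (show PrimeSpectrum (Ω ⊗[X.ring ξ.base] B.obj.carrier ξ.base) from
        ξ.fibMap π x).asIdeal := by
      rw [H7_fibMap_mem ξ π x t]
      have h0 : Algebra.TensorProduct.map (AlgHom.id Ω Ω) (π.app ξ.base) t = 0 := by
        change Algebra.TensorProduct.map (AlgHom.id Ω Ω) (π.app ξ.base) (1 ⊗ₜ e' ξ.base) = 0
        rw [Algebra.TensorProduct.map_tmul]
        have : π.app ξ.base (e' ξ.base) = 0 := by
          change Ideal.Quotient.mk _ (e' ξ.base) = 0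
          rw [Ideal.Quotient.eq_zero_iff_mem]
          exact Ideal.subset_span rfl
        rw [this, TensorProduct.tmul_zero]
      rw [h0]
      exact Ideal.zero_mem _
    rw [← hz, H7_fibMap_mem ξ g.hom z t] at h1
    have h2 : Algebra.TensorProduct.map (AlgHom.id Ω Ω) (g.hom.app ξ.base) t = 1 := by
      change Algebra.TensorProduct.map (AlgHom.id Ω Ω) (g.hom.app ξ.base)
        (1 ⊗ₜ (1 - e ξ.base)) = 1
      rw [Algebra.TensorProduct.map_tmul, map_sub, map_one]
      have : g.hom.app ξ.base (e ξ.base) = 0 := by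
        have : e ξ.base ∈ RingHom.ker (g.hom.app ξ.base) := by
          rw [H7_kerIdem_span hF g ξ.base]
          exact Ideal.subset_span rfl
        exact this
      rw [this, sub_zero, map_one]
      rfl
    rw [h2] at h1
    exact (show PrimeSpectrum (Ω ⊗[X.ring ξ.base] A.obj.carrier ξ.base) from z).isPrime.ne_top
      ((Ideal.eq_top_iff_one _).mpr h1)
  have hcard0 : Nat.card (ξ.Fib Q) = 0 := Nat.card_of_isEmpty
  have hrk0 : ∀ (p : X.pt) (P : PrimeSpectrum (X.ring p)),
      Module.rankAtStalk (Q.carrier p) P = 0 := by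
    intro p P
    rw [H7_rank_const X hwc Q hQ p ξ.base P (H7_geomPrime ξ), ← H7_card_fib ξ Q hQ, hcard0]
  have hsub : ∀ p, Subsingleton (Q.carrier p) := by
    intro p
    have := (hQ.2 p).1
    have := (hQ.2 p).2
    rw [← Module.rankAtStalk_eq_zero_iff_subsingleton (R := X.ring p)]
    funext P
    exact hrk0 p P
  have he0 : ∀ p, e p = 0 := by
    intro p
    have := hsub p
    have h1 : (Ideal.Quotient.mk (Ideal.span {e' p}) 1) = 0 := Subsingleton.elim (α := Q.carrier p) _ _
    rw [Ideal.Quotient.eq_zero_iff_mem, Ideal.mem_span_singleton'] at h1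
    obtain ⟨a, ha⟩ := h1
    have hid := H7_kerIdem_idem hF g p
    have ha' : a * (1 - e p) = 1 := ha
    calc e p = e p * 1 := (mul_one _).symm
      _ = e p * (a * (1 - e p)) := by rw [ha']
      _ = a * (e p - e p * e p) := by ring
      _ = 0 := by rw [hid.eq, sub_self, mul_zero]
  have hinj : ∀ p, Function.Injective (g.hom.app p) := by
    intro p
    rw [injective_iff_map_eq_zero]
    intro a ha
    have h3 : a ∈ RingHom.ker (g.hom.app p) := ha
    rw [H7_kerIdem_span hF g p] at h3
    have h4 : a ∈ Ideal.span {e p} := h3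
    rw [he0 p, Ideal.mem_span_singleton'] at h4
    obtain ⟨c, hc⟩ := h4
    rw [← hc, mul_zero]
  have hrk : ∀ (p : X.pt) (P : PrimeSpectrum (X.ring p)),
      Module.rankAtStalk (B.obj.carrier p) P = Module.rankAtStalk (A.obj.carrier p) P := by
    intro p P
    rw [H7_rank_const X hwc B.obj B.property p ξ.base P (H7_geomPrime ξ),
      H7_rank_const X hwc A.obj A.property p ξ.base P (H7_geomPrime ξ),
      ← H7_card_fib ξ B.obj B.property, ← H7_card_fib ξ A.obj A.property]
    exact (Nat.card_congr (Equiv.ofBijective _ hg)).symm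
  have := (A.property.2 p).1
  have := (A.property.2 p).2
  have := (B.property.2 p).1
  have := (B.property.2 p).2
  exact H7_bijective_of_inj_rank (g.hom.app p) (hinj p) (hrk p)

theorem H7_S15631 (X : RSpace.{u}) (hX : X.IsSchematic) (hwc : X.IsWellConnected)
    {Ω : Type u} [Field Ω] [IsAlgClosed Ω] (ξ : GeomPt X Ω) :
    ξ.fibFunctor.ReflectsIsomorphisms := by
  refine ⟨fun {A B} φ hφ => ?_⟩
  have hbij : Function.Bijective (ξ.fibMap φ.unop.hom) :=
    ConcreteCategory.bijective_of_isIso (ξ.fibFunctor.map φ)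
  have h1 : IsIso φ.unop :=
    H7_fet_isIso_of_bijective _ (H7_bijective_of_fib_bijective X hX hwc ξ φ.unop hbij)
  exact (isIso_op_iff φ.unop).mpr h1

end Groth.Agent.Lib.helper7
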