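import Mathlib
import Groth.Prelude.Def_SchFin
import Groth.Prelude.Def_SchFin2
import Groth.Agent.Lib.helper7.SchFinFib
import Groth.Agent.Lib.helper7.FintypeLim
import Groth.Agent.Lib.helper7.SchFinPO
import Groth.Agent.Lib.helper7.SchFinProd
import Groth.Agent.Lib.helper7.SchFinS26
import Groth.Agent.Lib.helper7.SchFinS30

set_option autoImplicit false
universe u
open TensorProduct

namespace Groth.Agent.Lib.helper7
open SchFin CategoryTheory CategoryTheory.Limits Opposite

section
variable {X : RSpace.{u}} {Ω : Type u} [Field Ω] [IsAlgClosed Ω] (ξ : GeomPt X Ω)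

/-- the fibre of the structure algebra is a point -/
noncomputable def H7_fib_str_unique : Unique (ξ.Fib (Alg.str X)) := by
  let _ : Algebra (X.ring ξ.base) Ω := ξ.toField.toAlgebra
  let φ0 : H7_HomΩ ξ (Alg.str X) := Algebra.ofId (X.ring ξ.base) Ω
  refine ⟨⟨H7_fibPt ξ _ φ0⟩, fun x => ?_⟩
  have hfin : Module.Finite (X.ring ξ.base) ((Alg.str X).carrier ξ.base) :=
    (inferInstance : Module.Finite (X.ring ξ.base) (X.ring ξ.base))
  obtain ⟨φ, rfl⟩ := H7_fibPt_surjective ξ (Alg.str X) hfin x
  congr 1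
  apply H7_HomΩ_ext
  intro e
  exact (AlgHom.commutes φ e).trans (AlgHom.commutes φ0 e).symm

theorem H7_fibFunctor_preservesTerminal :
    PreservesLimitsOfShape (Discrete PEmpty.{1}) ξ.fibFunctor := by
  have hT : IsTerminal (op (H7_strFEt X)) := terminalOpOfInitial (H7_strFEt_isInitial X)
  have : Unique (ξ.fibFunctor.obj (op (H7_strFEt X))) := H7_fib_str_unique ξ
  have hFT : IsTerminal (ξ.fibFunctor.obj (op (H7_strFEt X))) := H7_fintype_isTerminal _
  have : PreservesLimit (Functor.empty.{0} (FEt X)ᵒᵖ) ξ.fibFunctor :=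
    preservesLimit_of_preserves_limit_cone hT
      ((isLimitMapConeEmptyConeEquiv ξ.fibFunctor (op (H7_strFEt X))).symm hFT)
  exact preservesLimitsOfShape_pempty_of_preservesTerminal ξ.fibFunctor


theorem H7_comap_surjective_of_inj {R A B : Type u} [CommRing R] [CommRing A] [CommRing B]
    [Algebra R A] [Algebra R B] [Module.Finite R A] [Module.Finite R B]
    [Algebra.Etale R A] [Algebra.Etale R B] [Algebra R Ω]
    (g : B →ₐ[R] A) (hg : Function.Injective g) :
    Function.Surjective (PrimeSpectrum.comap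
      (Algebra.TensorProduct.map (AlgHom.id Ω Ω) g).toRingHom) := by
  let G : Ω ⊗[R] B →ₐ[Ω] Ω ⊗[R] A := Algebra.TensorProduct.map (AlgHom.id Ω Ω) g
  have hinj : Function.Injective G := by
    have h1 : Function.Injective (g.toLinearMap.lTensor Ω) :=
      (LinearMap.lTensor_inj_iff_rTensor_inj _ _).mpr (H7_rTensor_injective_of_etale g hg Ω)
    exact h1
  let _ : Algebra (Ω ⊗[R] B) (Ω ⊗[R] A) := G.toRingHom.toAlgebra
  have hst : IsScalarTower Ω (Ω ⊗[R] B) (Ω ⊗[R] A) :=
    IsScalarTower.of_algebraMap_eq (fun c => (G.commutes c).symm)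
  have hfin : Module.Finite Ω (Ω ⊗[R] A) := inferInstance
  have hint0 : Algebra.IsIntegral Ω (Ω ⊗[R] A) := inferInstance
  have hint : Algebra.IsIntegral (Ω ⊗[R] B) (Ω ⊗[R] A) := Algebra.IsIntegral.tower_top (R := Ω)
  have hfs : FaithfulSMul (Ω ⊗[R] B) (Ω ⊗[R] A) :=
    (faithfulSMul_iff_algebraMap_injective _ _).mpr hinj
  exact Algebra.IsIntegral.comap_surjective (Ω ⊗[R] B) (Ω ⊗[R] A)

theorem H7_fibFunctor_preservesEpi (hX : X.IsSchematic) :
    ξ.fibFunctor.PreservesEpimorphisms := by
  refine ⟨fun {A B} φ hφ => ?_⟩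
  have hmono : Mono φ.unop := inferInstance
  have hinj := H7_S15626 X hX φ.unop ξ.base
  have hsurj : Function.Surjective (ξ.fibMap φ.unop.hom) := by
    let _ : Algebra (X.ring ξ.base) Ω := ξ.toField.toAlgebra
    have := (A.unop.property.2 ξ.base).1
    have := (A.unop.property.2 ξ.base).2
    have := (B.unop.property.2 ξ.base).1
    have := (B.unop.property.2 ξ.base).2
    exact H7_comap_surjective_of_inj (Ω := Ω) (φ.unop.hom.app ξ.base) hinj
  exact ConcreteCategory.epi_of_surjective (ξ.fibFunctor.map φ) hsurj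


end

theorem H7_hom_prod_cases {R A B W : Type u} [CommRing R] [CommRing A] [CommRing B] [CommRing W]
    [IsDomain W] [Algebra R A] [Algebra R B] [Algebra R W] (γ : A × B →ₐ[R] W) :
    (∃ α : A →ₐ[R] W, γ = α.comp (AlgHom.fst R A B)) ∨
      (∃ β : B →ₐ[R] W, γ = β.comp (AlgHom.snd R A B)) := by
  have he : γ (1, 0) * γ (1, 0) = γ (1, 0) := by
    rw [← map_mul]
    congr 1
    ext <;> simp
  have hsum : γ (1, 0) + γ (0, 1) = 1 := by
    rw [← map_add, ← map_one γ]
    congr 1
    ext <;> simp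
  have hcases : γ (1, 0) = 1 ∨ γ (1, 0) = 0 := by
    have h1 : γ (1, 0) * (γ (1, 0) - 1) = 0 := by rw [mul_sub, he, mul_one, sub_self]
    rcases mul_eq_zero.mp h1 with h | h
    · right; exact h
    · left; exact sub_eq_zero.mp h
  rcases hcases with h1 | h0
  · left
    have h01 : γ (0, 1) = 0 := by rw [h1] at hsum; exact add_eq_left.mp hsum
    refine ⟨{ toFun := fun a => γ (a, 0)
              map_one' := h1
              map_mul' := fun a a' => by
                rw [← map_mul]
                congr 1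
                ext <;> simp
              map_zero' := by
                have : ((0 : A), (0 : B)) = 0 := rfl
                rw [this, map_zero]
              map_add' := fun a a' => by
                rw [← map_add]
                congr 1
                ext <;> simp
              commutes' := fun r => by
                have : ((algebraMap R A r, (0 : B)) : A × B) = algebraMap R (A × B) r * (1, 0) := by
                  ext <;> simp
                rw [this, map_mul, h1, mul_one, AlgHom.commutes] }, ?_⟩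
    apply AlgHom.ext
    intro x
    change γ x = γ (x.1, 0)
    have hx : x = (x.1, 0) + (0, x.2) * (0, 1) := by
      ext <;> simp
    conv_lhs => rw [hx]
    rw [map_add, map_mul, h01, mul_zero, add_zero]
  · right
    have h01 : γ (0, 1) = 1 := by rw [h0, zero_add] at hsum; exact hsum
    refine ⟨{ toFun := fun b => γ (0, b)
              map_one' := h01
              map_mul' := fun a a' => by
                rw [← map_mul]
                congr 1
                ext <;> simp
              map_zero' := by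
                have : ((0 : A), (0 : B)) = 0 := rfl
                rw [this, map_zero]
              map_add' := fun a a' => by
                rw [← map_add]
                congr 1
                ext <;> simp
              commutes' := fun r => by
                have : (((0 : A), algebraMap R B r) : A × B) = algebraMap R (A × B) r * (0, 1) := by
                  ext <;> simp
                rw [this, map_mul, h01, mul_one, AlgHom.commutes] }, ?_⟩
    apply AlgHom.ext
    intro x
    change γ x = γ (0, x.2)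
    have hx : x = (x.1, 0) * (1, 0) + (0, x.2) := by
      ext <;> simp
    conv_lhs => rw [hx]
    rw [map_add, map_mul, h0, mul_zero, zero_add]


section
variable {X : RSpace.{u}} {Ω : Type u} [Field Ω] [IsAlgClosed Ω] (ξ : GeomPt X Ω)

theorem H7_fibMap_fst_injective (A B : Alg X)
    (hA : Module.Finite (X.ring ξ.base) (A.carrier ξ.base)) :
    Function.Injective (ξ.fibMap (H7_fst A B)) := by
  intro x x' h
  obtain ⟨α, rfl⟩ := H7_fibPt_surjective ξ A hA x
  obtain ⟨α', rfl⟩ := H7_fibPt_surjective ξ A hA x'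
  rw [H7_fibMap_fibPt, H7_fibMap_fibPt] at h
  have h2 := H7_fibPt_injective ξ _ h
  congr 1
  apply H7_HomΩ_ext
  intro a
  have h3 := congrArg (fun φ : H7_HomΩ ξ (H7_prodAlg A B) => φ ((a, 0) : A.carrier ξ.base × B.carrier ξ.base)) h2
  exact h3

theorem H7_fibMap_snd_injective (A B : Alg X)
    (hB : Module.Finite (X.ring ξ.base) (B.carrier ξ.base)) :
    Function.Injective (ξ.fibMap (H7_snd A B)) := by
  intro x x' h
  obtain ⟨α, rfl⟩ := H7_fibPt_surjective ξ B hB x
  obtain ⟨α', rfl⟩ := H7_fibPt_surjective ξ B hB x'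
  rw [H7_fibMap_fibPt, H7_fibMap_fibPt] at h
  have h2 := H7_fibPt_injective ξ _ h
  congr 1
  apply H7_HomΩ_ext
  intro b
  have h3 := congrArg (fun φ : H7_HomΩ ξ (H7_prodAlg A B) => φ ((0, b) : A.carrier ξ.base × B.carrier ξ.base)) h2
  exact h3

theorem H7_fibMap_fst_ne_snd (A B : Alg X)
    (hA : Module.Finite (X.ring ξ.base) (A.carrier ξ.base))
    (hB : Module.Finite (X.ring ξ.base) (B.carrier ξ.base)) (x : ξ.Fib A) (y : ξ.Fib B) :
    ξ.fibMap (H7_fst A B) x ≠ ξ.fibMap (H7_snd A B) y := by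
  intro h
  obtain ⟨α, rfl⟩ := H7_fibPt_surjective ξ A hA x
  obtain ⟨β, rfl⟩ := H7_fibPt_surjective ξ B hB y
  rw [H7_fibMap_fibPt, H7_fibMap_fibPt] at h
  have h2 := H7_fibPt_injective ξ _ h
  have h3 := congrArg (fun φ : H7_HomΩ ξ (H7_prodAlg A B) => φ ((1, 0) : A.carrier ξ.base × B.carrier ξ.base)) h2
  have h4 : α (1 : A.carrier ξ.base) = β (0 : B.carrier ξ.base) := h3
  let _ : Algebra (X.ring ξ.base) Ω := ξ.toField.toAlgebra
  rw [map_one, map_zero] at h4
  exact one_ne_zero h4

theorem H7_fibMap_fst_snd_cover (A B : Alg X)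
    (hA : Module.Finite (X.ring ξ.base) (A.carrier ξ.base))
    (hB : Module.Finite (X.ring ξ.base) (B.carrier ξ.base)) (z : ξ.Fib (H7_prodAlg A B)) :
    (∃ x, ξ.fibMap (H7_fst A B) x = z) ∨ ∃ y, ξ.fibMap (H7_snd A B) y = z := by
  let _ : Algebra (X.ring ξ.base) Ω := ξ.toField.toAlgebra
  have hAB : Module.Finite (X.ring ξ.base) ((H7_prodAlg A B).carrier ξ.base) :=
    (inferInstance : Module.Finite (X.ring ξ.base) (A.carrier ξ.base × B.carrier ξ.base))
  obtain ⟨γ, rfl⟩ := H7_fibPt_surjective ξ _ hAB z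
  rcases H7_hom_prod_cases (R := X.ring ξ.base) (A := A.carrier ξ.base) (B := B.carrier ξ.base)
    (W := Ω) γ with ⟨α, hα⟩ | ⟨β, hβ⟩
  · left
    refine ⟨H7_fibPt ξ A α, ?_⟩
    rw [H7_fibMap_fibPt]
    congr 1
    exact hα.symm
  · right
    refine ⟨H7_fibPt ξ B β, ?_⟩
    rw [H7_fibMap_fibPt]
    congr 1
    exact hβ.symm

end


section
variable {X : RSpace.{u}}

/-- the product of two covers -/
def H7_prodFEt (A B : FEt X) : FEt X :=
  ⟨H7_prodAlg A.obj B.obj, H7_prodAlg_isEtCover _ _ A.property B.property⟩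

def H7_fstFEt (A B : FEt X) : H7_prodFEt A B ⟶ A := ObjectProperty.homMk (H7_fst A.obj B.obj)

def H7_sndFEt (A B : FEt X) : H7_prodFEt A B ⟶ B := ObjectProperty.homMk (H7_snd A.obj B.obj)

/-- the opposite of the product is a coproduct in the opposite category -/
def H7_prodCofan_isColimit (A B : (FEt X)ᵒᵖ) :
    IsColimit (BinaryCofan.mk (X := A) (Y := B) (H7_fstFEt A.unop B.unop).op
      (H7_sndFEt A.unop B.unop).op) :=
  BinaryCofan.IsColimit.mk _
    (fun {T} f g => (ObjectProperty.homMk (H7_pair f.unop.hom g.unop.hom) :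
      T.unop ⟶ H7_prodFEt A.unop B.unop).op)
    (fun {T} f g => by
      apply Quiver.Hom.unop_inj
      apply ObjectProperty.hom_ext
      apply Alg.hom_ext
      intro p
      apply AlgHom.ext
      intro x
      rfl)
    (fun {T} f g => by
      apply Quiver.Hom.unop_inj
      apply ObjectProperty.hom_ext
      apply Alg.hom_ext
      intro p
      apply AlgHom.ext
      intro x
      rfl)
    (fun {T} f g m h1 h2 => by
      apply Quiver.Hom.unop_inj
      apply ObjectProperty.hom_ext
      apply Alg.hom_ext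
      intro p
      apply AlgHom.ext
      intro x
      have e1 := congrArg (fun k : A ⟶ T => k.unop.hom.app p x) h1
      have e2 := congrArg (fun k : B ⟶ T => k.unop.hom.app p x) h2
      exact Prod.ext e1 e2)

end

section
variable {X : RSpace.{u}} {Ω : Type u} [Field Ω] [IsAlgClosed Ω] (ξ : GeomPt X Ω)

theorem H7_fibFunctor_preservesBinaryCoproducts :
    PreservesColimitsOfShape (Discrete WalkingPair) ξ.fibFunctor := by
  refine ⟨fun {K} => ?_⟩
  have key : ∀ A B : (FEt X)ᵒᵖ, PreservesColimit (pair A B) ξ.fibFunctor := by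
    intro A B
    apply preservesColimit_of_preserves_colimit_cocone (H7_prodCofan_isColimit A B)
    have hA := (A.unop.property.2 ξ.base).1
    have hB := (B.unop.property.2 ξ.base).1
    exact (isColimitMapCoconeBinaryCofanEquiv ξ.fibFunctor (H7_fstFEt A.unop B.unop).op
      (H7_sndFEt A.unop B.unop).op).symm (H7_fintype_isColimit_cofan _ _
      (H7_fibMap_fst_injective ξ A.unop.obj B.unop.obj hA)
      (H7_fibMap_snd_injective ξ A.unop.obj B.unop.obj hB)
      (H7_fibMap_fst_ne_snd ξ A.unop.obj B.unop.obj hA hB)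
      (H7_fibMap_fst_snd_cover ξ A.unop.obj B.unop.obj hA hB)).some
  have := key (K.obj ⟨WalkingPair.left⟩) (K.obj ⟨WalkingPair.right⟩)
  exact preservesColimit_of_iso_diagram ξ.fibFunctor (diagramIsoPair K).symm

theorem H7_fib_zero_isEmpty : IsEmpty (ξ.Fib (H7_zeroAlg X)) := by
  let _ : Algebra (X.ring ξ.base) Ω := ξ.toField.toAlgebra
  have hsub : Subsingleton (Ω ⊗[X.ring ξ.base] (H7_zeroAlg X).carrier ξ.base) := by
    have : Subsingleton ((H7_zeroAlg X).carrier ξ.base) :=
      (inferInstance : Subsingleton PUnit.{u+1})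
    exact H7_tensor_subsingleton _ _
  refine ⟨fun x => ?_⟩
  have hx : (show PrimeSpectrum (Ω ⊗[X.ring ξ.base] (H7_zeroAlg X).carrier ξ.base) from x).asIdeal
      ≠ ⊤ := (show PrimeSpectrum (Ω ⊗[X.ring ξ.base] (H7_zeroAlg X).carrier ξ.base) from x).isPrime.ne_top
  exact hx (Subsingleton.elim _ _)

theorem H7_fibFunctor_preservesInitial :
    PreservesColimitsOfShape (Discrete PEmpty.{1}) ξ.fibFunctor := by
  have hT : IsTerminal (H7_termFEt X) := by
    refine IsTerminal.ofUniqueHom (fun A => ObjectProperty.homMk (H7_toZero A.obj)) ?_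
    intro A m
    apply ObjectProperty.hom_ext
    apply Alg.hom_ext
    intro p
    apply AlgHom.ext
    intro x
    rfl
  have hI : IsInitial (op (H7_termFEt X)) := initialOpOfTerminal hT
  have : IsEmpty (ξ.fibFunctor.obj (op (H7_termFEt X))) := H7_fib_zero_isEmpty ξ
  have hFI : IsInitial (ξ.fibFunctor.obj (op (H7_termFEt X))) := H7_fintype_isInitial _
  have : PreservesColimit (Functor.empty.{0} (FEt X)ᵒᵖ) ξ.fibFunctor :=
    preservesColimit_of_preserves_colimit_cocone hI
      ((isColimitMapCoconeEmptyCoconeEquiv ξ.fibFunctor (op (H7_termFEt X))).symm hFI)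
  exact preservesColimitsOfShape_pempty_of_preservesInitial ξ.fibFunctor

theorem H7_fibFunctor_preservesFiniteCoproducts : PreservesFiniteCoproducts ξ.fibFunctor := by
  have := H7_fibFunctor_preservesBinaryCoproducts ξ
  have := H7_fibFunctor_preservesInitial ξ
  have : HasTerminal (FEt X) := H7_hasTerminal X
  have : HasBinaryProducts (FEt X) := H7_hasBinaryProducts X
  have : HasFiniteProducts (FEt X) := hasFiniteProducts_of_has_binary_and_terminal
  have : HasFiniteCoproducts (FEt X)ᵒᵖ := inferInstance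
  exact ⟨fun n => preservesShape_fin_of_preserves_binary_and_initial ξ.fibFunctor n⟩

end


section popt
variable {X : RSpace.{u}} {C A B : Alg X} (D : H7_DiagData C) (f : C ⟶ A) (g : C ⟶ B) (p : X.pt)
  {W : Type u} [CommRing W] [Algebra (X.ring p) W]

theorem H7_po_pt_desc (α : A.carrier p →ₐ[X.ring p] W) (β : B.carrier p →ₐ[X.ring p] W)
    (h : α.comp (f.app p) = β.comp (g.app p)) :
    ∃ γ : (H7_poAlg D f g).carrier p →ₐ[X.ring p] W,
      γ.comp ((H7_poInl D f g).app p) = α ∧ γ.comp ((H7_poInr D f g).app p) = β := by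
  let d : (H7_tensAlg A B).carrier p →ₐ[X.ring p] W := Algebra.TensorProduct.productMap α β
  have hdtm : ∀ (a : A.carrier p) (b : B.carrier p), d (H7_tm A B p a b) = α a * β b := fun a b => rfl
  have hd : ∀ t : (H7_tensAlg C C).carrier p,
      d ((H7_tensMap f g).app p t) = α (f.app p ((H7_tensMul C).app p t)) := by
    intro t
    refine H7_ringHom_tensor_ext (d.toRingHom.comp ((H7_tensMap f g).app p).toRingHom)
      ((α.comp (f.app p)).toRingHom.comp ((H7_tensMul C).app p).toRingHom) (fun c c' => ?_) t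
    change d ((H7_tensMap f g).app p (H7_tm C C p c c')) =
      α (f.app p ((H7_tensMul C).app p (H7_tm C C p c c')))
    rw [H7_tensMap_tm, H7_tensMul_tm, map_mul, map_mul, hdtm]
    have h1 : β (g.app p c') = α (f.app p c') := (congrArg (fun k => k c') h).symm
    rw [h1]
  have hkill : d (H7_poIdem D f g p) = 0 := by
    unfold H7_poIdem
    rw [hd]
    have h2 : (H7_tensMul C).app p (D.ε p) = 0 := by
      have : D.ε p ∈ RingHom.ker ((H7_tensMul C).app p) := by
        rw [D.ker p]
        exact Ideal.subset_span rfl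
      exact this
    rw [h2, map_zero, map_zero]
  let γ : (H7_poAlg D f g).carrier p →ₐ[X.ring p] W :=
    Ideal.Quotient.liftₐ (Ideal.span {H7_poIdem D f g p}) d (by
      intro a ha
      obtain ⟨c, rfl⟩ := Ideal.mem_span_singleton'.mp ha
      rw [map_mul, hkill, mul_zero])
  refine ⟨γ, ?_, ?_⟩
  · apply AlgHom.ext
    intro a
    change d (H7_tm A B p a 1) = α a
    rw [hdtm, map_one, mul_one]
  · apply AlgHom.ext
    intro b
    change d (H7_tm A B p 1 b) = β b
    rw [hdtm, map_one, one_mul]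

theorem H7_po_pt_ext (γ γ' : (H7_poAlg D f g).carrier p →ₐ[X.ring p] W)
    (h1 : γ.comp ((H7_poInl D f g).app p) = γ'.comp ((H7_poInl D f g).app p))
    (h2 : γ.comp ((H7_poInr D f g).app p) = γ'.comp ((H7_poInr D f g).app p)) : γ = γ' := by
  apply AlgHom.ext
  intro x
  obtain ⟨t, rfl⟩ := Ideal.Quotient.mk_surjective x
  refine H7_ringHom_tensor_ext
    (γ.toRingHom.comp (Ideal.Quotient.mk (Ideal.span {H7_poIdem D f g p})))
    (γ'.toRingHom.comp (Ideal.Quotient.mk (Ideal.span {H7_poIdem D f g p}))) (fun a b => ?_) t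
  have e1 : γ (Ideal.Quotient.mk _ (H7_tm A B p a 1)) = γ' (Ideal.Quotient.mk _ (H7_tm A B p a 1)) :=
    congrArg (fun k => k a) h1
  have e2 : γ (Ideal.Quotient.mk _ (H7_tm A B p 1 b)) = γ' (Ideal.Quotient.mk _ (H7_tm A B p 1 b)) :=
    congrArg (fun k => k b) h2
  have hab : H7_tm A B p a b = H7_tm A B p a 1 * H7_tm A B p 1 b := by
    change a ⊗ₜ[X.ring p] b = (a ⊗ₜ[X.ring p] (1 : B.carrier p)) * ((1 : A.carrier p) ⊗ₜ[X.ring p] b)
    rw [Algebra.TensorProduct.tmul_mul_tmul, mul_one, one_mul]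
  have hm : ∀ (k : (H7_poAlg D f g).carrier p →ₐ[X.ring p] W)
      (u v : (H7_tensAlg A B).carrier p),
      k (Ideal.Quotient.mk (Ideal.span {H7_poIdem D f g p}) (u * v)) =
        k (Ideal.Quotient.mk (Ideal.span {H7_poIdem D f g p}) u) *
          k (Ideal.Quotient.mk (Ideal.span {H7_poIdem D f g p}) v) := by
    intro k u v
    have : (Ideal.Quotient.mk (Ideal.span {H7_poIdem D f g p}) (u * v) :
        (H7_poAlg D f g).carrier p) =
        (Ideal.Quotient.mk (Ideal.span {H7_poIdem D f g p}) u : (H7_poAlg D f g).carrier p) *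
          (Ideal.Quotient.mk (Ideal.span {H7_poIdem D f g p}) v : (H7_poAlg D f g).carrier p) :=
      map_mul _ u v
    rw [this]
    exact map_mul k _ _
  change γ (Ideal.Quotient.mk _ (H7_tm A B p a b)) = γ' (Ideal.Quotient.mk _ (H7_tm A B p a b))
  rw [hab, hm, hm, e1, e2]

end popt


section
variable {X : RSpace.{u}} {Ω : Type u} [Field Ω] [IsAlgClosed Ω] (ξ : GeomPt X Ω)

theorem H7_fib_po_existsUnique (hF : X.IsFinSp) {C A B : FEt X} (f : C ⟶ A) (g : C ⟶ B)
    (x : ξ.Fib A.obj) (y : ξ.Fib B.obj) (h : ξ.fibMap f.hom x = ξ.fibMap g.hom y) :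
    ∃! z : ξ.Fib (H7_poFEt hF f g).obj,
      ξ.fibMap (H7_poFEtInl hF f g).hom z = x ∧ ξ.fibMap (H7_poFEtInr hF f g).hom z = y := by
  let _ : Algebra (X.ring ξ.base) Ω := ξ.toField.toAlgebra
  have hA := (A.property.2 ξ.base).1
  have hB := (B.property.2 ξ.base).1
  have hP := ((H7_poFEt hF f g).property.2 ξ.base).1
  obtain ⟨α, rfl⟩ := H7_fibPt_surjective ξ A.obj hA x
  obtain ⟨β, rfl⟩ := H7_fibPt_surjective ξ B.obj hB y
  rw [H7_fibMap_fibPt, H7_fibMap_fibPt] at h
  have h2 : H7_homComp ξ f.hom α = H7_homComp ξ g.hom β := H7_fibPt_injective ξ _ h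
  have h3 : (α : A.obj.carrier ξ.base →ₐ[X.ring ξ.base] Ω).comp (f.hom.app ξ.base) =
      (β : B.obj.carrier ξ.base →ₐ[X.ring ξ.base] Ω).comp (g.hom.app ξ.base) := h2
  obtain ⟨γ, hγ1, hγ2⟩ := H7_po_pt_desc (H7_diagData hF C) f.hom g.hom ξ.base
    (α : A.obj.carrier ξ.base →ₐ[X.ring ξ.base] Ω) (β : B.obj.carrier ξ.base →ₐ[X.ring ξ.base] Ω) h3
  let γ0 : H7_HomΩ ξ (H7_poFEt hF f g).obj := γ
  have hγ1' : H7_homComp ξ (H7_poFEtInl hF f g).hom γ0 = α := hγ1
  have hγ2' : H7_homComp ξ (H7_poFEtInr hF f g).hom γ0 = β := hγ2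
  refine ⟨H7_fibPt ξ (H7_poFEt hF f g).obj γ0, ⟨?_, ?_⟩, ?_⟩
  · rw [H7_fibMap_fibPt, hγ1']
  · rw [H7_fibMap_fibPt, hγ2']
  · rintro z ⟨hz1, hz2⟩
    obtain ⟨γ', rfl⟩ := H7_fibPt_surjective ξ (H7_poFEt hF f g).obj hP z
    rw [H7_fibMap_fibPt] at hz1 hz2
    have k1 : H7_homComp ξ (H7_poFEtInl hF f g).hom γ' = α := H7_fibPt_injective ξ _ hz1
    have k2 : H7_homComp ξ (H7_poFEtInr hF f g).hom γ' = β := H7_fibPt_injective ξ _ hz2
    congr 1
    exact H7_po_pt_ext (H7_diagData hF C) f.hom g.hom ξ.base γ' γ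
      (k1.trans hγ1.symm) (k2.trans hγ2.symm)

/-- the opposite of the pushout is a pullback in the opposite category -/
noncomputable def H7_poOp_isLimit (hF : X.IsFinSp) {A B C : (FEt X)ᵒᵖ} (f' : A ⟶ C) (g' : B ⟶ C)
    (comm : (H7_poFEtInl hF f'.unop g'.unop).op ≫ f' = (H7_poFEtInr hF f'.unop g'.unop).op ≫ g') :
    IsLimit (PullbackCone.mk (H7_poFEtInl hF f'.unop g'.unop).op
      (H7_poFEtInr hF f'.unop g'.unop).op comm) :=
  PullbackCone.IsLimit.mk comm
    (fun s => (ObjectProperty.homMk (H7_poDesc (H7_diagData hF C.unop) f'.unop.hom g'.unop.hom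
      s.fst.unop.hom s.snd.unop.hom (congrArg (fun k => k.unop.hom) s.condition)) :
        H7_poFEt hF f'.unop g'.unop ⟶ s.pt.unop).op)
    (fun s => by
      apply Quiver.Hom.unop_inj
      apply ObjectProperty.hom_ext
      exact H7_poInl_desc (H7_diagData hF C.unop) f'.unop.hom g'.unop.hom s.fst.unop.hom
        s.snd.unop.hom (congrArg (fun k => k.unop.hom) s.condition))
    (fun s => by
      apply Quiver.Hom.unop_inj
      apply ObjectProperty.hom_ext
      exact H7_poInr_desc (H7_diagData hF C.unop) f'.unop.hom g'.unop.hom s.fst.unop.hom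
        s.snd.unop.hom (congrArg (fun k => k.unop.hom) s.condition))
    (fun s m h1 h2 => by
      apply Quiver.Hom.unop_inj
      apply ObjectProperty.hom_ext
      apply H7_po_hom_ext (H7_diagData hF C.unop) f'.unop.hom g'.unop.hom
      · have e1 := congrArg (fun k => k.unop.hom) h1
        refine Eq.trans e1 ?_
        exact (H7_poInl_desc (H7_diagData hF C.unop) f'.unop.hom g'.unop.hom s.fst.unop.hom
          s.snd.unop.hom (congrArg (fun k => k.unop.hom) s.condition)).symm
      · have e2 := congrArg (fun k => k.unop.hom) h2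
        refine Eq.trans e2 ?_
        exact (H7_poInr_desc (H7_diagData hF C.unop) f'.unop.hom g'.unop.hom s.fst.unop.hom
          s.snd.unop.hom (congrArg (fun k => k.unop.hom) s.condition)).symm)

theorem H7_fibFunctor_preservesPullbacks (hF : X.IsFinSp) :
    PreservesLimitsOfShape WalkingCospan ξ.fibFunctor := by
  refine ⟨fun {K} => ?_⟩
  have key : ∀ {A B C : (FEt X)ᵒᵖ} (f' : A ⟶ C) (g' : B ⟶ C),
      PreservesLimit (cospan f' g') ξ.fibFunctor := by
    intro A B C f' g'
    have comm : (H7_poFEtInl hF f'.unop g'.unop).op ≫ f' =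
        (H7_poFEtInr hF f'.unop g'.unop).op ≫ g' := by
      apply Quiver.Hom.unop_inj
      exact H7_poFEt_cond hF f'.unop g'.unop
    apply preservesLimit_of_preserves_limit_cone (H7_poOp_isLimit hF f' g' comm)
    refine (isLimitMapConePullbackConeEquiv ξ.fibFunctor comm).symm ?_
    exact (H7_fintype_isLimit_pullback _ _ _ _ _
      (fun x y h => H7_fib_po_existsUnique ξ hF f'.unop g'.unop x y h)).some
  have := key (K.map WalkingCospan.Hom.inl) (K.map WalkingCospan.Hom.inr)
  exact preservesLimit_of_iso_diagram ξ.fibFunctor (diagramIsoCospan K).symm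

theorem H7_S15633 (hX : X.IsSchematic) :
    PreservesLimitsOfShape (Discrete PEmpty.{1}) ξ.fibFunctor ∧
      PreservesLimitsOfShape WalkingCospan ξ.fibFunctor ∧
      PreservesFiniteCoproducts ξ.fibFunctor ∧ ξ.fibFunctor.PreservesEpimorphisms :=
  ⟨H7_fibFunctor_preservesTerminal ξ, H7_fibFunctor_preservesPullbacks ξ hX.1,
    H7_fibFunctor_preservesFiniteCoproducts ξ, H7_fibFunctor_preservesEpi ξ hX⟩

end

end Groth.Agent.Lib.helper7
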