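import Mathlib
import Groth.Prelude.Def_SchFin
import Groth.Prelude.Def_SchFin2
import Groth.Agent.Lib.helper7.SchFinInv
import Groth.Agent.Lib.helper7.EtaleOrbit
import Groth.Agent.Lib.helper7.SchFinS33
import Groth.Agent.Lib.helper7.SchFinS31
import Groth.Agent.Lib.helper7.SchFinS28

set_option autoImplicit false
universe u
open TensorProduct

namespace Groth.Agent.Lib.helper7
open SchFin CategoryTheory CategoryTheory.Limits Opposite

theorem H7_fintype_isColimit_singleObj {G : Type u} [Group G] (K : SingleObj G ⥤ FintypeCat.{u})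
    (c : Cocone K) (hsurj : Function.Surjective (c.ι.app (SingleObj.star G)))
    (horb : ∀ x y, c.ι.app (SingleObj.star G) x = c.ι.app (SingleObj.star G) y →
      ∃ g : G, K.map (show SingleObj.star G ⟶ SingleObj.star G from g) x = y) :
    Nonempty (IsColimit c) := by
  have hnat : ∀ (s : Cocone K) (g : G) (x : K.obj (SingleObj.star G)),
      s.ι.app (SingleObj.star G) (K.map (show SingleObj.star G ⟶ SingleObj.star G from g) x) =
        s.ι.app (SingleObj.star G) x := by
    intro s g x
    have := s.ι.naturality (show SingleObj.star G ⟶ SingleObj.star G from g)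
    exact ConcreteCategory.congr_hom this x
  refine ⟨{ desc := fun s => FintypeCat.homMk (fun q => s.ι.app (SingleObj.star G) (hsurj q).choose)
            fac := ?_
            uniq := ?_ }⟩
  · intro s j
    ext x
    change s.ι.app (SingleObj.star G) (hsurj (c.ι.app (SingleObj.star G) x)).choose =
      s.ι.app (SingleObj.star G) x
    obtain ⟨g, hg⟩ := horb _ _ (hsurj (c.ι.app (SingleObj.star G) x)).choose_spec
    exact (hnat s g _).symm.trans (congrArg (s.ι.app (SingleObj.star G)) hg)
  · intro s m hm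
    ext q
    change m q = s.ι.app (SingleObj.star G) (hsurj q).choose
    have h1 := ConcreteCategory.congr_hom (hm (SingleObj.star G)) (hsurj q).choose
    refine Eq.trans ?_ h1
    change m q = m (c.ι.app (SingleObj.star G) (hsurj q).choose)
    rw [(hsurj q).choose_spec]


section quot
variable {X : RSpace.{u}} {G : Type u} [Group G]

/-- the action on the value of a functor to the opposite category -/
def H7_actOfFunctorOp (F : SingleObj G ⥤ (FEt X)ᵒᵖ) :
    H7_Act (F.obj (SingleObj.star G)).unop.obj G where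
  act g := (F.map (show SingleObj.star G ⟶ SingleObj.star G from g⁻¹)).unop.hom
  act_one := by
    have h1 : (show SingleObj.star G ⟶ SingleObj.star G from (1 : G)⁻¹) =
        𝟙 (SingleObj.star G) := by
      rw [inv_one]
      rfl
    rw [h1, F.map_id]
    rfl
  act_mul g h := by
    have h1 : (show SingleObj.star G ⟶ SingleObj.star G from (g * h)⁻¹) =
        (show SingleObj.star G ⟶ SingleObj.star G from g⁻¹) ≫
          (show SingleObj.star G ⟶ SingleObj.star G from h⁻¹) := by
      rw [mul_inv_rev]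
      rfl
    rw [h1, F.map_comp]
    rfl

theorem H7_actOfFunctorOp_inv (F : SingleObj G ⥤ (FEt X)ᵒᵖ) (g : G) :
    (H7_actOfFunctorOp F).act g⁻¹ =
      (F.map (show SingleObj.star G ⟶ SingleObj.star G from g)).unop.hom := by
  change (F.map (show SingleObj.star G ⟶ SingleObj.star G from g⁻¹⁻¹)).unop.hom = _
  rw [inv_inv]

variable [Finite G] (hF : X.IsFinSp) (F : SingleObj G ⥤ (FEt X)ᵒᵖ)
  (hlt : ∃ (B : Alg X) (n : ℕ), B.IsCovering ∧
      ∀ p : X.pt, Nonempty (TensorProduct (X.ring p) (B.carrier p)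
        ((F.obj (SingleObj.star G)).unop.obj.carrier p) ≃ₐ[B.carrier p] (Fin n → B.carrier p)))

/-- the cover of invariants -/
def H7_quotFEt : FEt X :=
  ⟨H7_invAlg (H7_actOfFunctorOp F),
    H7_invAlg_isEtCover (H7_actOfFunctorOp F) hF (F.obj (SingleObj.star G)).unop.property hlt⟩

/-- the quotient cocone -/
def H7_quotCocone : Cocone F where
  pt := op (H7_quotFEt hF F hlt)
  ι :=
    { app := fun _ => (ObjectProperty.homMk (H7_invIncl (H7_actOfFunctorOp F)) :
        H7_quotFEt hF F hlt ⟶ (F.obj (SingleObj.star G)).unop).op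
      naturality := by
        intro j j' g
        apply Quiver.Hom.unop_inj
        apply ObjectProperty.hom_ext
        change H7_invIncl (H7_actOfFunctorOp F) ≫
            (F.map (show SingleObj.star G ⟶ SingleObj.star G from g)).unop.hom =
          (𝟙 _ ≫ H7_invIncl (H7_actOfFunctorOp F))
        rw [Category.id_comp, ← H7_actOfFunctorOp_inv, H7_invIncl_act] }

/-- the quotient cocone is a colimit -/
def H7_quotCocone_isColimit : IsColimit (H7_quotCocone hF F hlt) := by
  have hk : ∀ (s : Cocone F) (g : G), (s.ι.app (SingleObj.star G)).unop.hom ≫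
      (H7_actOfFunctorOp F).act g = (s.ι.app (SingleObj.star G)).unop.hom := by
    intro s g
    have := s.ι.naturality (show SingleObj.star G ⟶ SingleObj.star G from g⁻¹)
    have h2 := congrArg (fun k => k.unop.hom) this
    change (s.ι.app (SingleObj.star G)).unop.hom ≫ (H7_actOfFunctorOp F).act g =
      𝟙 _ ≫ (s.ι.app (SingleObj.star G)).unop.hom at h2
    rw [Category.id_comp] at h2
    exact h2
  exact
    { desc := fun s => (ObjectProperty.homMk (H7_invLift (H7_actOfFunctorOp F)
        (s.ι.app (SingleObj.star G)).unop.hom (hk s)) : s.pt.unop ⟶ H7_quotFEt hF F hlt).op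
      fac := by
        intro s j
        apply Quiver.Hom.unop_inj
        apply ObjectProperty.hom_ext
        exact H7_invLift_incl (H7_actOfFunctorOp F) (s.ι.app (SingleObj.star G)).unop.hom (hk s)
      uniq := by
        intro s m hm
        apply Quiver.Hom.unop_inj
        apply ObjectProperty.hom_ext
        apply H7_invIncl_mono (H7_actOfFunctorOp F)
        have h1 := congrArg (fun k => k.unop.hom) (hm (SingleObj.star G))
        refine Eq.trans h1 ?_
        exact (H7_invLift_incl (H7_actOfFunctorOp F) (s.ι.app (SingleObj.star G)).unop.hom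
          (hk s)).symm }


variable {Ω : Type u} [Field Ω] [IsAlgClosed Ω] (ξ : GeomPt X Ω)

include hF hlt in
theorem H7_fibMap_invIncl_surjective :
    Function.Surjective (ξ.fibMap (H7_invIncl (H7_actOfFunctorOp F))) := by
  let _ : Algebra (X.ring ξ.base) Ω := ξ.toField.toAlgebra
  have hL := (H7_quotFEt hF F hlt).property
  have h1 := ((F.obj (SingleObj.star G)).unop.property.2 ξ.base).1
  have h2 := ((F.obj (SingleObj.star G)).unop.property.2 ξ.base).2
  have h3 : Module.Finite (X.ring ξ.base) (H7_fixSub ((H7_actOfFunctorOp F).pt ξ.base)) :=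
    (hL.2 ξ.base).1
  have h4 : Algebra.Etale (X.ring ξ.base) (H7_fixSub ((H7_actOfFunctorOp F).pt ξ.base)) :=
    (hL.2 ξ.base).2
  exact H7_comap_surjective_of_inj (Ω := Ω)
    (H7_fixSub ((H7_actOfFunctorOp F).pt ξ.base)).val Subtype.val_injective

include hlt in
theorem H7_fibMap_invIncl_orbit (x y : ξ.Fib (F.obj (SingleObj.star G)).unop.obj)
    (h : ξ.fibMap (H7_invIncl (H7_actOfFunctorOp F)) x =
      ξ.fibMap (H7_invIncl (H7_actOfFunctorOp F)) y) :
    ∃ g : G, ξ.fibMap ((H7_actOfFunctorOp F).act g) x = y := by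
  let _ : Algebra (X.ring ξ.base) Ω := ξ.toField.toAlgebra
  have hA := ((F.obj (SingleObj.star G)).unop.property.2 ξ.base).1
  obtain ⟨α, rfl⟩ := H7_fibPt_surjective ξ _ hA x
  obtain ⟨α', rfl⟩ := H7_fibPt_surjective ξ _ hA y
  rw [H7_fibMap_fibPt, H7_fibMap_fibPt] at h
  have h2 := H7_fibPt_injective ξ _ h
  obtain ⟨B, n, hB, hτ⟩ := hlt
  obtain ⟨τ⟩ := hτ ξ.base
  have := (hB.2 ξ.base).1
  have := (hB.2 ξ.base).2
  have hag : ∀ z : H7_fixSub ((H7_actOfFunctorOp F).pt ξ.base),
      (α : (F.obj (SingleObj.star G)).unop.obj.carrier ξ.base →ₐ[X.ring ξ.base] Ω) z.1 =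
        (α' : (F.obj (SingleObj.star G)).unop.obj.carrier ξ.base →ₐ[X.ring ξ.base] Ω) z.1 := by
    intro z
    exact congrArg (fun φ : H7_HomΩ ξ (H7_invAlg (H7_actOfFunctorOp F)) => φ z) h2
  obtain ⟨g, hg⟩ := H7_orbit_of_agree' ((H7_actOfFunctorOp F).pt ξ.base) τ
    (α : (F.obj (SingleObj.star G)).unop.obj.carrier ξ.base →ₐ[X.ring ξ.base] Ω)
    (α' : (F.obj (SingleObj.star G)).unop.obj.carrier ξ.base →ₐ[X.ring ξ.base] Ω) hag
  refine ⟨g, ?_⟩
  rw [H7_fibMap_fibPt]
  congr 1
  exact hg.symm

include hF hlt in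
theorem H7_fibFunctor_preserves_quot : PreservesColimit F ξ.fibFunctor := by
  apply preservesColimit_of_preserves_colimit_cocone (H7_quotCocone_isColimit hF F hlt)
  refine (H7_fintype_isColimit_singleObj (F ⋙ ξ.fibFunctor)
    (ξ.fibFunctor.mapCocone (H7_quotCocone hF F hlt)) ?_ ?_).some
  · exact H7_fibMap_invIncl_surjective hF F hlt ξ
  · intro x y hxy
    obtain ⟨g, hg⟩ := H7_fibMap_invIncl_orbit F hlt ξ x y hxy
    refine ⟨g⁻¹, ?_⟩
    rw [← hg]
    change ξ.fibMap (F.map (show SingleObj.star G ⟶ SingleObj.star G from g⁻¹)).unop.hom x =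
      ξ.fibMap ((H7_actOfFunctorOp F).act g) x
    rfl

end quot


/-- the opposite of a binary product is a binary coproduct -/
def H7_binaryCofan_op {C : Type*} [Category C] {P A D : C} (f : P ⟶ A) (π : P ⟶ D)
    (h : IsLimit (BinaryFan.mk f π)) : IsColimit (BinaryCofan.mk f.op π.op) :=
  BinaryCofan.IsColimit.mk _
    (fun {T} a b => (BinaryFan.IsLimit.lift' h a.unop b.unop).1.op)
    (fun {T} a b => by
      apply Quiver.Hom.unop_inj
      exact (BinaryFan.IsLimit.lift' h a.unop b.unop).2.1)
    (fun {T} a b => by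
      apply Quiver.Hom.unop_inj
      exact (BinaryFan.IsLimit.lift' h a.unop b.unop).2.2)
    (fun {T} a b m h1 h2 => by
      apply Quiver.Hom.unop_inj
      apply BinaryFan.IsLimit.hom_ext h
      · have e1 := congrArg Quiver.Hom.unop h1
        exact e1.trans (BinaryFan.IsLimit.lift' h a.unop b.unop).2.1.symm
      · have e2 := congrArg Quiver.Hom.unop h2
        exact e2.trans (BinaryFan.IsLimit.lift' h a.unop b.unop).2.2.symm)

theorem H7_S15632 (X : RSpace.{u}) (hX : X.IsSchematic)
    (hwc : X.IsWellConnected)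
    (hlt : ∀ A : FEt X, ∃ (B : Alg X) (n : ℕ), B.IsCovering ∧
      ∀ p : X.pt, Nonempty (TensorProduct (X.ring p) (B.carrier p) (A.obj.carrier p) ≃ₐ[B.carrier p] (Fin n → B.carrier p)))
    (hepi : ∀ (A B : FEt X) (f : A ⟶ B), Epi f → ∀ p : X.pt, Function.Surjective (f.hom.app p))
    {Ω : Type u} [Field Ω] [IsAlgClosed Ω] (ξ : GeomPt X Ω) :
    ∃ h : PreGaloisCategory (FEt X)ᵒᵖ, @PreGaloisCategory.FiberFunctor (FEt X)ᵒᵖ _ h ξ.fibFunctor := by
  have hF := hX.1
  have i1 : HasInitial (FEt X) := (H7_S15621 X hX).1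
  have i2 : HasPushouts (FEt X) := (H7_S15621 X hX).2
  have i3 : HasTerminal (FEt X) := H7_hasTerminal X
  have i4 : HasBinaryProducts (FEt X) := H7_hasBinaryProducts X
  have i5 : HasFiniteProducts (FEt X) := hasFiniteProducts_of_has_binary_and_terminal
  have h : PreGaloisCategory (FEt X)ᵒᵖ :=
    { hasTerminal := inferInstance
      hasPullbacks := inferInstance
      hasFiniteCoproducts := inferInstance
      hasQuotientsByFiniteGroups := fun G _ _ =>
        ⟨fun F => HasColimit.mk ⟨_, H7_quotCocone_isColimit hF F (hlt _)⟩⟩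
      monoInducesIsoOnDirectSummand := by
        intro A' B' i hi
        have hepi' : Epi i.unop := inferInstance
        obtain ⟨D, π, ⟨hlim⟩⟩ := H7_S15628 X hX i.unop (hepi _ _ i.unop hepi')
        exact ⟨op D, π.op, ⟨H7_binaryCofan_op i.unop π hlim⟩⟩ }
  refine ⟨h, ?_⟩
  exact
    { preservesTerminalObjects := (H7_S15633 ξ hX).1
      preservesPullbacks := (H7_S15633 ξ hX).2.1
      preservesFiniteCoproducts := (H7_S15633 ξ hX).2.2.1
      preservesEpis := (H7_S15633 ξ hX).2.2.2
      preservesQuotientsByFiniteGroups := fun G _ _ =>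
        ⟨fun {F} => H7_fibFunctor_preserves_quot hF F (hlt _) ξ⟩
      reflectsIsos := H7_S15631 X hX hwc ξ }

end Groth.Agent.Lib.helper7
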