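import Mathlib
import Groth.Prelude.Def_SchFin
import Groth.Prelude.Def_SchFin2
import Groth.Agent.Lib.helper7.SchFinConn

set_option autoImplicit false
universe u

namespace Groth.Agent.Lib.helper7

open SchFin

theorem H7_algHom_pi_eval {R : Type*} [CommRing R] (hR : ConnectedSpace (PrimeSpectrum R))
    {F : Type*} [Finite F] (χ : (F → R) →ₐ[R] R) : ∃ i : F, ∀ g, χ g = g i := by
  classical
  have := Fintype.ofFinite F
  obtain ⟨hnt, hid⟩ := (H7_connSpec_iff R).mp hR
  have hidem : ∀ i : F, IsIdempotentElem (χ (Pi.single i (1 : R))) := by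
    intro i
    change χ _ * χ _ = χ _
    rw [← map_mul, ← Pi.single_mul, mul_one]
  have hsum : ∑ i, χ (Pi.single i (1 : R)) = 1 := by
    rw [← map_sum]
    have : ∑ i, (Pi.single i (1 : R) : F → R) = 1 := by
      funext j
      rw [Finset.sum_apply]
      simp [Pi.single_apply]
    rw [this, map_one]
  have hex : ∃ i : F, χ (Pi.single i (1 : R)) = 1 := by
    by_contra hne
    push Not at hne
    have h0 : ∀ i, χ (Pi.single i (1 : R)) = 0 := fun i =>
      (hid _ (hidem i)).resolve_right (hne i)
    rw [Finset.sum_congr rfl (fun i _ => h0 i), Finset.sum_const_zero] at hsum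
    exact zero_ne_one hsum
  obtain ⟨i, hi⟩ := hex
  refine ⟨i, fun g => ?_⟩
  have horth : ∀ j, j ≠ i → χ (Pi.single j (1 : R)) = 0 := by
    intro j hj
    have : χ (Pi.single j (1 : R)) * χ (Pi.single i (1 : R)) = 0 := by
      rw [← map_mul]
      have : (Pi.single j (1 : R) : F → R) * Pi.single i (1 : R) = 0 := by
        funext k
        simp only [Pi.mul_apply, Pi.single_apply, Pi.zero_apply]
        by_cases hk : k = j
        · rw [if_pos hk, if_neg (fun h => hj (hk.symm.trans h)), mul_zero]
        · rw [if_neg hk, zero_mul]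
      rw [this, map_zero]
    rwa [hi, mul_one] at this
  have hg : g = ∑ j, g j • (Pi.single j (1 : R) : F → R) := by
    funext k
    rw [Finset.sum_apply]
    simp [Pi.single_apply]
  conv_lhs => rw [hg]
  rw [map_sum]
  simp only [map_smul, smul_eq_mul]
  rw [Finset.sum_eq_single i]
  · rw [hi, mul_one]
  · intro j _ hj
    rw [horth j hj, mul_zero]
  · intro h
    exact absurd (Finset.mem_univ i) h

theorem H7_S19550 (X : RSpace.{u}) (hW : X.IsWellConnected) (F E : Type) [Finite F] [Finite E]
    (f : ∀ p : X.pt, (F → X.ring p) →ₐ[X.ring p] (E → X.ring p))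
    (hf : ∀ (p q : X.pt) (h : p ≤ q) (g : F → X.ring p) (e : E),
      X.res h (f p g e) = f q (fun i => X.res h (g i)) e) :
    ∃ φ : E → F, ∀ (p : X.pt) (g : F → X.ring p) (e : E), f p g e = g (φ e) := by
  classical
  obtain ⟨hT, hP⟩ := (H7_S15610 X).mp hW
  have hnt : ∀ p : X.pt, Nontrivial (X.ring p) := fun p => ((H7_connSpec_iff _).mp (hP p)).1
  have hloc : ∀ (p : X.pt) (e : E), ∃ i : F, ∀ g : F → X.ring p, f p g e = g i := by
    intro p e
    exact H7_algHom_pi_eval (hP p) ((Pi.evalAlgHom (X.ring p) (fun _ : E => X.ring p) e).comp (f p))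
  choose ψ hψ using hloc
  have hstep : ∀ (p q : X.pt), p ≤ q → ∀ e, ψ p e = ψ q e := by
    intro p q hpq e
    have h1 := hf p q hpq (Pi.single (ψ p e) 1) e
    rw [hψ p e, hψ q e, Pi.single_eq_same, map_one] at h1
    by_contra hne
    rw [Pi.single_eq_of_ne (fun h => hne h.symm), map_zero] at h1
    exact one_ne_zero h1
  have hall : ∀ p q : X.pt, Relation.EqvGen (fun a b : X.pt => a ≤ b) p q → ∀ e, ψ p e = ψ q e := by
    intro p q hpq
    induction hpq with
    | rel a b h => exact hstep a b h
    | refl a => exact fun _ => rfl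
    | symm a b _ ih => exact fun e => (ih e).symm
    | trans a b c _ _ ih1 ih2 => exact fun e => (ih1 e).trans (ih2 e)
  obtain ⟨⟨p0⟩, hconn⟩ := hT
  refine ⟨ψ p0, fun p g e => ?_⟩
  rw [hψ p e, hall p p0 (hconn p p0) e]

end Groth.Agent.Lib.helper7
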