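import Mathlib
universe u v w
open Matrix
namespace Groth.Agent.Lib.helper7

theorem H7_S13631
    {k : Type u} {R : Type v} {M : Type w} [Field k] [CommRing R] [IsDomain R] [Algebra k R]
    (hR : ¬ Module.Finite k R)
    [AddCommGroup M] [Module R M] [Module k M] [IsScalarTower k R M]
    [Module.Finite R M] [Module.Free R M]
    (σ : R ≃+* R)
    (φ : M →ₛₗ[(σ : R →+* R)] M)
    (hcoker : ∃ N : Submodule k M, N.FG ∧ ∀ m : M, ∃ n ∈ N, ∃ m' : M, m = n + φ m') :
    Function.Injective φ := by
  classical
  by_contra hinj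
  obtain ⟨N, hNfg, hN⟩ := hcoker
  let ι := Module.Free.ChooseBasisIndex R M
  let b : Module.Basis ι R M := Module.Free.chooseBasis R M
  -- a nonzero kernel element
  have hex : ∃ m0 : M, m0 ≠ 0 ∧ φ m0 = 0 := by
    by_contra hcon
    push Not at hcon
    apply hinj
    intro x y hxy
    by_contra hne
    exact hcon (x - y) (sub_ne_zero.2 hne) (by rw [map_sub, hxy, sub_self])
  obtain ⟨m0, hm0, hφm0⟩ := hex
  have hφ : ∀ m : M, φ m = ∑ i, σ (b.repr m i) • φ (b i) := by
    intro m
    conv_lhs => rw [← b.sum_repr m]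
    rw [map_sum]
    apply Finset.sum_congr rfl
    intro i _
    rw [φ.map_smulₛₗ]
    rfl
  let Amat : Matrix ι ι R := fun i j => b.repr (φ (b i)) j
  have hdet : Amat.det = 0 := by
    rw [← Matrix.exists_vecMul_eq_zero_iff]
    refine ⟨fun i => σ (b.repr m0 i), ?_, ?_⟩
    · intro h0
      apply hm0
      apply b.repr.injective
      ext i
      have := congrFun h0 i
      simp only [Pi.zero_apply] at this
      rw [map_zero, Finsupp.zero_apply]
      exact (map_eq_zero_iff σ σ.injective).1 this
    · ext j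
      rw [Matrix.vecMul, Pi.zero_apply]
      have := congrArg (fun x => b.repr x j) (hφ m0)
      simp only [hφm0, map_zero, Finsupp.zero_apply, map_sum, map_smul, Finsupp.coe_finset_sum,
        Finset.sum_apply, Finsupp.smul_apply, smul_eq_mul] at this
      rw [this]
      rfl
  obtain ⟨wv, hw0, hwv⟩ := Matrix.exists_mulVec_eq_zero_iff.2 hdet
  -- the functional
  let lam : M →ₗ[R] R := ∑ j, wv j • b.coord j
  have hlam_apply : ∀ m, lam m = ∑ j, wv j * b.repr m j := by
    intro m
    simp [lam, LinearMap.sum_apply]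
  have hlam_b : ∀ i, lam (φ (b i)) = 0 := by
    intro i
    rw [hlam_apply]
    have := congrFun hwv i
    rw [Matrix.mulVec, Pi.zero_apply] at this
    rw [← this]
    apply Finset.sum_congr rfl
    intro j _
    rw [mul_comm]
  have hlam_φ : ∀ m, lam (φ m) = 0 := by
    intro m
    rw [hφ m, map_sum]
    apply Finset.sum_eq_zero
    intro i _
    rw [map_smul, hlam_b, smul_zero]
  obtain ⟨j0, hj0⟩ : ∃ j, wv j ≠ 0 := by
    by_contra hcon
    push Not at hcon
    exact hw0 (funext hcon)
  have hlam_j0 : ∀ x : R, lam (x • b j0) = x * wv j0 := by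
    intro x
    rw [map_smul, hlam_apply, smul_eq_mul]
    congr 1
    rw [Finset.sum_eq_single j0]
    · simp
    · intro j _ hj
      rw [b.repr_self, Finsupp.single_apply, if_neg (Ne.symm hj), mul_zero]
    · intro h; exact absurd (Finset.mem_univ _) h
  let lamk : M →ₗ[k] R := lam.restrictScalars k
  let W : Submodule k R := N.map lamk
  have hWfg : W.FG := hNfg.map lamk
  have hWfin : Module.Finite k W := Module.Finite.iff_fg.2 hWfg
  let μ : R →ₗ[k] R := (LinearMap.mulRight k (wv j0))
  have hμ : ∀ x, μ x = x * wv j0 := fun x => rfl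
  have hμW : ∀ x, μ x ∈ W := by
    intro x
    obtain ⟨n, hn, m', hm'⟩ := hN (x • b j0)
    refine ⟨n, hn, ?_⟩
    show lam n = x * wv j0
    rw [← hlam_j0 x, hm', map_add, hlam_φ, add_zero]
  let μ' : R →ₗ[k] W := μ.codRestrict W hμW
  have hμ'inj : Function.Injective μ' := by
    intro x y hxy
    have := congrArg (fun z : W => (z : R)) hxy
    simp only [μ', LinearMap.codRestrict_apply, hμ] at this
    exact mul_right_cancel₀ hj0 this
  exact hR (Module.Finite.of_injective μ' hμ'inj)

end Groth.Agent.Lib.helper7
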