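import Mathlib
universe u v w
open scoped TensorProduct
namespace Groth.Agent.Lib.helper7

theorem H7_S18908 (k : Type u) (K : Type v) (Ω : Type w)
    [Field k] [Field K] [Algebra k K] [FiniteDimensional k K]
    [Field Ω] [Algebra k Ω] [IsAlgClosed Ω] :
    Algebra.IsSeparable k K ↔ Nonempty ((Ω ⊗[k] K) ≃ₐ[Ω] (Fin (Module.finrank k K) → Ω)) := by
  classical
  constructor
  · intro hsep
    have h1 : Algebra.FormallyEtale k K := Algebra.FormallyEtale.of_isSeparable k K
    have h2 : Algebra.FormallyEtale Ω (Ω ⊗[k] K) := inferInstance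
    have h3 : Module.Finite Ω (Ω ⊗[k] K) := inferInstance
    have h4 : Algebra.EssFiniteType Ω (Ω ⊗[k] K) := inferInstance
    let e := Algebra.FormallyEtale.equivPiOfIsSepClosed Ω (Ω ⊗[k] K)
    have _ : IsArtinianRing (Ω ⊗[k] K) := IsArtinianRing.of_finite Ω _
    have _ : Fintype (PrimeSpectrum (Ω ⊗[k] K)) := Fintype.ofFinite _
    have hcard : Fintype.card (PrimeSpectrum (Ω ⊗[k] K)) = Module.finrank k K := by
      have := e.toLinearEquiv.finrank_eq
      rw [Module.finrank_baseChange, Module.finrank_pi] at this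
      exact this.symm
    let σ : Fin (Module.finrank k K) ≃ PrimeSpectrum (Ω ⊗[k] K) :=
      (Fintype.equivFinOfCardEq hcard).symm
    exact ⟨e.trans (AlgEquiv.piCongrLeft' Ω (fun _ => Ω) σ.symm)⟩
  · rintro ⟨e⟩
    rw [← Field.finSepDegree_eq_finrank_iff]
    apply le_antisymm (Field.finSepDegree_le_finrank k K)
    rw [Field.finSepDegree_eq_of_isAlgClosed k K Ω]
    let φ : Fin (Module.finrank k K) → (K →ₐ[k] Ω) := fun i =>
      (((Pi.evalAlgHom Ω (fun _ : Fin (Module.finrank k K) => Ω) i).comp
        (e : (Ω ⊗[k] K) →ₐ[Ω] (Fin (Module.finrank k K) → Ω))).restrictScalars k).comp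
        (Algebra.TensorProduct.includeRight)
    have hφ : Function.Injective φ := by
      intro i j hij
      have h1 : (Pi.evalAlgHom Ω (fun _ : Fin (Module.finrank k K) => Ω) i).comp
          (e : (Ω ⊗[k] K) →ₐ[Ω] (Fin (Module.finrank k K) → Ω)) =
          (Pi.evalAlgHom Ω (fun _ : Fin (Module.finrank k K) => Ω) j).comp
          (e : (Ω ⊗[k] K) →ₐ[Ω] (Fin (Module.finrank k K) → Ω)) := by
        apply Algebra.TensorProduct.ext'
        intro a b
        have := DFunLike.congr_fun hij b
        simp only [φ, AlgHom.comp_apply, AlgHom.restrictScalars_apply,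
          Algebra.TensorProduct.includeRight_apply] at this
        have hab : a ⊗ₜ[k] b = a • ((1 : Ω) ⊗ₜ[k] b) := by
          rw [TensorProduct.smul_tmul', smul_eq_mul, mul_one]
        rw [hab, map_smul, map_smul]
        congr 1
      have h2 := DFunLike.congr_fun h1 (e.symm (Pi.single i 1))
      have h3 : (e : (Ω ⊗[k] K) →ₐ[Ω] (Fin (Module.finrank k K) → Ω)) (e.symm (Pi.single i 1)) =
          Pi.single i 1 := e.apply_symm_apply _
      simp only [AlgHom.comp_apply, Pi.evalAlgHom_apply] at h2
      rw [h3, Pi.single_eq_same] at h2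
      by_contra hne
      rw [Pi.single_eq_of_ne (Ne.symm hne)] at h2
      exact one_ne_zero h2
    have hfin : Finite (K →ₐ[k] Ω) := inferInstance
    have := Nat.card_le_card_of_injective φ hφ
    rwa [Nat.card_eq_fintype_card, Fintype.card_fin] at this

end Groth.Agent.Lib.helper7
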