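import Mathlib
import Groth.Prelude.Def_W4c2movlemaddchowShuffle

set_option autoImplicit false
set_option linter.unusedSectionVars false

namespace Groth.Agent.Lib.helper7

open Equiv W4c2movlemaddchow

/-- a monotone permutation of `Fin m` is the identity. -/
theorem H7_perm_eq_one_of_monotone {m : ℕ} (π : Perm (Fin m)) (h : Monotone π) : π = 1 := by
  have hs : StrictMono π := h.strictMono_of_injective π.injective
  apply Equiv.ext
  intro i
  exact le_antisymm hs.apply_le hs.le_apply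

/-- Abstract shuffle decomposition. -/
theorem H7_shuffle_bijOn {n m a b : ℕ} (ι : Fin m → Fin n) (hι : Function.Injective ι)
    (κ₁ : Fin a → Fin m) (κ₂ : Fin b → Fin m)
    (ext : Perm (Fin m) →* Perm (Fin n)) (hext : ∀ π j, ext π (ι j) = ι (π j))
    (C : Perm (Fin n) → Prop) (hC : ∀ τ π, C (τ * ext π) ↔ C τ) :
    Set.BijOn (fun p : Perm (Fin n) × Perm (Fin m) => p.1 * ext p.2)
      ({τ : Perm (Fin n) | Monotone (τ ∘ ι) ∧ C τ} ×ˢ
        {σ : Perm (Fin m) | Monotone (σ ∘ κ₁) ∧ Monotone (σ ∘ κ₂)})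
      {ν : Perm (Fin n) | Monotone (ν ∘ ι ∘ κ₁) ∧ Monotone (ν ∘ ι ∘ κ₂) ∧ C ν} := by
  refine ⟨?_, ?_, ?_⟩
  · rintro ⟨τ, σ⟩ ⟨⟨hτ, hτC⟩, hσ1, hσ2⟩
    refine ⟨?_, ?_, (hC τ σ).mpr hτC⟩
    · intro i j hij
      change τ (ext σ (ι (κ₁ i))) ≤ τ (ext σ (ι (κ₁ j)))
      rw [hext, hext]
      exact hτ (hσ1 hij)
    · intro i j hij
      change τ (ext σ (ι (κ₂ i))) ≤ τ (ext σ (ι (κ₂ j)))
      rw [hext, hext]
      exact hτ (hσ2 hij)
  · rintro ⟨τ, σ⟩ ⟨⟨hτ, -⟩, -⟩ ⟨τ', σ'⟩ ⟨⟨hτ', -⟩, -⟩ heq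
    have heq' : τ * ext σ = τ' * ext σ' := heq
    have hτeq : τ = τ' * ext (σ' * σ⁻¹) := by
      rw [map_mul, map_inv, ← mul_assoc, ← heq', mul_assoc, mul_inv_cancel, mul_one]
    have hπ : σ' * σ⁻¹ = 1 := by
      apply H7_perm_eq_one_of_monotone
      intro i j hij
      by_contra hlt
      push Not at hlt
      have hne : i ≠ j := fun h => by subst h; exact lt_irrefl _ hlt
      have hij' : i < j := lt_of_le_of_ne hij hne
      have hs' : StrictMono (τ' ∘ ι) := hτ'.strictMono_of_injective (τ'.injective.comp hι)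
      have h1 : τ (ι i) = τ' (ι ((σ' * σ⁻¹) i)) := by
        rw [hτeq, Perm.mul_apply, hext]
      have h2 : τ (ι j) = τ' (ι ((σ' * σ⁻¹) j)) := by
        rw [hτeq, Perm.mul_apply, hext]
      have h3 : τ (ι j) < τ (ι i) := by
        rw [h1, h2]; exact hs' hlt
      exact absurd (hτ hij) (not_le.mpr h3)
    have hσ : σ' = σ := by
      rw [mul_inv_eq_one] at hπ; exact hπ
    subst hσ
    have : τ = τ' := by
      rw [hτeq, mul_inv_cancel, map_one, mul_one]
    subst this
    rfl
  · rintro ν ⟨hν1, hν2, hνC⟩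
    let f : Fin m → Fin n := ν ∘ ι
    have hf : Function.Injective f := ν.injective.comp hι
    let π : Perm (Fin m) := Tuple.sort f
    have hmono : Monotone (f ∘ π) := Tuple.monotone_sort f
    have hs : StrictMono (f ∘ π) := hmono.strictMono_of_injective (hf.comp π.injective)
    refine ⟨(ν * ext π, π⁻¹), ⟨⟨?_, (hC ν π).mpr hνC⟩, ?_, ?_⟩, ?_⟩
    · intro i j hij
      change ν (ext π (ι i)) ≤ ν (ext π (ι j))
      rw [hext, hext]
      exact hmono hij
    · intro i j hij
      by_contra hlt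
      push Not at hlt
      have hcancel : ∀ x, π (π⁻¹ x) = x := fun x => by
        rw [← Perm.mul_apply, mul_inv_cancel, Perm.one_apply]
      have := hs hlt
      simp only [Function.comp_apply, hcancel] at this
      exact absurd (hν1 hij) (not_le.mpr this)
    · intro i j hij
      by_contra hlt
      push Not at hlt
      have hcancel : ∀ x, π (π⁻¹ x) = x := fun x => by
        rw [← Perm.mul_apply, mul_inv_cancel, Perm.one_apply]
      have := hs hlt
      simp only [Function.comp_apply, hcancel] at this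
      exact absurd (hν2 hij) (not_le.mpr this)
    · change ν * ext π * ext π⁻¹ = ν
      rw [mul_assoc, ← map_mul, mul_inv_cancel, map_one, mul_one]

/-! ### `extRight` -/

theorem H7_extRight_castAdd (a t : ℕ) (σ : Perm (Fin a)) (i : Fin a) :
    extRight a t σ (Fin.castAdd t i) = Fin.castAdd t (σ i) := by
  simp [extRight, Equiv.permCongr_apply]

theorem H7_extRight_natAdd (a t : ℕ) (σ : Perm (Fin a)) (l : Fin t) :
    extRight a t σ (Fin.natAdd a l) = Fin.natAdd a l := by
  simp [extRight, Equiv.permCongr_apply]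

/-- `extRight` as a monoid hom. -/
def H7_extRightHom (a t : ℕ) : Perm (Fin a) →* Perm (Fin (a + t)) where
  toFun := extRight a t
  map_one' := by
    ext x
    simp [extRight, Equiv.permCongr_apply]
  map_mul' σ τ := by
    ext x
    simp only [extRight, Equiv.permCongr_apply, Perm.mul_apply, Equiv.symm_apply_apply]
    rcases finSumFinEquiv.symm x with y | y <;> simp

theorem H7_sign_extRight (a t : ℕ) (σ : Perm (Fin a)) : Perm.sign (extRight a t σ) = Perm.sign σ := by
  simp [extRight]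

theorem H7_S15080 (r s t : ℕ) :
    Set.BijOn
      (fun p : Equiv.Perm (Fin (r + s + t)) × Equiv.Perm (Fin (r + s)) =>
        p.1 * W4c2movlemaddchow.extRight (r + s) t p.2)
      ({τ | W4c2movlemaddchow.IsShuffle₂ (r + s) t τ} ×ˢ {σ | W4c2movlemaddchow.IsShuffle₂ r s σ})
      {ν | W4c2movlemaddchow.IsShuffle₃ r s t ν} := by
  exact H7_shuffle_bijOn (Fin.castAdd t) (Fin.castAdd_injective _ _) (Fin.castAdd s) (Fin.natAdd r)
    (H7_extRightHom (r + s) t) (fun π j => H7_extRight_castAdd _ _ π j)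
    (fun τ => Monotone (fun l : Fin t => τ (Fin.natAdd (r + s) l)))
    (fun τ π => by
      have : ∀ l : Fin t, (τ * H7_extRightHom (r + s) t π) (Fin.natAdd (r + s) l) =
          τ (Fin.natAdd (r + s) l) := fun l => by
        rw [Perm.mul_apply]
        exact congrArg τ (H7_extRight_natAdd _ _ π l)
      simp only [this])


/-! ### `extLeft` -/

/-- the embedding of the last `s + t` positions. -/
def H7_iotaL (r s t : ℕ) (j : Fin (s + t)) : Fin (r + s + t) :=
  (finCongr (Nat.add_assoc r s t)).symm (Fin.natAdd r j)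

theorem H7_iotaL_val (r s t : ℕ) (j : Fin (s + t)) : ((H7_iotaL r s t j : Fin (r + s + t)) : ℕ) = r + j := by
  simp [H7_iotaL]

theorem H7_iotaL_injective (r s t : ℕ) : Function.Injective (H7_iotaL r s t) := by
  intro i j h
  have := congrArg Fin.val h
  rw [H7_iotaL_val, H7_iotaL_val] at this
  exact Fin.ext (by omega)

theorem H7_iotaL_castAdd (r s t : ℕ) (j : Fin s) :
    H7_iotaL r s t (Fin.castAdd t j) = Fin.castAdd t (Fin.natAdd r j) := by
  apply Fin.ext; simp [H7_iotaL]

theorem H7_iotaL_natAdd (r s t : ℕ) (l : Fin t) :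
    H7_iotaL r s t (Fin.natAdd s l) = Fin.natAdd (r + s) l := by
  apply Fin.ext; simp [H7_iotaL]; omega

theorem H7_extLeft_iota (r s t : ℕ) (σ : Perm (Fin (s + t))) (j : Fin (s + t)) :
    extLeft r s t σ (H7_iotaL r s t j) = H7_iotaL r s t (σ j) := by
  simp [extLeft, H7_iotaL, Equiv.permCongr_apply]

theorem H7_extLeft_first (r s t : ℕ) (σ : Perm (Fin (s + t))) (i : Fin r) :
    extLeft r s t σ (Fin.castAdd t (Fin.castAdd s i)) = Fin.castAdd t (Fin.castAdd s i) := by
  have h : (finCongr (Nat.add_assoc r s t)) (Fin.castAdd t (Fin.castAdd s i)) = Fin.castAdd (s + t) i := by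
    apply Fin.ext; simp
  simp only [extLeft, Equiv.permCongr_apply, Equiv.symm_symm, h]
  simp
  apply Fin.ext; simp

/-- `extLeft` as a monoid hom. -/
def H7_extLeftHom (r s t : ℕ) : Perm (Fin (s + t)) →* Perm (Fin (r + s + t)) where
  toFun := extLeft r s t
  map_one' := by
    ext x
    simp [extLeft, Equiv.permCongr_apply]
  map_mul' σ τ := by
    ext x
    simp only [extLeft, Equiv.permCongr_apply, Perm.mul_apply, Equiv.symm_apply_apply, Equiv.symm_symm]
    rcases finSumFinEquiv.symm ((finCongr (Nat.add_assoc r s t)) x) with y | y <;> simp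

theorem H7_sign_extLeft (r s t : ℕ) (σ : Perm (Fin (s + t))) :
    Perm.sign (extLeft r s t σ) = Perm.sign σ := by
  simp [extLeft]

theorem H7_shuffleL_iff (r s t : ℕ) (τ : Perm (Fin (r + s + t))) :
    IsShuffle₂ r (s + t) ((finCongr (Nat.add_assoc r s t)).permCongr τ) ↔
      (Monotone (τ ∘ H7_iotaL r s t) ∧
        Monotone (fun i : Fin r => τ (Fin.castAdd t (Fin.castAdd s i)))) := by
  have h1 : ∀ i : Fin r, (finCongr (Nat.add_assoc r s t)).symm (Fin.castAdd (s + t) i) =
      Fin.castAdd t (Fin.castAdd s i) := fun i => by apply Fin.ext; simp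
  have hmono : ∀ x y : Fin (r + s + t),
      (finCongr (Nat.add_assoc r s t)) x ≤ (finCongr (Nat.add_assoc r s t)) y ↔ x ≤ y := by
    intro x y
    exact Iff.rfl
  unfold IsShuffle₂
  constructor
  · rintro ⟨ha, hb⟩
    refine ⟨fun i j hij => ?_, fun i j hij => ?_⟩
    · have := hb hij
      simp only [Equiv.permCongr_apply] at this
      exact (hmono _ _).mp this
    · have := ha hij
      simp only [Equiv.permCongr_apply, h1] at this
      exact (hmono _ _).mp this
  · rintro ⟨hb, ha⟩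
    refine ⟨fun i j hij => ?_, fun i j hij => ?_⟩
    · simp only [Equiv.permCongr_apply, h1]
      exact (hmono _ _).mpr (ha hij)
    · simp only [Equiv.permCongr_apply]
      exact (hmono _ _).mpr (hb hij)

theorem H7_shuffle3_iffL (r s t : ℕ) (ν : Perm (Fin (r + s + t))) :
    IsShuffle₃ r s t ν ↔
      (Monotone (ν ∘ H7_iotaL r s t ∘ Fin.castAdd t) ∧ Monotone (ν ∘ H7_iotaL r s t ∘ Fin.natAdd s) ∧
        Monotone (fun i : Fin r => ν (Fin.castAdd t (Fin.castAdd s i)))) := by
  unfold IsShuffle₃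
  have e1 : (ν ∘ H7_iotaL r s t ∘ Fin.castAdd t) = fun j : Fin s => ν (Fin.castAdd t (Fin.natAdd r j)) := by
    funext j; simp only [Function.comp_apply, H7_iotaL_castAdd]
  have e2 : (ν ∘ H7_iotaL r s t ∘ Fin.natAdd s) = fun l : Fin t => ν (Fin.natAdd (r + s) l) := by
    funext l; simp only [Function.comp_apply, H7_iotaL_natAdd]
  rw [e1, e2]
  tauto

theorem H7_S15081 (r s t : ℕ) :
    Set.BijOn
      (fun p : Equiv.Perm (Fin (r + s + t)) × Equiv.Perm (Fin (s + t)) =>
        p.1 * W4c2movlemaddchow.extLeft r s t p.2)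
      ({τ | W4c2movlemaddchow.IsShuffle₂ r (s + t) ((finCongr (Nat.add_assoc r s t)).permCongr τ)} ×ˢ
        {σ | W4c2movlemaddchow.IsShuffle₂ s t σ})
      {ν | W4c2movlemaddchow.IsShuffle₃ r s t ν} := by
  have key := H7_shuffle_bijOn (H7_iotaL r s t) (H7_iotaL_injective r s t) (Fin.castAdd t) (Fin.natAdd s)
    (H7_extLeftHom r s t) (fun π j => H7_extLeft_iota r s t π j)
    (fun τ => Monotone (fun i : Fin r => τ (Fin.castAdd t (Fin.castAdd s i))))
    (fun τ π => by
      have : ∀ i : Fin r, (τ * H7_extLeftHom r s t π) (Fin.castAdd t (Fin.castAdd s i)) =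
          τ (Fin.castAdd t (Fin.castAdd s i)) := fun i => by
        rw [Perm.mul_apply]
        exact congrArg τ (H7_extLeft_first r s t π i)
      simp only [this])
  have hS : {τ : Perm (Fin (r + s + t)) |
      IsShuffle₂ r (s + t) ((finCongr (Nat.add_assoc r s t)).permCongr τ)} =
      {τ : Perm (Fin (r + s + t)) | Monotone (τ ∘ H7_iotaL r s t) ∧
        Monotone (fun i : Fin r => τ (Fin.castAdd t (Fin.castAdd s i)))} :=
    Set.ext fun τ => H7_shuffleL_iff r s t τ
  have hU : {ν : Perm (Fin (r + s + t)) | IsShuffle₃ r s t ν} =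
      {ν : Perm (Fin (r + s + t)) | Monotone (ν ∘ H7_iotaL r s t ∘ Fin.castAdd t) ∧
        Monotone (ν ∘ H7_iotaL r s t ∘ Fin.natAdd s) ∧
        Monotone (fun i : Fin r => ν (Fin.castAdd t (Fin.castAdd s i)))} :=
    Set.ext fun ν => H7_shuffle3_iffL r s t ν
  rw [hS, hU]
  exact key

/-- the sum identity from a `BijOn`. -/
theorem H7_sum_of_bijOn {n m : ℕ} (ext : Perm (Fin m) → Perm (Fin n))
    (hsign : ∀ σ, Perm.sign (ext σ) = Perm.sign σ)
    (S : Perm (Fin n) → Prop) (T : Perm (Fin m) → Prop) (U : Perm (Fin n) → Prop)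
    [DecidablePred S] [DecidablePred T] [DecidablePred U]
    (h : Set.BijOn (fun p : Perm (Fin n) × Perm (Fin m) => p.1 * ext p.2)
      ({τ | S τ} ×ˢ {σ | T σ}) {ν | U ν}) :
    ((∑ ν ∈ Finset.univ.filter U, MonoidAlgebra.single ν (((Perm.sign ν : ℤˣ) : ℤ)) :
        MonoidAlgebra ℤ (Perm (Fin n))) =
      ∑ τ ∈ Finset.univ.filter S, ∑ σ ∈ Finset.univ.filter T,
        MonoidAlgebra.single (τ * ext σ) (((Perm.sign τ : ℤˣ) : ℤ) * ((Perm.sign σ : ℤˣ) : ℤ))) := by
  rw [← Finset.sum_product']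
  symm
  apply Finset.sum_nbij (fun p : Perm (Fin n) × Perm (Fin m) => p.1 * ext p.2)
  · rintro ⟨τ, σ⟩ hp
    simp only [Finset.mem_product, Finset.mem_filter, Finset.mem_univ, true_and] at hp
    simp only [Finset.mem_filter, Finset.mem_univ, true_and]
    exact h.mapsTo (Set.mk_mem_prod hp.1 hp.2)
  · intro p hp q hq hpq
    apply h.injOn _ _ hpq
    · simp only [Finset.coe_product, Finset.coe_filter, Finset.mem_univ, true_and] at hp
      exact hp
    · simp only [Finset.coe_product, Finset.coe_filter, Finset.mem_univ, true_and] at hq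
      exact hq
  · intro ν hν
    simp only [Finset.coe_filter, Finset.mem_univ, true_and, Set.mem_setOf_eq] at hν
    obtain ⟨p, hp, hpν⟩ := h.surjOn hν
    refine ⟨p, ?_, hpν⟩
    simp only [Finset.coe_product, Finset.coe_filter, Finset.mem_univ, true_and]
    exact hp
  · rintro ⟨τ, σ⟩ _
    simp only [Perm.sign_mul, hsign, Units.val_mul]

theorem H7_S15082 (r s t : ℕ) :
    ((∑ ν ∈ Finset.univ.filter (W4c2movlemaddchow.IsShuffle₃ r s t),
        MonoidAlgebra.single ν (((Equiv.Perm.sign ν : ℤˣ) : ℤ)) :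
          MonoidAlgebra ℤ (Equiv.Perm (Fin (r + s + t)))) =
      ∑ τ ∈ Finset.univ.filter (W4c2movlemaddchow.IsShuffle₂ (r + s) t),
        ∑ σ ∈ Finset.univ.filter (W4c2movlemaddchow.IsShuffle₂ r s),
          MonoidAlgebra.single (τ * W4c2movlemaddchow.extRight (r + s) t σ)
            (((Equiv.Perm.sign τ : ℤˣ) : ℤ) * ((Equiv.Perm.sign σ : ℤˣ) : ℤ))) ∧
    ((∑ ν ∈ Finset.univ.filter (W4c2movlemaddchow.IsShuffle₃ r s t),
        MonoidAlgebra.single ν (((Equiv.Perm.sign ν : ℤˣ) : ℤ)) :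
          MonoidAlgebra ℤ (Equiv.Perm (Fin (r + s + t)))) =
      ∑ τ ∈ Finset.univ.filter (fun τ : Equiv.Perm (Fin (r + s + t)) =>
          W4c2movlemaddchow.IsShuffle₂ r (s + t) ((finCongr (Nat.add_assoc r s t)).permCongr τ)),
        ∑ σ ∈ Finset.univ.filter (W4c2movlemaddchow.IsShuffle₂ s t),
          MonoidAlgebra.single (τ * W4c2movlemaddchow.extLeft r s t σ)
            (((Equiv.Perm.sign τ : ℤˣ) : ℤ) * ((Equiv.Perm.sign σ : ℤˣ) : ℤ))) := by
  constructor
  · exact H7_sum_of_bijOn (extRight (r + s) t) (H7_sign_extRight (r + s) t) _ _ _ (H7_S15080 r s t)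
  · exact H7_sum_of_bijOn (extLeft r s t) (H7_sign_extLeft r s t) _ _ _ (H7_S15081 r s t)

end Groth.Agent.Lib.helper7
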