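import Mathlib

universe u

namespace Groth.Agent.Lib.helper7

noncomputable def H7_sqrtCoeff {k : Type u} [Field k] (u : ℕ → k) (b0 : k) : ℕ → k
  | 0 => b0
  | (n+1) => (u (n+1) - ∑ i : Fin n, H7_sqrtCoeff u b0 (i.val+1) * H7_sqrtCoeff u b0 (n - i.val)) / (2 * b0)
decreasing_by
  all_goals (have := i.isLt; omega)

theorem H7_sqrt_series {k : Type u} [Field k] (h2 : (2 : k) ≠ 0) (u : PowerSeries k) (b0 : k)
    (hb : b0 * b0 = PowerSeries.coeff 0 u) (hb0 : b0 ≠ 0) :
    ∃ v : PowerSeries k, v * v = u := by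
  set b := H7_sqrtCoeff (fun n => PowerSeries.coeff n u) b0 with hbdef
  refine ⟨PowerSeries.mk b, ?_⟩
  ext n
  rw [PowerSeries.coeff_mul]
  simp only [PowerSeries.coeff_mk]
  rw [Finset.Nat.sum_antidiagonal_eq_sum_range_succ (fun i j => b i * b j)]
  rcases n with _ | n
  · simp only [zero_add, Finset.sum_range_one, Nat.sub_zero]
    have : b 0 = b0 := by rw [hbdef, H7_sqrtCoeff]
    rw [this, hb]
  · rw [Finset.sum_range_succ, Finset.sum_range_succ']
    have hb0' : b 0 = b0 := by rw [hbdef, H7_sqrtCoeff]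
    have hbn : b (n + 1) = (PowerSeries.coeff (n + 1) u - ∑ i : Fin n, b (i.val+1) * b (n - i.val)) / (2 * b0) := by
      rw [hbdef, H7_sqrtCoeff]
    have hsum : ∑ i ∈ Finset.range n, b (i + 1) * b (n + 1 - (i + 1)) = ∑ i : Fin n, b (i.val+1) * b (n - i.val) := by
      rw [Finset.sum_range]
      apply Finset.sum_congr rfl
      intro i _
      congr 2
      omega
    rw [hsum, Nat.sub_zero, Nat.sub_self, hb0']
    have h2b : (2 * b0) ≠ 0 := mul_ne_zero h2 hb0
    have : b (n + 1) * (2 * b0) = PowerSeries.coeff (n + 1) u - ∑ i : Fin n, b (i.val+1) * b (n - i.val) := by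
      rw [hbn, div_mul_cancel₀ _ h2b]
    linear_combination this

end Groth.Agent.Lib.helper7
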