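import Mathlib
import Groth.Agent.Lib.helper7.DivAlg2

set_option autoImplicit false

namespace Groth.Agent.Lib.helper7

open Polynomial

section
variable (K : Type*) [Field K] (A : Type*) [DivisionRing A] [Algebra K A] [FiniteDimensional K A]

theorem H7_sub_inv_mem (S : Subalgebra K A) {x : A} (hx : x ∈ S) : x⁻¹ ∈ S := by
  by_cases h0 : x = 0
  · rw [h0, inv_zero]; exact S.zero_mem
  · let f : S →ₗ[K] S := LinearMap.mulLeft K (⟨x, hx⟩ : S)
    have hinj : Function.Injective f := by
      intro a b hab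
      have : x * a.1 = x * b.1 := congrArg Subtype.val hab
      exact Subtype.ext (mul_left_cancel₀ h0 this)
    have hsurj : Function.Surjective f := LinearMap.injective_iff_surjective.mp hinj
    obtain ⟨y, hy⟩ := hsurj 1
    have hy' : x * y.1 = 1 := congrArg Subtype.val hy
    have : x⁻¹ = y.1 := by
      rw [← mul_one x⁻¹, ← hy', ← mul_assoc, inv_mul_cancel₀ h0, one_mul]
    rw [this]; exact y.2

/-- a subalgebra of a finite dimensional division algebra is a division ring -/
@[reducible] noncomputable def H7_subDivisionRing (S : Subalgebra K A) : DivisionRing S :=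
  DivisionRing.ofIsUnitOrEqZero (fun a => by
    by_cases h0 : a = 0
    · right; exact h0
    · left
      have h0' : a.1 ≠ 0 := fun h => h0 (Subtype.ext h)
      exact ⟨⟨a, ⟨a.1⁻¹, H7_sub_inv_mem K A S a.2⟩, Subtype.ext (mul_inv_cancel₀ h0'),
        Subtype.ext (inv_mul_cancel₀ h0')⟩, rfl⟩)

theorem H7_sub_finrank_dvd (S : Subalgebra K A) : Module.finrank K S ∣ Module.finrank K A := by
  let _ := H7_subDivisionRing K A S
  exact Dvd.intro _ (Module.finrank_mul_finrank K S A)

end

section splits
variable {F : Type*} [Field F]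

theorem H7_splits_deg2 (q : F[X]) (hq : q.natDegree = 2) (r : F) (hr : q.IsRoot r) : q.Splits := by
  obtain ⟨g, hg⟩ := dvd_iff_isRoot.mpr hr
  have hq0 : q ≠ 0 := by intro h; rw [h] at hq; simp at hq
  have hg0 : g ≠ 0 := by rintro rfl; rw [mul_zero] at hg; exact hq0 hg
  have hdeg : g.natDegree = 1 := by
    have := congrArg natDegree hg
    rw [natDegree_mul (X_sub_C_ne_zero r) hg0, natDegree_X_sub_C, hq] at this
    omega
  rw [hg, splits_X_sub_C_mul_iff]
  exact Splits.of_natDegree_le_one (le_of_eq hdeg)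

theorem H7_splits_deg3 (q : F[X]) (hq : q.natDegree = 3) (r₁ r₂ : F) (h₁ : q.IsRoot r₁)
    (h₂ : q.IsRoot r₂) (hne : r₁ ≠ r₂) : q.Splits := by
  obtain ⟨g, hg⟩ := dvd_iff_isRoot.mpr h₁
  have hq0 : q ≠ 0 := by intro h; rw [h] at hq; simp at hq
  have hg0 : g ≠ 0 := by rintro rfl; rw [mul_zero] at hg; exact hq0 hg
  have hdeg : g.natDegree = 2 := by
    have := congrArg natDegree hg
    rw [natDegree_mul (X_sub_C_ne_zero r₁) hg0, natDegree_X_sub_C, hq] at this
    omega
  have hg2 : g.IsRoot r₂ := by
    have := h₂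
    rw [hg, IsRoot.def, eval_mul, eval_sub, eval_X, eval_C] at this
    rcases mul_eq_zero.mp this with h | h
    · exact absurd (sub_eq_zero.mp h).symm hne
    · exact h
  rw [hg, splits_X_sub_C_mul_iff]
  exact H7_splits_deg2 g hdeg r₂ hg2

end splits

section galois
variable (K : Type*) [Field K]

theorem H7_galois_adjoinRoot (f : K[X]) [Fact (Irreducible f)] (hsep : f.Separable)
    (hs : (f.map (algebraMap K (AdjoinRoot f))).Splits) : IsGalois K (AdjoinRoot f) := by
  have hf0 : f ≠ 0 := (Fact.out : Irreducible f).ne_zero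
  have hadj : Algebra.adjoin K (f.rootSet (AdjoinRoot f) : Set (AdjoinRoot f)) = ⊤ := by
    rw [eq_top_iff, ← AdjoinRoot.adjoinRoot_eq_top]
    apply Algebra.adjoin_mono
    intro x hx
    rw [Set.mem_singleton_iff] at hx
    rw [hx, mem_rootSet]
    exact ⟨hf0, by rw [AdjoinRoot.aeval_eq]; exact AdjoinRoot.mk_self⟩
  have : f.IsSplittingField K (AdjoinRoot f) := ⟨hs, hadj⟩
  exact IsGalois.of_separable_splitting_field (p := f) hsep

end galois
end Groth.Agent.Lib.helper7
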