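import Mathlib

universe u

namespace Groth.Agent.Lib.helper7

theorem H7_krullDim_Iic_add_Ici {α : Type*} [Preorder α] (x : α) :
    Order.krullDim (Set.Iic x) + Order.krullDim (Set.Ici x) ≤ Order.krullDim α := by
  have : Nonempty α := ⟨x⟩
  rw [← Order.height_eq_krullDim_Iic, ← Order.coheight_eq_krullDim_Ici,
    Order.krullDim_eq_iSup_height_add_coheight_of_nonempty, ← WithBot.coe_add, WithBot.coe_le_coe]
  exact le_iSup (fun a => Order.height a + Order.coheight a) x

theorem H7_S5765 (A : Type u) [CommRing A] (M : Type u)
    [AddCommGroup M] [Module A M] [Module.Finite A M] (p : Ideal A) [p.IsPrime] :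
    Module.supportDim (Localization.AtPrime p) (LocalizedModule p.primeCompl M) +
        Module.supportDim A (M ⧸ (p • (⊤ : Submodule A M))) ≤ Module.supportDim A M := by
  classical
  by_cases hp : (⟨p, inferInstance⟩ : PrimeSpectrum A) ∈ Module.support A M
  · let x : Module.support A M := ⟨⟨p, inferInstance⟩, hp⟩
    have h1 : Module.supportDim A (M ⧸ (p • (⊤ : Submodule A M))) ≤ Order.krullDim (Set.Ici x) := by
      unfold Module.supportDim
      have hsub : ∀ q : PrimeSpectrum A, q ∈ Module.support A (M ⧸ (p • (⊤ : Submodule A M))) →
          q ∈ Module.support A M ∧ p ≤ q.asIdeal := by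
        intro q hq
        rw [Module.support_quotient] at hq
        exact ⟨hq.1, by simpa [PrimeSpectrum.mem_zeroLocus] using hq.2⟩
      let φ : Module.support A (M ⧸ (p • (⊤ : Submodule A M))) → Set.Ici x :=
        fun q => ⟨⟨q.1, (hsub q.1 q.2).1⟩, (hsub q.1 q.2).2⟩
      apply Order.krullDim_le_of_strictMono φ
      intro q q' hqq'
      exact hqq'
    have h2 : Module.supportDim (Localization.AtPrime p) (LocalizedModule p.primeCompl M)
        ≤ Order.krullDim (Set.Iic x) := by
      unfold Module.supportDim
      have hsub : ∀ q' : PrimeSpectrum (Localization.AtPrime p),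
          q' ∈ Module.support (Localization.AtPrime p) (LocalizedModule p.primeCompl M) →
          (PrimeSpectrum.comap (algebraMap A (Localization.AtPrime p)) q') ∈ Module.support A M ∧
          (PrimeSpectrum.comap (algebraMap A (Localization.AtPrime p)) q').asIdeal ≤ p := by
        intro q' hq'
        constructor
        · rw [Module.mem_support_iff_of_finite] at hq' ⊢
          intro a ha
          rw [PrimeSpectrum.comap_asIdeal, Ideal.mem_comap]
          apply hq'
          rw [Module.mem_annihilator]
          intro y
          induction y using LocalizedModule.induction_on with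
          | h m s =>
            rw [algebraMap_smul, LocalizedModule.smul'_mk, Module.mem_annihilator.1 ha m,
              LocalizedModule.zero_mk]
        · rw [PrimeSpectrum.comap_asIdeal]
          have h3 : q'.asIdeal ≤ IsLocalRing.maximalIdeal (Localization.AtPrime p) :=
            IsLocalRing.le_maximalIdeal q'.isPrime.ne_top
          have h4 := Ideal.comap_mono (f := algebraMap A (Localization.AtPrime p)) h3
          have h5 : Ideal.comap (algebraMap A (Localization.AtPrime p))
              (IsLocalRing.maximalIdeal (Localization.AtPrime p)) = p :=
            IsLocalization.AtPrime.comap_maximalIdeal (Localization.AtPrime p) p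
          rwa [h5] at h4
      let φ : Module.support (Localization.AtPrime p) (LocalizedModule p.primeCompl M) → Set.Iic x :=
        fun q' => ⟨⟨PrimeSpectrum.comap (algebraMap A (Localization.AtPrime p)) q'.1,
          (hsub q'.1 q'.2).1⟩, (hsub q'.1 q'.2).2⟩
      apply Order.krullDim_le_of_strictMono φ
      intro q q' hqq'
      have hle : PrimeSpectrum.comap (algebraMap A (Localization.AtPrime p)) q.1 ≤
          PrimeSpectrum.comap (algebraMap A (Localization.AtPrime p)) q'.1 :=
        Ideal.comap_mono hqq'.le
      have hne : PrimeSpectrum.comap (algebraMap A (Localization.AtPrime p)) q.1 ≠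
          PrimeSpectrum.comap (algebraMap A (Localization.AtPrime p)) q'.1 := by
        intro h
        have := PrimeSpectrum.localization_comap_injective (Localization.AtPrime p) p.primeCompl h
        exact hqq'.ne (Subtype.ext this)
      have hle' : φ q ≤ φ q' := hle
      have hne' : φ q ≠ φ q' := by
        intro h
        apply hne
        exact congrArg (fun z : Set.Iic x => (z.1.1 : PrimeSpectrum A)) h
      exact lt_of_le_of_ne hle' hne'
    calc _ ≤ Order.krullDim (Set.Iic x) + Order.krullDim (Set.Ici x) := add_le_add h2 h1
      _ ≤ Order.krullDim (Module.support A M) := H7_krullDim_Iic_add_Ici x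
  · have hsub : Subsingleton (LocalizedModule p.primeCompl M) := by
      rw [Module.notMem_support_iff] at hp
      exact hp
    rw [Module.supportDim_eq_bot_of_subsingleton, WithBot.bot_add]
    exact bot_le

end Groth.Agent.Lib.helper7
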