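import Mathlib

set_option autoImplicit false
universe u
open scoped TensorProduct

namespace Groth.Agent.Lib.helper7

section
variable (k : Type u) [Field k] (R S : Type u) [CommRing R] [Algebra k R] [CommRing S] [Algebra k S]
  (S' : Subalgebra k S)

/-- the inclusion `R ⊗ S' → R ⊗ S` as an `R`-algebra map -/
noncomputable def H7_phiR : R ⊗[k] S' →ₐ[R] R ⊗[k] S :=
  Algebra.TensorProduct.map (AlgHom.id R R) S'.val

theorem H7_phiR_apply (x : R ⊗[k] S') :
    H7_phiR k R S S' x = Algebra.TensorProduct.map (AlgHom.id k R) S'.val x := rfl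

/-- an `R`-linear retraction of `H7_phiR` -/
theorem H7_exists_retraction :
    ∃ ρ : R ⊗[k] S →ₗ[R] R ⊗[k] S', ∀ x, ρ (H7_phiR k R S S' x) = x := by
  obtain ⟨π, hπ⟩ := LinearMap.exists_leftInverse_of_injective S'.val.toLinearMap
    (LinearMap.ker_eq_bot.mpr Subtype.val_injective)
  refine ⟨TensorProduct.AlgebraTensorModule.lTensor R R π, fun x => ?_⟩
  induction x using TensorProduct.induction_on with
  | zero => simp
  | tmul r s =>
    have h1 : H7_phiR k R S S' (r ⊗ₜ[k] s) = r ⊗ₜ[k] (s : S) := rfl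
    rw [h1, TensorProduct.AlgebraTensorModule.lTensor_tmul]
    have h2 : π (s : S) = s := congrArg (fun g => g s) hπ
    rw [h2]
  | add x y hx hy => rw [map_add, map_add, hx, hy]

end

theorem H7_S6286 (k : Type u) [Field k] (R S : Type u) [CommRing R] [Algebra k R] [CommRing S]
    [Algebra k S] (S' : Subalgebra k S) (f : R ⊗[k] S') (p : PrimeSpectrum R) :
    (∃ q : PrimeSpectrum (R ⊗[k] S), Algebra.TensorProduct.map (AlgHom.id k R) S'.val f ∉ q.asIdeal ∧
      q.asIdeal.comap (algebraMap R (R ⊗[k] S)) = p.asIdeal) ↔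
    (∃ q' : PrimeSpectrum (R ⊗[k] S'), f ∉ q'.asIdeal ∧
      q'.asIdeal.comap (algebraMap R (R ⊗[k] S')) = p.asIdeal) := by
  classical
  set φ := H7_phiR k R S S' with hφ
  constructor
  · rintro ⟨q, hfq, hqp⟩
    refine ⟨⟨q.asIdeal.comap φ.toRingHom, inferInstance⟩, hfq, ?_⟩
    rw [← hqp]
    ext r
    simp only [Ideal.mem_comap]
    have : φ.toRingHom (algebraMap R (R ⊗[k] S') r) = algebraMap R (R ⊗[k] S) r := φ.commutes r
    rw [this]
  · rintro ⟨q', hfq', hq'p⟩
    have := q'.isPrime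
    have := p.isPrime
    -- the map F' → κ(q')
    let g1 : (p.asIdeal.ResidueField) →ₐ[R] q'.asIdeal.ResidueField :=
      Ideal.ResidueField.mapₐ p.asIdeal q'.asIdeal (Algebra.ofId R (R ⊗[k] S')) hq'p.symm
    let g2 : (R ⊗[k] S') →ₐ[R] q'.asIdeal.ResidueField := IsScalarTower.toAlgHom R _ _
    let χ : (p.asIdeal.ResidueField) ⊗[R] (R ⊗[k] S') →ₐ[R] q'.asIdeal.ResidueField :=
      Algebra.TensorProduct.lift g1 g2 (fun _ _ => Commute.all _ _)
    have hχ : χ ((1 : (p.asIdeal.ResidueField)) ⊗ₜ[R] f) ≠ 0 := by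
      rw [Algebra.TensorProduct.lift_tmul, map_one, one_mul]
      change algebraMap (R ⊗[k] S') q'.asIdeal.ResidueField f ≠ 0
      rw [Ne, Ideal.algebraMap_residueField_eq_zero]
      exact hfq'
    have hnil' : ¬ IsNilpotent ((1 : (p.asIdeal.ResidueField)) ⊗ₜ[R] f : (p.asIdeal.ResidueField) ⊗[R] (R ⊗[k] S')) := by
      rintro ⟨N, hN⟩
      apply hχ
      have h2 : χ ((1 : (p.asIdeal.ResidueField)) ⊗ₜ[R] f) ^ N = 0 := by
        have h3 := χ.toRingHom.map_pow ((1 : (p.asIdeal.ResidueField)) ⊗ₜ[R] f) N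
        rw [hN, RingHom.map_zero] at h3
        exact h3.symm
      exact pow_eq_zero_iff (fun h0 => by rw [h0, pow_zero] at h2; exact one_ne_zero h2) |>.mp h2
    -- injectivity of F' → F
    obtain ⟨ρ, hρ⟩ := H7_exists_retraction k R S S'
    let ΦA : (p.asIdeal.ResidueField) ⊗[R] (R ⊗[k] S') →ₐ[R] (p.asIdeal.ResidueField) ⊗[R] (R ⊗[k] S) :=
      Algebra.TensorProduct.map (AlgHom.id R (p.asIdeal.ResidueField)) φ
    have hΦinj : Function.Injective ΦA := by
      have hleft : ∀ x, (LinearMap.lTensor (p.asIdeal.ResidueField) ρ) (ΦA x) = x := by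
        intro x
        induction x using TensorProduct.induction_on with
        | zero => simp
        | tmul c t =>
          have h1 : ΦA (c ⊗ₜ[R] t) = c ⊗ₜ[R] φ t := rfl
          rw [h1, LinearMap.lTensor_tmul, hρ]
        | add x y hx hy => rw [map_add, map_add, hx, hy]
      exact Function.LeftInverse.injective hleft
    have hnil : ¬ IsNilpotent ((1 : (p.asIdeal.ResidueField)) ⊗ₜ[R] φ f : (p.asIdeal.ResidueField) ⊗[R] (R ⊗[k] S)) := by
      rintro ⟨N, hN⟩
      apply hnil'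
      refine ⟨N, hΦinj ?_⟩
      have h3 := ΦA.toRingHom.map_pow ((1 : (p.asIdeal.ResidueField)) ⊗ₜ[R] f) N
      have h4 : ΦA.toRingHom ((1 : (p.asIdeal.ResidueField)) ⊗ₜ[R] f) = (1 : (p.asIdeal.ResidueField)) ⊗ₜ[R] φ f := rfl
      rw [h4, hN] at h3
      have h5 : ΦA (0 : (p.asIdeal.ResidueField) ⊗[R] (R ⊗[k] S')) = 0 := ΦA.toRingHom.map_zero
      rw [h5]
      exact h3
    -- a prime avoiding it
    have hnr : (1 : (p.asIdeal.ResidueField)) ⊗ₜ[R] φ f ∉ nilradical ((p.asIdeal.ResidueField) ⊗[R] (R ⊗[k] S)) := hnil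
    rw [nilradical_eq_sInf, Ideal.mem_sInf] at hnr
    push Not at hnr
    obtain ⟨Q, hQ, hfQ⟩ := hnr
    have : Q.IsPrime := hQ
    let ι : (R ⊗[k] S) →ₐ[R] (p.asIdeal.ResidueField) ⊗[R] (R ⊗[k] S) := Algebra.TensorProduct.includeRight
    refine ⟨⟨Q.comap ι.toRingHom, inferInstance⟩, ?_, ?_⟩
    · change ι (φ f) ∉ Q
      exact hfQ
    · ext r
      simp only [Ideal.mem_comap]
      have h1 : ι.toRingHom (algebraMap R (R ⊗[k] S) r) = algebraMap R ((p.asIdeal.ResidueField) ⊗[R] (R ⊗[k] S)) r :=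
        ι.commutes r
      rw [h1, IsScalarTower.algebraMap_apply R (p.asIdeal.ResidueField) ((p.asIdeal.ResidueField) ⊗[R] (R ⊗[k] S))]
      constructor
      · intro hr
        by_contra hrp
        have hne : algebraMap R (p.asIdeal.ResidueField) r ≠ 0 := by
          rw [Ne, Ideal.algebraMap_residueField_eq_zero]; exact hrp
        have hu : IsUnit (algebraMap (p.asIdeal.ResidueField) ((p.asIdeal.ResidueField) ⊗[R] (R ⊗[k] S)) (algebraMap R (p.asIdeal.ResidueField) r)) :=
          (IsUnit.mk0 _ hne).map _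
        exact hQ.ne_top (Ideal.eq_top_of_isUnit_mem _ hr hu)
      · intro hr
        rw [Ideal.algebraMap_residueField_eq_zero.mpr hr, map_zero]
        exact Q.zero_mem

end Groth.Agent.Lib.helper7
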