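import Mathlib
universe u
open TensorProduct

namespace Groth.Agent.Lib.helper7

/-- In a reduced ring, an element of a minimal prime is killed by an element outside it. -/
theorem H7_min_prime_kill (R : Type u) [CommRing R] [IsReduced R] (p : Ideal R) (hp : p ∈ minimalPrimes R)
    (x : R) (hx : x ∈ p) : ∃ y ∉ p, y * x = 0 := by
  have hpp : p.IsPrime := hp.1.1
  have hss := IsLocalization.subsingleton_primeSpectrum_of_mem_minimalPrimes p hp (Localization.AtPrime p)
  have hnil : IsNilpotent (algebraMap R (Localization.AtPrime p) x) := by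
    rw [nilpotent_iff_mem_prime]
    intro J hJ
    have : (⟨J, hJ⟩ : PrimeSpectrum (Localization.AtPrime p)) = ⟨IsLocalRing.maximalIdeal _, inferInstance⟩ :=
      Subsingleton.elim _ _
    have hJe : J = IsLocalRing.maximalIdeal (Localization.AtPrime p) := congrArg PrimeSpectrum.asIdeal this
    rw [hJe, IsLocalization.AtPrime.to_map_mem_maximal_iff (Localization.AtPrime p) p x]
    exact hx
  obtain ⟨n, hn⟩ := hnil
  rw [← map_pow, IsLocalization.map_eq_zero_iff p.primeCompl] at hn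
  obtain ⟨m, hm⟩ := hn
  refine ⟨m, m.2, ?_⟩
  apply IsReduced.eq_zero
  refine ⟨n + 1, ?_⟩
  rw [mul_pow, pow_succ, pow_succ]
  calc (m : R) ^ n * m * (x ^ n * x) = (m : R) ^ n * x * (m * x ^ n) := by ring
    _ = 0 := by rw [hm, mul_zero]

end Groth.Agent.Lib.helper7

namespace Groth.Agent.Lib.helper7

/-- If `1 ⊗ t = 0` in `κ(p) ⊗ M`, then `s • t ∈ p M` for some `s ∉ p`. -/
theorem H7_residue_tmul_zero (R : Type u) [CommRing R] (M : Type u) [AddCommGroup M] [Module R M]
    (p : Ideal R) [p.IsPrime] (t : M)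
    (ht : (1 : p.ResidueField) ⊗ₜ[R] t = (0 : p.ResidueField ⊗[R] M)) :
    ∃ s ∉ p, s • t ∈ p • (⊤ : Submodule R M) := by
  have h1 : (1 : p.ResidueField) ⊗ₜ[R ⧸ p] ((1 : R ⧸ p) ⊗ₜ[R] t) = (0 : p.ResidueField ⊗[R ⧸ p] ((R ⧸ p) ⊗[R] M)) := by
    apply (TensorProduct.AlgebraTensorModule.cancelBaseChange R (R ⧸ p) p.ResidueField p.ResidueField M).injective
    rw [TensorProduct.AlgebraTensorModule.cancelBaseChange_tmul, one_smul, ht, map_zero]
  have hloc : IsLocalizedModule (nonZeroDivisors (R ⧸ p)) (TensorProduct.mk (R ⧸ p) p.ResidueField ((R ⧸ p) ⊗[R] M) 1) :=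
    (isLocalizedModule_iff_isBaseChange (nonZeroDivisors (R ⧸ p)) p.ResidueField _).2
      (TensorProduct.isBaseChange (R ⧸ p) ((R ⧸ p) ⊗[R] M) p.ResidueField)
  have h2 : (TensorProduct.mk (R ⧸ p) p.ResidueField ((R ⧸ p) ⊗[R] M) 1) ((1 : R ⧸ p) ⊗ₜ[R] t) = 0 := h1
  rw [IsLocalizedModule.eq_zero_iff (nonZeroDivisors (R ⧸ p))] at h2
  obtain ⟨⟨d, hd⟩, hdt⟩ := h2
  obtain ⟨s, rfl⟩ := Ideal.Quotient.mk_surjective d
  refine ⟨s, ?_, ?_⟩
  · intro hs
    have : Ideal.Quotient.mk p s = 0 := Ideal.Quotient.eq_zero_iff_mem.2 hs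
    rw [this] at hd
    exact zero_notMem_nonZeroDivisors hd
  · rw [← LinearMap.ker_tensorProductMk, LinearMap.mem_ker, TensorProduct.mk_apply]
    have h3 : (Ideal.Quotient.mk p s) • ((1 : R ⧸ p) ⊗ₜ[R] t) = (1 : R ⧸ p) ⊗ₜ[R] (s • t) := by
      rw [TensorProduct.smul_tmul', ← TensorProduct.smul_tmul]
      congr 1
    rw [← h3]
    exact hdt

end Groth.Agent.Lib.helper7

namespace Groth.Agent.Lib.helper7

theorem H7_torfree_zero (R : Type u) [CommRing R] [IsReduced R] [IsNoetherianRing R] (M : Type u) [AddCommGroup M] [Module R M] [Module.IsTorsionFree R M] (t : M) (ht : ∀ p : PrimeSpectrum R, (1 : p.asIdeal.ResidueField) ⊗ₜ[R] t = (0 : p.asIdeal.ResidueField ⊗[R] M)) : t = 0 := by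
  classical
  obtain ⟨I, hI⟩ : ∃ I : Ideal R, ∀ r, r ∈ I ↔ r • t = 0 :=
    ⟨LinearMap.ker (LinearMap.toSpanSingleton R M t), fun r => by simp [LinearMap.mem_ker]⟩
  have hnle : ∀ p ∈ minimalPrimes R, ¬ I ≤ p := by
    intro p hp hle
    have hpp : p.IsPrime := hp.1.1
    obtain ⟨s, hs, hst⟩ := H7_residue_tmul_zero R M p t (ht ⟨p, hpp⟩)
    have hkill : ∀ x ∈ p • (⊤ : Submodule R M), ∃ y ∉ p, y • x = 0 := by
      intro x hx
      refine Submodule.smul_induction_on hx ?_ ?_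
      · intro r hr m _
        obtain ⟨y, hy, hyr⟩ := H7_min_prime_kill R p hp r hr
        exact ⟨y, hy, by rw [smul_smul, hyr, zero_smul]⟩
      · intro x y hx hy
        obtain ⟨y1, h1, e1⟩ := hx
        obtain ⟨y2, h2, e2⟩ := hy
        refine ⟨y1 * y2, fun h => (hpp.mem_or_mem h).elim h1 h2, ?_⟩
        rw [smul_add, mul_smul y1 y2 y, e2, smul_zero, add_zero, mul_comm, mul_smul, e1, smul_zero]
    obtain ⟨y, hy, hyst⟩ := hkill _ hst
    have : y * s ∈ I := (hI _).2 (by rw [mul_smul]; exact hyst)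
    exact (hpp.mem_or_mem (hle this)).elim hy hs
  have hfin : (minimalPrimes R).Finite := minimalPrimes.finite_of_isNoetherianRing R
  have hnot : ¬ ((I : Set R) ⊆ ⋃ p ∈ (hfin.toFinset : Set (Ideal R)), (id p : Ideal R)) := by
    rw [Ideal.subset_union_prime (f := id) ⊥ ⊥ (fun p hp _ _ => ((hfin.mem_toFinset.1 hp).1.1))]
    rintro ⟨p, hp, hle⟩
    exact hnle p (hfin.mem_toFinset.1 hp) hle
  obtain ⟨r, hrI, hr⟩ := Set.not_subset.1 hnot
  have hrp : ∀ p ∈ minimalPrimes R, r ∉ p := by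
    intro p hp hrp
    apply hr
    simp only [Set.mem_iUnion, id]
    exact ⟨p, by simpa using hp, hrp⟩
  have hreg : IsRegular r := by
    rw [isRegular_iff_mem_nonZeroDivisors, mem_nonZeroDivisors_iff_right]
    intro x hx
    have hxnil : x ∈ sInf (minimalPrimes R) := by
      rw [Submodule.mem_sInf]
      intro p hp
      have hpp : Ideal.IsPrime (p : Ideal R) := hp.1.1
      have : r * x ∈ (p : Ideal R) := by rw [mul_comm, hx]; exact Ideal.zero_mem _
      exact (hpp.mem_or_mem this).resolve_left (hrp p hp)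
    have h0 : sInf (minimalPrimes R) = (⊥ : Ideal R) := by
      rw [minimalPrimes, Ideal.sInf_minimalPrimes]
      exact nilradical_eq_zero R
    rw [h0] at hxnil
    exact hxnil
  have hsm : IsSMulRegular M r := Module.IsTorsionFree.isSMulRegular hreg
  apply hsm
  show r • t = r • 0
  rw [(hI r).1 hrI, smul_zero]

end Groth.Agent.Lib.helper7
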