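import Mathlib
open Pointwise
namespace Groth.Agent.Lib.helper7

section
variable {A : Type*} [AddCommGroup A]

/-- `n` is positive and all its prime factors lie in `S`. -/
def H7_SNum (S : Set ℕ) (n : ℕ) : Prop := 0 < n ∧ ∀ p : ℕ, p.Prime → p ∣ n → p ∈ S

lemma H7_SNum_one (S : Set ℕ) : H7_SNum S 1 :=
  ⟨Nat.one_pos, fun p hp h => absurd (Nat.dvd_one.1 h) hp.ne_one⟩

lemma H7_SNum_prime (S : Set ℕ) {p : ℕ} (hp : p.Prime) (hpS : p ∈ S) : H7_SNum S p :=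
  ⟨hp.pos, fun q hq h => by rwa [(Nat.prime_dvd_prime_iff_eq hq hp).1 h]⟩

lemma H7_SNum_mul {S : Set ℕ} {a b : ℕ} (ha : H7_SNum S a) (hb : H7_SNum S b) :
    H7_SNum S (a * b) :=
  ⟨Nat.mul_pos ha.1 hb.1, fun p hp h => by
    rcases (Nat.Prime.dvd_mul hp).1 h with h1 | h1
    · exact ha.2 p hp h1
    · exact hb.2 p hp h1⟩

lemma H7_SNum_left {S : Set ℕ} {a b : ℕ} (h : H7_SNum S (a * b)) : H7_SNum S a :=
  ⟨Nat.pos_of_mul_pos_right h.1 |> fun _ => Nat.pos_of_ne_zero (fun h0 => by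
      have := h.1; rw [h0, zero_mul] at this; exact lt_irrefl _ this),
    fun p hp hd => h.2 p hp (Dvd.dvd.mul_right hd b)⟩

lemma H7_SNum_right {S : Set ℕ} {a b : ℕ} (h : H7_SNum S (a * b)) : H7_SNum S b := by
  rw [mul_comm] at h; exact H7_SNum_left h

lemma H7_SNum_coprime {S : Set ℕ} {a b : ℕ} (ha : H7_SNum S a) (hb : H7_SNum Sᶜ b) :
    Nat.Coprime a b :=
  Nat.coprime_of_dvd (fun k hk h1 h2 => hb.2 k hk h2 (ha.2 k hk h1))

lemma H7_factor (S : Set ℕ) (n : ℕ) (hn : 0 < n) :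
    ∃ a b, n = a * b ∧ H7_SNum S a ∧ H7_SNum Sᶜ b := by
  classical
  induction n using induction_on_primes with
  | zero => exact absurd hn (lt_irrefl _)
  | one => exact ⟨1, 1, rfl, H7_SNum_one _, H7_SNum_one _⟩
  | prime_mul p m hp ih =>
    have hm : 0 < m := Nat.pos_of_ne_zero (fun h0 => by rw [h0, mul_zero] at hn; exact lt_irrefl _ hn)
    obtain ⟨a, b, rfl, ha, hb⟩ := ih hm
    by_cases hpS : p ∈ S
    · exact ⟨p * a, b, by ring, H7_SNum_mul (H7_SNum_prime S hp hpS) ha, hb⟩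
    · exact ⟨a, p * b, by ring, ha, H7_SNum_mul (H7_SNum_prime Sᶜ hp hpS) hb⟩

lemma H7_div_SNum (K : AddSubgroup A) (S : Set ℕ)
    (hD : ∀ ℓ ∈ S, ℓ.Prime → ∀ x ∈ K, ∃ y ∈ K, ℓ • y = x) :
    ∀ n, H7_SNum S n → ∀ x ∈ K, ∃ y ∈ K, n • y = x := by
  intro n
  induction n using induction_on_primes with
  | zero => intro h; exact absurd h.1 (lt_irrefl _)
  | one => intro _ x hx; exact ⟨x, hx, one_smul _ _⟩
  | prime_mul p m hp ih =>
    intro h x hx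
    obtain ⟨y, hy, rfl⟩ := hD p (h.2 p hp (Dvd.intro m rfl)) hp x hx
    obtain ⟨z, hz, rfl⟩ := ih (H7_SNum_right h) y hy
    exact ⟨z, hz, mul_smul _ _ _⟩

lemma H7_bezout {a b : ℕ} (hab : Nat.Coprime a b) (x : A) :
    x = a • (Nat.gcdA a b • x) + (Nat.gcdB a b) • (b • x) := by
  have h := Nat.gcd_eq_gcd_ab a b
  rw [hab.gcd_eq_one] at h
  have h2 : ((a : ℤ) * Nat.gcdA a b + (b : ℤ) * Nat.gcdB a b) • x = x := by rw [← h]; simp
  rw [add_smul, mul_smul, mul_comm (b : ℤ), mul_smul, natCast_zsmul, natCast_zsmul] at h2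
  exact h2.symm

lemma H7_coprime_div {a b : ℕ} (hab : Nat.Coprime a b) (x : A) (hb : b • x = 0) :
    ∃ u : ℤ, a • (u • x) = x := by
  refine ⟨Nat.gcdA a b, ?_⟩
  have := H7_bezout hab x
  rw [hb, smul_zero, add_zero] at this
  exact this.symm

lemma H7_coprime_kill {a b : ℕ} (hab : Nat.Coprime a b) (x : A) (ha : a • x = 0)
    (hb : b • x = 0) : x = 0 := by
  have := H7_bezout hab x
  rw [hb, smul_zero, add_zero, smul_comm, ha, smul_zero] at this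
  exact this


theorem H7_S16343
    {A T : Type*} [AddCommGroup A] [AddCommGroup T] (P : Set ℕ) (hP : ∀ p ∈ P, p.Prime)
    (π : A →+ T) (hπ : Function.Surjective π) (hT : ∀ t : T, ∃ n : ℕ, 0 < n ∧ n • t = 0)
    (hD : ∀ ℓ ∈ P, ∀ x ∈ π.ker, ∃ y ∈ π.ker, ℓ • y = x)
    (TP T' : AddSubgroup T)
    (hTP : ∀ t, t ∈ TP ↔ ∃ n : ℕ, 0 < n ∧ (∀ p : ℕ, p.Prime → p ∣ n → p ∈ P) ∧ n • t = 0)
    (hT' : ∀ t, t ∈ T' ↔ ∃ n : ℕ, 0 < n ∧ (∀ p : ℕ, p.Prime → p ∣ n → p ∉ P) ∧ n • t = 0) :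
    (∀ ℓ ∈ P, ∀ x ∈ T'.comap π, ∃ y ∈ T'.comap π, ℓ • y = x) ∧
    ∃ s : TP →+ A, (∀ t : TP, π (s t) = (t : T)) ∧
      Function.Bijective (fun q : (T'.comap π) × TP => (q.1 : A) + s q.2) := by
  classical
  have hTP' : ∀ t, t ∈ TP ↔ ∃ n, H7_SNum P n ∧ n • t = 0 := by
    intro t; rw [hTP]
    constructor
    · rintro ⟨n, h1, h2, h3⟩; exact ⟨n, ⟨h1, h2⟩, h3⟩
    · rintro ⟨n, ⟨h1, h2⟩, h3⟩; exact ⟨n, h1, h2, h3⟩
  have hT'' : ∀ t, t ∈ T' ↔ ∃ n, H7_SNum Pᶜ n ∧ n • t = 0 := by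
    intro t; rw [hT']
    constructor
    · rintro ⟨n, h1, h2, h3⟩; exact ⟨n, ⟨h1, h2⟩, h3⟩
    · rintro ⟨n, ⟨h1, h2⟩, h3⟩; exact ⟨n, h1, h2, h3⟩
  have hD' : ∀ ℓ ∈ P, ℓ.Prime → ∀ x ∈ π.ker, ∃ y ∈ π.ker, ℓ • y = x := fun ℓ hℓ _ => hD ℓ hℓ
  constructor
  · -- part 1
    intro ℓ hℓ x hx
    rw [AddSubgroup.mem_comap, hT''] at hx
    obtain ⟨n, hn, hnx⟩ := hx
    have hcop : Nat.Coprime ℓ n := H7_SNum_coprime (H7_SNum_prime P (hP ℓ hℓ) hℓ) hn
    obtain ⟨u, hu⟩ := H7_coprime_div hcop (π x) hnx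
    obtain ⟨y0, hy0⟩ := hπ (u • π x)
    have hk : x - ℓ • y0 ∈ π.ker := by
      rw [AddMonoidHom.mem_ker, map_sub, map_nsmul, hy0, hu, sub_self]
    obtain ⟨k, hk1, hk2⟩ := hD ℓ hℓ _ hk
    refine ⟨y0 + k, ?_, ?_⟩
    · rw [AddSubgroup.mem_comap, map_add, AddMonoidHom.mem_ker.1 hk1, add_zero, hy0]
      exact T'.zsmul_mem ((hT'' _).2 ⟨n, hn, hnx⟩) u
    · rw [smul_add, hk2]; abel
  · -- part 2
    -- the P-primary torsion subgroup of A
    let D : AddSubgroup A :=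
      { carrier := {a | ∃ n, H7_SNum P n ∧ n • a = 0}
        zero_mem' := ⟨1, H7_SNum_one P, smul_zero _⟩
        add_mem' := by
          rintro a b ⟨n, hn, hna⟩ ⟨m, hm, hmb⟩
          refine ⟨n * m, H7_SNum_mul hn hm, ?_⟩
          rw [smul_add, mul_smul, smul_comm, hna, smul_zero, zero_add, mul_smul, hmb, smul_zero]
        neg_mem' := by
          rintro a ⟨n, hn, hna⟩
          exact ⟨n, hn, by rw [smul_neg, hna, neg_zero]⟩ }
    have hDmem : ∀ a, a ∈ D ↔ ∃ n, H7_SNum P n ∧ n • a = 0 := fun a => Iff.rfl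
    let Q : AddSubgroup A := D ⊓ π.ker
    -- Q is divisible by every prime
    have hQprime : ∀ ℓ ∈ (Set.univ : Set ℕ), ℓ.Prime → ∀ x ∈ Q, ∃ y ∈ Q, ℓ • y = x := by
      intro ℓ _ hℓ x hx
      obtain ⟨hxD, hxK⟩ := hx
      obtain ⟨n, hn, hnx⟩ := (hDmem x).1 hxD
      by_cases hℓP : ℓ ∈ P
      · obtain ⟨y, hyK, hy⟩ := hD ℓ hℓP x hxK
        refine ⟨y, ⟨(hDmem y).2 ⟨n * ℓ, H7_SNum_mul hn (H7_SNum_prime P hℓ hℓP), ?_⟩, hyK⟩, hy⟩
        rw [mul_smul, hy, hnx]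
      · have hcop : Nat.Coprime ℓ n :=
          (H7_SNum_coprime hn (H7_SNum_prime Pᶜ hℓ hℓP)).symm
        obtain ⟨u, hu⟩ := H7_coprime_div hcop x hnx
        exact ⟨u • x, Q.zsmul_mem ⟨hxD, hxK⟩ u, hu⟩
    have hQdiv : ∀ n : ℕ, 0 < n → ∀ x ∈ Q, ∃ y ∈ Q, n • y = x := fun n hn =>
      H7_div_SNum Q Set.univ hQprime n ⟨hn, fun _ _ _ => Set.mem_univ _⟩
    have hdivZ : ∀ {n : ℤ} (_ : n ≠ 0), n • (⊤ : AddSubgroup Q) = ⊤ := by
      intro n hn
      rw [eq_top_iff]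
      rintro ⟨x, hx⟩ -
      have hnat : 0 < n.natAbs := Int.natAbs_pos.2 hn
      obtain ⟨y, hy, hyx⟩ := hQdiv n.natAbs hnat x hx
      rw [AddSubgroup.mem_smul_pointwise_iff_exists]
      rcases Int.natAbs_eq n with h | h
      · refine ⟨⟨y, hy⟩, trivial, ?_⟩
        apply Subtype.ext
        show n • y = x
        rw [h, natCast_zsmul]
        exact hyx
      · refine ⟨⟨-y, Q.neg_mem hy⟩, trivial, ?_⟩
        apply Subtype.ext
        show n • (-y) = x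
        rw [h, neg_smul, smul_neg, neg_neg, natCast_zsmul]
        exact hyx
    have _ : DivisibleBy Q ℤ := AddCommGroup.divisibleByIntOfSMulTopEqTop Q hdivZ
    have hBaer : Module.Baer ℤ Q := Module.Baer.of_divisible _
    obtain ⟨r, hr⟩ := hBaer.extension_property_addMonoidHom
      (AddSubgroup.inclusion (inf_le_left : Q ≤ D))
      (AddSubgroup.inclusion_injective _) (AddMonoidHom.id Q)
    have hr' : ∀ (a : A) (haQ : a ∈ Q), ((r ⟨a, haQ.1⟩ : Q) : A) = a := by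
      intro a haQ
      have := DFunLike.congr_fun hr ⟨a, haQ⟩
      simp only [AddMonoidHom.comp_apply] at this
      have h2 : (AddSubgroup.inclusion (inf_le_left : Q ≤ D)) ⟨a, haQ⟩ = ⟨a, haQ.1⟩ := rfl
      rw [h2] at this
      rw [this]
      rfl
    -- the map g : D → A
    let g : D →+ A := D.subtype - (Q.subtype.comp r)
    have hgdef : ∀ a : D, g a = (a : A) - ((r a : Q) : A) := fun a => rfl
    have hπD : ∀ a : D, π (a : A) ∈ TP := by
      rintro ⟨a, ha⟩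
      obtain ⟨n, hn, hna⟩ := (hDmem a).1 ha
      exact (hTP' _).2 ⟨n, hn, by rw [← map_nsmul, hna, map_zero]⟩
    let πD : D →+ TP := (π.comp D.subtype).codRestrict TP hπD
    have hπDdef : ∀ a : D, ((πD a : TP) : T) = π (a : A) := fun a => rfl
    have hsurj : Function.Surjective πD := by
      rintro ⟨t, ht⟩
      obtain ⟨n, hn, hnt⟩ := (hTP' t).1 ht
      obtain ⟨a0, rfl⟩ := hπ t
      have hk : n • a0 ∈ π.ker := by rw [AddMonoidHom.mem_ker, map_nsmul, hnt]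
      obtain ⟨k, hkK, hk2⟩ := H7_div_SNum π.ker P hD' n hn _ hk
      have haD : a0 - k ∈ D := (hDmem _).2 ⟨n, hn, by rw [smul_sub, hk2, sub_self]⟩
      refine ⟨⟨a0 - k, haD⟩, ?_⟩
      apply Subtype.ext
      rw [hπDdef]
      show π (a0 - k) = π a0
      rw [map_sub, AddMonoidHom.mem_ker.1 hkK, sub_zero]
    have hker : πD.ker ≤ g.ker := by
      rintro ⟨a, ha⟩ hmem
      rw [AddMonoidHom.mem_ker] at hmem ⊢
      have h1 : π a = 0 := by
        have := congrArg (fun t : TP => (t : T)) hmem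
        simpa [hπDdef] using this
      have haQ : a ∈ Q := ⟨ha, AddMonoidHom.mem_ker.2 h1⟩
      rw [hgdef, hr' a haQ, sub_self]
    let s : TP →+ A := πD.liftOfSurjective hsurj ⟨g, hker⟩
    have hs : ∀ a : D, s (πD a) = g a := fun a =>
      AddMonoidHom.liftOfRightInverse_comp_apply _ _ _ ⟨g, hker⟩ a
    have hπs : ∀ t : TP, π (s t) = (t : T) := by
      intro t
      obtain ⟨a, rfl⟩ := hsurj t
      rw [hs, hgdef, map_sub, hπDdef]
      have : ((r a : Q) : A) ∈ π.ker := (r a).2.2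
      rw [AddMonoidHom.mem_ker.1 this, sub_zero]
    refine ⟨s, hπs, ?_, ?_⟩
    · -- injective
      rintro ⟨⟨a, ha⟩, t⟩ ⟨⟨a', ha'⟩, t'⟩ h
      simp only at h
      have h1 := congrArg π h
      rw [map_add, map_add, hπs, hπs] at h1
      have h2 : (t : T) - t' = π a' - π a := by
        rw [sub_eq_sub_iff_add_eq_add, add_comm, h1, add_comm]
      have h3 : (t : T) - t' ∈ TP := TP.sub_mem t.2 t'.2
      have h4 : (t : T) - t' ∈ T' := by
        rw [h2]; exact T'.sub_mem ha' ha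
      obtain ⟨n, hn, hnt⟩ := (hTP' _).1 h3
      obtain ⟨m, hm, hmt⟩ := (hT'' _).1 h4
      have h5 : (t : T) - t' = 0 := H7_coprime_kill (H7_SNum_coprime hn hm) _ hnt hmt
      have h6 : t = t' := Subtype.ext (sub_eq_zero.1 h5)
      subst h6
      have h7 : a = a' := add_right_cancel h
      subst h7
      rfl
    · -- surjective
      intro a
      obtain ⟨n, hn, hna⟩ := hT (π a)
      obtain ⟨n1, n2, rfl, hn1, hn2⟩ := H7_factor P n hn
      have hcop := H7_SNum_coprime hn1 hn2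
      have hbez := H7_bezout hcop (π a)
      -- t' = n1 • (gcdA • π a) ∈ T', tP = gcdB • (n2 • π a) ∈ TP
      have htP : (Nat.gcdB n1 n2) • (n2 • π a) ∈ TP := by
        refine (hTP' _).2 ⟨n1, hn1, ?_⟩
        rw [smul_comm, ← mul_smul, hna, smul_zero]
      have ht' : n1 • (Nat.gcdA n1 n2 • π a) ∈ T' := by
        refine (hT'' _).2 ⟨n2, hn2, ?_⟩
        rw [← mul_smul, smul_comm, mul_comm, hna, smul_zero]
      refine ⟨⟨⟨a - s ⟨_, htP⟩, ?_⟩, ⟨_, htP⟩⟩, ?_⟩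
      · rw [AddSubgroup.mem_comap, map_sub, hπs]
        have : π a - (Nat.gcdB n1 n2) • (n2 • π a) = n1 • (Nat.gcdA n1 n2 • π a) := by
          rw [sub_eq_iff_eq_add]; exact hbez
        rw [this]; exact ht'
      · simp

end
end Groth.Agent.Lib.helper7
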