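import Mathlib

set_option autoImplicit false
set_option linter.unusedSectionVars false
universe u

namespace Groth.Agent.Lib.helper7

theorem H7_S6294 {R : Type u} [CommRing R] {ι : Type} [Fintype ι] (q : ι → Ideal R) [hp : ∀ i, (q i).IsPrime]
    (hinj : Function.Injective q) (hmin : ∀ P : Ideal R, P ∈ minimalPrimes R ↔ P ∈ Set.range q)
    (hzd : ∀ x : R, x ∈ nonZeroDivisors R ↔ ∀ i, x ∉ q i) :
    IsLocalization (nonZeroDivisors R) (∀ i, Localization.AtPrime (q i)) := by
  classical
  have hqmin : ∀ i, q i ∈ minimalPrimes R := fun i => (hmin _).mpr ⟨i, rfl⟩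
  have hle : ∀ i j, q i ≤ q j → i = j := by
    intro i j h
    have h2 : q j ≤ q i := (hqmin j).2 ⟨inferInstance, bot_le⟩ h
    exact hinj (le_antisymm h h2)
  -- nilpotency in the localization at a minimal prime
  have hnil : ∀ i (x : R), x ∈ q i → IsNilpotent (algebraMap R (Localization.AtPrime (q i)) x) := by
    intro i x hx
    have h1 := IsLocalization.AtPrime.radical_map_of_mem_minimalPrimes
      (A := Localization.AtPrime (q i)) (q i) ⊥ (hqmin i)
    have h2 : algebraMap R (Localization.AtPrime (q i)) x ∈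
        ((⊥ : Ideal R).map (algebraMap R (Localization.AtPrime (q i)))).radical := by
      rw [h1]; exact Ideal.mem_map_of_mem _ hx
    rw [Ideal.map_bot] at h2
    obtain ⟨n, hn⟩ := h2
    exact ⟨n, by simpa using hn⟩
  have hunit : ∀ i (x : R), x ∉ q i → IsUnit (algebraMap R (Localization.AtPrime (q i)) x) :=
    fun i x hx => IsLocalization.map_units (Localization.AtPrime (q i)) (⟨x, hx⟩ : (q i).primeCompl)
  -- the elements Y_i
  have hY : ∀ i, ∃ Y : R, Y ∉ q i ∧ (∀ j, j ≠ i → Y ∈ q j) ∧
      ∀ j, j ≠ i → algebraMap R (Localization.AtPrime (q j)) Y = 0 := by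
    intro i
    have h1 : ¬ (Finset.univ.erase i).inf q ≤ q i := by
      intro hcon
      obtain ⟨j, hj, hjle⟩ := (Ideal.IsPrime.inf_le' (hp i)).mp hcon
      exact (Finset.mem_erase.mp hj).1 (hle j i hjle)
    obtain ⟨x, hx, hxi⟩ := SetLike.not_le_iff_exists.mp h1
    have hxj : ∀ j, j ≠ i → x ∈ q j := fun j hj =>
      (Finset.inf_le (Finset.mem_erase.mpr ⟨hj, Finset.mem_univ j⟩) : _ ≤ q j) hx
    have hn : ∀ j, ∃ n : ℕ, j ≠ i → algebraMap R (Localization.AtPrime (q j)) x ^ n = 0 := by
      intro j
      by_cases hj : j = i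
      · exact ⟨0, fun h => absurd hj h⟩
      · obtain ⟨n, hn⟩ := hnil j x (hxj j hj)
        exact ⟨n, fun _ => hn⟩
    choose n hn using hn
    refine ⟨x ^ (∑ j, n j + 1), fun h => hxi ((hp i).mem_of_pow_mem _ h),
      fun j hj => Ideal.pow_mem_of_mem _ (hxj j hj) _ (Nat.succ_pos _), fun j hj => ?_⟩
    rw [map_pow, pow_succ, ← Finset.add_sum_erase _ _ (Finset.mem_univ j), pow_add, hn j hj,
      zero_mul, zero_mul]
  have hZ : ∀ i, ∃ Z : R, Z ∈ q i ∧ algebraMap R (Localization.AtPrime (q i)) Z = 0 ∧
      ∀ j, j ≠ i → Z ∉ q j := by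
    intro i
    have h1 : ¬ ((q i : Set R) ⊆ ⋃ j ∈ ((Finset.univ.erase i : Finset ι) : Set ι), q j) := by
      intro hcon
      rw [Ideal.subset_union_prime i i (fun j _ _ _ => hp j)] at hcon
      obtain ⟨j, hj, hjle⟩ := hcon
      exact (Finset.mem_erase.mp hj).1 (hle i j hjle).symm
    rw [Set.not_subset] at h1
    obtain ⟨w, hw, hwn⟩ := h1
    obtain ⟨m, hm⟩ := hnil i w hw
    refine ⟨w ^ (m + 1), Ideal.pow_mem_of_mem _ hw _ (Nat.succ_pos _),
      by rw [map_pow, pow_succ, hm, zero_mul], fun j hj hmem => hwn ?_⟩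
    simp only [Set.mem_iUnion]
    exact ⟨j, by simpa using hj, (hp j).mem_of_pow_mem _ hmem⟩
  choose Y hYi hYmem hYj using hY
  choose Z hZmem hZi hZj using hZ
  have hcomp : ∀ (x : R) (j : ι), (algebraMap R (∀ i, Localization.AtPrime (q i)) x) j =
      algebraMap R (Localization.AtPrime (q j)) x := fun x j => rfl
  refine ⟨?_, ?_, ?_⟩
  · rintro ⟨x, hx⟩
    rw [Pi.isUnit_iff]
    intro i
    exact hunit i x ((hzd x).mp hx i)
  · intro z
    have hgood : ∀ z : (∀ i, Localization.AtPrime (q i)),
        (∃ (r : R) (d : R), d ∈ nonZeroDivisors R ∧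
          z * algebraMap R (∀ i, Localization.AtPrime (q i)) d = algebraMap R _ r) := by
      intro z
      rw [← Finset.univ_sum_single z]
      apply Finset.sum_induction _ (fun z => ∃ (r : R) (d : R), d ∈ nonZeroDivisors R ∧
          z * algebraMap R (∀ i, Localization.AtPrime (q i)) d = algebraMap R _ r)
      · rintro z₁ z₂ ⟨r₁, d₁, hd₁, h₁⟩ ⟨r₂, d₂, hd₂, h₂⟩
        refine ⟨r₁ * d₂ + r₂ * d₁, d₁ * d₂, mul_mem hd₁ hd₂, ?_⟩
        rw [map_add, map_mul, map_mul, map_mul, ← h₁, ← h₂]
        ring
      · exact ⟨0, 1, one_mem _, by simp⟩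
      · intro i _
        obtain ⟨a, s, has⟩ := IsLocalization.exists_mk'_eq (q i).primeCompl (z i)
        refine ⟨a * Y i, s * Y i + Z i, ?_, ?_⟩
        · rw [hzd]
          intro j hmem
          by_cases hj : j = i
          · subst hj
            have h1 : (s : R) * Y j ∈ q j := by
              have := (q j).sub_mem hmem (hZmem j)
              simpa using this
            rcases (hp j).mem_or_mem h1 with h | h
            · exact s.2 h
            · exact hYi j h
          · have h1 : Z i ∈ q j := by
              have := (q j).sub_mem hmem ((q j).mul_mem_left (s : R) (hYmem i j hj))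
              simpa using this
            exact hZj i j hj h1
        · funext j
          rw [Pi.mul_apply, hcomp, hcomp]
          by_cases hj : j = i
          · subst hj
            rw [Pi.single_eq_same, map_add, hZi j, add_zero, map_mul, map_mul, ← mul_assoc, ← has,
              IsLocalization.mk'_spec]
          · rw [Pi.single_eq_of_ne hj, zero_mul, map_mul, hYj i j hj, mul_zero]
    obtain ⟨r, d, hd, h⟩ := hgood z
    exact ⟨(r, ⟨d, hd⟩), h⟩
  · intro a b hab
    -- annihilator of a - b
    let K : Ideal R := Ideal.span {a - b} |>.annihilator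
    have hK : ∀ c : R, c ∈ K ↔ c * (a - b) = 0 := by
      intro c
      change c ∈ (Submodule.span R {a - b}).annihilator ↔ _
      rw [Submodule.mem_annihilator_span_singleton, smul_eq_mul]
    have hKi : ∀ i, ¬ K ≤ q i := by
      intro i hle'
      have h1 : algebraMap R (Localization.AtPrime (q i)) a = algebraMap R _ b := by
        have := congrFun hab i
        exact this
      obtain ⟨c, hc⟩ := (IsLocalization.eq_iff_exists (q i).primeCompl _).mp h1
      have : (c : R) ∈ K := by rw [hK, mul_sub, hc, sub_self]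
      exact c.2 (hle' this)
    have h2 : ¬ ((K : Set R) ⊆ ⋃ j ∈ ((Finset.univ : Finset ι) : Set ι), q j) := by
      intro hcon
      by_cases hne : Nonempty ι
      · obtain ⟨i₀⟩ := hne
        rw [Ideal.subset_union_prime i₀ i₀ (fun j _ _ _ => hp j)] at hcon
        obtain ⟨j, _, hjle⟩ := hcon
        exact hKi j hjle
      · have : (1 : R) ∈ (K : Set R) := by
          -- no primes at all: then R has no minimal primes so R is trivial
          have hsub : Subsingleton R := by
            by_contra hns
            rw [not_subsingleton_iff_nontrivial] at hns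
            obtain ⟨P, hP⟩ := Ideal.nonempty_minimalPrimes (I := (⊥ : Ideal R)) bot_ne_top
            obtain ⟨i, _⟩ := (hmin P).mp hP
            exact hne ⟨i⟩
          rw [SetLike.mem_coe, hK]
          exact Subsingleton.elim _ _
        have := hcon this
        simp only [Set.mem_iUnion] at this
        obtain ⟨j, _, _⟩ := this
        exact hne ⟨j⟩
    rw [Set.not_subset] at h2
    obtain ⟨c, hcK, hcn⟩ := h2
    have hcq : ∀ i, c ∉ q i := by
      intro i hci
      apply hcn
      simp only [Set.mem_iUnion]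
      exact ⟨i, by simp, hci⟩
    refine ⟨⟨c, (hzd c).mpr hcq⟩, ?_⟩
    have := (hK c).mp hcK
    rw [mul_sub, sub_eq_zero] at this
    exact this

end Groth.Agent.Lib.helper7
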