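import Mathlib

set_option autoImplicit false
universe u v

namespace Groth.Agent.Lib.helper7

section
variable (A : Type u) [Ring A] (P : Type v) [AddCommGroup P] [Module A P]

/-- the trace ideal as a left ideal, in list form -/
def H7_traceIdeal : Ideal A where
  carrier := {a | ∃ l : List ((P →ₗ[A] A) × P), (l.map (fun q => q.1 q.2)).sum = a}
  zero_mem' := ⟨[], rfl⟩
  add_mem' := by
    rintro a b ⟨l₁, rfl⟩ ⟨l₂, rfl⟩
    exact ⟨l₁ ++ l₂, by rw [List.map_append, List.sum_append]⟩
  smul_mem' := by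
    rintro c a ⟨l, rfl⟩
    refine ⟨l.map (fun q => (q.1, c • q.2)), ?_⟩
    rw [List.map_map, smul_eq_mul, ← List.sum_map_mul_left]
    congr 1
    apply List.map_congr_left
    intro q _
    simp

theorem H7_traceIdeal_mem (φ : P →ₗ[A] A) (y : P) : φ y ∈ H7_traceIdeal A P :=
  ⟨[(φ, y)], by simp⟩

theorem H7_traceIdeal_mul_right {a : A} (ha : a ∈ H7_traceIdeal A P) (b : A) :
    a * b ∈ H7_traceIdeal A P := by
  obtain ⟨l, rfl⟩ := ha
  refine ⟨l.map (fun q => ((LinearMap.toSpanSingleton A A b) ∘ₗ q.1, q.2)), ?_⟩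
  rw [List.map_map, ← List.sum_map_mul_right]
  congr 1

theorem H7_traceIdeal_eq_top [IsSimpleRing (A ⧸ Ring.jacobson A)] [Module.Finite A P]
    [Module.Projective A P] [Nontrivial P] : H7_traceIdeal A P = ⊤ := by
  classical
  by_contra hne
  set T := H7_traceIdeal A P with hT
  set J := Ring.jacobson A with hJ
  let Tbar : TwoSidedIdeal (A ⧸ J) := TwoSidedIdeal.mk'
    {x | ∃ t ∈ T, Ideal.Quotient.mk J t = x}
    ⟨0, T.zero_mem, map_zero _⟩
    (by
      rintro x y ⟨t, ht, rfl⟩ ⟨s, hs, rfl⟩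
      exact ⟨t + s, T.add_mem ht hs, map_add _ _ _⟩)
    (by
      rintro x ⟨t, ht, rfl⟩
      exact ⟨-t, T.neg_mem ht, map_neg _ _⟩)
    (by
      rintro x y ⟨t, ht, rfl⟩
      obtain ⟨a, rfl⟩ := Ideal.Quotient.mk_surjective x
      exact ⟨a * t, T.mul_mem_left a ht, map_mul _ _ _⟩)
    (by
      rintro x y ⟨t, ht, rfl⟩
      obtain ⟨a, rfl⟩ := Ideal.Quotient.mk_surjective y
      exact ⟨t * a, H7_traceIdeal_mul_right A P ht a, map_mul _ _ _⟩)
  rcases eq_bot_or_eq_top Tbar with hbot | htop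
  · -- T ≤ J, so P = J • P
    have hTJ : ∀ t ∈ T, t ∈ J := by
      intro t ht
      have h1 : Ideal.Quotient.mk J t ∈ Tbar := by
        rw [TwoSidedIdeal.mem_mk']
        exact ⟨t, ht, rfl⟩
      rw [hbot, TwoSidedIdeal.mem_bot] at h1
      exact Ideal.Quotient.eq_zero_iff_mem.mp h1
    obtain ⟨n, f, g, hf, hg, hfg⟩ := Module.Finite.exists_comp_eq_id_of_projective A P
    have hlt := Submodule.jacobson_smul_lt_top (R := A) (M := P) ⊤
    apply hlt.ne
    rw [eq_top_iff]
    intro x _
    have hx : x = ∑ k, (g x k) • f (Pi.single k 1) := by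
      have h1 : f (g x) = x := by
        have := congrArg (fun h => h x) hfg
        simpa using this
      conv_lhs => rw [← h1, pi_eq_sum_univ (g x)]
      rw [map_sum]
      refine Finset.sum_congr rfl fun k _ => ?_
      rw [← map_smul]
      congr 1
      ext j
      simp [Pi.single_apply, eq_comm]
    rw [hx]
    refine Submodule.sum_mem _ fun k _ => ?_
    refine Submodule.smul_mem_smul ?_ Submodule.mem_top
    exact hTJ _ (H7_traceIdeal_mem A P ((LinearMap.proj k) ∘ₗ g) x)
  · have h1 : (1 : A ⧸ J) ∈ Tbar := by rw [htop]; trivial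
    rw [TwoSidedIdeal.mem_mk'] at h1
    obtain ⟨t, ht, ht1⟩ := h1
    obtain ⟨m, hm, hTm⟩ := Ideal.exists_le_maximal T hne
    have hJm : J ≤ m := Ring.jacobson_le_of_isMaximal m
    have h2 : t - 1 ∈ J := by
      rw [← Ideal.Quotient.eq_zero_iff_mem, map_sub, ht1, map_one, sub_self]
    have h3 : (1 : A) ∈ m := by
      have := m.sub_mem (hTm ht) (hJm h2)
      simpa using this
    exact hm.ne_top ((Ideal.eq_top_iff_one m).mpr h3)

end


theorem H7_faithful_of_trace (A : Type u) [Ring A] (P : Type v) [AddCommGroup P] [Module A P]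
    (l : List ((P →ₗ[A] A) × P)) (hl : (l.map (fun q => q.1 q.2)).sum = 1)
    (c : A) (hc : ∀ x : P, c • x = 0) : c = 0 := by
  have h : ∀ l' : List ((P →ₗ[A] A) × P), c * (l'.map (fun q => q.1 q.2)).sum = 0 := by
    intro l'
    induction l' with
    | nil => simp
    | cons q l' ih =>
      rw [List.map_cons, List.sum_cons, mul_add, ih, add_zero, ← smul_eq_mul, ← map_smul, hc,
        map_zero]
  have := h l
  rwa [hl, mul_one] at this

theorem H7_S13848 (A : Type u) [Ring A] [IsSimpleRing (A ⧸ Ring.jacobson A)]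
    [IsArtinianRing (A ⧸ Ring.jacobson A)] (P : Type v) [AddCommGroup P] [Module A P]
    [Module.Finite A P] [Module.Projective A P] [Nontrivial P] (u : P ≃ₗ[A] P)
    (hu : ∀ f : Module.End A P, (u : P →ₗ[A] P) ∘ₗ f = f ∘ₗ (u : P →ₗ[A] P)) :
    ∃! a : A, (∀ b : A, a * b = b * a) ∧ ∀ x : P, u x = a • x := by
  have h1 : (1 : A) ∈ H7_traceIdeal A P := by
    rw [H7_traceIdeal_eq_top A P]; trivial
  obtain ⟨l, hl⟩ := h1
  -- key commutation
  have hkey : ∀ (φ : P →ₗ[A] A) (y x : P), φ (u y) • x = φ y • u x := by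
    intro φ y x
    have := congrArg (fun h => h y) (hu ((LinearMap.toSpanSingleton A P x) ∘ₗ φ))
    simp only [LinearMap.comp_apply, LinearMap.toSpanSingleton_apply, LinearEquiv.coe_coe,
      map_smul] at this
    exact this.symm
  have hsum : ∀ (l' : List ((P →ₗ[A] A) × P)) (x : P),
      (l'.map (fun q => q.1 (u q.2))).sum • x = (l'.map (fun q => q.1 q.2)).sum • u x := by
    intro l' x
    induction l' with
    | nil => simp
    | cons q l' ih =>
      rw [List.map_cons, List.sum_cons, List.map_cons, List.sum_cons, add_smul, add_smul, ih, hkey]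
  set a := (l.map (fun q => q.1 (u q.2))).sum with ha
  have hax : ∀ x : P, u x = a • x := by
    intro x
    rw [ha, hsum l x, hl, one_smul]
  refine ⟨a, ⟨?_, hax⟩, ?_⟩
  · intro b
    have : a * b - b * a = 0 := by
      apply H7_faithful_of_trace A P l hl
      intro x
      rw [sub_smul, mul_smul, mul_smul, ← hax, ← hax, map_smul, sub_self]
    exact sub_eq_zero.mp this
  · rintro a' ⟨_, ha'⟩
    have : a' - a = 0 := by
      apply H7_faithful_of_trace A P l hl
      intro x
      rw [sub_smul, ← hax, ← ha', sub_self]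
    exact sub_eq_zero.mp this

end Groth.Agent.Lib.helper7
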