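import Mathlib
universe u v

namespace Groth.Agent.Lib.helper7

/-- A reduced two-dimensional commutative algebra over a field is a field or split. -/
theorem H7_two_dim_reduced (k : Type u) (A : Type v) [Field k] [CommRing A] [Algebra k A]
    [IsReduced A] (h2 : Module.finrank k A = 2) : IsField A ∨ Nonempty (A ≃ₐ[k] k × k) := by
  classical
  have hfin : Module.Finite k A := Module.finite_of_finrank_pos (by omega)
  have hnt : Nontrivial A := Module.nontrivial_of_finrank_pos (R := k) (by omega)
  by_cases hF : IsField A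
  · left; exact hF
  right
  have : ∃ x : A, x ≠ 0 ∧ ¬ IsUnit x := by
    by_contra hcon
    push Not at hcon
    apply hF
    refine ⟨⟨0, 1, zero_ne_one⟩, mul_comm, fun {a} ha => ?_⟩
    obtain ⟨u, hu⟩ := hcon a ha
    exact ⟨↑u⁻¹, by rw [← hu]; simp⟩
  obtain ⟨x, hx0, hxu⟩ := this
  have hli : LinearIndependent k ![(1 : A), x] := by
    rw [LinearIndependent.pair_iff]
    intro s t hst
    by_cases ht : t = 0
    · subst ht
      simp only [zero_smul, add_zero] at hst
      rcases smul_eq_zero.1 hst with h | h
      · exact ⟨h, rfl⟩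
      · exact absurd h one_ne_zero
    · exfalso
      apply hxu
      have hx : x = algebraMap k A (-(t⁻¹ * s)) := by
        have h1 : t • x = -(s • (1 : A)) := by linear_combination (exp := 1) hst
        have h2 : x = t⁻¹ • (t • x) := by rw [smul_smul, inv_mul_cancel₀ ht, one_smul]
        rw [h2, h1, Algebra.algebraMap_eq_smul_one, smul_neg, smul_smul, neg_smul]
      by_cases hs : s = 0
      · subst hs
        simp only [mul_zero, neg_zero, map_zero] at hx
        exact absurd hx hx0
      · rw [hx]
        exact (IsUnit.mk0 _ (neg_ne_zero.2 (mul_ne_zero (inv_ne_zero ht) hs))).map _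
  have hsp : Submodule.span k (Set.range ![(1 : A), x]) = ⊤ :=
    hli.span_eq_top_of_card_eq_finrank' (by simp [h2])
  have hrange : Set.range ![(1 : A), x] = {1, x} := by
    ext y
    simp only [Set.mem_range, Fin.exists_fin_two, Set.mem_insert_iff, Set.mem_singleton_iff]
    simp [eq_comm]
  have hxx : x * x ∈ Submodule.span k ({1, x} : Set A) := by
    rw [← hrange, hsp]; trivial
  obtain ⟨u, t, hut⟩ := Submodule.mem_span_pair.1 hxx
  have hninj : ¬ Function.Injective (LinearMap.mulLeft k x) := by
    intro hinj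
    have hsurj := (LinearMap.injective_iff_surjective).1 hinj
    obtain ⟨y, hy⟩ := hsurj 1
    exact hxu (IsUnit.of_mul_eq_one y hy)
  obtain ⟨y, hy0, hxy⟩ : ∃ y, y ≠ 0 ∧ x * y = 0 := by
    rw [injective_iff_map_eq_zero] at hninj
    push Not at hninj
    obtain ⟨y, h1, h2⟩ := hninj
    exact ⟨y, h2, h1⟩
  have hu0 : u = 0 := by
    have h3 : u • y = 0 := by
      have h4 := congrArg (· * y) hut
      simp only [add_mul, smul_mul_assoc, one_mul, hxy, smul_zero, add_zero] at h4
      rw [h4, mul_assoc, hxy, mul_zero]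
    exact (smul_eq_zero.1 h3).resolve_right hy0
  subst hu0
  have htx : x * x = t • x := by rw [← hut]; simp
  have ht0 : t ≠ 0 := by
    rintro rfl
    rw [zero_smul] at htx
    exact hx0 (IsReduced.eq_zero x ⟨2, by rw [pow_two, htx]⟩)
  obtain ⟨e, he⟩ : ∃ e : A, e = t⁻¹ • x := ⟨_, rfl⟩
  have hee : e * e = e := by
    rw [he, smul_mul_smul_comm, htx, smul_smul, mul_assoc, inv_mul_cancel₀ ht0, mul_one]
  have hxe : x = t • e := by rw [he, smul_smul, mul_inv_cancel₀ ht0, one_smul]
  have he0 : e ≠ 0 := by
    intro h; rw [h, smul_zero] at hxe; exact hx0 hxe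
  have he1 : 1 - e ≠ 0 := by
    intro h
    apply hxu
    have : e = 1 := (sub_eq_zero.1 h).symm
    rw [hxe, this, ← Algebra.algebraMap_eq_smul_one]
    exact (IsUnit.mk0 _ ht0).map _
  have hee' : e * (1 - e) = 0 := by rw [mul_sub, mul_one, hee, sub_self]
  have hee'' : (1 - e) * (1 - e) = 1 - e := by
    rw [sub_mul, one_mul, hee', sub_zero]
  let f : (k × k) →ₐ[k] A := AlgHom.ofLinearMap
    ((LinearMap.fst k k k).smulRight e + (LinearMap.snd k k k).smulRight (1 - e))
    (by simp)
    (by
      intro p q
      simp only [LinearMap.add_apply, LinearMap.smulRight_apply, LinearMap.fst_apply,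
        LinearMap.snd_apply, Prod.fst_mul, Prod.snd_mul]
      rw [add_mul, mul_add, mul_add, smul_mul_smul_comm, smul_mul_smul_comm, smul_mul_smul_comm,
        smul_mul_smul_comm, hee, hee', hee'', mul_comm (1 - e) e, hee']
      simp)
  have hf : ∀ p : k × k, f p = p.1 • e + p.2 • (1 - e) := fun p => rfl
  have hinj : Function.Injective f := by
    rw [injective_iff_map_eq_zero]
    intro p hp
    rw [hf] at hp
    have h5 : p.1 • e = 0 := by
      have := congrArg (e * ·) hp
      simp only [mul_add, mul_smul_comm, hee, hee', smul_zero, add_zero, mul_zero] at this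
      exact this
    have h6 : p.2 • (1 - e) = 0 := by rw [h5, zero_add] at hp; exact hp
    have h7 : p.1 = 0 := (smul_eq_zero.1 h5).resolve_right he0
    have h8 : p.2 = 0 := (smul_eq_zero.1 h6).resolve_right he1
    exact Prod.ext h7 h8
  have hbij : Function.Bijective f :=
    ⟨hinj, (LinearMap.injective_iff_surjective_of_finrank_eq_finrank (f := f.toLinearMap)
      (by simp [h2])).1 hinj⟩
  exact ⟨(AlgEquiv.ofBijective f hbij).symm⟩

end Groth.Agent.Lib.helper7
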