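import Mathlib

universe u

namespace Groth.Agent.Lib.helper7

theorem H7_uptri_comm {R : Type u} [CommRing R] (n : ℕ)
    (N x : Matrix (Fin n) (Fin n) R)
    (hN0 : ∀ i j : Fin n, ¬ i < j → N i j = 0)
    (hNu : ∀ i j : Fin n, j.val = i.val + 1 → IsUnit (N i j))
    (hc : x * N = N * x) :
    (∀ i j : Fin n, j < i → x i j = 0) ∧ (∀ i j : Fin n, x i i = x j j) := by
  have E : ∀ i j, ∑ m, x i m * N m j = ∑ m, N i m * x m j := by
    intro i j
    have := congrFun (congrFun hc i) j
    simpa [Matrix.mul_apply] using this
  -- lower triangular part vanishes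
  have tri : ∀ k : ℕ, ∀ j : Fin n, j.val = k → ∀ l : Fin n, j < l → x l j = 0 := by
    intro k
    induction k using Nat.strong_induction_on with
    | _ k IHk =>
      intro j hj
      have inner : ∀ d : ℕ, ∀ l : Fin n, n - l.val = d → j < l → x l j = 0 := by
        intro d
        induction d using Nat.strong_induction_on with
        | _ d IHd =>
          intro l hl hjl
          have hl1 : 0 < l.val := lt_of_le_of_lt (Nat.zero_le _) hjl
          let i : Fin n := ⟨l.val - 1, by have := l.isLt; omega⟩
          have hil : l.val = i.val + 1 := by simp only [i]; omega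
          have hji : j ≤ i := by
            rw [Fin.le_def]; have : j.val < l.val := hjl; omega
          have e1 : ∑ m, x i m * N m j = 0 := by
            refine Finset.sum_eq_zero (fun m _ => ?_)
            by_cases hmj : m < j
            · have : x i m = 0 :=
                IHk m.val (by rw [← hj]; exact hmj) m rfl i (lt_of_lt_of_le hmj hji)
              rw [this, zero_mul]
            · rw [hN0 m j hmj, mul_zero]
          have e2 : ∑ m, N i m * x m j = N i l * x l j := by
            refine Finset.sum_eq_single l (fun m _ hml => ?_) (fun h => absurd (Finset.mem_univ l) h)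
            by_cases him : i < m
            · have hlm : l < m := by
                rw [Fin.lt_def] at him ⊢
                have : m.val ≠ l.val := fun h => hml (Fin.ext h)
                omega
              have : x m j = 0 := by
                refine IHd (n - m.val) ?_ m rfl (lt_trans hjl hlm)
                rw [← hl]; have := m.isLt; rw [Fin.lt_def] at hlm; omega
              rw [this, mul_zero]
            · rw [hN0 i m him, zero_mul]
          have e3 := E i j
          rw [e1, e2] at e3
          exact ((hNu i l hil).mul_right_eq_zero).1 e3.symm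
      intro l hjl
      exact inner (n - l.val) l rfl hjl
  have tri' : ∀ i j : Fin n, j < i → x i j = 0 := fun i j h => tri j.val j rfl i h
  refine ⟨tri', ?_⟩
  -- diagonal constant
  have step : ∀ i j : Fin n, j.val = i.val + 1 → x i i = x j j := by
    intro i j hij
    have hlt : i < j := by rw [Fin.lt_def]; omega
    have e1 : ∑ m, x i m * N m j = x i i * N i j := by
      refine Finset.sum_eq_single i (fun m _ hmi => ?_) (fun h => absurd (Finset.mem_univ i) h)
      by_cases hmj : m < j
      · have : m < i := by
          rw [Fin.lt_def] at hmj ⊢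
          have : m.val ≠ i.val := fun h => hmi (Fin.ext h)
          omega
        rw [tri' i m this, zero_mul]
      · rw [hN0 m j hmj, mul_zero]
    have e2 : ∑ m, N i m * x m j = N i j * x j j := by
      refine Finset.sum_eq_single j (fun m _ hmj => ?_) (fun h => absurd (Finset.mem_univ j) h)
      by_cases him : i < m
      · have : j < m := by
          rw [Fin.lt_def] at him ⊢
          have : m.val ≠ j.val := fun h => hmj (Fin.ext h)
          omega
        rw [tri' m j this, mul_zero]
      · rw [hN0 i m him, zero_mul]
    have e3 := E i j
    rw [e1, e2, mul_comm] at e3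
    exact (hNu i j hij).mul_left_cancel e3
  have all0 : ∀ k : ℕ, ∀ i j : Fin n, i.val = 0 → j.val = k → x i i = x j j := by
    intro k
    induction k with
    | zero =>
      intro i j hi hj
      have : i = j := Fin.ext (by omega)
      rw [this]
    | succ k ih =>
      intro i j hi hj
      let j' : Fin n := ⟨k, by have := j.isLt; omega⟩
      rw [ih i j' hi rfl]
      exact step j' j (by simp only [j']; omega)
  intro i j
  by_cases hn : 0 < n
  · let z : Fin n := ⟨0, hn⟩
    rw [← all0 i.val z i rfl rfl, ← all0 j.val z j rfl rfl]
  · exact absurd (lt_of_le_of_lt (Nat.zero_le _) i.isLt) hn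

theorem H7_S15845 (k : Type u) [Field k] (n : ℕ)
    (u : Matrix (Fin n) (Fin n) k) (htri : ∀ i j : Fin n, j < i → u i j = 0) (hdiag : ∀ i j : Fin n, u i i = u j j)
    (hreg : ∀ (i j : Fin n), j.val = i.val + 1 → u i j ≠ 0)
    (R : Type u) [CommRing R] [Algebra k R] (x : Matrix (Fin n) (Fin n) R) (hx : IsUnit x)
    (hxu : x * u.map (algebraMap k R) = u.map (algebraMap k R) * x) :
    (∀ i j : Fin n, j < i → x i j = 0) ∧ (∀ i j : Fin n, x i i = x j j) := by
  classical
  by_cases hn : 0 < n
  · let z : Fin n := ⟨0, hn⟩
    let c : R := algebraMap k R (u z z)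
    let N : Matrix (Fin n) (Fin n) R := u.map (algebraMap k R) - c • (1 : Matrix (Fin n) (Fin n) R)
    have hN : x * N = N * x := by
      simp only [N, mul_sub, sub_mul, hxu, Matrix.mul_smul, Matrix.smul_mul, Matrix.mul_one,
        Matrix.one_mul]
    refine H7_uptri_comm n N x ?_ ?_ hN
    · intro i j hij
      simp only [N, Matrix.sub_apply, Matrix.map_apply, Matrix.smul_apply, smul_eq_mul]
      by_cases h : i = j
      · subst h
        rw [Matrix.one_apply_eq, mul_one, hdiag i z]
        exact sub_self _
      · have : j < i := lt_of_le_of_ne (not_lt.1 hij) (Ne.symm h)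
        rw [htri i j this, Matrix.one_apply_ne h, mul_zero, map_zero, sub_zero]
    · intro i j hij
      have hne : i ≠ j := by
        intro h; rw [h] at hij; omega
      simp only [N, Matrix.sub_apply, Matrix.map_apply, Matrix.smul_apply, smul_eq_mul]
      rw [Matrix.one_apply_ne hne, mul_zero, sub_zero]
      exact (isUnit_iff_ne_zero.2 (hreg i j hij)).map (algebraMap k R)
  · exact ⟨fun i => absurd (lt_of_le_of_lt (Nat.zero_le _) i.isLt) hn,
      fun i => absurd (lt_of_le_of_lt (Nat.zero_le _) i.isLt) hn⟩

end Groth.Agent.Lib.helper7
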