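import Mathlib

set_option autoImplicit false

namespace Groth.Agent.Lib.helper7

theorem H7_valRing_of_surj {V W : Type*} [CommRing V] [IsDomain V] [ValuationRing V]
    [CommRing W] [IsDomain W] (φ : V →+* W) (hφ : Function.Surjective φ) : ValuationRing W := by
  refine { cond' := ?_ }
  intro a b
  obtain ⟨a', rfl⟩ := hφ a
  obtain ⟨b', rfl⟩ := hφ b
  obtain ⟨c, hc | hc⟩ := ValuationRing.cond a' b'
  · exact ⟨φ c, Or.inl (by rw [← map_mul, hc])⟩
  · exact ⟨φ c, Or.inr (by rw [← map_mul, hc])⟩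

end Groth.Agent.Lib.helper7
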