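import Mathlib

namespace Groth.Agent.Lib.helper7

open Finset in
theorem H7_prod_split (n : ℕ) :
    (∏ i : Fin n, ∏ j ∈ Finset.univ.erase i, (MvPolynomial.X i - MvPolynomial.X j : MvPolynomial (Fin n) ℤ))
      = (Matrix.projVandermonde (fun _ => 1) (fun i => (MvPolynomial.X i : MvPolynomial (Fin n) ℤ))).det
        * (Matrix.vandermonde (fun i => (MvPolynomial.X i : MvPolynomial (Fin n) ℤ))).det := by
  classical
  rw [Matrix.det_projVandermonde, Matrix.det_vandermonde]
  have h1 : ∀ i : Fin n, Finset.univ.erase i = Finset.Ioi i ∪ Finset.Iio i := by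
    intro i
    ext j
    simp only [mem_erase, ne_eq, mem_univ, and_true, mem_union, mem_Ioi, mem_Iio]
    constructor
    · intro h
      rcases lt_trichotomy i j with h' | h' | h'
      · exact Or.inl h'
      · exact absurd h'.symm h
      · exact Or.inr h'
    · rintro (h | h)
      · exact h.ne'
      · exact h.ne
  have h2 : ∀ i : Fin n, Disjoint (Finset.Ioi i) (Finset.Iio i) := by
    intro i
    rw [Finset.disjoint_left]
    intro j hj hj'
    simp only [mem_Ioi, mem_Iio] at hj hj'
    exact lt_asymm hj hj'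
  simp_rw [h1, Finset.prod_union (h2 _)]
  rw [Finset.prod_mul_distrib]
  congr 1
  · apply Finset.prod_congr rfl
    intro i _
    apply Finset.prod_congr rfl
    intro j _
    ring
  · rw [Finset.prod_sigma', Finset.prod_sigma']
    refine Finset.prod_bij' (fun x _ => ⟨x.2, x.1⟩) (fun x _ => ⟨x.2, x.1⟩) ?_ ?_ ?_ ?_ ?_
    · intro x hx
      simp only [mem_sigma, mem_univ, mem_Iio, true_and, mem_Ioi] at hx ⊢
      exact hx
    · intro x hx
      simp only [mem_sigma, mem_univ, mem_Iio, true_and, mem_Ioi] at hx ⊢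
      exact hx
    · intro x _; rfl
    · intro x _; rfl
    · intro x _; rfl

theorem H7_S19004 (n : ℕ) :
    MvPolynomial.coeff (Finsupp.equivFunOnFinite.symm (fun _ : Fin n => n - 1))
      (∏ i : Fin n, ∏ j ∈ Finset.univ.erase i, (MvPolynomial.X i - MvPolynomial.X j : MvPolynomial (Fin n) ℤ)) = (n.factorial : ℤ) := by
  classical
  rw [H7_prod_split]
  have hmon : ∀ a : Fin n → ℕ, (∏ i, (MvPolynomial.X i : MvPolynomial (Fin n) ℤ) ^ a i)
      = MvPolynomial.monomial (Finsupp.equivFunOnFinite.symm a) 1 := by
    intro a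
    rw [MvPolynomial.monomial_eq, MvPolynomial.C_1, one_mul, Finsupp.prod_fintype]
    · rfl
    · intro i; simp
  have hD' : (Matrix.projVandermonde (fun _ => 1) (fun i => (MvPolynomial.X i : MvPolynomial (Fin n) ℤ))).det
      = ∑ σ : Equiv.Perm (Fin n),
          MvPolynomial.monomial (Finsupp.equivFunOnFinite.symm (fun i => ((σ i).rev : ℕ)))
            ((Equiv.Perm.sign σ : ℤ)) := by
    rw [← Matrix.det_transpose, Matrix.det_apply']
    apply Finset.sum_congr rfl
    intro σ _
    have : ∀ i, (Matrix.projVandermonde (fun _ => 1) (fun i => (MvPolynomial.X i : MvPolynomial (Fin n) ℤ))).transpose (σ i) i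
        = (MvPolynomial.X i : MvPolynomial (Fin n) ℤ) ^ ((σ i).rev : ℕ) := by
      intro i
      rw [Matrix.transpose_apply, Matrix.projVandermonde_apply, one_pow, one_mul]
    simp_rw [this]
    rw [hmon, ← eq_intCast (MvPolynomial.C (σ := Fin n) (R := ℤ)), MvPolynomial.C_mul_monomial, mul_one]
  have hD : (Matrix.vandermonde (fun i => (MvPolynomial.X i : MvPolynomial (Fin n) ℤ))).det
      = ∑ σ : Equiv.Perm (Fin n),
          MvPolynomial.monomial (Finsupp.equivFunOnFinite.symm (fun i => ((σ i : Fin n) : ℕ)))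
            ((Equiv.Perm.sign σ : ℤ)) := by
    rw [← Matrix.det_transpose, Matrix.det_apply']
    apply Finset.sum_congr rfl
    intro σ _
    have : ∀ i, (Matrix.vandermonde (fun i => (MvPolynomial.X i : MvPolynomial (Fin n) ℤ))).transpose (σ i) i
        = (MvPolynomial.X i : MvPolynomial (Fin n) ℤ) ^ ((σ i : Fin n) : ℕ) := by
      intro i
      rw [Matrix.transpose_apply, Matrix.vandermonde_apply]
    simp_rw [this]
    rw [hmon, ← eq_intCast (MvPolynomial.C (σ := Fin n) (R := ℤ)), MvPolynomial.C_mul_monomial, mul_one]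
  rw [hD', hD, Finset.sum_mul_sum, MvPolynomial.coeff_sum]
  have hinner : ∀ σ : Equiv.Perm (Fin n),
      MvPolynomial.coeff (Finsupp.equivFunOnFinite.symm (fun _ : Fin n => n - 1))
        (∑ τ : Equiv.Perm (Fin n),
          MvPolynomial.monomial (Finsupp.equivFunOnFinite.symm (fun i => ((σ i).rev : ℕ)))
            ((Equiv.Perm.sign σ : ℤ)) *
          MvPolynomial.monomial (Finsupp.equivFunOnFinite.symm (fun i => ((τ i : Fin n) : ℕ)))
            ((Equiv.Perm.sign τ : ℤ))) = 1 := by
    intro σ
    rw [MvPolynomial.coeff_sum, Finset.sum_eq_single σ]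
    · rw [MvPolynomial.monomial_mul, MvPolynomial.coeff_monomial, if_pos]
      · rcases Int.units_eq_one_or (Equiv.Perm.sign σ) with h | h <;> simp [h]
      · ext i
        simp only [Finsupp.coe_add, Pi.add_apply, Finsupp.equivFunOnFinite_symm_apply_apply,
          Fin.val_rev]
        have := (σ i).2
        omega
    · intro τ _ hτ
      rw [MvPolynomial.monomial_mul, MvPolynomial.coeff_monomial, if_neg]
      intro h
      apply hτ
      ext i
      have h1 := DFunLike.congr_fun h i
      simp only [Finsupp.coe_add, Pi.add_apply, Finsupp.equivFunOnFinite_symm_apply_apply,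
          Fin.val_rev] at h1
      have := (σ i).2
      have := (τ i).2
      omega
    · intro h; exact absurd (Finset.mem_univ σ) h
  rw [Finset.sum_congr rfl (fun σ _ => hinner σ)]
  simp [Fintype.card_perm]

end Groth.Agent.Lib.helper7
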