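import Mathlib
universe u
open DirectSum
namespace Groth.Agent.Lib.helper7

section
variable {R A : Type u} [CommRing R] [CommRing A] [Algebra R A] (𝒜 : ℕ → Submodule R A) [GradedAlgebra 𝒜]

/-- Veronese projection: keep the components of degree divisible by `d`. -/
noncomputable def H7_ver (d : ℕ) : A →+ A :=
  (DirectSum.coeAddMonoidHom 𝒜).comp
    ((DFinsupp.filterAddMonoidHom (fun i => 𝒜 i) (fun n => d ∣ n)).comp
      (DirectSum.decomposeAddEquiv 𝒜).toAddMonoidHom)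

lemma H7_ver_of_mem (d n : ℕ) (a : A) (ha : a ∈ 𝒜 n) :
    H7_ver 𝒜 d a = if d ∣ n then a else 0 := by
  unfold H7_ver
  simp only [AddMonoidHom.coe_comp, Function.comp_apply, AddEquiv.toAddMonoidHom_eq_coe,
    AddMonoidHom.coe_coe, DirectSum.decomposeAddEquiv_apply]
  rw [DirectSum.decompose_of_mem 𝒜 ha]
  show (DirectSum.coeAddMonoidHom 𝒜) (DFinsupp.filter (fun n => d ∣ n) (DFinsupp.single n ⟨a, ha⟩)) = _
  rw [DFinsupp.filter_single]
  split_ifs with h
  · exact DirectSum.coeAddMonoidHom_of 𝒜 n ⟨a, ha⟩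
  · simp

/-- `ρ (a * c) = ρ a * c` for `c` homogeneous of degree divisible by `d`. -/
lemma H7_ver_mul_homog (d k : ℕ) (hk : d ∣ k) (c : A) (hc : c ∈ 𝒜 k) (a : A) :
    H7_ver 𝒜 d (a * c) = H7_ver 𝒜 d a * c := by
  induction a using DirectSum.Decomposition.inductionOn 𝒜 with
  | zero => simp
  | homogeneous a' =>
    rename_i n
    obtain ⟨a, ha⟩ := a'
    show H7_ver 𝒜 d (a * c) = H7_ver 𝒜 d a * c
    rw [H7_ver_of_mem 𝒜 d (n + k) _ (SetLike.mul_mem_graded ha hc), H7_ver_of_mem 𝒜 d n a ha]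
    have : d ∣ n + k ↔ d ∣ n := (Nat.dvd_add_left hk)
    by_cases h : d ∣ n
    · rw [if_pos h, if_pos (this.2 h)]
    · rw [if_neg h, if_neg (fun h' => h (this.1 h')), zero_mul]
  | add a b iha ihb => rw [add_mul, map_add, map_add, iha, ihb, add_mul]

end

section
variable {R A : Type u} [CommRing R] [CommRing A] [Algebra R A] (𝒜 : ℕ → Submodule R A) [GradedAlgebra 𝒜]
    {B : Type u} [CommRing B] [Algebra R B] (ℬ : ℕ → Submodule R B) [GradedAlgebra ℬ]
    (d : ℕ) (φ : B →ₐ[R] A)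
    (hdeg : ∀ n : ℕ, Submodule.map φ.toLinearMap (ℬ n) = 𝒜 (n * d))
include hdeg

lemma H7_ver_mul_phi (a : A) (b : B) :
    H7_ver 𝒜 d (a * φ b) = H7_ver 𝒜 d a * φ b := by
  induction b using DirectSum.Decomposition.inductionOn ℬ with
  | zero => simp
  | homogeneous b' =>
    rename_i n
    obtain ⟨b, hb⟩ := b'
    have : φ b ∈ 𝒜 (n * d) := by
      rw [← hdeg n]; exact ⟨b, hb, rfl⟩
    exact H7_ver_mul_homog 𝒜 d (n * d) (Dvd.intro_left n rfl) _ this a
  | add x y ihx ihy => rw [map_add, mul_add, map_add, ihx, ihy, mul_add]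

lemma H7_ver_phi (b : B) : H7_ver 𝒜 d (φ b) = φ b := by
  have := H7_ver_mul_phi 𝒜 ℬ d φ hdeg 1 b
  rw [one_mul] at this
  rw [this]
  have h1 : H7_ver 𝒜 d (1 : A) = 1 := by
    rw [H7_ver_of_mem 𝒜 d 0 1 (SetLike.GradedOne.one_mem), if_pos (dvd_zero d)]
  rw [h1, one_mul]

lemma H7_ver_mem_range (hd : 0 < d) (a : A) : ∃ b : B, H7_ver 𝒜 d a = φ b := by
  induction a using DirectSum.Decomposition.inductionOn 𝒜 with
  | zero => exact ⟨0, by simp⟩
  | homogeneous a' =>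
    rename_i n
    obtain ⟨a, ha⟩ := a'
    show ∃ b : B, H7_ver 𝒜 d a = φ b
    rw [H7_ver_of_mem 𝒜 d n a ha]
    by_cases h : d ∣ n
    · rw [if_pos h]
      obtain ⟨m, rfl⟩ := h
      rw [mul_comm, ← hdeg m] at ha
      obtain ⟨b, -, hb⟩ := ha
      exact ⟨b, hb.symm⟩
    · rw [if_neg h]; exact ⟨0, by simp⟩
  | add x y ihx ihy =>
    obtain ⟨b1, h1⟩ := ihx
    obtain ⟨b2, h2⟩ := ihy
    exact ⟨b1 + b2, by rw [map_add, map_add, h1, h2]⟩

lemma H7_ver_comap_map (hd : 0 < d) (hφ : Function.Injective φ) (I : Ideal B) :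
    Ideal.comap φ (Ideal.map φ I) = I := by
  apply le_antisymm _ Ideal.le_comap_map
  intro x hx
  rw [Ideal.mem_comap] at hx
  have key : ∀ y ∈ Ideal.map φ I, ∀ a : A, ∃ z ∈ I, H7_ver 𝒜 d (a * y) = φ z := by
    intro y hy
    unfold Ideal.map at hy
    induction hy using Submodule.span_induction with
    | mem y hy =>
      obtain ⟨x, hx, rfl⟩ := hy
      intro a
      obtain ⟨b, hb⟩ := H7_ver_mem_range 𝒜 ℬ d φ hdeg hd a
      refine ⟨b * x, I.mul_mem_left b hx, ?_⟩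
      rw [H7_ver_mul_phi 𝒜 ℬ d φ hdeg, hb, map_mul]
    | zero => intro a; exact ⟨0, I.zero_mem, by simp⟩
    | add y y' _ _ ihy ihy' =>
      intro a
      obtain ⟨z, hz, h1⟩ := ihy a
      obtain ⟨z', hz', h2⟩ := ihy' a
      exact ⟨z + z', I.add_mem hz hz', by rw [mul_add, map_add, h1, h2, map_add]⟩
    | smul c y _ ihy =>
      intro a
      obtain ⟨z, hz, h1⟩ := ihy (a * c)
      exact ⟨z, hz, by rw [smul_eq_mul, ← mul_assoc, h1]⟩
  obtain ⟨z, hz, h⟩ := key _ hx 1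
  rw [one_mul, H7_ver_phi 𝒜 ℬ d φ hdeg] at h
  rw [hφ h]; exact hz

theorem H7_S4412 [IsNoetherianRing A] (hd : 0 < d) (hφ : Function.Injective φ) :
    IsNoetherianRing B := by
  let e : Ideal B ↪o Ideal A :=
    { toFun := Ideal.map φ
      inj' := by
        intro I J h
        have h' : Ideal.map φ I = Ideal.map φ J := h
        rw [← H7_ver_comap_map 𝒜 ℬ d φ hdeg hd hφ I, h', H7_ver_comap_map 𝒜 ℬ d φ hdeg hd hφ J]
      map_rel_iff' := by
        intro I J
        constructor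
        · intro h
          change Ideal.map φ I ≤ Ideal.map φ J at h
          have := Ideal.comap_mono (f := φ) h
          rwa [H7_ver_comap_map 𝒜 ℬ d φ hdeg hd hφ, H7_ver_comap_map 𝒜 ℬ d φ hdeg hd hφ] at this
        · intro h; exact Ideal.map_mono h }
  have hwf : WellFoundedGT (Ideal A) := inferInstance
  have : WellFoundedGT (Ideal B) := e.wellFoundedGT
  exact isNoetherian_iff'.2 this

end
end Groth.Agent.Lib.helper7
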