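import Mathlib
import Groth.Agent.Lib.helper7.GradedGen2
universe u
open DirectSum
namespace Groth.Agent.Lib.helper7

theorem H7_S4411 {R A : Type u} [CommRing R] [CommRing A] [Algebra R A] (𝒜 : ℕ → Submodule R A) [GradedAlgebra 𝒜] [Algebra.FiniteType (𝒜 0) A]
    {B : Type u} [CommRing B] [Algebra R B] (ℬ : ℕ → Submodule R B) [GradedAlgebra ℬ]
    (d : ℕ) (hd : 0 < d) (φ : B →ₐ[R] A) (hφ : Function.Injective φ)
    (hdeg : ∀ n : ℕ, Submodule.map φ.toLinearMap (ℬ n) = 𝒜 (n * d)) :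
    Algebra.FiniteType (ℬ 0) B := by
  classical
  obtain ⟨T, hT, hTdeg⟩ := GradedAlgebra.exists_finset_adjoin_eq_top_and_homogeneous_ne_zero 𝒜
  choose! dg hdg0 hdg using hTdeg
  let f : T → A := fun i => i.1
  let deg : T → ℕ := fun i => dg i.1
  have hf : ∀ i, f i ∈ 𝒜 (deg i) := fun i => hdg i.1 i.2
  have hgen : Algebra.adjoin (𝒜 0) (Set.range f) = ⊤ := by
    have : Set.range f = (T : Set A) := by
      ext x; simp [f]
    rw [this]; exact hT
  have hH := H7_genBy_of_adjoin 𝒜 f deg hf hgen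
  have hpre : ∀ n (a : A), a ∈ 𝒜 (n * d) → ∃ b ∈ ℬ n, φ b = a := by
    intro n a ha
    rw [← hdeg n] at ha
    obtain ⟨b, hb, rfl⟩ := ha
    exact ⟨b, hb, rfl⟩
  have hg : ∀ i : T, ∃ b : B, φ b = f i ^ d := by
    intro i
    have : f i ^ d ∈ 𝒜 (deg i * d) := by
      have := SetLike.pow_mem_graded d (hf i)
      rwa [smul_eq_mul, mul_comm] at this
    obtain ⟨b, -, hb⟩ := hpre _ _ this
    exact ⟨b, hb⟩
  choose g hg using hg
  have hh : ∀ r : T → Fin d, ∃ b : B, (d ∣ ∑ i, (r i : ℕ) * deg i) →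
      φ b = ∏ i, f i ^ (r i : ℕ) := by
    intro r
    by_cases h : d ∣ ∑ i, (r i : ℕ) * deg i
    · obtain ⟨m, hm⟩ := h
      have : ∏ i, f i ^ (r i : ℕ) ∈ 𝒜 (m * d) := by
        have := H7_mon_mem 𝒜 f deg hf (fun i => (r i : ℕ))
        rwa [hm, mul_comm] at this
      obtain ⟨b, -, hb⟩ := hpre _ _ this
      exact ⟨b, fun _ => hb⟩
    · exact ⟨0, fun h' => absurd h' h⟩
  choose h hh using hh
  refine ⟨Subalgebra.fg_def.2 ⟨Set.range g ∪ Set.range h,
    (Set.finite_range g).union (Set.finite_range h), ?_⟩⟩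
  set S := Algebra.adjoin (ℬ 0) (Set.range g ∪ Set.range h) with hS
  rw [eq_top_iff]
  rintro b -
  have hzero : ∀ c ∈ ℬ 0, c ∈ S := fun c hc => S.algebraMap_mem ⟨c, hc⟩
  have hsmul : ∀ (r : R) (s : B), s ∈ S → r • s ∈ S := by
    intro r s hs
    rw [Algebra.smul_def]
    exact S.mul_mem (hzero _ (SetLike.algebraMap_mem_graded ℬ r)) hs
  have hgS : ∀ i, g i ∈ S := fun i => Algebra.subset_adjoin (Or.inl ⟨i, rfl⟩)
  have hhS : ∀ r, h r ∈ S := fun r => Algebra.subset_adjoin (Or.inr ⟨r, rfl⟩)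
  have key : ∀ n, ∀ y ∈ 𝒜 (n * d), ∃ s ∈ S, φ s = y := by
    intro n y hy
    have h0 := hH (n * d) y hy
    clear hy
    induction h0 using Submodule.span_induction with
    | mem y hy =>
      obtain ⟨c, hc, e, he, rfl⟩ := hy
      obtain ⟨c', hc', rfl⟩ := hpre 0 c (by rwa [zero_mul])
      have hdv : d ∣ ∑ i, ((⟨e i % d, Nat.mod_lt _ hd⟩ : Fin d) : ℕ) * deg i := by
        have h1 : ∑ i, e i * deg i = d * ∑ i, (e i / d) * deg i + ∑ i, (e i % d) * deg i := by
          rw [Finset.mul_sum, ← Finset.sum_add_distrib]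
          apply Finset.sum_congr rfl
          intro i _
          rw [← mul_assoc, ← add_mul, Nat.div_add_mod]
        have h2 : d ∣ ∑ i, e i * deg i := by rw [he]; exact Dvd.intro_left n rfl
        rw [h1] at h2
        exact (Nat.dvd_add_right (Dvd.intro _ rfl)).1 h2
      refine ⟨c' * ((∏ i, g i ^ (e i / d)) * h (fun i => ⟨e i % d, Nat.mod_lt _ hd⟩)), ?_, ?_⟩
      · exact S.mul_mem (hzero _ hc')
          (S.mul_mem (S.prod_mem (fun i _ => S.pow_mem (hgS i) _)) (hhS _))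
      · rw [map_mul, map_mul, map_prod, hh _ hdv]
        congr 1
        rw [← Finset.prod_mul_distrib]
        apply Finset.prod_congr rfl
        intro i _
        rw [map_pow, hg, ← pow_mul, ← pow_add, Nat.div_add_mod]
    | zero => exact ⟨0, S.zero_mem, map_zero _⟩
    | add y y' _ _ ihy ihy' =>
      obtain ⟨s, hs, rfl⟩ := ihy
      obtain ⟨s', hs', rfl⟩ := ihy'
      exact ⟨s + s', S.add_mem hs hs', map_add _ _ _⟩
    | smul r y _ ih =>
      obtain ⟨s, hs, rfl⟩ := ih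
      exact ⟨r • s, hsmul r s hs, map_smul _ _ _⟩
  induction b using DirectSum.Decomposition.inductionOn ℬ with
  | zero => exact S.zero_mem
  | homogeneous b' =>
    rename_i n
    obtain ⟨b, hb⟩ := b'
    have : φ b ∈ 𝒜 (n * d) := by rw [← hdeg n]; exact ⟨b, hb, rfl⟩
    obtain ⟨s, hs, hsb⟩ := key n _ this
    show b ∈ S
    rw [← hφ hsb]; exact hs
  | add x y hx hy => exact S.add_mem hx hy

end Groth.Agent.Lib.helper7
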