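import Mathlib
import Groth.Agent.Lib.helper7.FlatDiag

set_option autoImplicit false
universe u

open TensorProduct

namespace Groth.Agent.Lib.helper7

/-- Every module over a von Neumann regular ring is flat. -/
theorem H7_flat_of_vnr (K : Type u) [CommRing K] (hK : ∀ x : K, ∃ y : K, x = x * x * y)
    (M : Type u) [AddCommGroup M] [Module K M] : Module.Flat K M := by
  rw [Module.Flat.iff_lTensor_injective]
  intro I hI
  have hidem : IsIdempotentElem I := by
    apply le_antisymm Ideal.mul_le_right
    intro x hx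
    obtain ⟨y, hy⟩ := hK x
    rw [hy, mul_assoc]
    exact Ideal.mul_mem_mul hx (Ideal.mul_mem_right _ _ hx)
  obtain ⟨e, he, rfl⟩ := (Ideal.isIdempotentElem_iff_of_fg I hI).1 hidem
  -- retraction
  let r : K →ₗ[K] ↥(Ideal.span {e}) :=
    LinearMap.codRestrict (Ideal.span {e}) (LinearMap.mulLeft K e)
      (fun x => Ideal.mem_span_singleton'.2 ⟨x, by simp [mul_comm]⟩)
  have hr : r ∘ₗ (Ideal.span {e}).subtype = LinearMap.id := by
    ext ⟨x, hx⟩
    obtain ⟨a, rfl⟩ := Ideal.mem_span_singleton'.1 hx
    show e * (a * e) = a * e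
    rw [mul_comm a e, ← mul_assoc, he.eq]
  have hcomp : (r.lTensor M) ∘ₗ ((Ideal.span {e}).subtype.lTensor M) = LinearMap.id := by
    rw [← LinearMap.lTensor_comp, hr, LinearMap.lTensor_id]
  intro a b hab
  have := congrArg (r.lTensor M) hab
  rwa [← LinearMap.comp_apply, ← LinearMap.comp_apply, hcomp] at this

theorem H7_S7128 (A B : Type u) [CommRing A] [CommRing B] [Algebra A B] [IsReduced A]
    [Algebra.WeaklyEtale A B] : IsReduced B := by
  classical
  let K := Π p : PrimeSpectrum A, p.asIdeal.ResidueField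
  have hK : ∀ x : K, ∃ y : K, x = x * x * y := by
    intro x
    refine ⟨fun p => (x p)⁻¹, ?_⟩
    funext p
    show x p = x p * x p * (x p)⁻¹
    by_cases h : x p = 0
    · simp [h]
    · field_simp
  have hinj : Function.Injective (algebraMap A K) := by
    rw [injective_iff_map_eq_zero]
    intro a ha
    have hmem : a ∈ nilradical A := by
      rw [nilradical_eq_sInf, Ideal.mem_sInf]
      intro J hJ
      haveI : J.IsPrime := hJ
      have := congrFun ha ⟨J, hJ⟩
      exact Ideal.algebraMap_residueField_eq_zero.1 this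
    rw [nilradical_eq_zero] at hmem
    exact hmem
  have hBinj : Function.Injective (Algebra.TensorProduct.includeRight : B →ₐ[A] K ⊗[A] B) := by
    have h1 : Function.Injective ((Algebra.linearMap A K).rTensor B) :=
      Module.Flat.rTensor_preserves_injective_linearMap _ hinj
    have h2 : ∀ b : B, (Algebra.TensorProduct.includeRight : B →ₐ[A] K ⊗[A] B) b =
        (Algebra.linearMap A K).rTensor B ((TensorProduct.lid A B).symm b) := by
      intro b
      simp
    intro b b' hbb'
    rw [h2, h2] at hbb'
    exact (TensorProduct.lid A B).symm.injective (h1 hbb')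
  have hB'red : IsReduced (K ⊗[A] B) := by
    constructor
    intro b hb
    have hflatK : Module.Flat K ((K ⊗[A] B) ⧸ Ideal.span {b}) := H7_flat_of_vnr K hK _
    have hflatB' : Module.Flat (K ⊗[A] B) ((K ⊗[A] B) ⧸ Ideal.span {b}) :=
      H7_S7126 K (K ⊗[A] B) ((K ⊗[A] B) ⧸ Ideal.span {b})
        (Algebra.WeaklyEtale.flat_lmul' K (K ⊗[A] B))
    haveI : (Ideal.span {b}).Pure := hflatB'
    obtain ⟨y, hy, hby⟩ := Ideal.exists_eq_mul_of_pure (I := Ideal.span {b})
      (Ideal.subset_span rfl : b ∈ Ideal.span {b})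
    obtain ⟨c, rfl⟩ := Ideal.mem_span_singleton'.1 hy
    obtain ⟨n, hn⟩ := hb
    have hpow : ∀ k : ℕ, b = b ^ (k + 1) * c ^ k := by
      intro k
      induction k with
      | zero => simp
      | succ k ih =>
        calc b = b * (c * b) := hby
          _ = (b ^ (k + 1) * c ^ k) * (c * b) := by rw [← ih]
          _ = b ^ (k + 1 + 1) * c ^ (k + 1) := by ring
    rw [hpow n, pow_succ, hn, zero_mul, zero_mul]
  exact isReduced_of_injective _ hBinj

end Groth.Agent.Lib.helper7
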