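import Mathlib
import Groth.Agent.Lib.helper7.WEtRed
set_option autoImplicit false
universe u
open AlgebraicGeometry CategoryTheory Limits MorphismProperty TensorProduct

namespace Groth.Agent.Lib.helper7

set_option backward.isDefEq.respectTransparency.types false in
theorem H7_S7179_aff {R S : CommRingCat.{u}} (φ : R ⟶ S) [hw : WeaklyEtale (Spec.map φ)]
    [hYr : IsReduced (Spec R)] : IsReduced (Spec S) := by
  have hflat : φ.hom.Flat := (HasRingHomProperty.Spec_iff (P := @Flat)).1 inferInstance
  have hdiag : Flat (pullback.diagonal (Spec.map φ)) := inferInstance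
  algebraize [φ.hom]
  rw [show φ = CommRingCat.ofHom (algebraMap R S) from rfl, diagonal_SpecMap R S,
    cancel_right_of_respectsIso (P := @Flat), HasRingHomProperty.Spec_iff (P := @Flat)] at hdiag
  have hR : _root_.IsReduced R := (affine_isReduced_iff R).1 inferInstance
  have hwe : Algebra.WeaklyEtale R S := ⟨hflat, hdiag⟩
  have := H7_S7128 R S
  infer_instance

set_option backward.isDefEq.respectTransparency.types false in
theorem H7_S7179_affY {X : Scheme.{u}} {R : CommRingCat.{u}} (f : X ⟶ Spec R) [hw : WeaklyEtale f]
    [hYr : IsReduced (Spec R)] : IsReduced X := by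
  have h1 : ∀ i, IsReduced (X.affineCover.X i) := by
    intro i
    have hw' : WeaklyEtale (X.affineCover.f i ≫ f) := inferInstance
    obtain ⟨φ, hφ⟩ := Spec.map_surjective (X.affineCover.f i ≫ f)
    have hw'' : WeaklyEtale (Spec.map φ) := by rw [hφ]; exact hw'
    exact @H7_S7179_aff _ _ φ hw'' hYr
  exact IsReduced.of_openCover _ X.affineCover

set_option backward.isDefEq.respectTransparency.types false in
theorem H7_S7179 {X Y : Scheme.{u}} (f : X ⟶ Y) [WeaklyEtale f] [hYr : IsReduced Y] : IsReduced X := by
  have h1 : ∀ i, IsReduced ((Y.affineCover.pullback₁ f).X i) := by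
    intro i
    have hw : WeaklyEtale (pullback.snd f (Y.affineCover.f i)) :=
      MorphismProperty.pullback_snd (P := @WeaklyEtale) f (Y.affineCover.f i) inferInstance
    have hr : IsReduced (Y.affineCover.X i) := @isReduced_of_isOpenImmersion _ _ (Y.affineCover.f i) _ hYr
    exact @H7_S7179_affY _ _ (pullback.snd f (Y.affineCover.f i)) hw hr
  exact IsReduced.of_openCover _ (Y.affineCover.pullback₁ f)

end Groth.Agent.Lib.helper7
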