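import Mathlib
import Groth.Agent.Lib.helper7.WEtSch
set_option autoImplicit false
universe u
open AlgebraicGeometry CategoryTheory Limits MorphismProperty TensorProduct

namespace Groth.Agent.Lib.helper7

set_option backward.isDefEq.respectTransparency.types false in
theorem H7_wet_Spec_iff {R S : CommRingCat.{u}} (φ : R ⟶ S) :
    WeaklyEtale (Spec.map φ) ↔ (letI := φ.hom.toAlgebra; Algebra.WeaklyEtale R S) := by
  algebraize [φ.hom]
  rw [weaklyEtale_iff, Algebra.weaklyEtale_iff]
  have h1 : Flat (Spec.map φ) ↔ Module.Flat R S := by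
    rw [HasRingHomProperty.Spec_iff (P := @Flat)]
    rfl
  have h2 : Flat (pullback.diagonal (Spec.map φ)) ↔ (Algebra.TensorProduct.lmul' R (S := S)).Flat := by
    rw [show φ = CommRingCat.ofHom (algebraMap R S) from rfl, diagonal_SpecMap R S,
      cancel_right_of_respectsIso (P := @Flat), HasRingHomProperty.Spec_iff (P := @Flat)]
    rfl
  rw [h1, h2]

set_option backward.isDefEq.respectTransparency.types false in
theorem H7_wet_resLE_iff {X S : Scheme.{u}} (f : X ⟶ S) (U : X.Opens) (V : S.Opens) (hU : IsAffineOpen U)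
    (hV : IsAffineOpen V) (hUV : U ≤ f ⁻¹ᵁ V) :
    WeaklyEtale (f.resLE V U hUV) ↔ WeaklyEtale (Spec.map (f.appLE V U hUV)) := by
  have hUi : IsIso U.toSpecΓ := by rw [← hU.isoSpec_hom]; infer_instance
  have hVi : IsIso V.toSpecΓ := by rw [← hV.isoSpec_hom]; infer_instance
  exact arrow_mk_iso_iff (P := @WeaklyEtale)
    (CategoryTheory.Arrow.isoMk (asIso U.toSpecΓ) (asIso V.toSpecΓ) (by
      simp only [CategoryTheory.Arrow.mk_left, CategoryTheory.Arrow.mk_right, Functor.id_obj, asIso_hom,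
        CategoryTheory.Arrow.mk_hom]
      exact (Scheme.Opens.toSpecΓ_SpecMap_appLE f V U hUV)))

set_option backward.isDefEq.respectTransparency.types false in
theorem H7_S7178 {X S : Scheme.{u}} (f : X ⟶ S) :
    WeaklyEtale f ↔ ∀ (U : X.Opens) (V : S.Opens) (_ : IsAffineOpen U) (_ : IsAffineOpen V) (hUV : U ≤ f ⁻¹ᵁ V),
      (letI := (f.appLE V U hUV).hom.toAlgebra
       Algebra.WeaklyEtale Γ(S, V) Γ(X, U)) := by
  constructor
  · intro hf U V hU hV hUV
    have h1 : WeaklyEtale (f.resLE V U hUV) := inferInstance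
    rw [H7_wet_resLE_iff f U V hU hV hUV, H7_wet_Spec_iff] at h1
    exact h1
  · intro h
    have hRR : MorphismProperty.RespectsRight (@WeaklyEtale) (@IsOpenImmersion) :=
      ⟨fun {X Y Z} i hi g hg => by
        have h1 : IsOpenImmersion i := hi
        have h2 : WeaklyEtale g := hg
        exact (inferInstance : WeaklyEtale (g ≫ i))⟩
    rw [IsZariskiLocalAtSource.iff_exists_resLE (P := @WeaklyEtale)]
    intro x
    obtain ⟨V, hV, hxV, -⟩ := exists_isAffineOpen_mem_and_subset (x := f x) (U := ⊤) trivial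
    obtain ⟨U, hU, hxU, hUV⟩ := exists_isAffineOpen_mem_and_subset (x := x) (U := f ⁻¹ᵁ V) hxV
    refine ⟨V, U, hxU, hUV, ?_⟩
    rw [H7_wet_resLE_iff f U V hU hV hUV, H7_wet_Spec_iff]
    exact h U V hU hV hUV

end Groth.Agent.Lib.helper7
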