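import Mathlib
import Groth.Agent.Lib.helper7.SubDiv

set_option autoImplicit false

namespace Groth.Agent.Lib.helper7

open Polynomial

section
variable (K : Type*) [Field K] (A : Type*) [DivisionRing A] [Algebra K A]

/-- explicit form of a monic cubic -/
theorem H7_cubic_form (f : K[X]) (hm : f.Monic) (hdeg : f.natDegree = 3) :
    f = X ^ 3 + C (f.coeff 2) * X ^ 2 + C (f.coeff 1) * X + C (f.coeff 0) := by
  have h3 : f.coeff 3 = 1 := by rw [← hdeg]; exact hm.coeff_natDegree
  conv_lhs => rw [f.as_sum_range_C_mul_X_pow, hdeg]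
  simp only [Finset.sum_range_succ, Finset.sum_range_zero, h3, zero_add, pow_zero, mul_one,
    pow_one, map_one, one_mul]
  ring

/-- Wedderburn's relations: from the quadratic relation for `x2`, the commutator `z`
cyclically permutes `x1, x2, x3`. -/
theorem H7_wedderburn_rel (a b : K) (x1 x2 : A)
    (hR : x2 ^ 2 + (x1 + algebraMap K A a) * x2 + (x1 ^ 2 + a • x1 + algebraMap K A b) = 0) :
    (x1 * x2 - x2 * x1) * x1 = x2 * (x1 * x2 - x2 * x1) ∧
    (x1 * x2 - x2 * x1) * x2 = (-(algebraMap K A a) - x1 - x2) * (x1 * x2 - x2 * x1) ∧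
    (x1 * x2 - x2 * x1) * (-(algebraMap K A a) - x1 - x2) = x1 * (x1 * x2 - x2 * x1) := by
  have hE : (-(algebraMap K A a) - x1 - x2) * x2 - x1 ^ 2 - a • x1 - algebraMap K A b = 0 := by
    have : (-(algebraMap K A a) - x1 - x2) * x2 - x1 ^ 2 - a • x1 - algebraMap K A b =
        -(x2 ^ 2 + (x1 + algebraMap K A a) * x2 + (x1 ^ 2 + a • x1 + algebraMap K A b)) := by
      simp only [Algebra.algebraMap_eq_smul_one]
      noncomm_ring
    rw [this, hR, neg_zero]
  have h2 : (x1 * x2 - x2 * x1) * x2 - (-(algebraMap K A a) - x1 - x2) * (x1 * x2 - x2 * x1) =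
      ((-(algebraMap K A a) - x1 - x2) * x2 - x1 ^ 2 - a • x1 - algebraMap K A b) * x1 -
      x1 * ((-(algebraMap K A a) - x1 - x2) * x2 - x1 ^ 2 - a • x1 - algebraMap K A b) := by
    simp only [Algebra.algebraMap_eq_smul_one]
    noncomm_ring
  have h1 : (x1 * x2 - x2 * x1) * x1 - x2 * (x1 * x2 - x2 * x1) =
      x2 * ((-(algebraMap K A a) - x1 - x2) * x2 - x1 ^ 2 - a • x1 - algebraMap K A b) -
      ((-(algebraMap K A a) - x1 - x2) * x2 - x1 ^ 2 - a • x1 - algebraMap K A b) * x2 -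
      ((-(algebraMap K A a) - x1 - x2) * x2 - x1 ^ 2 - a • x1 - algebraMap K A b) * x1 +
      x1 * ((-(algebraMap K A a) - x1 - x2) * x2 - x1 ^ 2 - a • x1 - algebraMap K A b) := by
    simp only [Algebra.algebraMap_eq_smul_one]
    noncomm_ring
  rw [hE] at h1 h2
  simp only [mul_zero, zero_mul, sub_zero, add_zero] at h1 h2
  have e1 := sub_eq_zero.mp h1
  have e2 := sub_eq_zero.mp h2
  refine ⟨e1, e2, ?_⟩
  have : (x1 * x2 - x2 * x1) * (-(algebraMap K A a) - x1 - x2) =
      -(algebraMap K A a) * (x1 * x2 - x2 * x1) - (x1 * x2 - x2 * x1) * x1 -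
        (x1 * x2 - x2 * x1) * x2 := by
    rw [mul_sub, mul_sub, mul_neg, ← Algebra.commutes a (x1 * x2 - x2 * x1), neg_mul]
  rw [this, e1, e2]
  simp only [Algebra.algebraMap_eq_smul_one]
  noncomm_ring


theorem H7_wedderburn_x2 (a b c : K) (x1 x' x2 : A)
    (h1 : x1 ^ 3 + a • x1 ^ 2 + b • x1 + algebraMap K A c = 0)
    (h' : x' ^ 3 + a • x' ^ 2 + b • x' + algebraMap K A c = 0) (hne : x' - x1 ≠ 0)
    (hx2 : x2 = (x' - x1) * x' * (x' - x1)⁻¹) :
    x2 ^ 2 + (x1 + algebraMap K A a) * x2 + (x1 ^ 2 + a • x1 + algebraMap K A b) = 0 := by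
  have hx2e : x2 * (x' - x1) = (x' - x1) * x' := by
    rw [hx2, mul_assoc, inv_mul_cancel₀ hne, mul_one]
  have hx2e2 : x2 ^ 2 * (x' - x1) = (x' - x1) * x' ^ 2 := by
    rw [pow_two, mul_assoc, hx2e, ← mul_assoc, hx2e, mul_assoc, ← pow_two]
  have key : (x2 ^ 2 + (x1 + algebraMap K A a) * x2 + (x1 ^ 2 + a • x1 + algebraMap K A b)) *
      (x' - x1) = 0 := by
    calc (x2 ^ 2 + (x1 + algebraMap K A a) * x2 + (x1 ^ 2 + a • x1 + algebraMap K A b)) * (x' - x1)
        = x2 ^ 2 * (x' - x1) + (x1 + algebraMap K A a) * (x2 * (x' - x1)) +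
            (x1 ^ 2 + a • x1 + algebraMap K A b) * (x' - x1) := by
          rw [add_mul, add_mul, mul_assoc]
      _ = (x' - x1) * x' ^ 2 + (x1 + algebraMap K A a) * ((x' - x1) * x') +
            (x1 ^ 2 + a • x1 + algebraMap K A b) * (x' - x1) := by rw [hx2e2, hx2e]
      _ = (x' ^ 3 + a • x' ^ 2 + b • x' + algebraMap K A c) -
            (x1 ^ 3 + a • x1 ^ 2 + b • x1 + algebraMap K A c) := by
          simp only [Algebra.algebraMap_eq_smul_one]
          noncomm_ring
      _ = 0 := by rw [h1, h', sub_zero]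
  exact (mul_eq_zero.mp key).resolve_right hne


theorem H7_sub_cases [FiniteDimensional K A] (hA : Module.finrank K A = 3 ^ 2) (x1 : A)
    (hdeg : (minpoly K x1).natDegree = 3) (S : Subalgebra K A) (hx1 : x1 ∈ S) :
    S = ⊤ ∨ ∀ s ∈ S, ∃ t : AdjoinRoot (minpoly K x1), H7_phi K A x1 t = s := by
  have hint : IsIntegral K x1 := Algebra.IsIntegral.isIntegral x1
  have hle : LinearMap.range (H7_phi K A x1).toLinearMap ≤ Subalgebra.toSubmodule S := by
    rintro _ ⟨t, rfl⟩
    induction t using AdjoinRoot.induction_on with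
    | ih g =>
      show H7_phi K A x1 (AdjoinRoot.mk _ g) ∈ S
      rw [H7_phi_mk]
      exact Algebra.adjoin_le (Set.singleton_subset_iff.mpr hx1)
        (Polynomial.aeval_mem_adjoin_singleton K x1)
  have h3 : Module.finrank K (LinearMap.range (H7_phi K A x1).toLinearMap) = 3 := by
    rw [LinearMap.finrank_range_of_inj (H7_phi_injective K A x1),
      (AdjoinRoot.powerBasis (minpoly.ne_zero hint)).finrank, AdjoinRoot.powerBasis_dim, hdeg]
  have hdvd := H7_sub_finrank_dvd K A S
  rw [hA] at hdvd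
  have hge : 3 ≤ Module.finrank K S := by
    rw [← h3]
    exact Submodule.finrank_mono hle
  have hcases : Module.finrank K S = 3 ∨ Module.finrank K S = 9 := by
    have hle9 : Module.finrank K S ≤ 9 := Nat.le_of_dvd (by norm_num) hdvd
    interval_cases (Module.finrank K S) <;> simp_all
  rcases hcases with h | h
  · right
    have heq : LinearMap.range (H7_phi K A x1).toLinearMap = Subalgebra.toSubmodule S :=
      Submodule.eq_of_le_of_finrank_eq hle (by rw [h3]; exact h.symm)
    intro s hs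
    have : s ∈ LinearMap.range (H7_phi K A x1).toLinearMap := by rw [heq]; exact hs
    obtain ⟨t, ht⟩ := this
    exact ⟨t, ht⟩
  · left
    rw [← Algebra.toSubmodule_eq_top]
    apply Submodule.eq_top_of_finrank_eq
    rw [hA]; exact h

end
end Groth.Agent.Lib.helper7
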