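import Mathlib
import Groth.Agent.Lib.helper7.SubDiv
import Groth.Agent.Lib.helper7.Wedd
import Groth.Agent.Lib.helper7.DivAlg4
import Groth.Agent.S15171

set_option autoImplicit false

namespace Groth.Agent.Lib.helper7

open Polynomial

section
variable (K : Type*) [Field K] (p : ℕ) [Fact p.Prime] [CharP K p]
  (A : Type*) [DivisionRing A] [Algebra K A] [Algebra.IsCentral K A] [FiniteDimensional K A]

/-- if the minimal polynomial of `x` (of degree `p`) is separable and splits in `K[x]`,
there is an inseparable element -/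
theorem H7_insep_of_splits (hA : Module.finrank K A = p ^ 2) (x : A)
    (hdeg : (minpoly K x).natDegree = p) (hsep : (minpoly K x).Separable)
    [Fact (Irreducible (minpoly K x))]
    (hs : ((minpoly K x).map (algebraMap K (AdjoinRoot (minpoly K x)))).Splits) :
    ∃ v : A, ¬ IsSeparable K v := by
  have hint : IsIntegral K x := Algebra.IsIntegral.isIntegral x
  have hgal : IsGalois K (AdjoinRoot (minpoly K x)) := H7_galois_adjoinRoot K _ hsep hs
  have h2 : Module.finrank K (AdjoinRoot (minpoly K x)) = p := by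
    rw [(AdjoinRoot.powerBasis (minpoly.ne_zero hint)).finrank, AdjoinRoot.powerBasis_dim, hdeg]
  exact Groth.Agent.S15171.result K p A hA (AdjoinRoot (minpoly K x)) h2 (H7_phi K A x)

/-- existence of a non-scalar element -/
theorem H7_exists_notMem (hA : Module.finrank K A = p ^ 2) :
    ∃ x : A, x ∉ (algebraMap K A).range := by
  have hp : p.Prime := Fact.out
  by_contra hcon
  push Not at hcon
  have : (⊥ : Subalgebra K A) = ⊤ := by
    rw [eq_top_iff]
    intro x _
    obtain ⟨c, hc⟩ := hcon x
    rw [Algebra.mem_bot]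
    exact ⟨c, hc⟩
  rw [Subalgebra.bot_eq_top_iff_finrank_eq_one, hA] at this
  have := hp.one_lt
  nlinarith

/-- a non-scalar element does not commute with everything -/
theorem H7_exists_not_commute (x : A) (hx : x ∉ (algebraMap K A).range) :
    ∃ y : A, y * x ≠ x * y := by
  by_contra hcon
  push Not at hcon
  apply hx
  have : x ∈ Subalgebra.center K A := by
    rw [Subalgebra.mem_center_iff]
    exact hcon
  rw [Algebra.IsCentral.mem_center_iff] at this
  obtain ⟨a, rfl⟩ := this
  exact ⟨a, rfl⟩


theorem H7_insep_two [CharP K 2] (hA : Module.finrank K A = 2 ^ 2) :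
    ∃ v : A, ¬ IsSeparable K v := by
  by_contra hall
  push Not at hall
  obtain ⟨x, hx⟩ := H7_exists_notMem K 2 A hA
  obtain ⟨y, hy⟩ := H7_exists_not_commute K A x hx
  have hnc : ∃ a b : A, a * b ≠ b * a := ⟨y, x, hy⟩
  have hint : IsIntegral K x := Algebra.IsIntegral.isIntegral x
  have hdeg : (minpoly K x).natDegree = 2 :=
    (H7_natDegree_minpoly_of_prime_sq K A 2 Nat.prime_two hA hnc x).resolve_left
      (fun h1 => hx (minpoly.natDegree_eq_one_iff.mp h1))
  have : Fact (Irreducible (minpoly K x)) := ⟨minpoly.irreducible hint⟩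
  have hs : ((minpoly K x).map (algebraMap K (AdjoinRoot (minpoly K x)))).Splits := by
    refine H7_splits_deg2 _ (by rw [natDegree_map, hdeg]) (AdjoinRoot.root _) ?_
    rw [IsRoot.def, eval_map, ← aeval_def, AdjoinRoot.aeval_eq]
    exact AdjoinRoot.mk_self
  obtain ⟨v, hv⟩ := H7_insep_of_splits K 2 A hA x hdeg (hall x) hs
  exact hv (hall v)


theorem H7_insep_three [CharP K 3] (hA : Module.finrank K A = 3 ^ 2) :
    ∃ v : A, ¬ IsSeparable K v := by
  by_contra hall
  push Not at hall
  obtain ⟨x1, hx⟩ := H7_exists_notMem K 3 A hA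
  obtain ⟨y, hy⟩ := H7_exists_not_commute K A x1 hx
  have hnc : ∃ a b : A, a * b ≠ b * a := ⟨y, x1, hy⟩
  have hint : IsIntegral K x1 := Algebra.IsIntegral.isIntegral x1
  have hdeg : (minpoly K x1).natDegree = 3 :=
    (H7_natDegree_minpoly_of_prime_sq K A 3 Nat.prime_three hA hnc x1).resolve_left
      (fun h1 => hx (minpoly.natDegree_eq_one_iff.mp h1))
  have hirr : Irreducible (minpoly K x1) := minpoly.irreducible hint
  have : Fact (Irreducible (minpoly K x1)) := ⟨hirr⟩
  have hform := H7_cubic_form K (minpoly K x1) (minpoly.monic hint) hdeg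
  obtain ⟨a, ha⟩ : ∃ a, a = (minpoly K x1).coeff 2 := ⟨_, rfl⟩
  obtain ⟨b, hb⟩ : ∃ b, b = (minpoly K x1).coeff 1 := ⟨_, rfl⟩
  obtain ⟨c, hc⟩ : ∃ c, c = (minpoly K x1).coeff 0 := ⟨_, rfl⟩
  rw [← ha, ← hb, ← hc] at hform
  have hP : ∀ w : A, aeval w (minpoly K x1) = w ^ 3 + a • w ^ 2 + b • w + algebraMap K A c := by
    intro w
    rw [hform]
    simp only [map_add, map_mul, map_pow, aeval_X, aeval_C, Algebra.smul_def]
  have hy0 : y ≠ 0 := by rintro rfl; simp at hy
  obtain ⟨x', hx'⟩ : ∃ x', x' = y * x1 * y⁻¹ := ⟨_, rfl⟩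
  have hx'root : aeval x' (minpoly K x1) = 0 := by
    rw [hx', H7_conj_aeval K A y hy0, minpoly.aeval, mul_zero, zero_mul]
  have he : x' - x1 ≠ 0 := by
    intro h
    have h2 : y * x1 * y⁻¹ = x1 := by rw [← hx']; exact sub_eq_zero.mp h
    apply hy
    calc y * x1 = y * x1 * y⁻¹ * y := by rw [mul_assoc _ y⁻¹, inv_mul_cancel₀ hy0, mul_one]
      _ = x1 * y := by rw [h2]
  obtain ⟨x2, hx2⟩ : ∃ x2, x2 = (x' - x1) * x' * (x' - x1)⁻¹ := ⟨_, rfl⟩
  have hx2root : aeval x2 (minpoly K x1) = 0 := by
    rw [hx2, H7_conj_aeval K A _ he, hx'root, mul_zero, zero_mul]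
  have h1eq : x1 ^ 3 + a • x1 ^ 2 + b • x1 + algebraMap K A c = 0 := by
    rw [← hP]; exact minpoly.aeval K x1
  have h'eq : x' ^ 3 + a • x' ^ 2 + b • x' + algebraMap K A c = 0 := by
    rw [← hP]; exact hx'root
  have hR := H7_wedderburn_x2 K A a b c x1 x' x2 h1eq h'eq he hx2
  obtain ⟨hz1, hz2, hz3⟩ := H7_wedderburn_rel K A a b x1 x2 hR
  obtain ⟨z, hz⟩ : ∃ z, z = x1 * x2 - x2 * x1 := ⟨_, rfl⟩
  obtain ⟨x3, hx3⟩ : ∃ x3, x3 = -(algebraMap K A a) - x1 - x2 := ⟨_, rfl⟩
  rw [← hz] at hz1 hz2 hz3
  rw [← hx3] at hz2 hz3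
  by_cases hz0 : z = 0
  · -- x1 and x2 commute
    have hcomm : x1 * x2 = x2 * x1 := by rw [hz0] at hz; exact sub_eq_zero.mp hz.symm
    have hx2S : x2 ∈ Subalgebra.centralizer K ({x1} : Set A) := by
      rw [Subalgebra.mem_centralizer_iff]
      intro g hg
      rw [Set.mem_singleton_iff] at hg
      rw [hg]; exact hcomm
    have hx1S : x1 ∈ Subalgebra.centralizer K ({x1} : Set A) := by
      rw [Subalgebra.mem_centralizer_iff]
      intro g hg
      rw [Set.mem_singleton_iff] at hg
      rw [hg]
    rcases H7_sub_cases K A hA x1 hdeg _ hx1S with htop | hsub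
    · -- x1 central
      apply hx
      have : x1 ∈ Subalgebra.center K A := by
        rw [Subalgebra.mem_center_iff]
        intro w
        have hw : w ∈ Subalgebra.centralizer K ({x1} : Set A) := by rw [htop]; trivial
        rw [Subalgebra.mem_centralizer_iff] at hw
        exact (hw x1 rfl).symm
      rw [Algebra.IsCentral.mem_center_iff] at this
      obtain ⟨a', rfl⟩ := this
      exact ⟨a', rfl⟩
    · obtain ⟨r2, hr2⟩ := hsub x2 hx2S
      have hr2root : aeval r2 (minpoly K x1) = 0 := by
        apply H7_phi_injective K A x1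
        rw [map_zero, ← Polynomial.aeval_algHom_apply, hr2, hx2root]
      have hr2ne : AdjoinRoot.root (minpoly K x1) ≠ r2 := by
        intro h
        have h12 : x2 = x1 := by rw [← hr2, ← h, H7_phi_root]
        -- derivative vanishes
        rw [h12] at hR
        have hder : aeval x1 (derivative (minpoly K x1)) = 0 := by
          rw [hform]
          simp only [derivative_mul, derivative_X_pow, derivative_C, derivative_X,
            map_add, map_mul, map_pow, aeval_X, aeval_C, zero_mul, zero_add, mul_one, add_zero,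
            Nat.cast_ofNat]
          have e3 : (algebraMap K A) 3 = 3 := map_ofNat _ 3
          have e2 : (algebraMap K A) 2 = 2 := map_ofNat _ 2
          rw [e3, e2, ← hR]
          norm_num
          simp only [Algebra.algebraMap_eq_smul_one]
          noncomm_ring
        have hdvd := minpoly.dvd K x1 hder
        have hlt : (derivative (minpoly K x1)).natDegree < (minpoly K x1).natDegree :=
          natDegree_derivative_lt (by rw [hdeg]; norm_num)
        have hzero := Polynomial.eq_zero_of_dvd_of_natDegree_lt hdvd hlt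
        exact (separable_iff_derivative_ne_zero hirr).mp (hall x1) hzero
      have hs : ((minpoly K x1).map (algebraMap K (AdjoinRoot (minpoly K x1)))).Splits := by
        refine H7_splits_deg3 _ (by rw [natDegree_map, hdeg]) (AdjoinRoot.root _) r2 ?_ ?_ hr2ne
        · rw [IsRoot.def, eval_map, ← aeval_def, AdjoinRoot.aeval_eq]
          exact AdjoinRoot.mk_self
        · rw [IsRoot.def, eval_map, ← aeval_def]
          exact hr2root
      obtain ⟨v, hv⟩ := H7_insep_of_splits K 3 A hA x1 hdeg (hall x1) hs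
      exact hv (hall v)
  · -- z ≠ 0
    have hne12 : x1 ≠ x2 := by
      intro h; apply hz0; rw [hz, h, sub_self]
    have hznc : z * x1 ≠ x1 * z := by
      intro h
      rw [hz1] at h
      exact hne12 (mul_right_cancel₀ hz0 h).symm
    have hw1 : z ^ 3 * x1 = x1 * z ^ 3 := by
      calc z ^ 3 * x1 = z * z * (z * x1) := by rw [pow_three]; simp only [mul_assoc]
        _ = z * z * (x2 * z) := by rw [hz1]
        _ = z * (z * x2) * z := by simp only [mul_assoc]
        _ = z * (x3 * z) * z := by rw [hz2]
        _ = (z * x3) * z * z := by simp only [mul_assoc]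
        _ = x1 * z * z * z := by rw [hz3]
        _ = x1 * z ^ 3 := by rw [pow_three]; simp only [mul_assoc]
    have hx1S : x1 ∈ Subalgebra.centralizer K ({z ^ 3} : Set A) := by
      rw [Subalgebra.mem_centralizer_iff]
      intro g hg
      rw [Set.mem_singleton_iff] at hg
      rw [hg]; exact hw1
    have hzS : z ∈ Subalgebra.centralizer K ({z ^ 3} : Set A) := by
      rw [Subalgebra.mem_centralizer_iff]
      intro g hg
      rw [Set.mem_singleton_iff] at hg
      rw [hg, ← pow_succ, ← pow_succ']
    rcases H7_sub_cases K A hA x1 hdeg _ hx1S with htop | hsub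
    · have hcen : z ^ 3 ∈ Subalgebra.center K A := by
        rw [Subalgebra.mem_center_iff]
        intro w
        have hw : w ∈ Subalgebra.centralizer K ({z ^ 3} : Set A) := by rw [htop]; trivial
        rw [Subalgebra.mem_centralizer_iff] at hw
        exact (hw (z ^ 3) rfl).symm
      rw [Algebra.IsCentral.mem_center_iff] at hcen
      obtain ⟨c', hc'⟩ := hcen
      have hzK : z ∉ (algebraMap K A).range := by
        rintro ⟨d, rfl⟩
        exact hznc (Algebra.commutes d x1)
      exact H7_not_isSeparable_of_pow K A 3 z ⟨c', hc'.symm⟩ hzK (hall z)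
    · obtain ⟨t, ht⟩ := hsub z hzS
      apply hznc
      rw [← ht]
      exact (H7_phi_commute K A x1 t).symm

end
end Groth.Agent.Lib.helper7
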