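import Mathlib
import Groth.Prelude.Def_WeilCoh
universe u v w
open CategoryTheory AlgebraicGeometry
namespace Groth.Agent.Lib.helper7

section
variable {k : Type u} [Field k] {P : ObjectProperty (Over (Spec (CommRingCat.of k)))}
variable {K : Type v} [Field K] (T : WeilCoh.TheoryOn.{u, v, w} k P K)

theorem H7_pairing_apply {A : Type w} [Ring A] [Algebra K A] (S U : Submodule K A) (t : A →ₗ[K] K)
    (s : S) (x : U) : WeilCoh.pairing K S U t s x = t ((s : A) * (x : A)) := rfl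

/-- Defining property of the push-forward. -/
theorem H7_push_spec {X Y : P.FullSubcategory} (f : X ⟶ Y) (i : ℤ) (a : T.gr X i)
    (β : T.H Y) (hβ : β ∈ T.gr Y (2 * (WeilCoh.dim X.obj.left : ℤ) - i)) :
    T.tr Y ((T.push f i a : T.H Y) * β) = T.tr X ((a : T.H X) * T.pull f β) := by
  have hperf := T.duality Y (i + 2 * (WeilCoh.dim Y.obj.left : ℤ) - 2 * (WeilCoh.dim X.obj.left : ℤ))
    (2 * (WeilCoh.dim X.obj.left : ℤ) - i) (by omega)
  have h1 := LinearMap.apply_symm_toPerfPair_self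
    (p := WeilCoh.pairing K (T.gr Y (i + 2 * (WeilCoh.dim Y.obj.left : ℤ) - 2 * (WeilCoh.dim X.obj.left : ℤ)))
      (T.gr Y (2 * (WeilCoh.dim X.obj.left : ℤ) - i)) (T.tr Y)) (T.pushFunctional f i a)
  have h2 := DFunLike.congr_fun h1 ⟨β, hβ⟩
  exact h2

/-- Uniqueness via Poincaré duality. -/
theorem H7_duality_ext (Y : P.FullSubcategory) (n n' : ℤ)
    (hn : n + n' = 2 * (WeilCoh.dim Y.obj.left : ℤ)) (y y' : T.H Y) (hy : y ∈ T.gr Y n)
    (hy' : y' ∈ T.gr Y n)
    (h : ∀ β ∈ T.gr Y n', T.tr Y (y * β) = T.tr Y (y' * β)) : y = y' := by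
  have hperf := T.duality Y n n' hn
  have hinj := hperf.bijective_left.injective
  have : (⟨y, hy⟩ : T.gr Y n) = ⟨y', hy'⟩ := by
    apply hinj
    ext β
    exact h β.1 β.2
  exact congrArg Subtype.val this


theorem H7_S15446 {X Y : P.FullSubcategory} (f : X ⟶ Y) (i j : ℤ)
    (a : ↥(T.gr X i)) (c : ↥(T.gr Y j)) :
    (T.push f (i + j) ⟨(a : T.H X) * T.pull f c, SetLike.mul_mem_graded a.2 (T.pull_mem f j c c.2)⟩ : T.H Y) =
      (T.push f i a : T.H Y) * c := by
  set dX : ℤ := (WeilCoh.dim X.obj.left : ℤ) with hdX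
  set dY : ℤ := (WeilCoh.dim Y.obj.left : ℤ) with hdY
  have hL : (T.push f (i + j) ⟨(a : T.H X) * T.pull f c,
      SetLike.mul_mem_graded a.2 (T.pull_mem f j c c.2)⟩ : T.H Y) ∈
      T.gr Y (i + j + 2 * dY - 2 * dX) := Subtype.mem _
  have hR : (T.push f i a : T.H Y) * c ∈ T.gr Y (i + j + 2 * dY - 2 * dX) := by
    have h1 : (T.push f i a : T.H Y) ∈ T.gr Y (i + 2 * dY - 2 * dX) := Subtype.mem _
    have h2 := SetLike.mul_mem_graded h1 c.2
    have e : i + 2 * dY - 2 * dX + j = i + j + 2 * dY - 2 * dX := by ring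
    rwa [e] at h2
  refine H7_duality_ext T Y (i + j + 2 * dY - 2 * dX) (2 * dX - (i + j)) (by ring) _ _ hL hR ?_
  intro β hβ
  have e1 := H7_push_spec T f (i + j) ⟨(a : T.H X) * T.pull f c,
    SetLike.mul_mem_graded a.2 (T.pull_mem f j c c.2)⟩ β hβ
  have hcβ : (c : T.H Y) * β ∈ T.gr Y (2 * dX - i) := by
    have h2 := SetLike.mul_mem_graded c.2 hβ
    have e : j + (2 * dX - (i + j)) = 2 * dX - i := by ring
    rwa [e] at h2
  have e2 := H7_push_spec T f i a _ hcβ
  rw [e1, mul_assoc ((T.push f i a : T.H Y)) (c : T.H Y) β, e2]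
  show T.tr X (((a : T.H X) * T.pull f c) * T.pull f β) = T.tr X ((a : T.H X) * T.pull f (c * β))
  rw [map_mul (T.pull f), mul_assoc]

theorem H7_S15447 {X Y Z : P.FullSubcategory} (f : X ⟶ Y) (g : Y ⟶ Z) (i : ℤ)
    (a : ↥(T.gr X i)) :
    (T.push (f ≫ g) i a : T.H Z) =
      (T.push g (i + 2 * (WeilCoh.dim Y.obj.left : ℤ) - 2 * (WeilCoh.dim X.obj.left : ℤ))
        (T.push f i a) : T.H Z) := by
  set dX : ℤ := (WeilCoh.dim X.obj.left : ℤ) with hdX
  set dY : ℤ := (WeilCoh.dim Y.obj.left : ℤ) with hdY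
  set dZ : ℤ := (WeilCoh.dim Z.obj.left : ℤ) with hdZ
  have hL : (T.push (f ≫ g) i a : T.H Z) ∈ T.gr Z (i + 2 * dZ - 2 * dX) := Subtype.mem _
  have hR : (T.push g (i + 2 * dY - 2 * dX) (T.push f i a) : T.H Z) ∈
      T.gr Z (i + 2 * dZ - 2 * dX) := by
    have hgen : ∀ (n : ℤ) (x : T.gr Z n) (m : ℤ), n = m → (x : T.H Z) ∈ T.gr Z m := by
      intro n x m h; subst h; exact x.2
    exact hgen _ _ _ (by ring)
  refine H7_duality_ext T Z (i + 2 * dZ - 2 * dX) (2 * dX - i) (by ring) _ _ hL hR ?_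
  intro γ hγ
  rw [H7_push_spec T (f ≫ g) i a γ hγ]
  have hγ' : γ ∈ T.gr Z (2 * dY - (i + 2 * dY - 2 * dX)) := by
    have e : 2 * dY - (i + 2 * dY - 2 * dX) = 2 * dX - i := by ring
    rwa [e]
  rw [H7_push_spec T g (i + 2 * dY - 2 * dX) (T.push f i a) γ hγ']
  rw [H7_push_spec T f i a (T.pull g γ) (T.pull_mem g _ γ hγ)]
  rw [T.pull_comp]
  rfl

theorem H7_S15442 (X : P.FullSubcategory) :
    Function.Bijective (fun c : K =>
      (⟨c • (1 : T.H X), (T.gr X 0).smul_mem c (SetLike.one_mem_graded (T.gr X))⟩ : ↥(T.gr X 0))) := by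
  set d : ℤ := (WeilCoh.dim X.obj.left : ℤ) with hd
  have hperf := T.duality X 0 (2 * d) (by ring)
  have hfr : Module.finrank K (T.gr X 0) = Module.finrank K (T.gr X (2 * d)) :=
    Module.finrank_of_isPerfPair (WeilCoh.pairing K (T.gr X 0) (T.gr X (2 * d)) (T.tr X))
  let e : T.gr X (2 * d) ≃ₗ[K] K := LinearEquiv.ofBijective _ (T.tr_bijective X)
  have hfr2 : Module.finrank K (T.gr X (2 * d)) = 1 := by
    rw [e.finrank_eq, Module.finrank_self]
  have hnt : Nontrivial (T.H X) := by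
    refine ⟨⟨((e.symm 1 : T.gr X (2 * d)) : T.H X), 0, ?_⟩⟩
    intro h0
    have : e.symm 1 = 0 := Subtype.ext h0
    have h1 : (1 : K) = 0 := by
      have := congrArg e this
      simpa using this
    exact one_ne_zero h1
  let φ : K →ₗ[K] T.gr X 0 :=
    LinearMap.toSpanSingleton K (T.gr X 0) ⟨1, SetLike.one_mem_graded (T.gr X)⟩
  have hφ : ∀ c : K, φ c = ⟨c • (1 : T.H X), (T.gr X 0).smul_mem c (SetLike.one_mem_graded (T.gr X))⟩ :=
    fun c => rfl
  have hinj : Function.Injective φ := by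
    rw [injective_iff_map_eq_zero]
    intro c hc
    have h1 : c • (1 : T.H X) = 0 := by
      have := congrArg Subtype.val hc
      exact this
    rcases smul_eq_zero.1 h1 with h | h
    · exact h
    · exact absurd h one_ne_zero
  have hbij : Function.Bijective φ := by
    refine ⟨hinj, ?_⟩
    rw [← LinearMap.injective_iff_surjective_of_finrank_eq_finrank]
    · exact hinj
    · rw [Module.finrank_self, hfr, hfr2]
  exact hbij

end
end Groth.Agent.Lib.helper7
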