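import Mathlib

set_option autoImplicit false
universe u v

namespace Groth.Agent.Lib.helper7

theorem H7_S15796
    (A : Type u) [CommRing A] [IsLocalRing A] [IsNoetherianRing A]
    (G : Type v) [Group G] [Finite G] [MulSemiringAction G A]
    (n : ℕ) (hn : ringKrullDim A = n) (u : Fin n → A)
    (hu : Ideal.span (Set.range u) = IsLocalRing.maximalIdeal A)
    (σ : G) (i : Fin n) (hσ : σ • u i ∈ Ideal.span (u '' {j | j ≠ i})) :
    ∃ τ : Fin n → G,
      ¬ IsLocalRing.maximalIdeal A ≤ (Ideal.span (Set.range fun j => τ j • u j)).radical := by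
  classical
  refine ⟨fun j => if j = i then σ else 1, ?_⟩
  intro hle
  set s : Set A := u '' {j | j ≠ i} with hs
  have hJI : Ideal.span (Set.range fun j => (if j = i then σ else 1) • u j) ≤ Ideal.span s := by
    rw [Ideal.span_le]
    rintro _ ⟨j, rfl⟩
    by_cases hj : j = i
    · subst hj; simpa using hσ
    · simp only [hj, if_false, one_smul]
      exact Ideal.subset_span ⟨j, hj, rfl⟩
  have hle' : IsLocalRing.maximalIdeal A ≤ (Ideal.span s).radical :=
    hle.trans (Ideal.radical_mono hJI)
  have hIm : Ideal.span s ≤ IsLocalRing.maximalIdeal A := by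
    rw [← hu]; exact Ideal.span_mono (Set.image_subset_range _ _)
  have hmin : IsLocalRing.maximalIdeal A ∈ (Ideal.span s).minimalPrimes := by
    refine ⟨⟨inferInstance, hIm⟩, ?_⟩
    rintro q ⟨hq, hIq⟩ hqm
    exact hle'.trans (hq.radical_le_iff.2 hIq)
  have hfin : s.Finite := (Set.toFinite _).image _
  have hcard : s.ncard ≤ n - 1 := by
    calc s.ncard ≤ ({j | j ≠ i} : Set (Fin n)).ncard := Set.ncard_image_le (Set.toFinite _)
      _ = n - 1 := by
        have : ({j | j ≠ i} : Set (Fin n)) = ({i} : Set (Fin n))ᶜ := by ext j; simp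
        rw [this, Set.ncard_compl, Set.ncard_singleton, Nat.card_eq_fintype_card, Fintype.card_fin]
  have hht := Ideal.height_le_card_of_mem_minimalPrimes_span hfin hmin
  have hn' : (IsLocalRing.maximalIdeal A).height = (n : ℕ∞) := by
    have := IsLocalRing.maximalIdeal_height_eq_ringKrullDim (R := A)
    rw [hn] at this
    exact_mod_cast this
  rw [hn'] at hht
  have hpos : 0 < n := Fin.pos i
  have : n ≤ s.ncard := by exact_mod_cast hht
  omega

end Groth.Agent.Lib.helper7
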