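import Mathlib

set_option autoImplicit false
universe u v

namespace Groth.Agent.Lib.helper7

/-- In a Noetherian local ring of dimension `n` whose maximal ideal is generated by `u₁..uₙ`,
the maximal ideal is not contained in the radical of the ideal generated by the `u_j`, `j ≠ i`. -/
theorem H7_not_le_radical_span_ne
    (A : Type u) [CommRing A] [IsLocalRing A] [IsNoetherianRing A]
    (n : ℕ) (hn : ringKrullDim A = n) (u : Fin n → A)
    (hu : Ideal.span (Set.range u) = IsLocalRing.maximalIdeal A) (i : Fin n) :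
    ¬ IsLocalRing.maximalIdeal A ≤ (Ideal.span (u '' {j | j ≠ i})).radical := by
  classical
  intro hle'
  set s : Set A := u '' {j | j ≠ i} with hs
  have hIm : Ideal.span s ≤ IsLocalRing.maximalIdeal A := by
    rw [← hu]; exact Ideal.span_mono (Set.image_subset_range _ _)
  have hmin : IsLocalRing.maximalIdeal A ∈ (Ideal.span s).minimalPrimes := by
    refine ⟨⟨inferInstance, hIm⟩, ?_⟩
    rintro q ⟨hq, hIq⟩ hqm
    exact hle'.trans (hq.radical_le_iff.2 hIq)
  have hfin : s.Finite := (Set.toFinite _).image _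
  have hcard : s.ncard ≤ n - 1 := by
    calc s.ncard ≤ ({j | j ≠ i} : Set (Fin n)).ncard := Set.ncard_image_le (Set.toFinite _)
      _ = n - 1 := by
        have : ({j | j ≠ i} : Set (Fin n)) = ({i} : Set (Fin n))ᶜ := by ext j; simp
        rw [this, Set.ncard_compl, Set.ncard_singleton, Nat.card_eq_fintype_card, Fintype.card_fin]
  have hht := Ideal.height_le_card_of_mem_minimalPrimes_span hfin hmin
  have hn' : (IsLocalRing.maximalIdeal A).height = (n : ℕ∞) := by
    have := IsLocalRing.maximalIdeal_height_eq_ringKrullDim (R := A)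
    rw [hn] at this
    exact_mod_cast this
  rw [hn'] at hht
  have hpos : 0 < n := Fin.pos i
  have : n ≤ s.ncard := by exact_mod_cast hht
  omega

theorem H7_S15795
    (A : Type u) [CommRing A] [IsLocalRing A] [IsNoetherianRing A]
    (G : Type v) [Group G] [MulSemiringAction G A]
    (hres : ∀ (σ : G) (a : A), σ • a - a ∈ IsLocalRing.maximalIdeal A)
    (n : ℕ) (hn : ringKrullDim A = n) (u : Fin n → A)
    (hu : Ideal.span (Set.range u) = IsLocalRing.maximalIdeal A)
    (htri : ∀ (σ : G) (i : Fin n),
      σ • u i ∈ Ideal.span (u '' {j | j ≤ i}) ⊔ IsLocalRing.maximalIdeal A ^ 2) :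
    ∀ τ : Fin n → G,
      Ideal.span (Set.range fun i => τ i • u i) = IsLocalRing.maximalIdeal A := by
  classical
  intro τ
  generalize hm : IsLocalRing.maximalIdeal A = m at *
  have hule : ∀ I : Ideal A, (∀ j, u j ∈ I) → m ≤ I := by
    intro I hI; rw [← hu, Ideal.span_le]; rintro _ ⟨j, rfl⟩; exact hI j
  have hum : ∀ j, u j ∈ m := fun j => hu ▸ Ideal.subset_span ⟨j, rfl⟩
  -- the action preserves m and m²
  have hσm : ∀ (σ : G) (x : A), x ∈ m → σ • x ∈ m := by
    intro σ x hx
    have := Ideal.add_mem _ (hres σ x) hx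
    simpa using this
  have hσm2 : ∀ (σ : G) (x : A), x ∈ m ^ 2 → σ • x ∈ m ^ 2 := by
    intro σ x hx
    have h1 : Ideal.map (MulSemiringAction.toRingHom G A σ) (m ^ 2) ≤ m ^ 2 := by
      rw [Ideal.map_pow]
      apply Ideal.pow_right_mono
      rw [Ideal.map_le_iff_le_comap]
      intro y hy
      exact hσm σ y hy
    exact h1 (Ideal.mem_map_of_mem _ hx)
  let F : ℕ → Ideal A := fun k => Ideal.span (u '' {j | (j : ℕ) < k}) ⊔ m ^ 2
  let F' : ℕ → Ideal A := fun k => Ideal.span ((fun j => τ j • u j) '' {j | (j : ℕ) < k}) ⊔ m ^ 2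
  have Fmono : ∀ k l, k ≤ l → F k ≤ F l := by
    intro k l hkl
    apply sup_le_sup_right
    apply Ideal.span_mono
    apply Set.image_mono
    intro j hj
    exact lt_of_lt_of_le hj hkl
  have F'mono : ∀ k l, k ≤ l → F' k ≤ F' l := by
    intro k l hkl
    apply sup_le_sup_right
    apply Ideal.span_mono
    apply Set.image_mono
    intro j hj
    exact lt_of_lt_of_le hj hkl
  have htri' : ∀ (σ : G) (i : Fin n), σ • u i ∈ F ((i : ℕ) + 1) := by
    intro σ i
    have h := htri σ i
    have : ({j | j ≤ i} : Set (Fin n)) = {j : Fin n | (j : ℕ) < (i : ℕ) + 1} := by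
      ext j
      show j ≤ i ↔ (j : ℕ) < (i : ℕ) + 1
      rw [Nat.lt_succ_iff, Fin.le_iff_val_le_val]
    rw [this] at h
    exact h
  -- Lemma A
  have hA : ∀ (σ : G) (k : ℕ) (x : A), x ∈ F k → σ • x ∈ F k := by
    intro σ k x hx
    have h1 : Ideal.map (MulSemiringAction.toRingHom G A σ) (F k) ≤ F k := by
      show Ideal.map _ (Ideal.span (u '' {j | (j : ℕ) < k}) ⊔ m ^ 2) ≤ F k
      rw [Ideal.map_sup, Ideal.map_span]
      apply sup_le
      · rw [Ideal.span_le]
        rintro _ ⟨_, ⟨j, hj, rfl⟩, rfl⟩
        exact Fmono _ _ hj (htri' σ j)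
      · rw [Ideal.map_le_iff_le_comap]
        intro y hy
        exact le_sup_right (a := Ideal.span (u '' {j | (j : ℕ) < k})) (hσm2 σ y hy)
    exact h1 (Ideal.mem_map_of_mem _ hx)
  have hmfg : (m : Submodule A A).FG := IsNoetherian.noetherian m
  have hjac : m ≤ Ideal.jacobson ⊥ := by
    rw [← hm, IsLocalRing.jacobson_eq_maximalIdeal ⊥ bot_ne_top]
  -- Lemma B
  have hB : ∀ k : Fin n, u k ∉ F (k : ℕ) := by
    intro k hk
    apply H7_not_le_radical_span_ne A n hn u (hu.trans hm.symm) k
    rw [hm]
    refine le_trans ?_ Ideal.le_radical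
    have hle : m ≤ Ideal.span (u '' {j | j ≠ k}) ⊔ m • m := by
      have hFk : F (k : ℕ) ≤ Ideal.span (u '' {j | j ≠ k}) ⊔ m • m := by
        show Ideal.span (u '' {j | (j : ℕ) < (k : ℕ)}) ⊔ m ^ 2 ≤ _
        rw [pow_two, smul_eq_mul]
        apply sup_le_sup_right
        apply Ideal.span_mono
        apply Set.image_mono
        intro j hj
        have hj' : (j : ℕ) < (k : ℕ) := hj
        show j ≠ k
        intro h; rw [h] at hj'; exact lt_irrefl _ hj'
      apply hule
      intro j
      by_cases hj : j = k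
      · rw [hj]; exact hFk hk
      · exact le_sup_left (b := m • m) (Ideal.subset_span ⟨j, hj, rfl⟩)
    exact Submodule.le_of_le_smul_of_le_jacobson_bot hmfg hjac hle
  -- main induction
  have hind : ∀ k : ℕ, k ≤ n → F k ≤ F' k := by
    intro k
    induction k with
    | zero =>
      intro _
      show Ideal.span (u '' {j | (j : ℕ) < 0}) ⊔ m ^ 2 ≤ _
      have : ({j | (j : ℕ) < 0} : Set (Fin n)) = ∅ := by ext j; simp
      rw [this, Set.image_empty, Ideal.span_empty, bot_sup_eq]
      exact le_sup_right
    | succ k ih =>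
      intro hk
      have ihk := ih (Nat.le_of_succ_le hk)
      let kk : Fin n := ⟨k, hk⟩
      have hgen : τ kk • u kk ∈ F' (k + 1) :=
        le_sup_left (b := m ^ 2) (Ideal.subset_span ⟨kk, Nat.lt_succ_self k, rfl⟩)
      have hkey : u kk ∈ F' (k + 1) := by
        have h := htri' (τ kk) kk
        have hset : ({j | (j : ℕ) < (kk : ℕ) + 1} : Set (Fin n)) = insert kk {j : Fin n | (j : ℕ) < k} := by
          ext j
          simp only [Set.mem_setOf_eq, Set.mem_insert_iff]
          constructor
          · intro hj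
            have hj' : (j : ℕ) < k + 1 := hj
            rcases Nat.lt_succ_iff_lt_or_eq.1 hj' with h1 | h1
            · exact Or.inr h1
            · exact Or.inl (Fin.ext (show (j : ℕ) = (kk : ℕ) from h1))
          · rintro (rfl | h1)
            · exact Nat.lt_succ_self _
            · exact Nat.lt_succ_of_lt h1
        have h' : τ kk • u kk ∈ Ideal.span {u kk} ⊔ F k := by
          have : F ((kk : ℕ) + 1) = Ideal.span {u kk} ⊔ F k := by
            show Ideal.span (u '' {j | (j : ℕ) < (kk : ℕ) + 1}) ⊔ m ^ 2 = _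
            rw [hset, Set.image_insert_eq, Ideal.span_insert, sup_assoc]
          rw [← this]; exact h
        obtain ⟨y, hy, z, hz, hyz⟩ := Submodule.mem_sup.1 h'
        obtain ⟨c, rfl⟩ := Ideal.mem_span_singleton'.1 hy
        by_cases hc : IsUnit c
        · obtain ⟨c', hc'⟩ := hc.exists_left_inv
          have : u kk = c' * (τ kk • u kk - z) := by
            rw [← hyz, add_sub_cancel_right, ← mul_assoc, hc', one_mul]
          rw [this]
          apply Ideal.mul_mem_left
          exact Ideal.sub_mem _ hgen (F'mono _ _ (Nat.le_succ k) (ihk hz))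
        · exfalso
          have hcm : c ∈ m := hm ▸ (IsLocalRing.mem_maximalIdeal c).2 hc
          have hukm : u kk ∈ m := hum kk
          have hcu : c * u kk ∈ F k := by
            apply le_sup_right (a := Ideal.span (u '' {j | (j : ℕ) < k}))
            rw [pow_two]; exact Ideal.mul_mem_mul hcm hukm
          have hτ : τ kk • u kk ∈ F k := by rw [← hyz]; exact Ideal.add_mem _ hcu hz
          have := hA (τ kk)⁻¹ k _ hτ
          rw [inv_smul_smul] at this
          exact hB kk this
      show Ideal.span (u '' {j | (j : ℕ) < k + 1}) ⊔ m ^ 2 ≤ F' (k + 1)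
      apply sup_le
      · rw [Ideal.span_le]
        rintro _ ⟨j, hj, rfl⟩
        have hj' : (j : ℕ) < k + 1 := hj
        rcases Nat.lt_succ_iff_lt_or_eq.1 hj' with h1 | h1
        · apply F'mono _ _ (Nat.le_succ k)
          apply ihk
          exact le_sup_left (b := m ^ 2) (Ideal.subset_span ⟨j, h1, rfl⟩)
        · have : j = kk := Fin.ext h1
          rw [this]; exact hkey
      · exact le_sup_right
  apply le_antisymm
  · rw [Ideal.span_le]
    rintro _ ⟨j, rfl⟩
    exact hσm _ _ (hum j)
  · have h1 : m ≤ F n := by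
      apply hule
      intro j
      exact le_sup_left (b := m ^ 2) (Ideal.subset_span ⟨j, j.2, rfl⟩)
    have h2 : F' n ≤ Ideal.span (Set.range fun i => τ i • u i) ⊔ m • m := by
      show Ideal.span ((fun j => τ j • u j) '' {j | (j : ℕ) < n}) ⊔ m ^ 2 ≤ _
      rw [pow_two, smul_eq_mul]
      apply sup_le_sup_right
      apply Ideal.span_mono
      exact Set.image_subset_range _ _
    exact Submodule.le_of_le_smul_of_le_jacobson_bot hmfg hjac
      (h1.trans ((hind n le_rfl).trans h2))

end Groth.Agent.Lib.helper7
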