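import Mathlib

universe u

namespace Groth.Agent.Lib.helper7

theorem H7_ghost_sum (p : ℕ) [Fact p.Prime] (S : Type u) [CommRing S] (x : WittVector p S) (n : ℕ) :
    WittVector.ghostComponent n x = ∑ i ∈ Finset.range (n + 1), (p : S) ^ i * x.coeff i ^ p ^ (n - i) := by
  rw [WittVector.ghostComponent_apply, wittPolynomial_eq_sum_C_mul_X_pow, map_sum]
  apply Finset.sum_congr rfl
  intro i _
  simp

theorem H7_pow_sub_one_ge (p k : ℕ) (hp : 2 ≤ p) : k + 1 ≤ p ^ k := by
  have : k < p ^ k := Nat.lt_pow_self (by omega)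
  omega

theorem H7_term_dvd (p : ℕ) (hp : 2 ≤ p) (S : Type u) [CommRing S] (a : S) (s i n : ℕ) (hs : 1 ≤ s)
    (hi : i ≤ n) (h : (p : S) ^ s ∣ a) : (p : S) ^ (n + s) ∣ (p : S) ^ i * a ^ p ^ (n - i) := by
  obtain ⟨b, rfl⟩ := h
  have h1 : n - i + 1 ≤ p ^ (n - i) := H7_pow_sub_one_ge p (n - i) hp
  have h2 : n + s ≤ i + s * p ^ (n - i) := by
    have : s * (n - i + 1) ≤ s * p ^ (n - i) := Nat.mul_le_mul_left s h1
    have h3 : (n - i) + s ≤ s * (n - i + 1) := by
      have : 1 * (n - i) ≤ s * (n - i) := Nat.mul_le_mul_right _ hs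
      nlinarith
    omega
  rw [mul_pow, ← pow_mul, ← mul_assoc, ← pow_add]
  exact Dvd.dvd.mul_right (pow_dvd_pow _ h2) _

theorem H7_S14856 (p : ℕ) [Fact p.Prime] (S : Type u) [CommRing S]
    (hS : ∀ y : S, (p : S) * y = 0 → y = 0) (x : WittVector p S) (m s : ℕ) (hs : 1 ≤ s) :
    (∀ i ≤ m, (p : S) ^ s ∣ x.coeff i) ↔
      (∀ n ≤ m, (p : S) ^ (n + s) ∣ WittVector.ghostComponent n x) := by
  have hp : 2 ≤ p := (Fact.out : p.Prime).two_le
  have hS' : ∀ (k : ℕ) (y : S), (p : S) ^ k * y = 0 → y = 0 := by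
    intro k
    induction k with
    | zero => intro y hy; simpa using hy
    | succ k ih =>
      intro y hy
      rw [pow_succ, mul_assoc] at hy
      exact hS y (ih _ hy)
  constructor
  · intro h n hn
    rw [H7_ghost_sum]
    apply Finset.dvd_sum
    intro i hi
    rw [Finset.mem_range] at hi
    exact H7_term_dvd p hp S _ s i n hs (by omega) (h i (by omega))
  · intro h
    induction m with
    | zero =>
      intro i hi
      have hi0 : i = 0 := by omega
      subst hi0
      have := h 0 le_rfl
      rw [H7_ghost_sum] at this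
      simpa using this
    | succ m ih =>
      have ih' := ih (fun n hn => h n (by omega))
      intro i hi
      rcases Nat.lt_or_ge i (m + 1) with h1 | h1
      · exact ih' i (by omega)
      · have him : i = m + 1 := by omega
        subst him
        have h2 := h (m + 1) le_rfl
        rw [H7_ghost_sum, Finset.sum_range_succ] at h2
        have h3 : (p : S) ^ (m + 1 + s) ∣ ∑ i ∈ Finset.range (m + 1), (p : S) ^ i * x.coeff i ^ p ^ (m + 1 - i) := by
          apply Finset.dvd_sum
          intro i hi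
          rw [Finset.mem_range] at hi
          exact H7_term_dvd p hp S _ s i (m + 1) hs (by omega) (ih' i (by omega))
        have h4 := (dvd_add_right h3).1 h2
        rw [Nat.sub_self, pow_zero, pow_one] at h4
        obtain ⟨c, hc⟩ := h4
        refine ⟨c, ?_⟩
        apply sub_eq_zero.1
        apply hS' (m + 1)
        rw [mul_sub, hc, pow_add]
        ring

end Groth.Agent.Lib.helper7
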