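import Mathlib

namespace Groth.Agent.Lib.helper7

theorem H7_padicInt_pow_congr (p : ℕ) [Fact p.Prime] (a : ℤ_[p]) (k : ℕ) :
    (p : ℤ_[p]) ^ (k + 1) ∣ a ^ p ^ (k + 1) - a ^ p ^ k := by
  have h1 : (p : ℤ_[p]) ∣ a ^ p - a := by
    have : a ^ p - a ∈ RingHom.ker (PadicInt.toZMod : ℤ_[p] →+* ZMod p) := by
      rw [RingHom.mem_ker, map_sub, map_pow, ZMod.pow_card, sub_self]
    rw [PadicInt.ker_toZMod, PadicInt.maximalIdeal_eq_span_p, Ideal.mem_span_singleton] at this
    exact this
  have h2 := dvd_sub_pow_of_dvd_sub h1 k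
  rwa [← pow_mul, ← pow_succ'] at h2

theorem H7_ghost_formula (p : ℕ) [Fact p.Prime] {R : Type*} [CommRing R] (x : WittVector p R) (n : ℕ) :
    WittVector.ghostComponent n x = ∑ i ∈ Finset.range (n + 1), (p : R) ^ i * x.coeff i ^ p ^ (n - i) := by
  rw [WittVector.ghostComponent_apply, wittPolynomial_eq_sum_C_mul_X_pow, map_sum]
  apply Finset.sum_congr rfl
  intro i _
  simp

theorem H7_S14857 (p : ℕ) [Fact p.Prime] :
    (p : WittVector p ℤ_[p]) ∣ WittVector.teichmuller p ((p : ℤ_[p]) ^ p) := by
  classical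
  have hp : p.Prime := Fact.out
  let ι : ℤ_[p] →+* ℚ_[p] := PadicInt.Coe.ringHom
  have hιinj : Function.Injective ι := Subtype.coe_injective
  have hpQ : (p : ℚ_[p]) ≠ 0 := by exact_mod_cast hp.ne_zero
  have hinv : Invertible (p : ℚ_[p]) := invertibleOfNonzero hpQ
  let g : ℕ → ℚ_[p] := fun n => (p : ℚ_[p]) ^ (p ^ (n + 1) - 1)
  let Y' : WittVector p ℚ_[p] := (WittVector.ghostEquiv p ℚ_[p]).symm g
  have hghost : ∀ n, WittVector.ghostComponent n Y' = g n := by
    intro n
    have : WittVector.ghostEquiv p ℚ_[p] Y' = g := (WittVector.ghostEquiv p ℚ_[p]).apply_symm_apply g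
    exact congrFun this n
  have hlt : ∀ m : ℕ, m < p ^ m := fun m => Nat.lt_pow_self hp.one_lt
  have hint : ∀ n, ‖Y'.coeff n‖ ≤ 1 := by
    intro n
    induction n using Nat.strong_induction_on with
    | _ n ih =>
      let y : ℕ → ℤ_[p] := fun i => if h : ‖Y'.coeff i‖ ≤ 1 then ⟨Y'.coeff i, h⟩ else 0
      have hy : ∀ i < n, ι (y i) = Y'.coeff i := by
        intro i hi
        have hyi : y i = ⟨Y'.coeff i, ih i hi⟩ := dif_pos (ih i hi)
        rw [hyi]
        rfl
      let r : ℤ_[p] := (p : ℤ_[p]) ^ (p ^ (n + 1) - 1) -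
        ∑ i ∈ Finset.range n, (p : ℤ_[p]) ^ i * y i ^ p ^ (n - i)
      have hr : ι r = (p : ℚ_[p]) ^ n * Y'.coeff n := by
        have h1 := hghost n
        rw [H7_ghost_formula, Finset.sum_range_succ] at h1
        simp only [Nat.sub_self, pow_zero, pow_one] at h1
        have h2 : ι r = g n - ∑ i ∈ Finset.range n, (p : ℚ_[p]) ^ i * Y'.coeff i ^ p ^ (n - i) := by
          simp only [r, map_sub, map_pow, map_natCast, map_sum, map_mul]
          congr 1
          apply Finset.sum_congr rfl
          intro i hi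
          rw [hy i (Finset.mem_range.1 hi)]
        rw [h2, ← h1]; ring
      have hdvd : (p : ℤ_[p]) ^ n ∣ r := by
        rcases Nat.eq_zero_or_pos n with hn0 | hn
        · subst hn0; simp
        · obtain ⟨m, rfl⟩ : ∃ m, n = m + 1 := ⟨n - 1, by omega⟩
          have h1 := hghost m
          rw [H7_ghost_formula] at h1
          have h3 : ∑ i ∈ Finset.range (m + 1), (p : ℤ_[p]) ^ i * y i ^ p ^ (m - i)
              = (p : ℤ_[p]) ^ (p ^ (m + 1) - 1) := by
            apply hιinj
            simp only [map_sum, map_mul, map_pow, map_natCast]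
            have hg : (p : ℚ_[p]) ^ (p ^ (m + 1) - 1) = g m := rfl
            rw [hg, ← h1]
            apply Finset.sum_congr rfl
            intro i hi
            rw [hy i (by have := Finset.mem_range.1 hi; omega)]
          have h4 : r = (p : ℤ_[p]) ^ (p ^ (m + 1 + 1) - 1) - (p : ℤ_[p]) ^ (p ^ (m + 1) - 1)
              - ∑ i ∈ Finset.range (m + 1),
                (p : ℤ_[p]) ^ i * (y i ^ p ^ (m + 1 - i) - y i ^ p ^ (m - i)) := by
            simp only [r, mul_sub, Finset.sum_sub_distrib]
            rw [h3]; ring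
          rw [h4]
          apply dvd_sub (dvd_sub _ _)
          · apply Finset.dvd_sum
            intro i hi
            have hi' := Finset.mem_range.1 hi
            have h5 := H7_padicInt_pow_congr p (y i) (m - i)
            have : m + 1 - i = (m - i) + 1 := by omega
            rw [this]
            obtain ⟨c, hc⟩ := h5
            rw [hc]
            refine ⟨c, ?_⟩
            rw [← mul_assoc, ← pow_add]
            congr 2; omega
          · apply pow_dvd_pow
            have := hlt (m + 1 + 1)
            omega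
          · apply pow_dvd_pow
            have := hlt (m + 1)
            omega
      obtain ⟨c, hc⟩ := hdvd
      have hYc : Y'.coeff n = ι c := by
        have h1 : (p : ℚ_[p]) ^ n * Y'.coeff n = (p : ℚ_[p]) ^ n * ι c := by
          rw [← hr, hc]; simp
        exact mul_left_cancel₀ (pow_ne_zero _ hpQ) h1
      rw [hYc]
      exact c.2
  let Y : WittVector p ℤ_[p] := WittVector.mk p (fun n => ⟨Y'.coeff n, hint n⟩)
  have hmap : WittVector.map ι Y = Y' := by
    ext n
    rw [WittVector.map_coeff]
    rfl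
  refine ⟨Y, ?_⟩
  apply WittVector.map_injective ι hιinj
  rw [map_mul, map_natCast, hmap, WittVector.map_teichmuller]
  apply (WittVector.ghostMap.bijective_of_invertible p ℚ_[p]).1
  ext n
  simp only [WittVector.ghostMap_apply, map_mul, map_natCast,
    WittVector.ghostComponent_teichmuller, hghost, g, map_pow]
  rw [← pow_mul, ← pow_succ', ← pow_succ]
  congr 1
  have := hlt (n + 1)
  omega

end Groth.Agent.Lib.helper7
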