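import Mathlib
import Groth.Prelude.Def_W4c1zetahwZeta
import Groth.Agent.Lib.helper9.H9_DlogSeries

set_option autoImplicit false
set_option linter.unusedSectionVars false
universe u v w

namespace Groth.Agent.Lib.helper7

open PowerSeries Groth.Agent.H9Dlog

section Formal

/-- the formal logarithm `Σ N_m/m t^m` -/
noncomputable def H7_zL (N : ℕ → ℚ) : ℚ⟦X⟧ := PowerSeries.mk fun m => N m / m

theorem H7_zL_const (N : ℕ → ℚ) : constantCoeff (H7_zL N) = 0 := by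
  rw [← coeff_zero_eq_constantCoeff_apply, H7_zL, coeff_mk]
  simp

theorem H7_zL_deriv (N : ℕ → ℚ) : d⁄dX ℚ (H7_zL N) = PowerSeries.mk fun v => N (v + 1) := by
  ext v
  rw [coeff_derivative, H7_zL, coeff_mk, coeff_mk]
  have h3 : ((v : ℚ) + 1) ≠ 0 := by positivity
  push_cast
  field_simp

/-- the formal zeta function -/
noncomputable def H7_zZ (N : ℕ → ℚ) : ℚ⟦X⟧ := (exp ℚ).subst (H7_zL N)

theorem H7_zZ_const (N : ℕ → ℚ) : constantCoeff (H7_zZ N) = 1 :=
  constantCoeff_exp_subst (H7_zL_const N)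

theorem H7_zZ_dlog (N : ℕ → ℚ) :
    d⁄dX ℚ (H7_zZ N) = H7_zZ N * PowerSeries.mk fun v => N (v + 1) := by
  unfold H7_zZ
  rw [dlog_exp_subst (H7_zL_const N), H7_zL_deriv]

theorem H7_const_one_sub (a : ℚ) : constantCoeff (1 - C a * X : ℚ⟦X⟧) = 1 := by
  simp

/-- polynomial count: `Z · ∏ (1 - q^i t)^{a_i^+} = ∏ (1 - q^i t)^{a_i^-}` -/
theorem H7_zeta_polycount (N : ℕ → ℚ) (q : ℚ) (d : ℕ) (a : ℕ → ℤ)
    (hN : ∀ m : ℕ, 1 ≤ m → N m = ∑ i ∈ Finset.range (d + 1), (a i : ℚ) * (q ^ m) ^ i) :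
    H7_zZ N * ∏ i ∈ Finset.range (d + 1), (1 - C (q ^ i) * X) ^ (a i).toNat =
      ∏ i ∈ Finset.range (d + 1), (1 - C (q ^ i) * X) ^ (-a i).toNat := by
  set g : ℕ → ℚ⟦X⟧ := fun i => -(PowerSeries.mk fun v : ℕ => (q ^ i) ^ (v + 1)) with hg
  have h1 : ∀ (e : ℕ → ℕ), d⁄dX ℚ (∏ i ∈ Finset.range (d + 1), (1 - C (q ^ i) * X) ^ e i) =
      (∏ i ∈ Finset.range (d + 1), (1 - C (q ^ i) * X) ^ e i) *
        ∑ i ∈ Finset.range (d + 1), e i • g i := by
    intro e
    apply dlog_prod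
    intro i _
    exact dlog_pow (dlog_one_sub (q ^ i)) (e i)
  have hF := dlog_mul (H7_zZ_dlog N) (h1 fun i => (a i).toNat)
  have hG := h1 fun i => (-a i).toNat
  have hgg : (PowerSeries.mk fun v => N (v + 1)) + ∑ i ∈ Finset.range (d + 1), (a i).toNat • g i =
      ∑ i ∈ Finset.range (d + 1), (-a i).toNat • g i := by
    ext v
    rw [map_add, coeff_mk, map_sum, map_sum, hN (v + 1) (by omega)]
    have e1 : ∀ (c : ℕ) (i : ℕ), coeff v (c • g i) = -((c : ℚ) * (q ^ i) ^ (v + 1)) := by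
      intro c i
      rw [hg]
      simp only [nsmul_eq_mul, map_neg]
      rw [← map_natCast (C (R := ℚ)), mul_neg, map_neg, coeff_C_mul, coeff_mk]
    simp only [e1]
    rw [← Finset.sum_add_distrib]
    apply Finset.sum_congr rfl
    intro i _
    have h2 : ((a i : ℤ) : ℚ) = ((a i).toNat : ℚ) - ((-a i).toNat : ℚ) := by
      have := Int.toNat_sub_toNat_neg (a i)
      have h3 : ((((a i).toNat : ℤ) - ((-a i).toNat : ℤ) : ℤ) : ℚ) = ((a i : ℤ) : ℚ) := by rw [this]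
      push_cast at h3
      exact h3.symm
    rw [h2]
    have h4 : (q ^ (v + 1)) ^ i = (q ^ i) ^ (v + 1) := by
      rw [← pow_mul, ← pow_mul, mul_comm]
    rw [h4]
    ring
  rw [hgg] at hF
  apply dlog_unique hF hG
  rw [map_mul, H7_zZ_const, one_mul, map_prod, map_prod]
  simp

end Formal

end Groth.Agent.Lib.helper7
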