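import Mathlib
import Groth.Prelude.Def_W4c1zetahwZeta
import Groth.Agent.Lib.helper9.H9_DlogSeries
import Groth.Agent.Lib.helper7.ZetaA

set_option autoImplicit false
set_option linter.unusedSectionVars false
universe u v w

namespace Groth.Agent.Lib.helper7

open PowerSeries Groth.Agent.H9Dlog

section Formal

/-- the logarithmic derivative of `1 - t^r` -/
noncomputable def H7_gr (r : ℕ) : ℚ⟦X⟧ := -(PowerSeries.mk fun v : ℕ => if r ∣ v + 1 then (r : ℚ) else 0)

theorem H7_one_sub_pow_mul (r : ℕ) (hr : 1 ≤ r) :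
    (1 - X ^ r : ℚ⟦X⟧) * (PowerSeries.mk fun v : ℕ => if r ∣ v + 1 then (r : ℚ) else 0) =
      C (r : ℚ) * X ^ (r - 1) := by
  ext v
  rw [sub_mul, one_mul, map_sub, coeff_mk, coeff_X_pow_mul', coeff_C_mul, coeff_X_pow]
  by_cases hv : r ≤ v
  · rw [if_pos hv, coeff_mk]
    have h1 : (r ∣ v - r + 1) ↔ (r ∣ v + 1) := by
      have : v + 1 = (v - r + 1) + r := by omega
      rw [this]
      exact (Nat.dvd_add_self_right).symm
    have h2 : ¬ v = r - 1 := by omega
    rw [if_neg h2, mul_zero]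
    by_cases h3 : r ∣ v + 1
    · rw [if_pos h3, if_pos (h1.mpr h3), sub_self]
    · rw [if_neg h3, if_neg (fun h => h3 (h1.mp h)), sub_self]
  · rw [if_neg hv, sub_zero]
    by_cases h2 : v = r - 1
    · rw [if_pos h2, mul_one, if_pos]
      rw [h2]
      have : r - 1 + 1 = r := by omega
      rw [this]
    · rw [if_neg h2, mul_zero, if_neg]
      intro h3
      have := Nat.le_of_dvd (by omega) h3
      omega

theorem H7_dlog_one_sub_pow (r : ℕ) (hr : 1 ≤ r) :
    d⁄dX ℚ (1 - X ^ r : ℚ⟦X⟧) = (1 - X ^ r) * H7_gr r := by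
  unfold H7_gr
  rw [mul_neg, H7_one_sub_pow_mul r hr, map_sub, derivative_one, zero_sub]
  congr 1
  ext v
  rw [coeff_derivative, coeff_X_pow, coeff_C_mul, coeff_X_pow]
  by_cases h : v + 1 = r
  · have h' : v = r - 1 := by omega
    rw [if_pos h, if_pos h', one_mul, mul_one, ← h]
    push_cast
    ring
  · have h' : ¬ v = r - 1 := by omega
    rw [if_neg h, if_neg h', zero_mul, mul_zero]

/-- the point counts attached to a degree-count function -/
def H7_zN (a : ℕ → ℕ) (m : ℕ) : ℚ := ((∑ e ∈ m.divisors, e * a e : ℕ) : ℚ)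

/-- the truncated Euler product -/
noncomputable def H7_zG (a : ℕ → ℕ) (n : ℕ) : ℚ⟦X⟧ :=
  H7_zZ (H7_zN a) * ∏ r ∈ Finset.Icc 1 n, (1 - X ^ r) ^ a r

theorem H7_zG_dlog (a : ℕ → ℕ) (n : ℕ) :
    d⁄dX ℚ (H7_zG a n) = H7_zG a n *
      ((PowerSeries.mk fun v => H7_zN a (v + 1)) + ∑ r ∈ Finset.Icc 1 n, a r • H7_gr r) := by
  unfold H7_zG
  apply dlog_mul (H7_zZ_dlog _)
  apply dlog_prod
  intro r hr
  exact dlog_pow (H7_dlog_one_sub_pow r (Finset.mem_Icc.mp hr).1) (a r)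

theorem H7_zG_dlog_coeff (a : ℕ → ℕ) (n : ℕ) (v : ℕ) (hv : v < n) :
    coeff v ((PowerSeries.mk fun v => H7_zN a (v + 1)) + ∑ r ∈ Finset.Icc 1 n, a r • H7_gr r) = 0 := by
  rw [map_add, coeff_mk, map_sum]
  have e1 : ∀ r, coeff v (a r • H7_gr r) = -(if r ∣ v + 1 then ((a r : ℚ) * r) else 0) := by
    intro r
    unfold H7_gr
    simp only [nsmul_eq_mul]
    rw [← map_natCast (C (R := ℚ)), mul_neg, map_neg, coeff_C_mul, coeff_mk]
    split_ifs <;> simp
  simp only [e1]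
  rw [Finset.sum_neg_distrib, ← sub_eq_add_neg, sub_eq_zero, ← Finset.sum_filter]
  unfold H7_zN
  push_cast
  have hset : (v + 1).divisors = (Finset.Icc 1 n).filter (fun r => r ∣ v + 1) := by
    ext e
    rw [Nat.mem_divisors, Finset.mem_filter, Finset.mem_Icc]
    constructor
    · rintro ⟨h1, _⟩
      have h2 := Nat.le_of_dvd (by omega) h1
      have h3 : 0 < e := Nat.pos_of_dvd_of_pos h1 (by omega)
      exact ⟨⟨h3, by omega⟩, h1⟩
    · rintro ⟨_, h1⟩
      exact ⟨h1, by omega⟩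
  rw [hset]
  apply Finset.sum_congr rfl
  intro r _
  ring

theorem H7_zG_const (a : ℕ → ℕ) (n : ℕ) : constantCoeff (H7_zG a n) = 1 := by
  unfold H7_zG
  rw [map_mul, H7_zZ_const, one_mul, map_prod]
  apply Finset.prod_eq_one
  intro r hr
  have hr1 : r ≠ 0 := by
    have := (Finset.mem_Icc.mp hr).1
    omega
  rw [map_pow, map_sub, map_one, map_pow, constantCoeff_X, zero_pow hr1, sub_zero, one_pow]

theorem H7_zG_coeff (a : ℕ → ℕ) (n : ℕ) (m : ℕ) (hm1 : 1 ≤ m) (hmn : m ≤ n) :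
    coeff m (H7_zG a n) = 0 := by
  obtain ⟨v, rfl⟩ : ∃ v, m = v + 1 := ⟨m - 1, by omega⟩
  have h1 : coeff v (d⁄dX ℚ (H7_zG a n)) = coeff (v + 1) (H7_zG a n) * (v + 1) :=
    coeff_derivative _ v
  rw [H7_zG_dlog, coeff_mul] at h1
  have h2 : ∑ p ∈ Finset.HasAntidiagonal.antidiagonal v, coeff p.1 (H7_zG a n) *
      coeff p.2 ((PowerSeries.mk fun v => H7_zN a (v + 1)) + ∑ r ∈ Finset.Icc 1 n, a r • H7_gr r) = 0 := by
    apply Finset.sum_eq_zero
    intro p hp
    have : p.2 < n := by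
      have := Finset.HasAntidiagonal.mem_antidiagonal.mp hp
      omega
    rw [H7_zG_dlog_coeff a n p.2 this, mul_zero]
  rw [h2] at h1
  have h3 : ((v : ℚ) + 1) ≠ 0 := by positivity
  rcases mul_eq_zero.mp h1.symm with h | h
  · exact h
  · exact absurd h h3

theorem H7_zG_trunc (a : ℕ → ℕ) (n : ℕ) : trunc (n + 1) (H7_zG a n) = 1 := by
  ext m
  rw [coeff_trunc, Polynomial.coeff_one]
  by_cases hm : m < n + 1
  · rw [if_pos hm]
    by_cases h0 : m = 0
    · subst h0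
      rw [if_pos rfl, coeff_zero_eq_constantCoeff_apply, H7_zG_const]
    · rw [if_neg h0]
      exact H7_zG_coeff a n m (by omega) (by omega)
  · rw [if_neg hm, if_neg (by omega)]

/-- integrality of the coefficients of the formal zeta function -/
theorem H7_zZ_int (a : ℕ → ℕ) (n : ℕ) : ∃ z : ℤ, coeff n (H7_zZ (H7_zN a)) = (z : ℚ) := by
  set Pz : ℤ⟦X⟧ := ∏ r ∈ Finset.Icc 1 n, (1 - X ^ r) ^ a r with hPz
  have hPz0 : constantCoeff Pz = 1 := by
    rw [hPz, map_prod]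
    apply Finset.prod_eq_one
    intro r hr
    have hr1 : r ≠ 0 := by
      have := (Finset.mem_Icc.mp hr).1
      omega
    rw [map_pow, map_sub, map_one, map_pow, constantCoeff_X, zero_pow hr1, sub_zero, one_pow]
  set W : ℤ⟦X⟧ := invOfUnit Pz 1 with hW
  have hPW : Pz * W = 1 := mul_invOfUnit Pz 1 (by rw [hPz0]; rfl)
  have hmap : PowerSeries.map (Int.castRingHom ℚ) Pz = ∏ r ∈ Finset.Icc 1 n, (1 - X ^ r : ℚ⟦X⟧) ^ a r := by
    rw [hPz, map_prod]
    apply Finset.prod_congr rfl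
    intro r _
    rw [map_pow, map_sub, map_one, map_pow, PowerSeries.map_X]
  have hPW' : (∏ r ∈ Finset.Icc 1 n, (1 - X ^ r : ℚ⟦X⟧) ^ a r) * PowerSeries.map (Int.castRingHom ℚ) W = 1 := by
    rw [← hmap, ← map_mul, hPW, map_one]
  -- `G - 1` is divisible by `X^(n+1)`
  have hdvd : (X : ℚ⟦X⟧) ^ (n + 1) ∣ H7_zG a n - 1 := by
    rw [X_pow_dvd_iff]
    intro m hm
    rw [map_sub]
    by_cases h0 : m = 0
    · subst h0
      rw [coeff_zero_eq_constantCoeff_apply, H7_zG_const, coeff_zero_eq_constantCoeff_apply, map_one, sub_self]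
    · rw [H7_zG_coeff a n m (by omega) (by omega), coeff_one, if_neg h0, sub_zero]
  obtain ⟨S, hS⟩ := hdvd
  have hZ : H7_zZ (H7_zN a) = PowerSeries.map (Int.castRingHom ℚ) W +
      X ^ (n + 1) * (S * PowerSeries.map (Int.castRingHom ℚ) W) := by
    have h1 : H7_zG a n = 1 + X ^ (n + 1) * S := by rw [← hS]; ring
    have h2 : H7_zZ (H7_zN a) = H7_zG a n * PowerSeries.map (Int.castRingHom ℚ) W := by
      unfold H7_zG
      rw [mul_assoc, hPW', mul_one]
    rw [h2, h1]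
    ring
  refine ⟨coeff n W, ?_⟩
  rw [hZ, map_add, coeff_X_pow_mul', if_neg (by omega), add_zero, coeff_map]
  rfl

end Formal

end Groth.Agent.Lib.helper7
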